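/-
The pair toolkit for a strongly embedded subgroup: swappers, the two point stabiliser, valency.
-/
import Cfsg.Agent.InvolCalc.StronglyEmbedded
import Mathlib.GroupTheory.GroupAction.Quotient

set_option autoImplicit false
set_option linter.unusedSectionVars false

namespace Cfsg.Lib.BenderSE

open Subgroup MulAction Cfsg.Lib.InvolCalc Cfsg.Lib.StrongEmb

universe u v

theorem orderOf_conj' {G : Type u} [Group G] (g i : G) : orderOf (g * i * g⁻¹) = orderOf i := by
  rw [show g * i * g⁻¹ = MulAut.conj g i from rfl, MulEquiv.orderOf_eq]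

/-- orbit-stabiliser for conjugation -/
theorem card_inf_centralizer_mul {G : Type u} [Group G] [Finite G] {D : Subgroup G} {P : G → Prop}
    {s : G} (hs : P s) (hinv : ∀ d ∈ D, ∀ x, P x → P (d * x * d⁻¹))
    (htr : ∀ x, P x → ∃ d ∈ D, d * s * d⁻¹ = x) :
    Nat.card ↥(D ⊓ centralizer ({s} : Set G)) * Nat.card {x // P x} = Nat.card D := by
  set C := (centralizer ({s} : Set G)).subgroupOf D with hC
  have hiff : ∀ d e : D, d⁻¹ * e ∈ C ↔ (d : G) * s * (d : G)⁻¹ = (e : G) * s * (e : G)⁻¹ := by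
    intro d e
    rw [hC, mem_subgroupOf, mem_centralizer_singleton_iff, Subgroup.coe_mul, Subgroup.coe_inv]
    constructor
    · intro h
      calc (d : G) * s * (d : G)⁻¹ = (d : G) * (s * ((d : G)⁻¹ * e)) * (e : G)⁻¹ := by group
        _ = (d : G) * (((d : G)⁻¹ * e) * s) * (e : G)⁻¹ := by rw [h]
        _ = _ := by group
    · intro h
      calc (d : G)⁻¹ * e * s = (d : G)⁻¹ * ((e : G) * s * (e : G)⁻¹) * e := by group
        _ = (d : G)⁻¹ * ((d : G) * s * (d : G)⁻¹) * e := by rw [h]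
        _ = _ := by group
  let F : D ⧸ C → {x // P x} := Quotient.lift
    (fun d : D => (⟨(d : G) * s * (d : G)⁻¹, hinv d d.2 s hs⟩ : {x // P x}))
    (fun a b hab => Subtype.ext ((hiff a b).1 (QuotientGroup.leftRel_apply.1 hab)))
  have hF : Function.Bijective F := by
    refine ⟨?_, ?_⟩
    · intro p q h
      induction p using QuotientGroup.induction_on with
      | H d =>
      induction q using QuotientGroup.induction_on with
      | H e => exact QuotientGroup.eq.2 ((hiff d e).2 (congrArg Subtype.val h))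
    · rintro ⟨x, hx⟩
      obtain ⟨d, hd, hde⟩ := htr x hx
      exact ⟨QuotientGroup.mk (⟨d, hd⟩ : D), Subtype.ext hde⟩
  have hcard : Nat.card ↥(D ⊓ centralizer ({s} : Set G)) = Nat.card C := by
    rw [inf_comm, ← subgroupOf_map_subtype, card_map_of_injective D.subtype_injective]
  rw [hcard, ← Nat.card_eq_of_bijective F hF, mul_comm, ← card_eq_card_quotient_mul_card_subgroup]

variable {G : Type u} [Group G] [Finite G] {H : Subgroup G}

/-- an element commuting with an involution fixes its centre -/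
theorem fix_centre_of_commute (hH : Cfsg.IsStronglyEmbedded H) {t g : G} (ht : orderOf t = 2)
    {c : G ⧸ H} (htc : t • c = c) (hg : Commute g t) : g • c = c :=
  eq_of_fixed hH ht (by rw [smul_smul, ← hg.eq, ← smul_smul, htc]) htc

theorem centralizer_le_stabilizer (hH : Cfsg.IsStronglyEmbedded H) {t : G} (ht : orderOf t = 2)
    {c : G ⧸ H} (htc : t • c = c) : centralizer ({t} : Set G) ≤ stabilizer G c := fun _ hg =>
  fix_centre_of_commute hH ht htc (mem_centralizer_singleton_iff.1 hg)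

theorem exists_centre (hH : Cfsg.IsStronglyEmbedded H) {t : G} (ht : orderOf t = 2) :
    ∃ c : G ⧸ H, t • c = c := by
  obtain ⟨c⟩ := (Nat.card_eq_one_iff_unique.1 (card_fixed hH ht)).2
  exact ⟨c.1, c.2⟩

/-- every point is the centre of an involution -/
theorem exists_fixing (hH : Cfsg.IsStronglyEmbedded H) (a : G ⧸ H) :
    ∃ t : G, orderOf t = 2 ∧ t • a = a := by
  obtain ⟨t, htm, ht⟩ := exists_involution_of_even hH.2.1
  obtain ⟨g, rfl⟩ := QuotientGroup.mk_surjective a
  refine ⟨g * t * g⁻¹, by rw [orderOf_conj', ht], ?_⟩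
  rw [MulAction.Quotient.smul_mk, smul_eq_mul, QuotientGroup.eq]
  simpa [mul_assoc] using inv_mem htm

theorem smul_swap {v : G} (hv : orderOf v = 2) {a b : G ⧸ H} (h : v • a = b) : v • b = a := by
  rw [← h, smul_smul, sq_of_order_two hv, one_smul]

/-- two point stabilisers have odd order -/
theorem odd_stabilizer_inf (hH : Cfsg.IsStronglyEmbedded H) {a b : G ⧸ H} (hab : a ≠ b) :
    Odd (Nat.card ↥(stabilizer G a ⊓ stabilizer G b)) := by
  rw [← Nat.not_even_iff_odd]
  intro he
  obtain ⟨t, htm, ht⟩ := exists_involution_of_even he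
  exact hab (eq_of_fixed hH ht (mem_inf.1 htm).1 (mem_inf.1 htm).2)

/-- the two point stabiliser is normalised by the swappers -/
theorem swapper_mem_normalizer {v : G} (hv : orderOf v = 2) {a b : G ⧸ H} (h : v • a = b) :
    v ∈ normalizer ((stabilizer G a ⊓ stabilizer G b : Subgroup G) : Set G) := by
  have hvv := sq_of_order_two hv
  have key : ∀ x ∈ stabilizer G a ⊓ stabilizer G b, v * x * v ∈ stabilizer G a ⊓ stabilizer G b := by
    intro x hx
    obtain ⟨hxa, hxb⟩ := mem_inf.1 hx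
    refine mem_inf.2 ⟨?_, ?_⟩ <;> rw [mem_stabilizer_iff, mul_smul, mul_smul]
    · rw [h, mem_stabilizer_iff.1 hxb, smul_swap hv h]
    · rw [smul_swap hv h, mem_stabilizer_iff.1 hxa, h]
  refine mem_normalizer_iff.2 fun x => ?_
  rw [inv_of_order_two hv]
  refine ⟨key x, fun hx => ?_⟩
  have h1 := key _ hx
  rwa [show v * (v * x * v) * v = (v * v) * x * (v * v) by group, hvv, one_mul, mul_one] at h1

/-- the two point stabiliser is transitive on the swappers -/
theorem exists_conj_swapper (hH : Cfsg.IsStronglyEmbedded H) {a b : G ⧸ H} (hab : a ≠ b) {v w : G}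
    (hv : orderOf v = 2) (hva : v • a = b) (hw : orderOf w = 2) (hwa : w • a = b) :
    ∃ d ∈ stabilizer G a ⊓ stabilizer G b, d * v * d⁻¹ = w := by
  set D := stabilizer G a ⊓ stabilizer G b with hD
  have hvw : v * w ∈ D := mem_inf.2 ⟨by rw [mem_stabilizer_iff, mul_smul, hwa, smul_swap hv hva],
    by rw [mem_stabilizer_iff, mul_smul, smul_swap hw hwa, hva]⟩
  have hodd : Odd (orderOf (v * w)) :=
    (odd_stabilizer_inf hH hab).of_dvd_nat (Subgroup.orderOf_dvd_natCard D hvw)
  obtain ⟨d, hd, hde⟩ := conj_of_odd hv hw hodd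
  rcases mem_closure_pair hv hw hd with ⟨i, rfl⟩ | ⟨i, rfl⟩
  · exact ⟨_, zpow_mem hvw i, hde⟩
  · refine ⟨(v * w) ^ (-i), zpow_mem hvw _, ?_⟩
    refine Eq.trans ?_ hde
    rw [flip_zpow hv hw i, mul_assoc _ v v, sq_of_order_two hv, mul_one, mul_inv_rev,
      inv_of_order_two hv, mul_assoc, zpow_neg, inv_inv, ← zpow_neg]

/-- the two point stabiliser is transitive on the involutions with a given centre -/
theorem exists_conj_centre (hH : Cfsg.IsStronglyEmbedded H) {a b : G ⧸ H} (hab : a ≠ b) {s s' : G}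
    (hs : orderOf s = 2) (hsa : s • a = a) (hs' : orderOf s' = 2) (hsa' : s' • a = a) :
    ∃ d ∈ stabilizer G a ⊓ stabilizer G b, d * s * d⁻¹ = s' := by
  obtain ⟨t, ht, htb⟩ := exists_fixing hH b
  obtain ⟨v, hv, hva, hvs, -⟩ := exists_swap hH hab hs hsa ht htb
  obtain ⟨v', hv', hva', -, hvt'⟩ := exists_swap hH hab hs' hsa' ht htb
  refine ⟨v' * v, mem_inf.2 ⟨?_, ?_⟩, ?_⟩
  · rw [mem_stabilizer_iff, mul_smul, hva, smul_swap hv' hva']
  · rw [mem_stabilizer_iff, mul_smul, smul_swap hv hva, hva']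
  · rw [mul_inv_rev, inv_of_order_two hv, inv_of_order_two hv', ← hvt', ← hvs]
    group

theorem exists_swapper (hH : Cfsg.IsStronglyEmbedded H) {a b : G ⧸ H} (hab : a ≠ b) :
    ∃ v : G, orderOf v = 2 ∧ v • a = b := by
  obtain ⟨s, hs, hsa⟩ := exists_fixing hH a
  obtain ⟨t, ht, htb⟩ := exists_fixing hH b
  obtain ⟨v, hv, hva, -⟩ := exists_swap hH hab hs hsa ht htb
  exact ⟨v, hv, hva⟩

/-- the number of involutions in `H` -/
noncomputable def invCount (H : Subgroup G) : ℕ := Nat.card {t : G // orderOf t = 2 ∧ t ∈ H}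

theorem invCount_pos (hH : Cfsg.IsStronglyEmbedded H) : 0 < invCount H := by
  obtain ⟨t, htm, ht⟩ := exists_involution_of_even hH.2.1
  haveI : Nonempty {t : G // orderOf t = 2 ∧ t ∈ H} := ⟨⟨t, ht, htm⟩⟩
  exact Nat.card_pos

/-- `|C_D(v)| * m = |D|` for a swapper `v` -/
theorem card_centralizer_swapper (hH : Cfsg.IsStronglyEmbedded H) {a b : G ⧸ H} (hab : a ≠ b)
    {v : G} (hv : orderOf v = 2) (hva : v • a = b) :
    Nat.card ↥(stabilizer G a ⊓ stabilizer G b ⊓ centralizer ({v} : Set G)) * invCount H =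
      Nat.card ↥(stabilizer G a ⊓ stabilizer G b) := by
  have h := card_inf_centralizer_mul (D := stabilizer G a ⊓ stabilizer G b)
    (P := fun i : G => orderOf i = 2 ∧ i • a = b) (s := v) ⟨hv, hva⟩ ?_ ?_
  · rw [card_swap hH a b hab] at h
    exact h
  · intro d hd x hx
    obtain ⟨hda, hdb⟩ := mem_inf.1 hd
    refine ⟨by rw [orderOf_conj', hx.1], ?_⟩
    rw [mul_smul, mul_smul, mem_stabilizer_iff.1 (inv_mem hda), hx.2, mem_stabilizer_iff.1 hdb]
  · exact fun x hx => exists_conj_swapper hH hab hv hva hx.1 hx.2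

/-- `|C_D(s)| * m = |D|` for an involution `s` with centre `a` -/
theorem card_centralizer_fixing (hH : Cfsg.IsStronglyEmbedded H) {a b : G ⧸ H} (hab : a ≠ b)
    {s : G} (hs : orderOf s = 2) (hsa : s • a = a) :
    Nat.card ↥(stabilizer G a ⊓ stabilizer G b ⊓ centralizer ({s} : Set G)) * invCount H =
      Nat.card ↥(stabilizer G a ⊓ stabilizer G b) := by
  have h := card_inf_centralizer_mul (D := stabilizer G a ⊓ stabilizer G b)
    (P := fun i : G => orderOf i = 2 ∧ i • a = a) (s := s) ⟨hs, hsa⟩ ?_ ?_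
  · rw [card_fixing hH a] at h
    exact h
  · intro d hd x hx
    have hda := (mem_inf.1 hd).1
    refine ⟨by rw [orderOf_conj', hx.1], ?_⟩
    rw [mul_smul, mul_smul, mem_stabilizer_iff.1 (inv_mem hda), hx.2, mem_stabilizer_iff.1 hda]
  · exact fun x hx => exists_conj_centre hH hab hs hsa hx.1 hx.2

/-- valency: for `c` the centre of `t` and `b = t • a`, `|G_ab| = |G_ca|` -/
theorem card_stabilizer_centre (hH : Cfsg.IsStronglyEmbedded H) {t : G} (ht : orderOf t = 2)
    {a c : G ⧸ H} (htc : t • c = c) (hac : a ≠ c) :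
    Nat.card ↥(stabilizer G a ⊓ stabilizer G (t • a)) = Nat.card ↥(stabilizer G c ⊓ stabilizer G a) := by
  have hab : a ≠ t • a := fun h => hac (eq_of_fixed hH ht h.symm htc)
  rw [← card_centralizer_swapper hH hab ht rfl, ← card_centralizer_fixing hH hac.symm ht htc]
  congr 2
  have key : stabilizer G a ⊓ stabilizer G (t • a) ⊓ centralizer ({t} : Set G) =
      stabilizer G c ⊓ stabilizer G a ⊓ centralizer ({t} : Set G) := by
    ext g
    simp only [mem_inf, mem_stabilizer_iff, mem_centralizer_singleton_iff]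
    constructor
    · rintro ⟨⟨h1, -⟩, h3⟩
      exact ⟨⟨fix_centre_of_commute hH ht htc h3, h1⟩, h3⟩
    · rintro ⟨⟨-, h2⟩, h3⟩
      exact ⟨⟨h2, by rw [smul_smul, h3, ← smul_smul, h2]⟩, h3⟩
  rw [key]

end Cfsg.Lib.BenderSE
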