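/-
Coprime action of a dihedral group on a group of odd order whose reflections have their fixed
points in a given subgroup.
-/
import Cfsg.Agent.BenderSE.Basic
import Cfsg.Agent.Coprime.Action
import Cfsg.Agent.OddChar.PF.OddOrder

set_option autoImplicit false
set_option linter.unusedSectionVars false

namespace Cfsg.Lib.BenderSE

open Subgroup MulAction
open scoped commutatorElement

universe u

variable {G : Type u} [Group G] [Finite G]

theorem zpowers_le_normalizer_of_mem {r : G} {M : Subgroup G}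
    (h : r ∈ normalizer (M : Set G)) : zpowers r ≤ normalizer (M : Set G) := zpowers_le.2 h

theorem conj_mem_inf {r : G} {X Y : Subgroup G} (hX : r ∈ normalizer (X : Set G))
    (hY : r ∈ normalizer (Y : Set G)) : r ∈ normalizer ((X ⊓ Y : Subgroup G) : Set G) := by
  rw [mem_normalizer_iff]
  intro z
  rw [mem_inf, mem_inf, ← mem_normalizer_iff.1 hX z, ← mem_normalizer_iff.1 hY z]

theorem mem_normalizer_commutator {r : G} {X : Subgroup G} (hX : r ∈ normalizer (X : Set G)) :
    r ∈ normalizer ((⁅X, X⁆ : Subgroup G) : Set G) := by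
  have hmap : X.map (MulAut.conj r).toMonoidHom = X := Cfsg.Lib.Coprime.conjMap_eq_self hX
  have h : (⁅X, X⁆ : Subgroup G).map (MulAut.conj r).toMonoidHom = ⁅X, X⁆ := by
    rw [Subgroup.map_commutator, hmap]
  rw [mem_normalizer_iff]
  intro z
  constructor
  · intro hz
    rw [← h]
    exact ⟨z, hz, rfl⟩
  · intro hz
    rw [← h] at hz
    obtain ⟨w, hw, hwz⟩ := hz
    have : w = z := (MulAut.conj r).injective hwz
    exact this ▸ hw

theorem le_normalizer_of_commutator_le {X M : Subgroup G} (hMX : M ≤ X) (hXM : ⁅X, X⁆ ≤ M) :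
    X ≤ normalizer (M : Set G) := by
  intro x hx
  have key : ∀ y ∈ X, ∀ m ∈ M, y * m * y⁻¹ ∈ M := by
    intro y hy m hm
    have h1 : ⁅y, m⁆ ∈ M := hXM (commutator_mem_commutator hy (hMX hm))
    have h2 := mul_mem h1 hm
    rwa [commutatorElement_def, inv_mul_cancel_right] at h2
  refine mem_normalizer_iff.2 fun m => ⟨fun hm => key x hx m hm, fun hm => ?_⟩
  have h2 := key x⁻¹ (inv_mem hx) _ hm
  rwa [show x⁻¹ * (x * m * x⁻¹) * x⁻¹⁻¹ = m by group] at h2

/-- An involution whose fixed points in `X` lie in `M` inverts `X / M`, for `X / M` abelian and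
`M` of odd order. -/
theorem mul_conj_mem {X M : Subgroup G} {r : G} (hMX : M ≤ X) (hXM : ⁅X, X⁆ ≤ M)
    (hMo : Odd (Nat.card M)) (hr : r * r = 1) (hrX : r ∈ normalizer (X : Set G))
    (hrM : r ∈ normalizer (M : Set G)) (hfix : ∀ x ∈ X, Commute x r → x ∈ M) {x : G} (hx : x ∈ X) :
    x * (r * x * r⁻¹) ∈ M := by
  have hri : r⁻¹ = r := inv_eq_of_mul_eq_one_right hr
  have hx' : r * x * r⁻¹ ∈ X := (mem_normalizer_iff.1 hrX x).1 hx
  set x' := r * x * r⁻¹ with hx'def
  set w := x * x' with hw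
  have hwX : w ∈ X := mul_mem hx hx'
  have hflip : r * w * r⁻¹ = x' * x := by
    rw [hw, hx'def, hri, show r * (x * (r * x * r)) * r = r * x * r * x * (r * r) by group, hr, mul_one]
  have hcomm : w⁻¹ * r * w * r⁻¹ ∈ M := by
    rw [show w⁻¹ * r * w * r⁻¹ = w⁻¹ * (r * w * r⁻¹) by group, hflip, hw,
      show (x * x')⁻¹ * (x' * x) = ⁅x'⁻¹, x⁻¹⁆ by rw [commutatorElement_def]; group]
    exact hXM (commutator_mem_commutator (inv_mem hx') (inv_mem hx))
  have hpow : ∀ a ∈ zpowers r, a = 1 ∨ a = r := by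
    rintro _ ⟨k, rfl⟩
    show r ^ k = 1 ∨ r ^ k = r
    rcases Int.even_or_odd k with ⟨j, rfl⟩ | ⟨j, rfl⟩
    · exact Or.inl (by rw [zpow_add, ← (Commute.refl r).mul_zpow, hr, one_zpow])
    · exact Or.inr (by rw [zpow_add, two_mul, zpow_add, ← (Commute.refl r).mul_zpow, hr, one_zpow,
        one_mul, zpow_one])
  have hcop : (Nat.card (zpowers r)).Coprime (Nat.card M) := by
    rw [Nat.card_zpowers]
    exact (Nat.coprime_two_left.2 hMo).coprime_dvd_left
      (orderOf_dvd_of_pow_eq_one (by rw [sq, hr]))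
  obtain ⟨d, hd, hdc⟩ := Cfsg.Lib.Coprime.exists_fixed_in_coset (A := zpowers r) (D := M)
    (zpowers_le_normalizer_of_mem hrM) hcop (Or.inl inferInstance) (k := w) (by
      intro a ha
      rcases hpow a ha with rfl | rfl
      · simp
      · exact hcomm)
  have hcom : Commute (w * d) r := (mem_centralizer_iff.1 hdc r (mem_zpowers r)).symm
  exact (mul_mem_cancel_right hd).1 (hfix (w * d) (mul_mem hwX (hMX hd)) hcom)

/-- The dihedral lemma: `X = C_X(y) (X ∩ K)`. -/
theorem exists_mul_eq {X K : Subgroup G} {t y : G} (hX : Odd (Nat.card X)) (ht : t * t = 1)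
    (hinv : t * y * t⁻¹ = y⁻¹) (htX : t ∈ normalizer (X : Set G))
    (hyX : y ∈ normalizer (X : Set G)) (htK : t ∈ normalizer (K : Set G))
    (hyK : y ∈ normalizer (K : Set G)) (hcop : (orderOf y).Coprime (Nat.card X))
    (h0 : ∀ x ∈ X, Commute x t → x ∈ K) (h1 : ∀ x ∈ X, Commute x (t * y) → x ∈ K)
    {x : G} (hx : x ∈ X) : ∃ c ∈ X, Commute c y ∧ ∃ k ∈ X, k ∈ K ∧ x = c * k := by
  induction hn : Nat.card X using Nat.strong_induction_on generalizing X x with
  | _ n ih =>
  subst hn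
  by_cases hbot : X = ⊥
  · subst hbot
    obtain rfl := mem_bot.1 hx
    exact ⟨1, one_mem _, Commute.one_left y, 1, one_mem _, one_mem _, (mul_one 1).symm⟩
  set X' := ⁅X, X⁆ with hX'def
  have hX'le : X' ≤ X := commutator_le.2 fun a ha b hb => by
    rw [commutatorElement_def]
    exact mul_mem (mul_mem (mul_mem ha hb) (inv_mem ha)) (inv_mem hb)
  have hX'lt : Nat.card X' < Nat.card X := by
    haveI := Cfsg.Agent.PF.isSolvable_of_odd X hX
    haveI : Nontrivial X := (nontrivial_iff_ne_bot X).2 hbot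
    have hlt := Group.IsSolvable.commutator_lt_top_of_nontrivial X
    by_contra hge
    have heq : X' = X := Cfsg.Lib.Coprime.eq_of_le_of_card_eq hX'le
      (le_antisymm (card_le_of_le hX'le) (not_lt.1 hge))
    apply hlt.ne
    apply Subgroup.map_injective X.subtype_injective
    rw [Subgroup.map_subtype_commutator, ← MonoidHom.range_eq_map, range_subtype]
    exact heq
  set L := X ⊓ K with hL
  have htL : t ∈ normalizer (L : Set G) := conj_mem_inf htX htK
  have hyL : y ∈ normalizer (L : Set G) := conj_mem_inf hyX hyK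
  have htX' : t ∈ normalizer (X' : Set G) := mem_normalizer_commutator htX
  have hyX' : y ∈ normalizer (X' : Set G) := mem_normalizer_commutator hyX
  set M := X' ⊔ L with hM
  have hMX : M ≤ X := sup_le hX'le inf_le_left
  have hXM : ⁅X, X⁆ ≤ M := le_sup_left
  have hMo : Odd (Nat.card M) := hX.of_dvd_nat (card_dvd_of_le hMX)
  have htM : t ∈ normalizer (M : Set G) :=
    (Cfsg.Lib.Coprime.le_normalizer_sup (zpowers_le_normalizer_of_mem htX')
      (zpowers_le_normalizer_of_mem htL)) (mem_zpowers t)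
  have hyM : y ∈ normalizer (M : Set G) :=
    (Cfsg.Lib.Coprime.le_normalizer_sup (zpowers_le_normalizer_of_mem hyX')
      (zpowers_le_normalizer_of_mem hyL)) (mem_zpowers y)
  have hty : (t * y) * (t * y) = 1 := by
    rw [show t * y * (t * y) = (t * y * t) * y by group]
    rw [inv_eq_of_mul_eq_one_right ht] at hinv
    rw [hinv, inv_mul_cancel]
  have htyX : t * y ∈ normalizer (X : Set G) := mul_mem htX hyX
  have htyM : t * y ∈ normalizer (M : Set G) := mul_mem htM hyM
  have hstep : ∀ z ∈ X, z⁻¹ * (y * z * y⁻¹) ∈ M := by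
    intro z hz
    have hz' : y * z * y⁻¹ ∈ X := (mem_normalizer_iff.1 hyX z).1 hz
    have e0 := mul_conj_mem hMX hXM hMo ht htX htM
      (fun a ha hc => (le_sup_right : L ≤ M) (mem_inf.2 ⟨ha, h0 a ha hc⟩)) hz'
    have e1 := mul_conj_mem hMX hXM hMo hty htyX htyM
      (fun a ha hc => (le_sup_right : L ≤ M) (mem_inf.2 ⟨ha, h1 a ha hc⟩)) hz
    have e2 : y * z * y⁻¹ * z⁻¹ ∈ M := by
      have h := mul_mem e0 (inv_mem e1)
      rwa [show y * z * y⁻¹ * (t * (y * z * y⁻¹) * t⁻¹) * (z * (t * y * z * (t * y)⁻¹))⁻¹ =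
        y * z * y⁻¹ * z⁻¹ by group] at h
    have h := (mem_normalizer_iff.1 (le_normalizer_of_commutator_le hMX hXM (inv_mem hz)) _).1 e2
    rwa [show z⁻¹ * (y * z * y⁻¹ * z⁻¹) * z⁻¹⁻¹ = z⁻¹ * (y * z * y⁻¹) by group] at h
  have hpow : ∀ (n : ℕ), ∀ z ∈ X, z⁻¹ * (y ^ n * z * (y ^ n)⁻¹) ∈ M ∧ y ^ n * z * (y ^ n)⁻¹ ∈ X := by
    intro n
    induction n with
    | zero => intro z hz; simpa using And.intro (one_mem M) hz
    | succ n ihn =>
      intro z hz
      obtain ⟨a1, a2⟩ := ihn z hz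
      have a3 := hstep _ a2
      refine ⟨?_, ?_⟩
      · have h := mul_mem a1 a3
        rwa [show z⁻¹ * (y ^ n * z * (y ^ n)⁻¹) * ((y ^ n * z * (y ^ n)⁻¹)⁻¹ *
          (y * (y ^ n * z * (y ^ n)⁻¹) * y⁻¹)) = z⁻¹ * (y ^ (n + 1) * z * (y ^ (n + 1))⁻¹) by
          rw [pow_succ']; group] at h
      · have h := (mem_normalizer_iff.1 hyX _).1 a2
        rwa [show y * (y ^ n * z * (y ^ n)⁻¹) * y⁻¹ = y ^ (n + 1) * z * (y ^ (n + 1))⁻¹ by
          rw [pow_succ']; group] at h
  obtain ⟨d, hd, hdc⟩ := Cfsg.Lib.Coprime.exists_fixed_in_coset (A := zpowers y) (D := M)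
    (zpowers_le_normalizer_of_mem hyM)
    (by rw [Nat.card_zpowers]; exact hcop.coprime_dvd_right (card_dvd_of_le hMX))
    (Or.inl inferInstance) (k := x) (by
      intro a ha
      obtain ⟨n, rfl⟩ := mem_powers_iff_mem_zpowers.2 ha
      have h := (hpow n x hx).1
      simpa [mul_assoc] using h)
  have hc0 : Commute (x * d) y := (mem_centralizer_iff.1 hdc y (mem_zpowers y)).symm
  have hLX' : L ≤ normalizer (X' : Set G) := fun l hl => mem_normalizer_commutator
    (le_normalizer (G := G) (mem_inf.1 hl).1)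
  obtain ⟨e, he, k, hk, hek⟩ := (Cfsg.Lib.Coprime.mem_sup_of_le_normalizer hLX').1 (inv_mem hd)
  obtain ⟨c', hc', hc'y, k', hk'X, hk'K, hek'⟩ := ih (Nat.card X') hX'lt (X := X') (x := e)
    (hX.of_dvd_nat (card_dvd_of_le hX'le)) htX' hyX'
    (hcop.coprime_dvd_right (card_dvd_of_le hX'le))
    (fun a ha => h0 a (hX'le ha)) (fun a ha => h1 a (hX'le ha)) he rfl
  refine ⟨x * d * c', mul_mem (mul_mem hx (hMX hd)) (hX'le hc'), hc0.mul_left hc'y, k' * k,
    mul_mem (hX'le hk'X) (mem_inf.1 hk).1, mul_mem hk'K (mem_inf.1 hk).2, ?_⟩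
  calc x = x * d * d⁻¹ := by group
    _ = x * d * (c' * k' * k) := by rw [← hek, hek']
    _ = x * d * c' * (k' * k) := by group

variable {H : Subgroup G}

/-- The dihedral lemma for a strongly embedded subgroup: `X = C_X(y) (X ∩ G_c)`. -/
theorem exists_mul_eq_centre (hH : Cfsg.IsStronglyEmbedded H) {X : Subgroup G} {t y : G}
    {c : G ⧸ H} (hX : Odd (Nat.card X)) (ht : orderOf t = 2) (htc : t • c = c) (hyc : y • c = c)
    (hinv : t * y * t⁻¹ = y⁻¹) (hne : t * y ≠ 1) (htX : t ∈ normalizer (X : Set G))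
    (hyX : y ∈ normalizer (X : Set G)) (hcop : (orderOf y).Coprime (Nat.card X))
    {x : G} (hx : x ∈ X) : ∃ z ∈ X, Commute z y ∧ ∃ k ∈ X, k • c = c ∧ x = z * k := by
  have htt := Cfsg.Lib.InvolCalc.sq_of_order_two ht
  have hty : orderOf (t * y) = 2 := by
    refine Cfsg.Lib.InvolCalc.order_two_of_mul_self ?_ hne
    rw [show t * y * (t * y) = (t * y * t) * y by group]
    rw [inv_eq_of_mul_eq_one_right htt] at hinv
    rw [hinv, inv_mul_cancel]
  exact exists_mul_eq (K := stabilizer G c) hX htt hinv htX hyX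
    (le_normalizer (G := G) (H := stabilizer G c) htc)
    (le_normalizer (G := G) (H := stabilizer G c) hyc) hcop
    (fun a _ ha => fix_centre_of_commute hH ht htc ha)
    (fun a _ ha => fix_centre_of_commute hH hty (by rw [mul_smul, hyc, htc]) ha) hx

/-- With `C(y) ≤ G_c` the whole of `X` fixes `c`. -/
theorem le_stabilizer_of_centralizer_le (hH : Cfsg.IsStronglyEmbedded H) {X : Subgroup G} {t y : G}
    {c : G ⧸ H} (hX : Odd (Nat.card X)) (ht : orderOf t = 2) (htc : t • c = c) (hyc : y • c = c)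
    (hinv : t * y * t⁻¹ = y⁻¹) (hne : t * y ≠ 1) (htX : t ∈ normalizer (X : Set G))
    (hyX : y ∈ normalizer (X : Set G)) (hcop : (orderOf y).Coprime (Nat.card X))
    (hC : ∀ z ∈ X, Commute z y → z • c = c) : X ≤ stabilizer G c := by
  intro x hx
  obtain ⟨z, hz, hzy, k, -, hk, rfl⟩ := exists_mul_eq_centre hH hX ht htc hyc hinv hne htX hyX hcop hx
  rw [mem_stabilizer_iff, mul_smul, hk, hC z hz hzy]

end Cfsg.Lib.BenderSE
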