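/-
Midpoints: a group of odd order normalised by an involution with centre `c`, not fixing `c`,
has a point `a` in the minimal block through `c` with `L ∩ G_a ∩ G_{t a} ≤ G_c`.
-/
import Cfsg.Agent.BenderSE.Dihedral

set_option autoImplicit false
set_option linter.unusedSectionVars false

namespace Cfsg.Lib.BenderSE

open Subgroup MulAction
open scoped commutatorElement

universe u v

variable {G : Type u} [Group G] [Finite G]

/-- a last term of a derived series outside `B` -/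
theorem exists_derived_term {J B : Subgroup G} (hJ : Odd (Nat.card J)) {t : G}
    (hJn : J ≤ normalizer (J : Set G)) (htJ : t ∈ normalizer (J : Set G)) (hJB : ¬ J ≤ B) :
    ∃ M : Subgroup G, M ≤ J ∧ J ≤ normalizer (M : Set G) ∧ t ∈ normalizer (M : Set G) ∧
      ¬ M ≤ B ∧ ⁅M, M⁆ ≤ B := by
  suffices h : ∀ W : Subgroup G, W ≤ J → J ≤ normalizer (W : Set G) → t ∈ normalizer (W : Set G) →
      ¬ W ≤ B → ∃ M : Subgroup G, M ≤ J ∧ J ≤ normalizer (M : Set G) ∧
        t ∈ normalizer (M : Set G) ∧ ¬ M ≤ B ∧ ⁅M, M⁆ ≤ B from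
    h J le_rfl hJn htJ hJB
  intro W
  induction hn : Nat.card W using Nat.strong_induction_on generalizing W with
  | _ n ih =>
  subst hn
  intro hWJ hJW htW hWB
  by_cases hW' : ⁅W, W⁆ ≤ B
  · exact ⟨W, hWJ, hJW, htW, hWB, hW'⟩
  have hle : ⁅W, W⁆ ≤ W := commutator_le.2 fun a ha b hb => by
    rw [commutatorElement_def]
    exact mul_mem (mul_mem (mul_mem ha hb) (inv_mem ha)) (inv_mem hb)
  have hWne : W ≠ ⊥ := fun h => hWB (h ▸ bot_le)
  have hlt : Nat.card ↥⁅W, W⁆ < Nat.card W := by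
    haveI := Cfsg.Agent.PF.isSolvable_of_odd W (hJ.of_dvd_nat (card_dvd_of_le hWJ))
    haveI : Nontrivial W := (nontrivial_iff_ne_bot W).2 hWne
    have hlt := Group.IsSolvable.commutator_lt_top_of_nontrivial W
    by_contra hge
    have heq : ⁅W, W⁆ = W := Cfsg.Lib.Coprime.eq_of_le_of_card_eq hle
      (le_antisymm (card_le_of_le hle) (not_lt.1 hge))
    apply hlt.ne
    apply Subgroup.map_injective W.subtype_injective
    rw [Subgroup.map_subtype_commutator, ← MonoidHom.range_eq_map, range_subtype]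
    exact heq
  exact ih _ hlt ⁅W, W⁆ rfl (hle.trans hWJ) (fun j hj => mem_normalizer_commutator (hJW hj))
    (mem_normalizer_commutator htW) hW'

/-- in a group of odd order an element whose square lies in a subgroup lies in it -/
theorem mem_of_sq_mem {L N : Subgroup G} (hL : Odd (Nat.card L)) {n : G} (hn : n ∈ L)
    (h : n * n ∈ N) : n ∈ N := by
  obtain ⟨k, hk⟩ := hL.of_dvd_nat (Subgroup.orderOf_dvd_natCard L hn)
  have h2 : (n * n) ^ (k + 1) = n := by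
    rw [← sq, ← pow_mul, show 2 * (k + 1) = orderOf n + 1 by omega, pow_succ, pow_orderOf_eq_one,
      one_mul]
  exact h2 ▸ pow_mem h _

/-- The midpoint lemma. -/
theorem exists_midpoint {α : Type v} [MulAction G α] {L : Subgroup G} (hL : Odd (Nat.card L))
    {t : G} (ht : t * t = 1) (htL : t ∈ normalizer (L : Set G)) {c : α} (htc : t • c = c)
    (hC : ∀ x ∈ L, Commute x t → x • c = c) (hne : ¬ L ≤ stabilizer G c) :
    ∃ l ∈ L, l • c ≠ c ∧ t • l • c = l⁻¹ • c ∧ t • l • c ≠ l • c ∧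
      ∀ g ∈ L, g • l • c = l • c → g • t • l • c = t • l • c → g • c = c := by
  classical
  set B := L ⊓ stabilizer G c with hB
  have htS : t ∈ normalizer ((stabilizer G c : Subgroup G) : Set G) := le_normalizer (G := G) htc
  have htB : t ∈ normalizer (B : Set G) := conj_mem_inf htL htS
  -- a minimal invariant overgroup
  have hex : ∃ n : ℕ, ∃ J : Subgroup G,
      Nat.card J = n ∧ B ≤ J ∧ J ≤ L ∧ t ∈ normalizer (J : Set G) ∧ ¬ J ≤ B :=
    ⟨_, L, rfl, inf_le_left, le_rfl, htL, fun h => hne (h.trans inf_le_right)⟩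
  obtain ⟨J, hJcard, hBJ, hJL, htJ, hJB⟩ := Nat.find_spec hex
  have hJmin : ∀ J' : Subgroup G, B ≤ J' → J' ≤ J → t ∈ normalizer (J' : Set G) → ¬ J' ≤ B →
      J' = J := by
    intro J' h1 h2 h3 h4
    refine Cfsg.Lib.Coprime.eq_of_le_of_card_eq h2 (le_antisymm (card_le_of_le h2) ?_)
    rw [hJcard]
    exact Nat.find_min' hex ⟨J', rfl, h1, h2.trans hJL, h3, h4⟩
  obtain ⟨M, hMJ, hJM, htM, hMB, hMM⟩ :=
    exists_derived_term (B := B) (hL.of_dvd_nat (card_dvd_of_le hJL)) le_normalizer htJ hJB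
  have hBM : B ≤ normalizer (M : Set G) := hBJ.trans hJM
  have hJeq : M ⊔ B = J := by
    refine hJmin _ le_sup_right (sup_le hMJ hBJ) ?_ fun h => hMB (le_sup_left.trans h)
    exact (Cfsg.Lib.Coprime.le_normalizer_sup (zpowers_le_normalizer_of_mem htM)
      (zpowers_le_normalizer_of_mem htB)) (mem_zpowers t)
  set N := M ⊓ B with hN
  have hML : M ≤ L := hMJ.trans hJL
  have hMo : Odd (Nat.card M) := hL.of_dvd_nat (card_dvd_of_le hML)
  have hNM : N ≤ M := inf_le_left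
  have hMN : ⁅M, M⁆ ≤ N := le_inf (commutator_le.2 fun a ha b hb => by
    rw [commutatorElement_def]
    exact mul_mem (mul_mem (mul_mem ha hb) (inv_mem ha)) (inv_mem hb)) hMM
  have htN : t ∈ normalizer (N : Set G) := conj_mem_inf htM htB
  obtain ⟨m, hm, hmB⟩ := SetLike.not_le_iff_exists.1 hMB
  have hinv := mul_conj_mem hNM hMN (hL.of_dvd_nat (card_dvd_of_le (hNM.trans hML))) ht htM htN
    (fun a ha hcom => mem_inf.2 ⟨ha, mem_inf.2 ⟨hML ha, hC a (hML ha) hcom⟩⟩) hm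
  set m' := t * m * t⁻¹ with hm'
  set n₀ := m * m' with hn₀
  have hn₀c : n₀ • c = c := (mem_inf.1 (mem_inf.1 hinv).2).2
  have htinv : t • m • c = m⁻¹ • c := by
    have h1 : t • m • c = m' • c := by
      rw [hm', mul_smul, mul_smul, show t⁻¹ • c = c by rw [inv_smul_eq_iff, htc]]
    rw [h1, show m' = m⁻¹ * n₀ by rw [hn₀]; group, mul_smul, hn₀c]
  have hmc : m • c ≠ c := fun h => hmB (mem_inf.2 ⟨hML hm, h⟩)
  have hdiff : m⁻¹ • c ≠ m • c := by
    intro h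
    have h2 : m * m ∈ N := by
      refine mem_inf.2 ⟨mul_mem hm hm, mem_inf.2 ⟨mul_mem (hML hm) (hML hm), ?_⟩⟩
      rw [mem_stabilizer_iff, mul_smul, ← h, smul_smul, mul_inv_cancel, one_smul]
    exact hmB (mem_inf.1 (mem_of_sq_mem hMo hm h2)).2
  refine ⟨m, hML hm, hmc, htinv, by rw [htinv]; exact hdiff, fun g hg hga hgb => ?_⟩
  rw [htinv] at hgb
  -- `g` lies in `J = M B`
  have h1 : m⁻¹ * g * m ∈ B := by
    refine mem_inf.2 ⟨mul_mem (mul_mem (inv_mem (hML hm)) hg) (hML hm), ?_⟩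
    rw [mem_stabilizer_iff, mul_smul, mul_smul, hga, inv_smul_smul]
  have h2 : m * g * m⁻¹ ∈ B := by
    refine mem_inf.2 ⟨mul_mem (mul_mem (hML hm) hg) (inv_mem (hML hm)), ?_⟩
    rw [mem_stabilizer_iff, mul_smul, mul_smul, hgb, smul_inv_smul]
  have hgJ : g ∈ M ⊔ B := by
    have h := mul_mem (mul_mem ((le_sup_left : M ≤ M ⊔ B) hm) ((le_sup_right : B ≤ M ⊔ B) h1))
      ((le_sup_left : M ≤ M ⊔ B) (inv_mem hm))
    rwa [show m * (m⁻¹ * g * m) * m⁻¹ = g by group] at h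
  obtain ⟨n, hn, k, hk, rfl⟩ := (Cfsg.Lib.Coprime.mem_sup_of_le_normalizer hBM).1 hgJ
  have hkc : k • c = c := (mem_inf.1 hk).2
  rw [mul_smul, hkc]
  suffices h : n ∈ N from (mem_inf.1 (mem_inf.1 h).2).2
  refine mem_of_sq_mem hMo hn ?_
  have hBn : ∀ x ∈ M, k * x * k⁻¹ ∈ M := fun x hx => (mem_normalizer_iff.1 (hBM hk) x).1 hx
  set p := k * m * k⁻¹ with hp
  have hpM : p ∈ M := hBn m hm
  have hA : m⁻¹ * n * p ∈ N := by
    refine mem_inf.2 ⟨mul_mem (mul_mem (inv_mem hm) hn) hpM, ?_⟩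
    have h := mul_mem h1 (inv_mem hk)
    rwa [show m⁻¹ * (n * k) * m * k⁻¹ = m⁻¹ * n * p by rw [hp]; group] at h
  have hA' : m * n * p⁻¹ ∈ N := by
    refine mem_inf.2 ⟨mul_mem (mul_mem hm hn) (inv_mem hpM), ?_⟩
    have h := mul_mem h2 (inv_mem hk)
    rwa [show m * (n * k) * m⁻¹ * k⁻¹ = m * n * p⁻¹ by rw [hp]; group] at h
  have hcM : ∀ a ∈ M, ∀ b ∈ M, ⁅a, b⁆ ∈ N := fun a ha b hb =>
    hMN (commutator_mem_commutator ha hb)
  -- `(m⁻¹ n p)(m n p⁻¹) ≡ n²` modulo `N`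
  let NN : Subgroup M := N.subgroupOf M
  haveI : NN.Normal := by
    refine ⟨fun a ha b => ?_⟩
    rw [mem_subgroupOf] at ha ⊢
    have h := mul_mem (hcM b b.2 a a.2) ha
    rwa [commutatorElement_def, inv_mul_cancel_right] at h
  let π := QuotientGroup.mk' NN
  have hab : ∀ a b : M, π a * π b = π b * π a := by
    intro a b
    rw [← map_mul, ← map_mul, QuotientGroup.mk'_eq_mk']
    refine ⟨(a * b)⁻¹ * (b * a), ?_, by group⟩
    rw [mem_subgroupOf]
    have h := hcM (b : G)⁻¹ (inv_mem b.2) (a : G)⁻¹ (inv_mem a.2)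
    rw [commutatorElement_def] at h
    simpa [mul_assoc] using h
  set M₁ : M := ⟨m, hm⟩
  set N₁ : M := ⟨n, hn⟩
  set P₁ : M := ⟨p, hpM⟩
  have e1 : π (M₁⁻¹ * N₁ * P₁) = 1 := (QuotientGroup.eq_one_iff _).2 (mem_subgroupOf.2 hA)
  have e2 : π (M₁ * N₁ * P₁⁻¹) = 1 := (QuotientGroup.eq_one_iff _).2 (mem_subgroupOf.2 hA')
  have e3 : π (N₁ * N₁) = 1 := by
    calc π (N₁ * N₁) = π (M₁⁻¹ * N₁ * P₁) * π (M₁ * N₁ * P₁⁻¹) := by
          simp only [map_mul, map_inv]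
          calc π N₁ * π N₁ = (π M₁)⁻¹ * π M₁ * (π N₁ * π N₁) * (π P₁ * (π P₁)⁻¹) := by group
            _ = (π M₁)⁻¹ * (π M₁ * π N₁) * (π N₁ * π P₁) * (π P₁)⁻¹ := by group
            _ = (π M₁)⁻¹ * (π N₁ * π M₁) * (π P₁ * π N₁) * (π P₁)⁻¹ := by rw [hab M₁ N₁, hab N₁ P₁]
            _ = (π M₁)⁻¹ * π N₁ * (π M₁ * π P₁) * π N₁ * (π P₁)⁻¹ := by group
            _ = (π M₁)⁻¹ * π N₁ * (π P₁ * π M₁) * π N₁ * (π P₁)⁻¹ := by rw [hab M₁ P₁]
            _ = _ := by group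
      _ = 1 := by rw [e1, e2, one_mul]
  exact mem_subgroupOf.1 ((QuotientGroup.eq_one_iff _).1 e3)

variable {H : Subgroup G}

/-- The midpoint lemma for a strongly embedded subgroup. -/
theorem exists_midpoint_centre (hH : Cfsg.IsStronglyEmbedded H) {L : Subgroup G}
    (hL : Odd (Nat.card L)) {t : G} (ht : orderOf t = 2) (htL : t ∈ normalizer (L : Set G))
    {c : G ⧸ H} (htc : t • c = c) (hne : ¬ L ≤ stabilizer G c) :
    ∃ l ∈ L, l • c ≠ c ∧ t • l • c = l⁻¹ • c ∧ t • l • c ≠ l • c ∧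
      L ⊓ (stabilizer G (l • c) ⊓ stabilizer G (t • l • c)) ≤ stabilizer G c := by
  obtain ⟨l, hl, h1, h2, h3, h4⟩ := exists_midpoint hL (Cfsg.Lib.InvolCalc.sq_of_order_two ht) htL
    htc (fun x _ hx => fix_centre_of_commute hH ht htc hx) hne
  exact ⟨l, hl, h1, h2, h3, fun g hg => h4 g (mem_inf.1 hg).1 (mem_inf.1 (mem_inf.1 hg).2).1
    (mem_inf.1 (mem_inf.1 hg).2).2⟩

end Cfsg.Lib.BenderSE
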