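/-
An involution acting on a group of odd order: `X = C_X(t) I_X(t)`.
-/
import Cfsg.Agent.BenderSE.Midpoint
import Cfsg.Agent.Coprime.Sylow

set_option autoImplicit false
set_option linter.unusedSectionVars false

namespace Cfsg.Lib.BenderSE

open Subgroup

universe u

variable {G : Type u} [Group G] [Finite G]

/-- every element is a centralising element times an inverted one -/
theorem exists_commute_mul_inverted {X : Subgroup G} (hX : Odd (Nat.card X)) {t : G} (ht : t * t = 1)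
    (htX : t ∈ normalizer (X : Set G)) {x : G} (hx : x ∈ X) :
    ∃ u ∈ X, Commute u t ∧ ∃ i ∈ X, t * i * t⁻¹ = i⁻¹ ∧ x = u * i := by
  have hti : t⁻¹ = t := inv_eq_of_mul_eq_one_right ht
  have hx' : t * x * t⁻¹ ∈ X := (mem_normalizer_iff.1 htX x).1 hx
  set w := x⁻¹ * (t * x * t⁻¹) with hw
  have hwX : w ∈ X := mul_mem (inv_mem hx) hx'
  have hwinv : t * w * t⁻¹ = w⁻¹ := by
    rw [hw, hti, show t * (x⁻¹ * (t * x * t)) * t = t * x⁻¹ * t * x * (t * t) by group, ht, mul_one,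
      mul_inv_rev, inv_inv, mul_inv_rev, mul_inv_rev, hti]
    group
  obtain ⟨k, hk⟩ := hX.of_dvd_nat (Subgroup.orderOf_dvd_natCard X hwX)
  -- `z` is the square root of `w`
  set z := w ^ (k + 1) with hz
  have hzX : z ∈ X := pow_mem hwX _
  have hz2 : z * z = w := by
    rw [hz, ← pow_add, show k + 1 + (k + 1) = orderOf w + 1 by omega, pow_succ, pow_orderOf_eq_one,
      one_mul]
  have hzinv : t * z * t⁻¹ = z⁻¹ := by rw [hz, ← conj_pow, hwinv, inv_pow]
  refine ⟨x * z, mul_mem hx hzX, ?_, z⁻¹, inv_mem hzX, ?_, by group⟩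
  · have h : t * (x * z) * t⁻¹ = x * z := by
      rw [show t * (x * z) * t⁻¹ = (t * x * t⁻¹) * (t * z * t⁻¹) by group, hzinv,
        show t * x * t⁻¹ = x * w by rw [hw]; group, ← hz2]
      group
    exact (mul_inv_eq_iff_eq_mul.1 h).symm
  · rw [← conj_inv, hzinv]

/-- `|I_X(t)| |C_X(t)| = |X|` -/
theorem card_inverted_mul {X : Subgroup G} (hX : Odd (Nat.card X)) {t : G} (ht : t * t = 1)
    (htX : t ∈ normalizer (X : Set G)) :
    Nat.card {x // x ∈ X ∧ t * x * t⁻¹ = x⁻¹} * Nat.card ↥(X ⊓ centralizer ({t} : Set G)) =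
      Nat.card X := by
  rw [mul_comm, ← Nat.card_prod]
  refine Nat.card_eq_of_bijective
    (fun p => (⟨(p.1 : G) * (p.2 : G), mul_mem (mem_inf.1 p.1.2).1 p.2.2.1⟩ : X)) ⟨?_, ?_⟩
  · rintro ⟨⟨u, hu⟩, ⟨i, hiX, hi⟩⟩ ⟨⟨u', hu'⟩, ⟨i', hiX', hi'⟩⟩ h
    have h' : u * i = u' * i' := congrArg Subtype.val h
    have hv : Commute (u'⁻¹ * u) t :=
      (Commute.inv_left (mem_centralizer_singleton_iff.1 (mem_inf.1 hu').2)).mul_left
        (mem_centralizer_singleton_iff.1 (mem_inf.1 hu).2)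
    have e1 : u'⁻¹ * u = i' * i⁻¹ := by
      rw [eq_mul_inv_iff_mul_eq, mul_assoc, h', inv_mul_cancel_left]
    rw [e1] at hv
    have e2 : i'⁻¹ * i = i' * i⁻¹ := by
      have e := mul_inv_eq_iff_eq_mul.2 hv.eq.symm
      rw [show t * (i' * i⁻¹) * t⁻¹ = (t * i' * t⁻¹) * (t * i * t⁻¹)⁻¹ by group, hi, hi', inv_inv] at e
      exact e
    have e3 : i * i = i' * i' := by
      calc i * i = i' * (i'⁻¹ * i) * i := by group
        _ = i' * (i' * i⁻¹) * i := by rw [e2]
        _ = i' * i' := by group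
    have e4 : i = i' := by
      have hroot : ∀ j ∈ X, (j * j) ^ ((Nat.card X + 1) / 2) = j := by
        intro j hj
        obtain ⟨k, hk⟩ := hX
        have h1 : j ^ Nat.card X = 1 := by
          have h2 : (⟨j, hj⟩ : X) ^ Nat.card X = 1 := pow_card_eq_one'
          exact congrArg Subtype.val h2
        rw [← sq, ← pow_mul, show 2 * ((Nat.card X + 1) / 2) = Nat.card X + 1 by omega, pow_succ, h1,
          one_mul]
      rw [← hroot i hiX, e3, hroot i' hiX']
    subst e4
    obtain rfl : u = u' := mul_right_cancel h'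
    rfl
  · rintro ⟨x, hx⟩
    obtain ⟨u, hu, huc, i, hi, hinv, rfl⟩ := exists_commute_mul_inverted hX ht htX hx
    exact ⟨⟨⟨u, mem_inf.2 ⟨hu, mem_centralizer_singleton_iff.2 huc⟩⟩, ⟨i, hi, hinv⟩⟩, rfl⟩

/-- a subgroup containing the fixed points and the inverted elements contains `X` -/
theorem le_of_inverted {X K : Subgroup G} (hX : Odd (Nat.card X)) {t : G} (ht : t * t = 1)
    (htX : t ∈ normalizer (X : Set G)) (hC : ∀ x ∈ X, Commute x t → x ∈ K)
    (hI : ∀ x ∈ X, t * x * t⁻¹ = x⁻¹ → x ∈ K) : X ≤ K := by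
  intro x hx
  obtain ⟨u, hu, huc, i, hi, hinv, rfl⟩ := exists_commute_mul_inverted hX ht htX hx
  exact mul_mem (hC u hu huc) (hI i hi hinv)

/-- the subgroup `[X, t]` generated by the inverted elements -/
def invClosure (X : Subgroup G) (t : G) : Subgroup G :=
  closure {x | x ∈ X ∧ t * x * t⁻¹ = x⁻¹}

theorem invClosure_le (X : Subgroup G) (t : G) : invClosure X t ≤ X :=
  (closure_le _).2 fun _ hx => hx.1

theorem mem_normalizer_invClosure {X : Subgroup G} {t g : G} (hgX : g ∈ normalizer (X : Set G))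
    (hgt : Commute g t) : g ∈ normalizer ((invClosure X t : Subgroup G) : Set G) := by
  have key : ∀ h ∈ normalizer (X : Set G), Commute h t →
      ∀ x ∈ invClosure X t, h * x * h⁻¹ ∈ invClosure X t := by
    intro h hhX hht x hx
    induction hx using Subgroup.closure_induction with
    | mem z hz =>
      refine subset_closure ⟨(mem_normalizer_iff.1 hhX z).1 hz.1, ?_⟩
      calc t * (h * z * h⁻¹) * t⁻¹ = (t * h) * z * (t * h)⁻¹ := by group
        _ = (h * t) * z * (h * t)⁻¹ := by rw [hht.eq]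
        _ = h * (t * z * t⁻¹) * h⁻¹ := by group
        _ = (h * z * h⁻¹)⁻¹ := by rw [hz.2]; group
    | one => simp
    | mul p q _ _ hp hq => rw [show h * (p * q) * h⁻¹ = (h * p * h⁻¹) * (h * q * h⁻¹) by group]; exact mul_mem hp hq
    | inv p _ hp => rw [show h * p⁻¹ * h⁻¹ = (h * p * h⁻¹)⁻¹ by group]; exact inv_mem hp
  refine mem_normalizer_iff.2 fun x => ⟨fun hx => key g hgX hgt x hx, fun hx => ?_⟩
  have h := key g⁻¹ (inv_mem hgX) hgt.inv_left _ hx
  rwa [show g⁻¹ * (g * x * g⁻¹) * g⁻¹⁻¹ = x by group] at h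

/-- conjugate involutions in the normaliser have conjugate `[X, t]` -/
theorem invClosure_conj {X : Subgroup G} {t d : G} (hdX : d ∈ normalizer (X : Set G)) :
    invClosure X (d * t * d⁻¹) = (invClosure X t).map (MulAut.conj d).toMonoidHom := by
  rw [invClosure, invClosure, MonoidHom.map_closure]
  congr 1
  ext x
  constructor
  · rintro ⟨hx, hinv⟩
    refine ⟨d⁻¹ * x * d, ⟨(mem_normalizer_iff''.1 hdX x).1 hx, ?_⟩, ?_⟩
    · calc t * (d⁻¹ * x * d) * t⁻¹ = d⁻¹ * (d * t * d⁻¹ * x * (d * t * d⁻¹)⁻¹) * d := by group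
        _ = (d⁻¹ * x * d)⁻¹ := by rw [hinv]; group
    · show d * (d⁻¹ * x * d) * d⁻¹ = x
      group
  · rintro ⟨z, ⟨hz, hinv⟩, rfl⟩
    refine ⟨(mem_normalizer_iff.1 hdX z).1 hz, ?_⟩
    show d * t * d⁻¹ * (d * z * d⁻¹) * (d * t * d⁻¹)⁻¹ = (d * z * d⁻¹)⁻¹
    calc d * t * d⁻¹ * (d * z * d⁻¹) * (d * t * d⁻¹)⁻¹ = d * (t * z * t⁻¹) * d⁻¹ := by group
      _ = (d * z * d⁻¹)⁻¹ := by rw [hinv]; group

/-- the fixed points of `t` in an invariant Sylow subgroup form a Sylow subgroup of `C(t)` -/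
theorem card_invariant_sylow_centralizer {D : Subgroup G} (hD : Odd (Nat.card D)) {t : G}
    (ht : orderOf t = 2) (htD : t ∈ normalizer (D : Set G)) (r : ℕ) [Fact r.Prime] (P : Sylow r D)
    (htP : t ∈ normalizer (((P : Subgroup D).map D.subtype : Subgroup G) : Set G)) :
    Nat.card ↥((P : Subgroup D).map D.subtype ⊓ centralizer ({t} : Set G)) =
      r ^ (Nat.card ↥(D ⊓ centralizer ({t} : Set G))).factorization r := by
  set C := centralizer ({t} : Set G) with hC
  obtain ⟨R⟩ : Nonempty (Sylow r ↥(D ⊓ C)) := inferInstance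
  set U := (R : Subgroup ↥(D ⊓ C)).map (D ⊓ C).subtype with hU
  have hUle : U ≤ D ⊓ C := map_subtype_le _
  have hAD : zpowers t ≤ normalizer (D : Set G) := zpowers_le.2 htD
  have hcop : (Nat.card (zpowers t)).Coprime (Nat.card D) := by
    rw [Nat.card_zpowers, ht]
    exact Nat.coprime_two_left.2 hD
  have hUA : zpowers t ≤ normalizer (U : Set G) := by
    refine zpowers_le.2 (mem_normalizer_iff.2 fun z => ?_)
    have key : ∀ w ∈ U, t * w * t⁻¹ = w := fun w hw => by
      rw [← (mem_centralizer_singleton_iff.1 (mem_inf.1 (hUle hw)).2 : w * t = t * w),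
        mul_inv_cancel_right]
    refine ⟨fun hz => by rw [key z hz]; exact hz, fun hz => ?_⟩
    have h := key _ hz
    have h2 : z = t * z * t⁻¹ := by
      have h3 := congrArg (fun w => t⁻¹ * w * t) h
      simpa [mul_assoc] using h3.symm
    rwa [h2]
  obtain ⟨Q, hUQ, hQA⟩ := Cfsg.Lib.Coprime.exists_invariant_sylow_ge hAD hcop (Or.inl inferInstance) r
    (hUle.trans inf_le_left) (R.2.map _) hUA
  obtain ⟨d, hd, hdQ⟩ := Cfsg.Lib.Coprime.invariant_sylow_conj hAD hcop (Or.inl inferInstance) r P Q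
    (zpowers_le.2 htP) hQA
  have hdt : Commute (d : G) t := (mem_centralizer_iff.1 hd t (mem_zpowers t)).symm
  have hcard : Nat.card ↥((P : Subgroup D).map D.subtype ⊓ C) =
      Nat.card ↥((Q : Subgroup D).map D.subtype ⊓ C) := by
    rw [← hdQ, Cfsg.Lib.Coprime.map_subtype_smul]
    conv_rhs => rw [← Cfsg.Lib.Coprime.conjMap_eq_self (g := (d : G)) (H := C)
      (le_normalizer (G := G) (mem_centralizer_singleton_iff.2 hdt))]
    rw [← Cfsg.Lib.Coprime.conjMap_inf, Cfsg.Lib.Coprime.card_conjMap]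
  have hRc : Nat.card U = r ^ (Nat.card ↥(D ⊓ C)).factorization r := by
    rw [hU, card_map_of_injective (D ⊓ C).subtype_injective, Sylow.card_eq_multiplicity]
  rw [hcard, ← hRc]
  have hle : U ≤ (Q : Subgroup D).map D.subtype ⊓ C := le_inf hUQ (hUle.trans inf_le_right)
  refine le_antisymm ?_ (card_le_of_le hle)
  have hQC : (Q : Subgroup D).map D.subtype ⊓ C ≤ D ⊓ C := inf_le_inf_right _ (map_subtype_le _)
  obtain ⟨k, hk⟩ := IsPGroup.iff_card.1 ((Q.2.map D.subtype).to_le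
    (inf_le_left : (Q : Subgroup D).map D.subtype ⊓ C ≤ _))
  rw [hRc, hk]
  exact Nat.pow_le_pow_right (Fact.out : r.Prime).pos
    (((Fact.out : r.Prime).pow_dvd_iff_le_factorization Nat.card_pos.ne').1 (hk ▸ card_dvd_of_le hQC))

end Cfsg.Lib.BenderSE
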