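/-
Coprime action of an `r`-group extended by an involution: `X` is generated by the centralisers of
the conjugates of the involution and the centraliser of the commutator subgroup.
-/
import Cfsg.Agent.BenderSE.Dihedral
import Cfsg.Agent.BenderSE.Inverted

set_option autoImplicit false
set_option linter.unusedSectionVars false
set_option linter.style.haveILetI false

namespace Cfsg.Lib.BenderSE

open Subgroup MulAction

universe u

variable {G : Type u} [Group G] [Finite G]

theorem mem_normalizer_of_maps_to {A : Subgroup G} {g : G} (h : ∀ a ∈ A, g * a * g⁻¹ ∈ A) :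
    g ∈ normalizer (A : Set G) := by
  rw [← Cfsg.Lib.Coprime.conjMap_eq_self_iff]
  refine Cfsg.Lib.Coprime.eq_of_le_of_card_eq ?_ (card_map_of_injective (MulAut.conj g).injective)
  rintro _ ⟨a, ha, rfl⟩
  exact h a ha

theorem mem_normalizer_closure {S : Set G} {g : G} (h : ∀ s ∈ S, g * s * g⁻¹ ∈ closure S) :
    g ∈ normalizer ((closure S : Subgroup G) : Set G) := by
  refine mem_normalizer_of_maps_to fun a ha => ?_
  exact (closure_le ((closure S).comap (MulAut.conj g).toMonoidHom)).2 h ha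

/-- `[R, t]` -/
def commClosure (R : Subgroup G) (t : G) : Subgroup G := closure {e | ∃ g ∈ R, e = g * t * g⁻¹ * t}

theorem commClosure_le {R : Subgroup G} {t : G} (ht : t * t = 1) (htR : t ∈ normalizer (R : Set G)) :
    commClosure R t ≤ R := by
  refine (closure_le _).2 ?_
  rintro _ ⟨g, hg, rfl⟩
  rw [show g * t * g⁻¹ * t = g * (t * g⁻¹ * t) by group]
  refine mul_mem hg ?_
  have h := (mem_normalizer_iff.1 htR _).1 (inv_mem hg)
  rwa [inv_eq_of_mul_eq_one_right ht] at h

/-- `[R, t]` is normal in `R` -/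
theorem le_normalizer_commClosure {R : Subgroup G} {t : G} (ht : t * t = 1) :
    R ≤ normalizer ((commClosure R t : Subgroup G) : Set G) := by
  intro g hg
  refine mem_normalizer_closure ?_
  rintro _ ⟨h, hh, rfl⟩
  have h1 : g * h * t * (g * h)⁻¹ * t ∈ commClosure R t := subset_closure ⟨g * h, mul_mem hg hh, rfl⟩
  have h2 : g * t * g⁻¹ * t ∈ commClosure R t := subset_closure ⟨g, hg, rfl⟩
  have h3 := mul_mem h1 (inv_mem h2)
  rwa [show g * h * t * (g * h)⁻¹ * t * (g * t * g⁻¹ * t)⁻¹ = g * (h * t * h⁻¹ * t) * g⁻¹ by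
    rw [mul_inv_rev (g * t * g⁻¹) t, inv_eq_of_mul_eq_one_right ht,
      show g * h * t * (g * h)⁻¹ * t * (t * (g * t * g⁻¹)⁻¹) =
        g * h * t * (g * h)⁻¹ * (t * t) * (g * t * g⁻¹)⁻¹ by group, ht, mul_one]
    simp [inv_eq_of_mul_eq_one_right ht, mul_assoc]] at h3

theorem mem_normalizer_commClosure {R : Subgroup G} {t : G} (htR : t ∈ normalizer (R : Set G)) :
    t ∈ normalizer ((commClosure R t : Subgroup G) : Set G) := by
  refine mem_normalizer_closure ?_
  rintro _ ⟨g, hg, rfl⟩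
  refine subset_closure ⟨t * g * t⁻¹, (mem_normalizer_iff.1 htR g).1 hg, ?_⟩
  group

/-- in a group of odd order `[R, t]` is generated by the elements inverted by `t` -/
theorem commClosure_eq_invClosure {R : Subgroup G} {t : G} (hR : Odd (Nat.card R)) (ht : t * t = 1)
    (htR : t ∈ normalizer (R : Set G)) : commClosure R t = invClosure R t := by
  have hti := inv_eq_of_mul_eq_one_right ht
  refine le_antisymm ((closure_le _).2 ?_) ((closure_le _).2 ?_)
  · rintro e ⟨g, hg, rfl⟩
    refine subset_closure ⟨commClosure_le ht htR (subset_closure ⟨g, hg, rfl⟩), ?_⟩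
    calc t * (g * t * g⁻¹ * t) * t⁻¹ = t * g * t * g⁻¹ * (t * t⁻¹) := by group
      _ = (g * t * g⁻¹ * t)⁻¹ := by rw [mul_inv_cancel]; simp [hti, mul_assoc]
  · rintro y ⟨hy, hinv⟩
    obtain ⟨k, hk⟩ := hR.of_dvd_nat (Subgroup.orderOf_dvd_natCard R hy)
    refine subset_closure ⟨y ^ (k + 1), pow_mem hy _, ?_⟩
    have h1 : t * (y ^ (k + 1))⁻¹ * t = y ^ (k + 1) := by
      rw [← inv_pow, ← hinv, conj_pow, hti,
        show t * (t * y ^ (k + 1) * t) * t = (t * t) * y ^ (k + 1) * (t * t) by group, ht, one_mul,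
        mul_one]
    rw [mul_assoc _ t, mul_assoc, show t * (y ^ (k + 1))⁻¹ * t = y ^ (k + 1) from h1, ← pow_add,
      show k + 1 + (k + 1) = orderOf y + 1 by omega, pow_succ, pow_orderOf_eq_one, one_mul]

/-- COPRIME: if `K` contains the centralisers in `X` of the conjugates of `t` under `R` and of
`[R, t]`, then it contains `X`. -/
theorem le_of_coprime {X K R : Subgroup G} {t : G} (hX : Odd (Nat.card X)) (ht : t * t = 1)
    (htX : t ∈ normalizer (X : Set G)) (hRX : R ≤ normalizer (X : Set G))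
    (htR : t ∈ normalizer (R : Set G)) (hcop : (Nat.card R).Coprime (Nat.card X))
    (h0 : ∀ g ∈ R, ∀ x ∈ X, Commute x (g * t * g⁻¹) → x ∈ K)
    (hE : ∀ x ∈ X, (∀ e ∈ commClosure R t, Commute x e) → x ∈ K) : X ≤ K := by
  suffices h : ∀ X' : Subgroup G, X' ≤ X → t ∈ normalizer (X' : Set G) →
      R ≤ normalizer (X' : Set G) → X' ≤ K from h X le_rfl htX hRX
  intro X'
  induction hn : Nat.card X' using Nat.strong_induction_on generalizing X' with
  | _ n ih =>
  subst hn
  intro hle htX' hRX'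
  by_cases hbot : X' = ⊥
  · rw [hbot]; exact bot_le
  set S : Set G := {x | x ∈ X' ∧ ((∃ g ∈ R, Commute x (g * t * g⁻¹)) ∨
    ∀ e ∈ commClosure R t, Commute x e)} with hS
  set L := closure S with hL
  set M := ⁅X', X'⁆ ⊔ L with hM
  have hLX : L ≤ X' := (closure_le _).2 fun x hx => hx.1
  have hLK : L ≤ K := (closure_le _).2 fun x hx => hx.2.elim
    (fun ⟨g, hg, hc⟩ => h0 g hg x (hle hx.1) hc) (hE x (hle hx.1))
  have htL : t ∈ normalizer (L : Set G) := by
    refine mem_normalizer_closure fun x hx => subset_closure ⟨(mem_normalizer_iff.1 htX' x).1 hx.1, ?_⟩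
    rcases hx.2 with ⟨g, hg, hc⟩ | hc
    · refine Or.inl ⟨t * g * t⁻¹, (mem_normalizer_iff.1 htR g).1 hg, ?_⟩
      have h := hc.map (MulAut.conj t).toMonoidHom
      simpa [mul_assoc] using h
    · refine Or.inr fun e he => ?_
      have h := (hc _ ((mem_normalizer_iff''.1 (mem_normalizer_commClosure htR) e).1 he)).map
        (MulAut.conj t).toMonoidHom
      simpa [mul_assoc] using h
  have hRL : R ≤ normalizer (L : Set G) := fun r hr => by
    refine mem_normalizer_closure fun x hx => subset_closure ⟨(mem_normalizer_iff.1 (hRX' hr) x).1 hx.1, ?_⟩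
    rcases hx.2 with ⟨g, hg, hc⟩ | hc
    · refine Or.inl ⟨r * g, mul_mem hr hg, ?_⟩
      have h := hc.map (MulAut.conj r).toMonoidHom
      simpa [mul_assoc] using h
    · refine Or.inr fun e he => ?_
      have h := (hc _ ((mem_normalizer_iff''.1 (le_normalizer_commClosure ht hr) e).1 he)).map
        (MulAut.conj r).toMonoidHom
      simpa [mul_assoc] using h
  have hDle : ⁅X', X'⁆ ≤ X' := commutator_le.2 fun a ha b hb => by
    rw [commutatorElement_def]
    exact mul_mem (mul_mem (mul_mem ha hb) (inv_mem ha)) (inv_mem hb)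
  have hDlt : Nat.card ↥(⁅X', X'⁆ : Subgroup G) < Nat.card X' := by
    haveI := Cfsg.Agent.PF.isSolvable_of_odd X' (hX.of_dvd_nat (card_dvd_of_le hle))
    haveI : Nontrivial X' := (nontrivial_iff_ne_bot X').2 hbot
    have hlt := Group.IsSolvable.commutator_lt_top_of_nontrivial X'
    by_contra hge
    have heq : ⁅X', X'⁆ = X' := Cfsg.Lib.Coprime.eq_of_le_of_card_eq hDle
      (le_antisymm (card_le_of_le hDle) (not_lt.1 hge))
    apply hlt.ne
    apply Subgroup.map_injective X'.subtype_injective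
    rw [Subgroup.map_subtype_commutator, ← MonoidHom.range_eq_map, range_subtype]
    exact heq
  have hDK : ⁅X', X'⁆ ≤ K := ih _ hDlt _ rfl (hDle.trans hle) (mem_normalizer_commutator htX')
    fun r hr => mem_normalizer_commutator (hRX' hr)
  have hMX : M ≤ X' := sup_le hDle hLX
  have hMo : Odd (Nat.card M) := hX.of_dvd_nat (card_dvd_of_le (hMX.trans hle))
  have hXM : ⁅X', X'⁆ ≤ M := le_sup_left
  have htM : t ∈ normalizer (M : Set G) :=
    (Cfsg.Lib.Coprime.le_normalizer_sup (zpowers_le_normalizer_of_mem (mem_normalizer_commutator htX'))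
      (zpowers_le_normalizer_of_mem htL)) (mem_zpowers t)
  have hRM : R ≤ normalizer (M : Set G) :=
    Cfsg.Lib.Coprime.le_normalizer_sup (fun r hr => mem_normalizer_commutator (hRX' hr)) hRL
  refine le_trans ?_ (sup_le hDK hLK : M ≤ K)
  -- each conjugate of `t` inverts `X' / M`
  have hflip : ∀ g ∈ R, ∀ z ∈ X', z * (g * t * g⁻¹ * z * (g * t * g⁻¹)⁻¹) ∈ M := by
    intro g hg z hz
    refine mul_conj_mem hMX hXM hMo ?_ ?_ ?_
      (fun x hx hc => (le_sup_right : L ≤ M) (subset_closure ⟨hx, Or.inl ⟨g, hg, hc⟩⟩)) hz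
    · rw [show g * t * g⁻¹ * (g * t * g⁻¹) = g * (t * t) * g⁻¹ by group, ht, mul_one, mul_inv_cancel]
    · exact mul_mem (mul_mem (hRX' hg) htX') (inv_mem (hRX' hg))
    · exact mul_mem (mul_mem (hRM hg) htM) (inv_mem (hRM hg))
  have hstab : ∀ e ∈ commClosure R t, ∀ z ∈ X', e * z * e⁻¹ * z⁻¹ ∈ M := by
    intro e he
    induction he using closure_induction with
    | mem e he =>
      obtain ⟨g, hg, rfl⟩ := he
      intro z hz
      have hz' : t * z * t⁻¹ ∈ X' := (mem_normalizer_iff.1 htX' z).1 hz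
      have h1 := hflip g hg _ hz'
      have h2 := hflip 1 (one_mem R) z hz
      simp only [one_mul, inv_one, mul_one] at h2
      have h3 := (mem_normalizer_iff.1
        (le_normalizer_of_commutator_le hMX hXM (inv_mem hz')) _).1 h1
      have h4 := mul_mem h3 (inv_mem h2)
      rwa [show (t * z * t⁻¹)⁻¹ *
          (t * z * t⁻¹ * (g * t * g⁻¹ * (t * z * t⁻¹) * (g * t * g⁻¹)⁻¹)) * (t * z * t⁻¹)⁻¹⁻¹ *
          (z * (t * z * t⁻¹))⁻¹ = g * t * g⁻¹ * t * z * (g * t * g⁻¹ * t)⁻¹ * z⁻¹ by group] at h4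
    | one =>
      intro z _
      simp
    | mul a b ha hb iha ihb =>
      intro z hz
      have hbz : b * z * b⁻¹ ∈ X' :=
        (mem_normalizer_iff.1 (hRX' (commClosure_le ht htR hb)) z).1 hz
      have := mul_mem (iha _ hbz) (ihb z hz)
      rwa [show a * (b * z * b⁻¹) * a⁻¹ * (b * z * b⁻¹)⁻¹ * (b * z * b⁻¹ * z⁻¹) =
        a * b * z * (a * b)⁻¹ * z⁻¹ by group] at this
    | inv a ha iha =>
      intro z hz
      have haz : a⁻¹ * z * a⁻¹⁻¹ ∈ X' :=
        (mem_normalizer_iff.1 (hRX' (commClosure_le ht htR (inv_mem ha))) z).1 hz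
      have := inv_mem (iha _ haz)
      rwa [show (a * (a⁻¹ * z * a⁻¹⁻¹) * a⁻¹ * (a⁻¹ * z * a⁻¹⁻¹)⁻¹)⁻¹ = a⁻¹ * z * a⁻¹⁻¹ * z⁻¹ by
        group] at this
  intro x hx
  obtain ⟨d, hd, hdc⟩ := Cfsg.Lib.Coprime.exists_fixed_in_coset (A := commClosure R t) (D := M)
    ((commClosure_le ht htR).trans hRM)
    ((hcop.coprime_dvd_left (card_dvd_of_le (commClosure_le ht htR))).coprime_dvd_right
      (card_dvd_of_le (hMX.trans hle)))
    (Or.inr (Cfsg.Agent.PF.isSolvable_of_odd M hMo)) (k := x) (by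
      intro a ha
      have h := (mem_normalizer_iff.1 (le_normalizer_of_commutator_le hMX hXM (inv_mem hx)) _).1
        (hstab a ha x hx)
      rwa [show x⁻¹ * (a * x * a⁻¹ * x⁻¹) * x⁻¹⁻¹ = x⁻¹ * a * x * a⁻¹ by group] at h)
  have hxd : x * d ∈ L := subset_closure ⟨mul_mem hx (hMX hd), Or.inr fun e he =>
    (mem_centralizer_iff.1 hdc e he).symm⟩
  exact (mul_mem_cancel_right hd).1 ((le_sup_right : L ≤ M) hxd)

variable {H : Subgroup G}

/-- (G4): `X` fixes the centre if the centraliser in `X` of the inverted elements of `R` does. -/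
theorem le_stabilizer_of_invClosure (hH : Cfsg.IsStronglyEmbedded H) {X R : Subgroup G} {t : G}
    {c : G ⧸ H} (hX : Odd (Nat.card X)) (hR : Odd (Nat.card R)) (ht : orderOf t = 2)
    (htc : t • c = c) (hRc : R ≤ stabilizer G c) (htX : t ∈ normalizer (X : Set G))
    (hRX : R ≤ normalizer (X : Set G)) (htR : t ∈ normalizer (R : Set G))
    (hcop : (Nat.card R).Coprime (Nat.card X))
    (hC : X ⊓ centralizer ((invClosure R t : Subgroup G) : Set G) ≤ stabilizer G c) :
    X ≤ stabilizer G c := by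
  have htt := Cfsg.Lib.InvolCalc.sq_of_order_two ht
  refine le_of_coprime hX htt htX hRX htR hcop (fun g hg x _ hc => ?_) fun x hx hc => hC ?_
  · refine fix_centre_of_commute hH (by rw [orderOf_conj', ht]) ?_ hc
    rw [mul_smul, mul_smul, inv_smul_eq_iff.2 (mem_stabilizer_iff.1 (hRc hg)).symm, htc,
      mem_stabilizer_iff.1 (hRc hg)]
  · refine ⟨hx, mem_centralizer_iff.2 fun e he => ?_⟩
    rw [← commClosure_eq_invClosure hR htt htR] at he
    exact (hc e he).eq.symm

end Cfsg.Lib.BenderSE
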