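/-
The block lemma: a group `K` with an involution `t` of centre `c` and a normal subgroup `L` of odd
order moving `c` has a block `M • c` on which `t` acts as the reflection at `c`.
-/
import Cfsg.Agent.BenderSE.Midpoint

set_option autoImplicit false
set_option linter.unusedSectionVars false

namespace Cfsg.Lib.BenderSE

open Subgroup MulAction
open scoped commutatorElement

universe u v

variable {G : Type u} [Group G] [Finite G]

/-- a last term of the derived series of `W` outside `B`, with the normalisers of `W` -/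
theorem exists_derived_term' {A B W : Subgroup G} (hW : Odd (Nat.card W))
    (hAW : A ≤ normalizer (W : Set G)) (hWB : ¬ W ≤ B) :
    ∃ M : Subgroup G, M ≤ W ∧ A ≤ normalizer (M : Set G) ∧ ¬ M ≤ B ∧ ⁅M, M⁆ ≤ B := by
  induction hn : Nat.card W using Nat.strong_induction_on generalizing W with
  | _ n ih =>
  subst hn
  by_cases hW' : ⁅W, W⁆ ≤ B
  · exact ⟨W, le_rfl, hAW, hWB, hW'⟩
  have hle : ⁅W, W⁆ ≤ W := commutator_le.2 fun a ha b hb => by
    rw [commutatorElement_def]
    exact mul_mem (mul_mem (mul_mem ha hb) (inv_mem ha)) (inv_mem hb)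
  have hWne : W ≠ ⊥ := fun h => hWB (h ▸ bot_le)
  have hlt : Nat.card ↥⁅W, W⁆ < Nat.card W := by
    haveI := Cfsg.Agent.PF.isSolvable_of_odd W hW
    haveI : Nontrivial W := (nontrivial_iff_ne_bot W).2 hWne
    have hlt := Group.IsSolvable.commutator_lt_top_of_nontrivial W
    by_contra hge
    have heq : ⁅W, W⁆ = W := Cfsg.Lib.Coprime.eq_of_le_of_card_eq hle
      (le_antisymm (card_le_of_le hle) (not_lt.1 hge))
    apply hlt.ne
    apply Subgroup.map_injective W.subtype_injective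
    rw [Subgroup.map_subtype_commutator, ← MonoidHom.range_eq_map, range_subtype]
    exact heq
  obtain ⟨M, h1, h2, h3, h4⟩ := ih _ hlt (W := ⁅W, W⁆) (hW.of_dvd_nat (card_dvd_of_le hle))
    (fun a ha => mem_normalizer_commutator (hAW ha)) hW' rfl
  exact ⟨M, h1.trans hle, h2, h3, h4⟩

/-- The data of an affine block through the centre `c` of `t`. -/
structure CentreBlock {α : Type v} [MulAction G α] (K : Subgroup G) (t : G) (c : α) where
  /-- the translations -/
  M : Subgroup G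
  le : M ≤ K
  odd : Odd (Nat.card M)
  normalized : K ≤ normalizer (M : Set G)
  moves : ¬ M ≤ stabilizer G c
  comm : ∀ m ∈ M, ∀ n ∈ M, (m * n) • c = (n * m) • c
  inv : ∀ m ∈ M, t • m • c = m⁻¹ • c
  swap : ∀ m ∈ M, m • c ≠ c → t • m • c ≠ m • c
  midpoint : ∀ m ∈ M, ∀ g ∈ K, g • m • c = m • c → g • t • m • c = t • m • c → g • c = c
  fixed : ∀ k ∈ K, k • c = c → Odd (orderOf k) → t * k * t⁻¹ = k⁻¹ → ∀ m ∈ M, k • m • c = m • c

namespace CentreBlock

variable {α : Type v} [MulAction G α] {K : Subgroup G} {t : G} {c : α}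

/-- `M • c` is a block for `K` -/
theorem block (b : CentreBlock K t c) {g : G} (hg : g ∈ K) {m m' : G} (hm : m ∈ b.M) (hm' : m' ∈ b.M)
    (h : g • m • c = m' • c) {n : G} (hn : n ∈ b.M) : ∃ n' ∈ b.M, g • n • c = n' • c := by
  set k := m'⁻¹ * g * m with hk
  have hkc : k • c = c := by rw [hk, mul_smul, mul_smul, h, inv_smul_smul]
  have hkK : k ∈ K := mul_mem (mul_mem (inv_mem (b.le hm')) hg) (b.le hm)
  refine ⟨m' * (k * (m⁻¹ * n) * k⁻¹), mul_mem hm'
    ((mem_normalizer_iff.1 (b.normalized hkK) _).1 (mul_mem (inv_mem hm) hn)), ?_⟩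
  rw [show m' * (k * (m⁻¹ * n) * k⁻¹) = g * n * k⁻¹ by rw [hk]; group, mul_smul, mul_smul,
    show k⁻¹ • c = c by rw [inv_smul_eq_iff, hkc]]

end CentreBlock

/-- A normal subgroup `M` of odd order moving `c`, abelian modulo the stabiliser, gives block
data. -/
theorem exists_centreBlock_of {α : Type v} [MulAction G α] {K M : Subgroup G} {t : G} {c : α}
    (hML : M ≤ K) (hKM : K ≤ normalizer (M : Set G)) (hMo : Odd (Nat.card M))
    (hMB : ¬ M ≤ stabilizer G c) (hMM : ⁅M, M⁆ ≤ stabilizer G c) (ht : t * t = 1)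
    (htK : t ∈ K) (htc : t • c = c) (hC : ∀ x ∈ M, Commute x t → x • c = c) :
    ∃ b : CentreBlock K t c, b.M = M := by
  set B := stabilizer G c with hB
  set N := M ⊓ B with hN
  have hNM : N ≤ M := inf_le_left
  have hMN : ⁅M, M⁆ ≤ N := le_inf (commutator_le.2 fun a ha b hb => by
    rw [commutatorElement_def]
    exact mul_mem (mul_mem (mul_mem ha hb) (inv_mem ha)) (inv_mem hb)) hMM
  have hcM : ∀ a ∈ M, ∀ b ∈ M, ⁅a, b⁆ ∈ N := fun a ha b hb =>
    hMN (commutator_mem_commutator ha hb)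
  haveI hNn : (N.subgroupOf M).Normal := by
    refine ⟨fun a ha b => ?_⟩
    rw [mem_subgroupOf] at ha ⊢
    have h := mul_mem (hcM b b.2 a a.2) ha
    rwa [commutatorElement_def, inv_mul_cancel_right] at h
  let π := QuotientGroup.mk' (N.subgroupOf M)
  have hπ : ∀ a b : M, π a = π b ↔ (a : G) • c = (b : G) • c := by
    intro a b
    rw [QuotientGroup.mk'_eq_mk']
    constructor
    · rintro ⟨z, hz, rfl⟩
      rw [Subgroup.coe_mul, mul_smul, show (z : G) • c = c from (mem_inf.1 (mem_subgroupOf.1 hz)).2]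
    · intro h
      refine ⟨a⁻¹ * b, mem_subgroupOf.2 (mem_inf.2 ⟨(a⁻¹ * b).2, ?_⟩), by group⟩
      show ((a : G)⁻¹ * (b : G)) • c = c
      rw [mul_smul, ← h, inv_smul_smul]
  have hab : ∀ a b : M, π a * π b = π b * π a := by
    intro a b
    rw [← map_mul, ← map_mul, QuotientGroup.mk'_eq_mk']
    refine ⟨(a * b)⁻¹ * (b * a), ?_, by group⟩
    rw [mem_subgroupOf]
    have h := hcM (b : G)⁻¹ (inv_mem b.2) (a : G)⁻¹ (inv_mem a.2)
    rw [commutatorElement_def] at h
    simpa [mul_assoc] using h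
  have hcomm : ∀ m ∈ M, ∀ n ∈ M, (m * n) • c = (n * m) • c := fun m hm n hn =>
    (hπ (⟨m, hm⟩ * ⟨n, hn⟩) (⟨n, hn⟩ * ⟨m, hm⟩)).1 (by rw [map_mul, map_mul, hab])
  have htM : t ∈ normalizer (M : Set G) := hKM htK
  have htN : t ∈ normalizer (N : Set G) := conj_mem_inf htM (le_normalizer (G := G) htc)
  have hinv : ∀ m ∈ M, t • m • c = m⁻¹ • c := by
    intro m hm
    have h := mul_conj_mem hNM hMN (hMo.of_dvd_nat (card_dvd_of_le hNM)) ht htM htN
      (fun a ha hcom => mem_inf.2 ⟨ha, hC a ha hcom⟩) hm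
    have h1 : t • m • c = (t * m * t⁻¹) • c := by
      rw [mul_smul, mul_smul, show t⁻¹ • c = c by rw [inv_smul_eq_iff, htc]]
    have h2 : (m * (t * m * t⁻¹)) • c = c := (mem_inf.1 h).2
    rw [h1, eq_inv_smul_iff, ← mul_smul, h2]
  have hsq : ∀ n ∈ M, (n * n) • c = c → n • c = c := fun n hn h =>
    (mem_inf.1 (mem_of_sq_mem (N := N) hMo hn (mem_inf.2 ⟨mul_mem hn hn, h⟩))).2
  refine ⟨⟨M, hML, hMo, hKM, hMB, hcomm, hinv, ?_, ?_, ?_⟩, rfl⟩
  · intro m hm hmc h
    rw [hinv m hm, inv_smul_eq_iff, ← mul_smul] at h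
    exact hmc (hsq m hm h.symm)
  · intro m hm g hg hga hgb
    rw [hinv m hm] at hgb
    set k := m⁻¹ * g * m with hk
    have hkc : k • c = c := by rw [hk, mul_smul, mul_smul, hga, inv_smul_smul]
    have hkK : k ∈ K := mul_mem (mul_mem (inv_mem (hML hm)) hg) (hML hm)
    set p := k * m * k⁻¹ with hp
    have hpM : p ∈ M := (mem_normalizer_iff.1 (hKM hkK) m).1 hm
    have hki : k⁻¹ • c = c := by rw [inv_smul_eq_iff, hkc]
    -- `g = m p⁻¹ k`
    have hgk : g = m * p⁻¹ * k := by rw [hp, hk]; group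
    have hnc : g • c = (m * p⁻¹) • c := by rw [hgk, mul_smul, hkc]
    rw [hnc]
    refine hsq _ (mul_mem hm (inv_mem hpM)) ?_
    -- `g m⁻¹ c = m⁻¹ c` reads `m p⁻¹ (k m⁻¹ k⁻¹) c = m⁻¹ c`
    have h2 : (m * (m * p⁻¹ * p⁻¹)) • c = c := by
      have h := congrArg (m • ·) hgb
      simp only [smul_inv_smul] at h
      rw [show g • m⁻¹ • c = (m * p⁻¹ * p⁻¹) • c by
        rw [hgk, ← mul_smul, show m * p⁻¹ * k * m⁻¹ = m * p⁻¹ * p⁻¹ * k by rw [hp]; group,
          mul_smul, hkc], ← mul_smul] at h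
      exact h
    set M₁ : M := ⟨m, hm⟩
    set P₁ : M := ⟨p, hpM⟩
    have e : π (M₁ * P₁⁻¹ * (M₁ * P₁⁻¹)) = π 1 := by
      have e' : π (M₁ * (M₁ * P₁⁻¹ * P₁⁻¹)) = π 1 :=
        (hπ _ _).2 (by rw [Subgroup.coe_one, one_smul]; exact h2)
      rw [← e']
      simp only [map_mul, map_inv]
      have hc1 : Commute (π M₁) (π P₁)⁻¹ := Commute.inv_right (hab M₁ P₁)
      calc π M₁ * (π P₁)⁻¹ * (π M₁ * (π P₁)⁻¹) = π M₁ * ((π P₁)⁻¹ * π M₁) * (π P₁)⁻¹ := by group
        _ = π M₁ * (π M₁ * (π P₁)⁻¹) * (π P₁)⁻¹ := by rw [hc1.eq]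
        _ = _ := by group
    have e2 := (hπ _ _).1 e
    rwa [Subgroup.coe_one, one_smul] at e2
  · intro k hk hkc hko hkinv m hm
    have hki : k⁻¹ • c = c := by rw [inv_smul_eq_iff, hkc]
    have htk : t * k = k⁻¹ * t := mul_inv_eq_iff_eq_mul.1 hkinv
    -- `k` and `k⁻¹` agree on the block
    have hkk : ∀ n ∈ M, k • n • c = k⁻¹ • n • c := by
      intro n hn
      have h1 : ∀ q ∈ K, q • c = c → t • q • n • c = q • n⁻¹ • c := fun q hq hqc => by
        have hqi : q⁻¹ • c = c := by rw [inv_smul_eq_iff, hqc]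
        have hqn : q * n * q⁻¹ ∈ M := (mem_normalizer_iff.1 (hKM hq) n).1 hn
        have h := hinv _ hqn
        rw [mul_smul, mul_smul, hqi, mul_inv_rev, mul_inv_rev, inv_inv, mul_smul, mul_smul, hqi] at h
        exact h
      have h2 := h1 k hk hkc
      rw [← mul_smul, htk, mul_smul, hinv n hn] at h2
      -- `h2 : k⁻¹ n⁻¹ c = k n⁻¹ c`
      have h3 := congrArg (t • ·) h2
      rw [← mul_smul t k⁻¹, show t * k⁻¹ = k * t by
        have := congrArg (fun w => k * w * k⁻¹) htk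
        simpa [mul_assoc] using this.symm, mul_smul, hinv _ (inv_mem hn), inv_inv,
        ← mul_smul t k, htk, mul_smul, hinv _ (inv_mem hn), inv_inv] at h3
      exact h3
    have hk2 : ∀ n ∈ M, (k * k) • n • c = n • c := fun n hn => by
      rw [mul_smul, hkk n hn, smul_inv_smul]
    have hpow : ∀ j : ℕ, ((k * k) ^ j) • m • c = m • c := by
      intro j
      induction j with
      | zero => rw [pow_zero, one_smul]
      | succ j ihj => rw [pow_succ, mul_smul, hk2 m hm, ihj]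
    obtain ⟨j, hj⟩ := hko
    have := hpow (j + 1)
    rwa [← sq, ← pow_mul, show 2 * (j + 1) = orderOf k + 1 by omega, pow_succ, pow_orderOf_eq_one,
      one_mul] at this

/-- The block lemma. -/
theorem exists_centreBlock {α : Type v} [MulAction G α] {K L : Subgroup G} {t : G} {c : α}
    (hLK : L ≤ K) (hKL : K ≤ normalizer (L : Set G)) (hL : Odd (Nat.card L)) (ht : t * t = 1)
    (htK : t ∈ K) (htc : t • c = c) (hC : ∀ x ∈ L, Commute x t → x • c = c)
    (hne : ¬ L ≤ stabilizer G c) : ∃ b : CentreBlock K t c, b.M ≤ L := by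
  obtain ⟨M, hML, hKM, hMB, hMM⟩ := exists_derived_term' (A := K) (B := stabilizer G c) hL hKL hne
  obtain ⟨b, hb⟩ := exists_centreBlock_of (hML.trans hLK) hKM (hL.of_dvd_nat (card_dvd_of_le hML))
    hMB hMM ht htK htc (fun x hx => hC x (hML hx))
  exact ⟨b, hb ▸ hML⟩

variable {H : Subgroup G}

/-- The block lemma for a strongly embedded subgroup. -/
theorem exists_centreBlock_centre (hH : Cfsg.IsStronglyEmbedded H) {K L : Subgroup G} {t : G}
    {c : G ⧸ H} (hLK : L ≤ K) (hKL : K ≤ normalizer (L : Set G)) (hL : Odd (Nat.card L))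
    (ht : orderOf t = 2) (htK : t ∈ K) (htc : t • c = c) (hne : ¬ L ≤ stabilizer G c) :
    ∃ b : CentreBlock K t c, b.M ≤ L :=
  exists_centreBlock hLK hKL hL (Cfsg.Lib.InvolCalc.sq_of_order_two ht) htK htc
    (fun _ _ hx => fix_centre_of_commute hH ht htc hx) hne

namespace CentreBlock

variable {K : Subgroup G} {t : G} {c : G ⧸ H}

/-- a swapper in `K` of `c` and a point of the block -/
theorem exists_swapper (b : CentreBlock K t c) (ht : orderOf t = 2) (htK : t ∈ K) {m : G}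
    (hm : m ∈ b.M) : ∃ w ∈ K, orderOf w = 2 ∧ w • c = m • c := by
  obtain ⟨k, hk⟩ := b.odd.of_dvd_nat (Subgroup.orderOf_dvd_natCard b.M hm)
  have hz : m ^ (k + 1) * m ^ (k + 1) = m := by
    rw [← pow_add, show k + 1 + (k + 1) = orderOf m + 1 by omega, pow_succ, pow_orderOf_eq_one, one_mul]
  have hzM : m ^ (k + 1) ∈ b.M := pow_mem hm _
  refine ⟨m ^ (k + 1) * t * (m ^ (k + 1))⁻¹, mul_mem (mul_mem (b.le hzM) htK) (inv_mem (b.le hzM)),
    by rw [orderOf_conj', ht], ?_⟩
  rw [mul_smul, mul_smul, b.inv _ (inv_mem hzM), inv_inv, smul_smul, hz]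

/-- an involution of `K` mapping `c` into the block has its centre in the block, which is then a
block at that centre -/
theorem exists_move (b : CentreBlock K t c) (hH : Cfsg.IsStronglyEmbedded H) {s : G}
    (hs : orderOf s = 2) (hsK : s ∈ K) {d : G ⧸ H} (hsd : s • d = d) {m : G} (hm : m ∈ b.M)
    (hsc : s • c = m • c) :
    ∃ b' : CentreBlock K s d, b'.M = b.M ∧ ∃ n ∈ b.M, c = n • d := by
  classical
  haveI : Fintype (G ⧸ H) := Fintype.ofFinite _
  haveI : Fact (Nat.Prime 2) := ⟨Nat.prime_two⟩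
  -- `s` permutes the block, of odd length
  let X := orbit b.M c
  have hX : Odd (Nat.card X) := by
    refine b.odd.of_dvd_nat ?_
    rw [Nat.card_congr (orbitEquivQuotientStabilizer b.M c)]
    exact Subgroup.card_quotient_dvd_card _
  have hcl : ∀ x : X, s • x.1 ∈ X := by
    rintro ⟨x, ⟨n, hn⟩, rfl⟩
    obtain ⟨n', hn', e⟩ := b.block hsK (one_mem b.M) hm (by rwa [one_smul]) hn
    exact ⟨⟨n', hn'⟩, e.symm⟩
  let σ : Equiv.Perm X := Function.Involutive.toPerm (fun x => ⟨s • x.1, hcl x⟩)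
    (fun x => Subtype.ext (by
      show s • s • x.1 = x.1
      rw [smul_smul, Cfsg.Lib.InvolCalc.sq_of_order_two hs, one_smul]))
  have hσ : σ ^ 2 ^ 1 = 1 := by
    rw [pow_one, pow_two]
    exact Equiv.ext fun x => Subtype.ext (by
      show s • s • x.1 = x.1
      rw [smul_smul, Cfsg.Lib.InvolCalc.sq_of_order_two hs, one_smul])
  have hnd : ¬ 2 ∣ Fintype.card X := by
    rw [← Nat.card_eq_fintype_card]
    exact hX.not_two_dvd_nat
  obtain ⟨⟨x, ⟨n, hn⟩, hx⟩, hz⟩ := Equiv.Perm.exists_fixed_point_of_prime hnd hσ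
  have hx' : n • c = x := hx
  have hnd' : n • c = d := hx'.trans
    (Cfsg.Lib.StrongEmb.eq_of_fixed hH hs (congrArg Subtype.val hz) hsd)
  have hnK := b.le hn
  have hMd : ¬ b.M ≤ stabilizer G d := by
    intro h
    refine b.moves fun z hz => ?_
    have h1 : (n * z * n⁻¹) • d = d := h ((mem_normalizer_iff.1 (b.normalized hnK) z).1 hz)
    rw [← hnd', mul_smul, mul_smul, inv_smul_smul, smul_left_cancel_iff] at h1
    exact h1
  have hMM : ⁅b.M, b.M⁆ ≤ stabilizer G d := commutator_le.2 fun p hp q hq => by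
    have e : ∀ z ∈ b.M, ((p * q) * z) • c = ((q * p) * z) • c := fun z hz => by
      rw [b.comm _ (mul_mem hp hq) z hz, b.comm _ (mul_mem hq hp) z hz, mul_smul z, b.comm _ hp q hq,
        mul_smul z]
    have h5 := e ((q * p)⁻¹ * n) (mul_mem (inv_mem (mul_mem hq hp)) hn)
    rw [mul_smul, mul_smul ((q * p)⁻¹), hnd', mul_smul (q * p), mul_smul ((q * p)⁻¹), hnd',
      smul_inv_smul] at h5
    rw [mem_stabilizer_iff, commutatorElement_def,
      show p * q * p⁻¹ * q⁻¹ = (p * q) * (q * p)⁻¹ by group, mul_smul]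
    exact h5
  obtain ⟨b', hb'⟩ := exists_centreBlock_of b.le b.normalized b.odd hMd hMM
    (Cfsg.Lib.InvolCalc.sq_of_order_two hs) hsK hsd (fun x _ hx => fix_centre_of_commute hH hs hsd hx)
  exact ⟨b', hb', n⁻¹, inv_mem hn, by rw [← hnd', inv_smul_smul]⟩

end CentreBlock

end Cfsg.Lib.BenderSE
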