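/-
An element inverted by an involution whose centraliser has even order.
-/
import Cfsg.Agent.BenderSE.Basic
import Mathlib.GroupTheory.Perm.Cycle.Type

set_option autoImplicit false
set_option linter.unusedSectionVars false

namespace Cfsg.Lib.BenderSE

open Subgroup MulAction Cfsg.Lib.InvolCalc Cfsg.Lib.StrongEmb

universe u

variable {G : Type u} [Group G] [Finite G] {H : Subgroup G}

/-- a group of even order normalised by an involution `t` contains an involution commuting with `t` -/
theorem exists_involution_commute {K : Subgroup G} (heven : Even (Nat.card K)) {t : G}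
    (ht : t * t = 1) (htK : t ∈ normalizer (K : Set G)) :
    ∃ s ∈ K, orderOf s = 2 ∧ Commute s t := by
  classical
  haveI : Fintype K := Fintype.ofFinite K
  haveI : Fact (Nat.Prime 2) := ⟨Nat.prime_two⟩
  let f : Function.End K := fun x => x⁻¹
  have hf : f ^ 2 ^ 1 = 1 := by
    rw [pow_one, pow_two]
    funext x
    show x⁻¹⁻¹ = x
    rw [inv_inv]
  have hmod := Equiv.Perm.card_fixedPoints_modEq hf
  have hS : 2 ∣ Fintype.card (Function.fixedPoints f) := by
    refine Nat.modEq_zero_iff_dvd.1 (hmod.symm.trans (Nat.modEq_zero_iff_dvd.2 ?_))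
    rw [← Nat.card_eq_fintype_card]
    exact heven.two_dvd
  have hti : t⁻¹ = t := inv_eq_of_mul_eq_one_right ht
  have hcl : ∀ x : Function.fixedPoints f, t * ((x : K) : G) * t⁻¹ ∈ K := fun x =>
    (mem_normalizer_iff.1 htK _).1 (x : K).2
  let g : Function.fixedPoints f → Function.fixedPoints f := fun x =>
    ⟨⟨_, hcl x⟩, Subtype.ext (by
      have hx : ((x : K) : G)⁻¹ = ((x : K) : G) := congrArg Subtype.val x.2
      show (t * ((x : K) : G) * t⁻¹)⁻¹ = t * ((x : K) : G) * t⁻¹
      rw [mul_inv_rev, mul_inv_rev, inv_inv, hx, mul_assoc])⟩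
  have hg : Function.Involutive g := fun x => Subtype.ext (Subtype.ext (by
    show t * (t * ((x : K) : G) * t⁻¹) * t⁻¹ = ((x : K) : G)
    rw [hti, show t * (t * ((x : K) : G) * t) * t = (t * t) * ((x : K) : G) * (t * t) by group, ht,
      one_mul, mul_one]))
  have hσ : (hg.toPerm g) ^ 2 ^ 1 = 1 := by
    rw [pow_one, pow_two]
    exact Equiv.ext hg
  have h1 : (1 : K) ∈ Function.fixedPoints f := inv_one
  obtain ⟨b, hb, hb1⟩ := Equiv.Perm.exists_fixed_point_of_prime' hS hσ (a := ⟨1, h1⟩)
    (Subtype.ext (Subtype.ext (by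
      show t * ((1 : K) : G) * t⁻¹ = 1
      rw [Subgroup.coe_one, mul_one, mul_inv_cancel])))
  have hne : ((b : K) : G) ≠ 1 := fun h => hb1 (Subtype.ext (Subtype.ext h))
  have hsq : ((b : K) : G) * ((b : K) : G) = 1 := by
    have hbi : ((b : K) : G)⁻¹ = ((b : K) : G) := congrArg Subtype.val b.2
    nth_rw 1 [← hbi]
    rw [inv_mul_cancel]
  have hcomm : t * ((b : K) : G) * t⁻¹ = ((b : K) : G) :=
    congrArg (fun z : Function.fixedPoints f => ((z : K) : G)) hb
  refine ⟨_, (b : K).2, order_two_of_mul_self hsq hne, ?_⟩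
  exact (mul_inv_eq_iff_eq_mul.1 hcomm).symm

/-- involutions with different centres have a product of odd order -/
theorem odd_product_centres (hH : Cfsg.IsStronglyEmbedded H) {s u : G} (hs : orderOf s = 2)
    (hu : orderOf u = 2) {c d : G ⧸ H} (hsc : s • c = c) (hud : u • d = d) (hcd : c ≠ d) :
    Odd (orderOf (s * u)) := by
  rw [← Nat.not_even_iff_odd]
  intro he
  obtain ⟨hz, hzs, hzu⟩ := central_spec hs hu he
  exact hcd (eq_of_fixed hH hz (fix_centre_of_commute hH hs hsc hzs)
    (fix_centre_of_commute hH hu hud hzu))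

/-- If an involution with centre `c` inverts `y ≠ 1` and `C(y)` has even order, then the normaliser
of `⟨y⟩` fixes `c`. -/
theorem normalizer_zpowers_le (hH : Cfsg.IsStronglyEmbedded H) {t y : G} {c : G ⧸ H}
    (ht : orderOf t = 2) (htc : t • c = c) (hy : y ≠ 1) (hinv : t * y * t⁻¹ = y⁻¹)
    (heven : Even (Nat.card (centralizer ({y} : Set G)))) :
    normalizer ((zpowers y : Subgroup G) : Set G) ≤ stabilizer G c := by
  have htt := sq_of_order_two ht
  have hconj : ∀ (g z : G), z ∈ zpowers y → g ∈ normalizer ((zpowers y : Subgroup G) : Set G) →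
      g * z * g⁻¹ ∈ zpowers y := fun g z hz hg => (mem_normalizer_iff.1 hg z).1 hz
  intro g hg
  by_cases hy2 : y * y = 1
  · have hyi : y⁻¹ = y := inv_eq_of_mul_eq_one_right hy2
    have hyo : orderOf y = 2 := order_two_of_mul_self hy2 hy
    have hyc : y • c = c := fix_centre_of_commute hH ht htc
      (show Commute y t from (mul_inv_eq_iff_eq_mul.1 (hinv.trans hyi)).symm)
    refine fix_centre_of_commute hH hyo hyc ?_
    obtain ⟨k, hk⟩ := hconj g y (mem_zpowers y) hg
    change y ^ k = g * y * g⁻¹ at hk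
    show g * y = y * g
    rcases Int.even_or_odd k with ⟨j, rfl⟩ | ⟨j, rfl⟩
    · exfalso
      rw [zpow_add, ← (Commute.refl y).mul_zpow, hy2, one_zpow] at hk
      exact hy (by
        have := congrArg (fun w => g⁻¹ * w * g) hk
        simpa [mul_assoc] using this.symm)
    · rw [zpow_add, two_mul, zpow_add, ← (Commute.refl y).mul_zpow, hy2, one_zpow, one_mul, zpow_one] at hk
      exact mul_inv_eq_iff_eq_mul.1 hk.symm
  have hty : t ∈ normalizer ((zpowers y : Subgroup G) : Set G) := by
    rw [mem_normalizer_iff]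
    intro z
    have key : ∀ z ∈ zpowers y, t * z * t⁻¹ ∈ zpowers y := by
      rintro _ ⟨k, rfl⟩
      show t * y ^ k * t⁻¹ ∈ zpowers y
      rw [← conj_zpow, hinv]
      exact zpow_mem (inv_mem (mem_zpowers y)) k
    refine ⟨key z, fun hz => ?_⟩
    have h2 := key _ hz
    rwa [inv_of_order_two ht, show t * (t * z * t) * t = (t * t) * z * (t * t) by group, htt,
      one_mul, mul_one] at h2
  -- an involution of `C(y)` with centre `c`
  have htC : t ∈ normalizer ((centralizer ({y} : Set G) : Subgroup G) : Set G) := by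
    have key : ∀ z ∈ centralizer ({y} : Set G), t * z * t⁻¹ ∈ centralizer ({y} : Set G) := by
      intro z hz
      have hz' : Commute z y := mem_centralizer_singleton_iff.1 hz
      have h2 : Commute (t * z * t⁻¹) (t * y * t⁻¹) := hz'.map (MulAut.conj t).toMonoidHom
      rw [hinv] at h2
      exact mem_centralizer_singleton_iff.2 (by simpa using h2.inv_right.eq)
    refine mem_normalizer_iff.2 fun z => ⟨key z, fun hz => ?_⟩
    have h2 := key _ hz
    rwa [inv_of_order_two ht, show t * (t * z * t) * t = (t * t) * z * (t * t) by group, htt,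
      one_mul, mul_one] at h2
  obtain ⟨s, hsy, hs, hst⟩ := exists_involution_commute heven htt htC
  have hsc : s • c = c := fix_centre_of_commute hH ht htc hst
  have hsy' : Commute s y := mem_centralizer_singleton_iff.1 hsy
  rw [mem_stabilizer_iff]
  by_contra hgc
  set u := g * s * g⁻¹ with hu
  have huo : orderOf u = 2 := by rw [hu, orderOf_conj', hs]
  have hud : u • (g • c) = g • c := by rw [hu, smul_smul, inv_mul_cancel_right, mul_smul, hsc]
  have huy : ∀ z ∈ zpowers y, Commute u z := by
    intro z hz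
    have hz' : g⁻¹ * z * g ∈ zpowers y := (mem_normalizer_iff''.1 hg z).1 hz
    obtain ⟨k, hk⟩ := hz'
    change y ^ k = g⁻¹ * z * g at hk
    have h2 : Commute u (g * y ^ k * g⁻¹) := (hsy'.zpow_right k).map (MulAut.conj g).toMonoidHom
    rwa [hk, show g * (g⁻¹ * z * g) * g⁻¹ = z by group] at h2
  have hodd := odd_product_centres hH ht huo htc hud (Ne.symm hgc)
  obtain ⟨d, hd, hdu⟩ := conj_of_odd ht huo hodd
  have hdN : d ∈ normalizer ((zpowers y : Subgroup G) : Set G) := by
    refine (closure_le _).2 ?_ hd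
    rintro x (rfl | hx)
    · exact hty
    · rw [Set.mem_singleton_iff] at hx
      subst hx
      refine mem_normalizer_iff.2 fun z => ⟨fun hz => ?_, fun hz => ?_⟩
      · rw [(huy z hz).eq, mul_inv_cancel_right]; exact hz
      · have h2 := (huy _ hz).eq
        have h3 : u * z * u⁻¹ = z := by
          have := congrArg (fun w => u⁻¹ * w) h2
          simpa [mul_assoc] using this
        rwa [h3] at hz
  have hz : d * y * d⁻¹ ∈ zpowers y := hconj d y (mem_zpowers y) hdN
  have h1 : u * (d * y * d⁻¹) * u⁻¹ = (d * y * d⁻¹)⁻¹ := by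
    rw [← hdu]
    calc d * t * d⁻¹ * (d * y * d⁻¹) * (d * t * d⁻¹)⁻¹ = d * (t * y * t⁻¹) * d⁻¹ := by group
      _ = (d * y * d⁻¹)⁻¹ := by rw [hinv]; group
  rw [(huy _ hz).eq, mul_inv_cancel_right] at h1
  refine hy2 ?_
  have h2 : d * (y * y) * d⁻¹ = 1 := by
    calc d * (y * y) * d⁻¹ = (d * y * d⁻¹) * (d * y * d⁻¹) := by group
      _ = (d * y * d⁻¹)⁻¹ * (d * y * d⁻¹) := by rw [← h1]
      _ = 1 := inv_mul_cancel _
  have := congrArg (fun w => d⁻¹ * w * d) h2
  simpa [mul_assoc] using this

/-- If an involution with centre `c` inverts `y ≠ 1` and `C(y)` has even order, then `C(y)`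
fixes `c`. -/
theorem centralizer_le_of_inverted (hH : Cfsg.IsStronglyEmbedded H) {t y : G} {c : G ⧸ H}
    (ht : orderOf t = 2) (htc : t • c = c) (hy : y ≠ 1) (hinv : t * y * t⁻¹ = y⁻¹)
    (heven : Even (Nat.card (centralizer ({y} : Set G)))) :
    centralizer ({y} : Set G) ≤ stabilizer G c := by
  refine le_trans (fun z hz => ?_) (normalizer_zpowers_le hH ht htc hy hinv heven)
  have hz' : Commute z y := mem_centralizer_singleton_iff.1 hz
  refine mem_normalizer_iff.2 fun w => ⟨?_, ?_⟩
  · rintro ⟨k, rfl⟩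
    show z * y ^ k * z⁻¹ ∈ zpowers y
    rw [(hz'.zpow_right k).eq, mul_inv_cancel_right]
    exact ⟨k, rfl⟩
  · rintro ⟨k, hk⟩
    change y ^ k = z * w * z⁻¹ at hk
    refine ⟨k, ?_⟩
    show y ^ k = w
    have h := congrArg (fun v => z⁻¹ * v * z) hk
    simp only [mul_assoc, inv_mul_cancel_left, inv_mul_cancel, mul_one] at h
    rw [← h, ← (hz'.zpow_right k).eq, inv_mul_cancel_left]

end Cfsg.Lib.BenderSE
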