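/-
Full configurations: a Sylow `r`-subgroup of a pair stabiliser fixing the centre.
-/
import Cfsg.Agent.BenderSE.Block
import Cfsg.Agent.BenderSE.Core
import Cfsg.Agent.BenderSE.Inverted

set_option autoImplicit false
set_option linter.unusedSectionVars false

namespace Cfsg.Lib.BenderSE

open Subgroup MulAction Cfsg.Lib.InvolCalc

universe u

variable {G : Type u} [Group G] [Finite G] {H : Subgroup G} {r : ℕ}

/-- `P` contains a nontrivial element inverted by `t` -/
def HasInverted (P : Subgroup G) (t : G) : Prop := ∃ y ∈ P, y ≠ 1 ∧ t * y * t⁻¹ = y⁻¹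

/-- a configuration `(t, c, a)` with a `t`-invariant Sylow `r`-subgroup `P` of `G_a ∩ G_{t a}`
fixing the centre `c` of `t` and not centralised by `t` -/
structure FullConfig (r : ℕ) (t : G) (c a : G ⧸ H) (P : Subgroup G) : Prop where
  invol : orderOf t = 2
  centre : t • c = c
  ne : a ≠ c
  isPGroup : IsPGroup r P
  le_pair : P ≤ stabilizer G a ⊓ stabilizer G (t • a)
  le_centre : P ≤ stabilizer G c
  normal : t ∈ normalizer (P : Set G)
  card_eq : Nat.card P = r ^ (Nat.card ↥(stabilizer G a ⊓ stabilizer G (t • a))).factorization r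
  bad : HasInverted P t

/-- `N(Q)` moves the centre `c` of `t ∈ N(Q)`, and all its normal subgroups of odd order fix `c` -/
def WideAt (r : ℕ) (t : G) (c : G ⧸ H) (Q : Subgroup G) : Prop :=
  IsPGroup r Q ∧ t ∈ normalizer (Q : Set G) ∧ Q ≤ stabilizer G c ∧ HasInverted Q t ∧
    ¬ normalizer (Q : Set G) ≤ stabilizer G c ∧
    ∀ L : Subgroup G, L ≤ normalizer (Q : Set G) → normalizer (Q : Set G) ≤ normalizer (L : Set G) →
      Odd (Nat.card L) → L ≤ stabilizer G c

/-- an `r`-local containing `t`, moving its centre, all of whose normal subgroups of odd order fix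
the centre -/
def WideLocal (r : ℕ) (t : G) (c : G ⧸ H) : Prop := ∃ Q : Subgroup G, WideAt r t c Q

/-- the candidates for the extremal choice -/
def IsConfigGroup (r : ℕ) (t : G) (c a : G ⧸ H) (Q : Subgroup G) : Prop :=
  orderOf t = 2 ∧ t • c = c ∧ a ≠ c ∧ IsPGroup r Q ∧
    Q ≤ stabilizer G a ⊓ stabilizer G (t • a) ⊓ stabilizer G c ∧ t ∈ normalizer (Q : Set G) ∧
    HasInverted Q t

theorem pair_ne (hH : Cfsg.IsStronglyEmbedded H) {t : G} (ht : orderOf t = 2) {c a : G ⧸ H}
    (htc : t • c = c) (hac : a ≠ c) : a ≠ t • a := fun h =>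
  hac (Cfsg.Lib.StrongEmb.eq_of_fixed hH ht h.symm htc)

theorem pair_normalizer {t : G} (ht : orderOf t = 2) (a : G ⧸ H) :
    t ∈ normalizer ((stabilizer G a ⊓ stabilizer G (t • a) : Subgroup G) : Set G) :=
  swapper_mem_normalizer ht rfl

/-- a maximal candidate whose normaliser meets the pair stabiliser in `G_c` is full -/
theorem full_of_maximal [Fact r.Prime] (hH : Cfsg.IsStronglyEmbedded H) {t : G} {c a : G ⧸ H}
    {Q : Subgroup G} (hQ : IsConfigGroup r t c a Q)
    (hmax : ∀ Q' : Subgroup G, IsConfigGroup r t c a Q' → Q ≤ Q' → Q' = Q)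
    (hN : ∀ g ∈ normalizer (Q : Set G), g • a = a → g • t • a = t • a → g • c = c) :
    FullConfig r t c a Q := by
  obtain ⟨ht, htc, hac, hQp, hQle, htQ, hbad⟩ := hQ
  set D := stabilizer G a ⊓ stabilizer G (t • a) with hD
  have hDodd : Odd (Nat.card D) := odd_stabilizer_inf hH (pair_ne hH ht htc hac)
  have hQD : Q ≤ D := hQle.trans inf_le_left
  have hQc : Q ≤ stabilizer G c := hQle.trans inf_le_right
  have hAD : zpowers t ≤ normalizer (D : Set G) := zpowers_le.2 (pair_normalizer ht a)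
  have hcop : (Nat.card (zpowers t)).Coprime (Nat.card D) := by
    rw [Nat.card_zpowers, ht]
    exact Nat.coprime_two_left.2 hDodd
  obtain ⟨P, hQP, hPA⟩ := Cfsg.Lib.Coprime.exists_invariant_sylow_ge hAD hcop (Or.inl inferInstance) r
    hQD hQp (zpowers_le.2 htQ)
  set P₀ := (P : Subgroup D).map D.subtype with hP₀
  have hPp : IsPGroup r P₀ := P.2.map _
  have heq : P₀ = Q := by
    by_contra hne
    haveI := hPp.isNilpotent
    have hlt : Q.subgroupOf P₀ < ⊤ := lt_top_iff_ne_top.2 fun h =>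
      hne (le_antisymm (subgroupOf_eq_top.1 h) hQP)
    obtain ⟨x, hxn, hxQ⟩ := SetLike.exists_of_lt
      (Group.normalizerCondition_of_isNilpotent (G := P₀) _ hlt)
    rw [← subgroupOf_normalizer_eq hQP] at hxn
    set W := P₀ ⊓ normalizer (Q : Set G) with hW
    have hWD : W ≤ D := inf_le_left.trans (map_subtype_le _)
    have hWc : W ≤ stabilizer G c := fun g hg =>
      hN g (mem_inf.1 hg).2 (mem_inf.1 (hWD hg)).1 (mem_inf.1 (hWD hg)).2
    have hQW : Q ≤ W := le_inf hQP le_normalizer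
    have htW : t ∈ normalizer (W : Set G) :=
      conj_mem_inf (hPA (mem_zpowers t)) ((zpowers_le.2 htQ).trans le_normalizer (mem_zpowers t))
    have hcand : IsConfigGroup r t c a W := ⟨ht, htc, hac, hPp.to_le inf_le_left, le_inf hWD hWc,
      htW, hbad.imp fun y hy => ⟨hQW hy.1, hy.2⟩⟩
    have := hmax W hcand hQW
    exact hxQ (mem_subgroupOf.2 (this ▸ mem_inf.2 ⟨x.2, hxn⟩ : (x : G) ∈ Q))
  refine ⟨ht, htc, hac, hQp, hQD, hQc, htQ, ?_, hbad⟩
  rw [← heq, hP₀, card_map_of_injective D.subtype_injective, Sylow.card_eq_multiplicity]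

/-- a configuration group maximal for its involution is full for some pair, or has a wide
normaliser -/
theorem full_or_wide (hH : Cfsg.IsStronglyEmbedded H) [Fact r.Prime] {t : G} {c a : G ⧸ H}
    {Q : Subgroup G} (hQ : IsConfigGroup r t c a Q)
    (hmax : ∀ (a' : G ⧸ H) (Q' : Subgroup G), IsConfigGroup r t c a' Q' → Q ≤ Q' → Q' = Q) :
    (∃ a' : G ⧸ H, FullConfig r t c a' Q) ∨ WideAt r t c Q := by
  obtain ⟨ht, htc, hac, hQp, hQle, htQ, hbad⟩ := id hQ
  set K := normalizer (Q : Set G) with hK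
  by_cases hKc : K ≤ stabilizer G c
  · exact Or.inl ⟨a, full_of_maximal hH hQ (fun Q' h => hmax a Q' h)
      fun g hg _ _ => hKc hg⟩
  by_cases hwide : ∀ L : Subgroup G, L ≤ K → K ≤ normalizer (L : Set G) → Odd (Nat.card L) →
      L ≤ stabilizer G c
  · exact Or.inr ⟨hQp, htQ, hQle.trans inf_le_right, hbad, hKc, hwide⟩
  push Not at hwide
  obtain ⟨L, hLK, hKL, hLodd, hLc⟩ := hwide
  obtain ⟨b, -⟩ := exists_centreBlock_centre hH hLK hKL hLodd ht htQ htc hLc
  obtain ⟨m, hm, hmc⟩ := SetLike.not_le_iff_exists.1 b.moves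
  have hmc' : m • c ≠ c := hmc
  have hfix : ∀ n ∈ b.M, Q ≤ stabilizer G (n • c) := by
    intro n hn q hq
    have h1 : n⁻¹ * q * n ∈ Q := (mem_normalizer_iff''.1 (b.le hn) q).1 hq
    have h2 : (n⁻¹ * q * n) • c = c := (mem_inf.1 (hQle h1)).2
    rw [mul_smul, mul_smul, inv_smul_eq_iff] at h2
    exact h2
  have hQ' : IsConfigGroup r t c (m • c) Q := ⟨ht, htc, hmc', hQp,
    le_inf (le_inf (hfix m hm) (by rw [b.inv m hm]; exact hfix _ (inv_mem hm))) (hQle.trans inf_le_right),
    htQ, hbad⟩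
  exact Or.inl ⟨m • c, full_of_maximal hH hQ' (fun Q' h => hmax _ Q' h)
    fun g hg => b.midpoint m hm g hg⟩

/-- STEP 0, with the extremal choice: a configuration group of largest order is full or wide. -/
theorem exists_maximal_full_or_wide (hH : Cfsg.IsStronglyEmbedded H) [Fact r.Prime] {t y : G} {c a : G ⧸ H}
    (ht : orderOf t = 2) (htc : t • c = c) (hac : a ≠ c) (hyc : y • c = c) (hya : y • a = a)
    (hy : y ≠ 1) (hyr : IsPGroup r (zpowers y)) (hinv : t * y * t⁻¹ = y⁻¹) :
    ∃ (t : G) (c a : G ⧸ H) (Q : Subgroup G), IsConfigGroup r t c a Q ∧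
      (∀ (t' : G) (c' a' : G ⧸ H) (Q' : Subgroup G), IsConfigGroup r t' c' a' Q' →
        Nat.card Q' ≤ Nat.card Q) ∧
      ((∃ a' : G ⧸ H, FullConfig r t c a' Q) ∨ WideAt r t c Q) := by
  classical
  have hty : t ∈ normalizer ((zpowers y : Subgroup G) : Set G) := by
    have key : ∀ z ∈ zpowers y, t * z * t⁻¹ ∈ zpowers y := by
      rintro _ ⟨k, rfl⟩
      show t * y ^ k * t⁻¹ ∈ zpowers y
      rw [← conj_zpow, hinv]
      exact zpow_mem (inv_mem (mem_zpowers y)) k
    refine mem_normalizer_iff.2 fun z => ⟨key z, fun hz => ?_⟩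
    have h2 := key _ hz
    rwa [inv_of_order_two ht, show t * (t * z * t) * t = (t * t) * z * (t * t) by group,
      sq_of_order_two ht, one_mul, mul_one] at h2
  have hyta : y • t • a = t • a := by
    have h1 : y * t = t * y⁻¹ := by
      rw [← hinv, ← mul_assoc, ← mul_assoc, sq_of_order_two ht, one_mul, inv_of_order_two ht]
    rw [smul_smul, h1, mul_smul, inv_smul_eq_iff.2 hya.symm]
  let S : ℕ → Prop := fun n => ∃ (t : G) (c a : G ⧸ H) (Q : Subgroup G),
    IsConfigGroup r t c a Q ∧ Nat.card Q = n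
  have hS : S (Nat.card (zpowers y)) := ⟨t, c, a, zpowers y, ⟨ht, htc, hac, hyr,
    zpowers_le.2 (mem_inf.2 ⟨mem_inf.2 ⟨hya, hyta⟩, hyc⟩), hty, y, mem_zpowers y, hy, hinv⟩, rfl⟩
  obtain ⟨t, c, a, Q, hQ, hQn⟩ := Nat.findGreatest_spec (n := Nat.card G) (Subgroup.card_le_card_group _) hS
  have hmax : ∀ (t' : G) (c' a' : G ⧸ H) (Q' : Subgroup G), IsConfigGroup r t' c' a' Q' →
      Nat.card Q' ≤ Nat.card Q := fun t' c' a' Q' h => hQn ▸
    Nat.le_findGreatest (Subgroup.card_le_card_group _) ⟨t', c', a', Q', h, rfl⟩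
  exact ⟨t, c, a, Q, hQ, hmax, full_or_wide hH hQ fun a' Q' h hle =>
    (Subgroup.eq_of_le_of_card_ge hle (hmax t c a' Q' h)).symm⟩

/-- STEP 0: a configuration gives a full configuration or a wide local. -/
theorem exists_full (hH : Cfsg.IsStronglyEmbedded H) [Fact r.Prime] {t y : G} {c a : G ⧸ H}
    (ht : orderOf t = 2) (htc : t • c = c) (hac : a ≠ c) (hyc : y • c = c) (hya : y • a = a)
    (hy : y ≠ 1) (hyr : IsPGroup r (zpowers y)) (hinv : t * y * t⁻¹ = y⁻¹) :
    (∃ (t : G) (c a : G ⧸ H) (P : Subgroup G), FullConfig r t c a P) ∨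
      ∃ (t : G) (c : G ⧸ H), WideLocal r t c := by
  obtain ⟨t, c, a, Q, -, -, h⟩ := exists_maximal_full_or_wide hH ht htc hac hyc hya hy hyr hinv
  rcases h with ⟨a', h⟩ | h
  · exact Or.inl ⟨t, c, a', Q, h⟩
  · exact Or.inr ⟨t, c, Q, h⟩

/-- the number of elements inverted in an invariant Sylow subgroup of a pair stabiliser is the
`r`-part of the number of involutions in `H` -/
theorem card_inverted_sylow (hH : Cfsg.IsStronglyEmbedded H) [Fact r.Prime] {v : G} {a b : G ⧸ H}
    (hab : a ≠ b) (hv : orderOf v = 2) (hva : v • a = b) {P : Subgroup G}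
    (hPle : P ≤ stabilizer G a ⊓ stabilizer G b)
    (hcard : Nat.card P = r ^ (Nat.card ↥(stabilizer G a ⊓ stabilizer G b)).factorization r)
    (hvP : v ∈ normalizer (P : Set G)) :
    Nat.card {x // x ∈ P ∧ v * x * v⁻¹ = x⁻¹} = r ^ (invCount H).factorization r := by
  set D := stabilizer G a ⊓ stabilizer G b with hD
  have hDodd : Odd (Nat.card D) := odd_stabilizer_inf hH hab
  let P' : Sylow r D := Sylow.ofCard (P.subgroupOf D)
    (by rw [Nat.card_congr (subgroupOfEquivOfLe hPle).toEquiv, hcard])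
  have hP' : (P' : Subgroup D).map D.subtype = P := map_subgroupOf_eq_of_le hPle
  have h1 := card_invariant_sylow_centralizer hDodd hv (swapper_mem_normalizer hv hva) r P'
    (by rw [hP']; exact hvP)
  rw [hP'] at h1
  have h2 := card_inverted_mul (hDodd.of_dvd_nat (card_dvd_of_le hPle)) (sq_of_order_two hv) hvP
  rw [h1, hcard, ← card_centralizer_swapper hH hab hv hva, ← hD,
    Nat.factorization_mul Nat.card_pos.ne' (invCount_pos hH).ne', Finsupp.add_apply, pow_add,
    mul_comm] at h2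
  exact Nat.eq_of_mul_eq_mul_left (pow_pos (Fact.out : r.Prime).pos _) h2

namespace FullConfig

variable {t : G} {c a : G ⧸ H} {P : Subgroup G}

theorem ne_pair (h : FullConfig r t c a P) (hH : Cfsg.IsStronglyEmbedded H) : a ≠ t • a :=
  pair_ne hH h.invol h.centre h.ne

theorem card_inverted [Fact r.Prime] (h : FullConfig r t c a P) (hH : Cfsg.IsStronglyEmbedded H) :
    Nat.card {x // x ∈ P ∧ t * x * t⁻¹ = x⁻¹} = r ^ (invCount H).factorization r :=
  card_inverted_sylow hH (h.ne_pair hH) h.invol rfl h.le_pair h.card_eq h.normal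

/-- `r` divides the number of involutions of `H` -/
theorem dvd_invCount [Fact r.Prime] (h : FullConfig r t c a P) (hH : Cfsg.IsStronglyEmbedded H) :
    0 < (invCount H).factorization r := by
  rw [Nat.pos_iff_ne_zero]
  intro h0
  have hc := h.card_inverted hH
  rw [h0, pow_zero, Nat.card_eq_one_iff_unique] at hc
  haveI := hc.1
  obtain ⟨y, hyP, hy1, hy⟩ := h.bad
  exact hy1 (congrArg Subtype.val
    (Subsingleton.elim (⟨y, hyP, hy⟩ : {x // x ∈ P ∧ t * x * t⁻¹ = x⁻¹}) ⟨1, one_mem P, by simp⟩))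

/-- `P` is a Sylow subgroup of `G_c ∩ G_a` as well -/
theorem card_eq_centre (h : FullConfig r t c a P) (hH : Cfsg.IsStronglyEmbedded H) :
    Nat.card P = r ^ (Nat.card ↥(stabilizer G c ⊓ stabilizer G a)).factorization r := by
  rw [h.card_eq, card_stabilizer_centre hH h.invol h.centre h.ne]

/-- the configuration read at the other point `t • a` of the pair -/
theorem symm (h : FullConfig r t c a P) : FullConfig r t c (t • a) P := by
  have e : t • t • a = a := smul_swap h.invol rfl
  refine ⟨h.invol, h.centre, ?_, h.isPGroup, ?_, h.le_centre, h.normal, ?_, h.bad⟩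
  · intro hh
    exact h.ne (by rw [← e, hh, h.centre])
  · rw [e, inf_comm]
    exact h.le_pair
  · rw [e, inf_comm]
    exact h.card_eq

end FullConfig

/-- a swapper of `x, y` in a subgroup `K` may be taken normalising a Sylow subgroup of
`G_x ∩ G_y` inside `K` -/
theorem exists_swapper_normalizing (hH : Cfsg.IsStronglyEmbedded H) [Fact r.Prime] {K : Subgroup G}
    {x y : G ⧸ H} (hxy : x ≠ y) {v : G} (hv : orderOf v = 2) (hvx : v • x = y) (hvK : v ∈ K)
    {P : Subgroup G} (hPK : P ≤ K) (hP : P ≤ stabilizer G x ⊓ stabilizer G y)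
    (hcard : Nat.card P = r ^ (Nat.card ↥(stabilizer G x ⊓ stabilizer G y)).factorization r) :
    ∃ s ∈ K, orderOf s = 2 ∧ s • x = y ∧ s ∈ normalizer (P : Set G) := by
  set D := stabilizer G x ⊓ stabilizer G y with hD
  set E := D ⊓ K with hE
  have hDodd : Odd (Nat.card D) := odd_stabilizer_inf hH hxy
  have hPE : P ≤ E := le_inf hP hPK
  have hvE : v ∈ normalizer (E : Set G) :=
    conj_mem_inf (swapper_mem_normalizer hv hvx) (le_normalizer (G := G) hvK)
  have hPp : IsPGroup r P := IsPGroup.of_card hcard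
  have hfac : (Nat.card E).factorization r = (Nat.card D).factorization r := by
    refine le_antisymm ((Nat.factorization_le_iff_dvd Nat.card_pos.ne' Nat.card_pos.ne').2
      (card_dvd_of_le inf_le_left) r) ?_
    rw [← (Fact.out : r.Prime).pow_dvd_iff_le_factorization Nat.card_pos.ne', ← hcard]
    exact card_dvd_of_le hPE
  let P' : Sylow r E := Sylow.ofCard (P.subgroupOf E)
    (by rw [Nat.card_congr (subgroupOfEquivOfLe hPE).toEquiv, hcard, hfac])
  set Q := P.map (MulAut.conj v).toMonoidHom with hQ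
  have hQE : Q ≤ E := by
    rintro _ ⟨z, hz, rfl⟩
    exact (mem_normalizer_iff.1 hvE z).1 (hPE hz)
  let Q' : Sylow r E := Sylow.ofCard (Q.subgroupOf E)
    (by rw [Nat.card_congr (subgroupOfEquivOfLe hQE).toEquiv, hQ,
      card_map_of_injective (MulAut.conj v).injective, hcard, hfac])
  obtain ⟨d, hd⟩ := MulAction.exists_smul_eq E Q' P'
  have hd' : Cfsg.Lib.Coprime.conjMap (d : G) Q = P := by
    have h := congrArg (fun S : Sylow r E => (S : Subgroup E).map E.subtype) hd
    simp only [Cfsg.Lib.Coprime.map_subtype_smul] at h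
    rwa [show (Q' : Subgroup E).map E.subtype = Q from map_subgroupOf_eq_of_le hQE,
      show (P' : Subgroup E).map E.subtype = P from map_subgroupOf_eq_of_le hPE] at h
  set w := (d : G) * v with hw
  have hwn : w ∈ normalizer (P : Set G) := by
    rw [← Cfsg.Lib.Coprime.conjMap_eq_self_iff, hw, ← Cfsg.Lib.Coprime.conjMap_mul]
    exact hd'
  have hdD := mem_inf.1 (mem_inf.1 d.2).1
  have hwx : w • x = y := by rw [hw, mul_smul, hvx]; exact hdD.2
  have hwy : w • y = x := by rw [hw, mul_smul, smul_swap hv hvx]; exact hdD.1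
  -- the odd power of `w` that is an involution
  set n := orderOf (w * w) with hn
  have hw2 : w * w ∈ D := mem_inf.2 ⟨by rw [mem_stabilizer_iff, mul_smul, hwx, hwy],
    by rw [mem_stabilizer_iff, mul_smul, hwy, hwx]⟩
  have hnodd : Odd n := hDodd.of_dvd_nat (Subgroup.orderOf_dvd_natCard D hw2)
  obtain ⟨j, hj⟩ := id hnodd
  have hwn2 : w ^ n * w ^ n = 1 := by
    rw [← pow_add, ← two_mul, pow_mul, sq, hn, pow_orderOf_eq_one]
  have hwnx : w ^ n • x = y := by
    rw [hj, pow_succ', pow_mul, sq, mul_smul]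
    rw [mem_stabilizer_iff.1 (pow_mem (mem_inf.1 hw2).1 j), hwx]
  refine ⟨w ^ n, pow_mem (mul_mem (mem_inf.1 d.2).2 hvK) n,
    order_two_of_mul_self hwn2 fun h1 => hxy ?_, hwnx, pow_mem hwn n⟩
  rw [h1, one_smul] at hwnx
  exact hwnx

namespace FullConfig

variable {t : G} {c a : G ⧸ H} {P : Subgroup G}

/-- the new configuration `(d, s; c, a)` with the same `P` -/
theorem exists_next [Fact r.Prime] (h : FullConfig r t c a P) (hH : Cfsg.IsStronglyEmbedded H)
    {K : Subgroup G} (hPK : P ≤ K) (hK : ∃ v ∈ K, orderOf v = 2 ∧ v • c = a) :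
    ∃ (s : G) (d : G ⧸ H), s ∈ K ∧ s • c = a ∧ s ∈ normalizer (P : Set G) ∧ d ≠ c ∧
      FullConfig r s d c P := by
  obtain ⟨v, hvK, hv, hvc⟩ := hK
  have hPca : P ≤ stabilizer G c ⊓ stabilizer G a := le_inf h.le_centre (h.le_pair.trans inf_le_left)
  obtain ⟨s, hsK, hs, hsc, hsP⟩ := exists_swapper_normalizing hH h.ne.symm hv hvc hvK hPK hPca
    (h.card_eq_centre hH)
  obtain ⟨d, hsd⟩ := exists_centre hH hs
  have hdc : d ≠ c := fun e => h.ne (by rw [← hsc, ← e, hsd])
  -- `P` has an odd number of fixed points, so fixes the centre of `s`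
  have hPd : P ≤ stabilizer G d := by
    classical
    haveI : Fintype (G ⧸ H) := Fintype.ofFinite _
    haveI : Fact (Nat.Prime 2) := ⟨Nat.prime_two⟩
    have hcl : ∀ g : G, orderOf g = 2 → g ∈ normalizer (P : Set G) →
        ∀ x : {x : G ⧸ H // ∀ p ∈ P, p • x = x}, ∀ p ∈ P, p • (g • x.1) = g • x.1 := by
      intro g hg hgP x p hp
      have hx := x.2 _ ((mem_normalizer_iff''.1 hgP p).1 hp)
      rw [mul_smul, mul_smul, inv_smul_eq_iff] at hx
      exact hx
    let σ : ∀ g : G, orderOf g = 2 → g ∈ normalizer (P : Set G) →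
        Equiv.Perm {x : G ⧸ H // ∀ p ∈ P, p • x = x} := fun g hg hgP =>
      Function.Involutive.toPerm (fun x => ⟨g • x.1, hcl g hg hgP x⟩)
        (fun x => Subtype.ext (smul_swap hg rfl))
    have hσ : ∀ g hg hgP, σ g hg hgP ^ 2 ^ 1 = 1 := fun g hg hgP => by
      rw [pow_one, pow_two]
      exact Equiv.ext fun x => Subtype.ext (smul_swap hg rfl)
    have hodd : ¬ 2 ∣ Fintype.card {x : G ⧸ H // ∀ p ∈ P, p • x = x} := by
      intro h2
      obtain ⟨z, hz, hzc⟩ := Equiv.Perm.exists_fixed_point_of_prime' h2 (hσ t h.invol h.normal)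
        (a := ⟨c, h.le_centre⟩) (Subtype.ext h.centre)
      exact hzc (Subtype.ext (Cfsg.Lib.StrongEmb.eq_of_fixed hH h.invol (congrArg Subtype.val hz) h.centre))
    obtain ⟨z, hz⟩ := Equiv.Perm.exists_fixed_point_of_prime hodd (hσ s hs hsP)
    have hzd : z.1 = d := Cfsg.Lib.StrongEmb.eq_of_fixed hH hs (congrArg Subtype.val hz) hsd
    exact hzd ▸ z.2
  have hcard : Nat.card P = r ^ (Nat.card ↥(stabilizer G c ⊓ stabilizer G (s • c))).factorization r := by
    rw [hsc]; exact h.card_eq_centre hH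
  refine ⟨s, d, hsK, hsc, hsP, hdc, hs, hsd, hdc.symm, h.isPGroup, by rw [hsc]; exact hPca, hPd, hsP,
    hcard, ?_⟩
  have hI := card_inverted_sylow hH h.ne.symm hs hsc hPca (h.card_eq_centre hH) hsP
  have h1 : 1 < Nat.card {x // x ∈ P ∧ s * x * s⁻¹ = x⁻¹} := by
    rw [hI]
    exact Nat.one_lt_pow (h.dvd_invCount hH).ne' (Fact.out : r.Prime).one_lt
  obtain ⟨⟨u, huP, hu⟩, ⟨w, hwP, hw⟩, hne⟩ := (Finite.one_lt_card_iff_nontrivial.1 h1).exists_pair_ne
  by_cases hu1 : u = 1
  · exact ⟨w, hwP, fun hw1 => hne (Subtype.ext (hu1.trans hw1.symm)), hw⟩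
  · exact ⟨u, huP, hu1, hu⟩

/-- `[P, t]` fixes the points determining fullness: if it fixes `a'`, some Sylow subgroup of the
pair `a', t a'` is full with the same `[P, t]`. -/
theorem exists_full_of_invClosure_le [Fact r.Prime] (h : FullConfig r t c a P)
    (hH : Cfsg.IsStronglyEmbedded H) {a' : G ⧸ H} (ha' : a' ≠ c)
    (hE : invClosure P t ≤ stabilizer G a') :
    ∃ P' : Subgroup G, FullConfig r t c a' P' ∧ invClosure P' t = invClosure P t := by
  set E := invClosure P t with hEdef
  set D := stabilizer G a' ⊓ stabilizer G (t • a') with hD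
  have htE : t ∈ normalizer (E : Set G) := mem_normalizer_invClosure h.normal (Commute.refl t)
  have hED : E ≤ D := by
    refine le_inf hE fun e he => ?_
    have h1 : (t⁻¹ * e * t) • a' = a' := hE ((mem_normalizer_iff''.1 htE e).1 he)
    rw [mul_smul, mul_smul, inv_smul_eq_iff] at h1
    exact h1
  have hne := pair_ne hH h.invol h.centre ha'
  have hDodd : Odd (Nat.card D) := odd_stabilizer_inf hH hne
  have hcop : (Nat.card (zpowers t)).Coprime (Nat.card D) := by
    rw [Nat.card_zpowers, h.invol]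
    exact Nat.coprime_two_left.2 hDodd
  obtain ⟨Q, hEQ, hQA⟩ := Cfsg.Lib.Coprime.exists_invariant_sylow_ge
    (zpowers_le.2 (pair_normalizer h.invol a')) hcop (Or.inl inferInstance) r hED
    (h.isPGroup.to_le (invClosure_le P t)) (zpowers_le.2 htE)
  set P' := (Q : Subgroup D).map D.subtype with hP'
  have hP'D : P' ≤ D := map_subtype_le _
  have hP'c : Nat.card P' = r ^ (Nat.card D).factorization r := by
    rw [hP', card_map_of_injective D.subtype_injective, Sylow.card_eq_multiplicity]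
  have htP' : t ∈ normalizer (P' : Set G) := hQA (mem_zpowers t)
  -- both have the same inverted elements
  let f : {x // x ∈ P ∧ t * x * t⁻¹ = x⁻¹} → {x // x ∈ P' ∧ t * x * t⁻¹ = x⁻¹} := fun x =>
    ⟨x.1, hEQ (subset_closure x.2), x.2.2⟩
  have hf : Function.Bijective f := (Nat.bijective_iff_injective_and_card f).2
    ⟨fun x y e => Subtype.ext (congrArg Subtype.val e :),
      by rw [h.card_inverted hH, card_inverted_sylow hH hne h.invol rfl hP'D hP'c htP']⟩
  have hset : {x | x ∈ P' ∧ t * x * t⁻¹ = x⁻¹} = {x | x ∈ P ∧ t * x * t⁻¹ = x⁻¹} := by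
    ext x
    constructor
    · intro hx
      obtain ⟨z, hz⟩ := hf.2 ⟨x, hx⟩
      have hzx : z.1 = x := congrArg Subtype.val hz
      exact hzx ▸ z.2
    · exact fun hx => ⟨hEQ (subset_closure hx), hx.2⟩
  have hEeq : invClosure P' t = E := by rw [hEdef, invClosure, invClosure, hset]
  refine ⟨P', ⟨h.invol, h.centre, ha', Q.2.map _, hP'D, ?_, htP', hP'c, ?_⟩, hEeq⟩
  · exact le_of_inverted (hDodd.of_dvd_nat (card_dvd_of_le hP'D)) (sq_of_order_two h.invol) htP'
      (fun x _ hx => fix_centre_of_commute hH h.invol h.centre hx)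
      (fun x hx hxi => h.le_centre (((Set.ext_iff.1 hset x).1 ⟨hx, hxi⟩).1))
  · obtain ⟨y, hyP, hy1, hy⟩ := h.bad
    exact ⟨y, hEQ (subset_closure ⟨hyP, hy⟩), hy1, hy⟩

/-- `[P, s] = [P, t]` for the next configuration when `s` normalises `[P, t]` -/
theorem invClosure_eq {s : G} {d b : G ⧸ H} (h : FullConfig r t c a P)
    (hH : Cfsg.IsStronglyEmbedded H) (h' : FullConfig r s d b P) (hdc : d ≠ c)
    (hsE : s ∈ normalizer ((invClosure P t : Subgroup G) : Set G)) :
    invClosure P s = invClosure P t := by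
  obtain ⟨g, hg, hgs⟩ := conj_of_odd h.invol h'.invol
    (odd_product_centres hH h.invol h'.invol h.centre h'.centre hdc.symm)
  have hgP : g ∈ normalizer (P : Set G) := by
    refine (closure_le _).2 ?_ hg
    rintro x (rfl | hx)
    · exact h.normal
    · rw [Set.mem_singleton_iff] at hx; exact hx ▸ h'.normal
  have hgE : g ∈ normalizer ((invClosure P t : Subgroup G) : Set G) := by
    refine (closure_le _).2 ?_ hg
    rintro x (rfl | hx)
    · exact mem_normalizer_invClosure h.normal (Commute.refl _)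
    · rw [Set.mem_singleton_iff] at hx; exact hx ▸ hsE
  rw [← hgs, invClosure_conj hgP]
  exact Cfsg.Lib.Coprime.conjMap_eq_self hgE

end FullConfig

/-- full configurations whose `[P, t]` has its normaliser at `c`, or has `a` in a block at `c` -/
def InClass (r : ℕ) (t : G) (c a : G ⧸ H) (P : Subgroup G) : Prop :=
  FullConfig r t c a P ∧ (normalizer ((invClosure P t : Subgroup G) : Set G) ≤ stabilizer G c ∨
    ∃ b : CentreBlock (normalizer ((invClosure P t : Subgroup G) : Set G)) t c, ∃ m ∈ b.M, a = m • c)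

/-- a full configuration gives one in the class, or `N([P, t])` is wide -/
theorem exists_inClass (hH : Cfsg.IsStronglyEmbedded H) [Fact r.Prime] {t : G} {c a : G ⧸ H}
    {P : Subgroup G} (h : FullConfig r t c a P) :
    (∃ (a' : G ⧸ H) (P' : Subgroup G), InClass r t c a' P') ∨ WideLocal r t c := by
  set E := invClosure P t with hE
  set K := normalizer (E : Set G) with hK
  have hEc : E ≤ stabilizer G c := (invClosure_le P t).trans h.le_centre
  have htK : t ∈ K := mem_normalizer_invClosure h.normal (Commute.refl t)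
  by_cases hKc : K ≤ stabilizer G c
  · exact Or.inl ⟨a, P, h, Or.inl hKc⟩
  by_cases hwide : ∀ L : Subgroup G, L ≤ K → K ≤ normalizer (L : Set G) → Odd (Nat.card L) →
      L ≤ stabilizer G c
  · obtain ⟨y, hyP, hy1, hy⟩ := h.bad
    exact Or.inr ⟨E, h.isPGroup.to_le (invClosure_le P t), htK, hEc,
      ⟨y, subset_closure ⟨hyP, hy⟩, hy1, hy⟩, hKc, hwide⟩
  push Not at hwide
  obtain ⟨L, hLK, hKL, hLodd, hLc⟩ := hwide
  obtain ⟨b, -⟩ := exists_centreBlock_centre hH hLK hKL hLodd h.invol htK h.centre hLc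
  obtain ⟨m, hm, hmc⟩ := SetLike.not_le_iff_exists.1 b.moves
  have hfix : E ≤ stabilizer G (m • c) := by
    intro q hq
    have h2 : (m⁻¹ * q * m) • c = c := hEc ((mem_normalizer_iff''.1 (b.le hm) q).1 hq)
    rw [mul_smul, mul_smul, inv_smul_eq_iff] at h2
    exact h2
  obtain ⟨P', hP', hEeq⟩ := h.exists_full_of_invClosure_le hH (show m • c ≠ c from hmc) hfix
  refine Or.inl ⟨m • c, P', hP', Or.inr ?_⟩
  rw [hEeq]
  exact ⟨b, m, hm, rfl⟩

/-- The class of full configurations lying in a block is closed under `(c, a) ↦ (d, c)`, with the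
same `P` and the same `[P, t]`. -/
theorem FullConfig.exists_next_block (hH : Cfsg.IsStronglyEmbedded H) [Fact r.Prime] {t : G}
    {c a : G ⧸ H} {P : Subgroup G} (h : FullConfig r t c a P)
    (b : CentreBlock (normalizer ((invClosure P t : Subgroup G) : Set G)) t c) {m : G} (hm : m ∈ b.M)
    (ha : a = m • c) :
    ∃ (s : G) (d : G ⧸ H), s • c = a ∧ s ∈ normalizer (P : Set G) ∧ d ≠ c ∧
      FullConfig r s d c P ∧ invClosure P s = invClosure P t ∧
      ∃ b' : CentreBlock (normalizer ((invClosure P s : Subgroup G) : Set G)) s d,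
        b'.M = b.M ∧ ∃ n ∈ b'.M, c = n • d := by
  have htK : t ∈ normalizer ((invClosure P t : Subgroup G) : Set G) := mem_normalizer_invClosure h.normal (Commute.refl t)
  obtain ⟨v, hvK, hv, hvc⟩ := b.exists_swapper h.invol htK hm
  have hPK : P ≤ normalizer ((invClosure P t : Subgroup G) : Set G) := by
    -- every element of `P` is a fixed element times an inverted one
    have hDodd : Odd (Nat.card ↥(stabilizer G a ⊓ stabilizer G (t • a))) :=
      odd_stabilizer_inf hH (h.ne_pair hH)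
    exact le_of_inverted (hDodd.of_dvd_nat (card_dvd_of_le h.le_pair)) (sq_of_order_two h.invol) h.normal
      (fun x hx hxt => mem_normalizer_invClosure (le_normalizer hx) hxt)
      (fun x hx hxi => le_normalizer (subset_closure ⟨hx, hxi⟩ : x ∈ invClosure P t))
  obtain ⟨s, d, hsK, hsc, hsP, hdc, h'⟩ := h.exists_next hH hPK ⟨v, hvK, hv, by rw [hvc, ha]⟩
  have hEeq : invClosure P s = invClosure P t := h.invClosure_eq hH h' hdc hsK
  obtain ⟨b', hb', n, hn, hcn⟩ := b.exists_move hH h'.invol hsK h'.centre hm (by rw [hsc, ha])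
  refine ⟨s, d, hsc, hsP, hdc, h', hEeq, ?_⟩
  rw [hEeq]
  exact ⟨b', hb', n, hb'.symm ▸ hn, hcn⟩

end Cfsg.Lib.BenderSE
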