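/-
Shared vocabulary for the strongly embedded analysis (notes/bender_t1_v15.md).
-/
import Cfsg.Agent.BenderSE.Full
import Cfsg.Agent.Components.Cores

set_option autoImplicit false
set_option linter.unusedSectionVars false

namespace Cfsg.Lib.BenderSE

open Subgroup MulAction

universe u

variable {G : Type u} [Group G]

/-- two commuting involutions exist -/
def HasCommutingInvolutions (G : Type u) [Group G] : Prop :=
  ∃ p q : G, orderOf p = 2 ∧ orderOf q = 2 ∧ p ≠ q ∧ p * q = q * p

/-- the standing setting: `H` strongly embedded and core-free, `G` of 2-rank at least 2 -/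
structure Setting (H : Subgroup G) : Prop where
  se : Cfsg.IsStronglyEmbedded H
  core : H.normalCore = ⊥
  rank2 : HasCommutingInvolutions G

/-- `O(K)` as a subgroup of the ambient group -/
def oddCoreOf (K : Subgroup G) : Subgroup G := (Cfsg.pPrimeCore 2 K).map K.subtype

variable {α : Type*} [MulAction G α]

/-- `I_x`: the involutions with centre `x` -/
def invsAt (x : α) : Set G := {i | orderOf i = 2 ∧ i • x = x}

/-- `M_x = ⟨I_x⟩` -/
def invGroup (G : Type u) [Group G] {α : Type*} [MulAction G α] (x : α) : Subgroup G :=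
  closure (invsAt x)

/-- `Y_x = O(M_x)` -/
def invGroupCore (G : Type u) [Group G] {α : Type*} [MulAction G α] (x : α) : Subgroup G :=
  oddCoreOf (invGroup G x)

/-- the centres of the involutions of `N` -/
def centresIn (N : Subgroup G) : Set α := {x | ∃ i ∈ N, orderOf i = 2 ∧ i • x = x}

/-- the points fixed by `R` -/
def fixOf (R : Subgroup G) : Set α := {x | ∀ g ∈ R, g • x = x}

variable {H : Subgroup G}

/-- `y` is bad for `(t, c, a)`: inverted by `t`, fixing its centre `c` and another point `a` -/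
def Bad (t y : G) (c a : G ⧸ H) : Prop :=
  orderOf t = 2 ∧ t • c = c ∧ a ≠ c ∧ y • c = c ∧ y • a = a ∧ y ≠ 1 ∧ t * y * t⁻¹ = y⁻¹

/-- there is a bad `r`-element -/
def IsBadPrime (H : Subgroup G) (r : ℕ) : Prop :=
  ∃ (t y : G) (c a : G ⧸ H), Bad t y c a ∧ IsPGroup r (zpowers y)

/-- T1+: no bad element -/
def NoBad (H : Subgroup G) : Prop := ∀ (t y : G) (c a : G ⧸ H), ¬ Bad t y c a

/-- LOCAL: a proper subgroup with a pair stabiliser, a swapper and all involutions at a point -/
def IsLocal (K : Subgroup G) (a b : G ⧸ H) : Prop :=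
  K ≠ ⊤ ∧ a ≠ b ∧ stabilizer G a ⊓ stabilizer G b ≤ K ∧
    (∃ t ∈ K, orderOf t = 2 ∧ t • a = b) ∧ ∀ i : G, orderOf i = 2 → i • a = a → i ∈ K

/-- there is a LOCAL -/
def HasLocal (H : Subgroup G) : Prop := ∃ (K : Subgroup G) (a b : G ⧸ H), IsLocal K a b

/-- The hypothesis HYP of THEOREM A (notes/bender_t1_h7.md): if a Sylow `r`-subgroup `P` of some
`G_x ∩ G_z` fixes a third point and an `r`-group `Q ≥ P` fixes `x` and two further points, then no
involution with centre `x` normalises `Q`. -/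
def FixHyp (H : Subgroup G) (r : ℕ) : Prop :=
  ∀ (x z : G ⧸ H) (P Q : Subgroup G), x ≠ z → P ≤ stabilizer G x ⊓ stabilizer G z →
    Nat.card P = r ^ (Nat.card ↥(stabilizer G x ⊓ stabilizer G z)).factorization r →
    (∃ w ∈ fixOf (α := G ⧸ H) P, w ≠ x ∧ w ≠ z) → IsPGroup r Q → P ≤ Q →
    x ∈ fixOf (α := G ⧸ H) Q →
    (∃ u ∈ fixOf (α := G ⧸ H) Q, ∃ w ∈ fixOf (α := G ⧸ H) Q, u ≠ x ∧ w ≠ x ∧ u ≠ w) →
    ∀ v : G, orderOf v = 2 → v • x = x → v ∉ normalizer (Q : Set G)

/-- every Sylow `r`-subgroup of every pair stabiliser fixes exactly the pair -/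
def ExactlyTwo (H : Subgroup G) (r : ℕ) : Prop :=
  ∀ (a d : G ⧸ H) (P : Subgroup G), a ≠ d → IsPGroup r P → P ≤ stabilizer G a ⊓ stabilizer G d →
    Nat.card P = r ^ (Nat.card ↥(stabilizer G a ⊓ stabilizer G d)).factorization r →
    fixOf (α := G ⧸ H) P = {a, d}

/-- two-transitivity on the cosets -/
def TwoTransitive (H : Subgroup G) : Prop :=
  ∀ a b b' : G ⧸ H, b ≠ a → b' ≠ a → ∃ g : G, g • a = a ∧ g • b = b'

end Cfsg.Lib.BenderSE
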