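/-
A subgroup of order prime to `r` normalised by a Sylow `r`-subgroup of a group of odd order.
-/
import Cfsg.Agent.OddLocal.InvariantCore
import Cfsg.Agent.OddChar.PF.OddOrder

set_option autoImplicit false
set_option linter.unusedSectionVars false

namespace Cfsg.Lib.BenderSE

open Subgroup

universe u

variable {G : Type u} [Group G] [Finite G] {r : ℕ} [Fact r.Prime]

/-- in a group of odd order, an `r'`-subgroup normalised by a Sylow `r`-subgroup is in `O_{r'}` -/
theorem le_pPrimeCore_of_odd (hodd : Odd (Nat.card G)) (R : Sylow r G) {Y : Subgroup G}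
    (hY : (Nat.card Y).Coprime r) (hRY : (R : Subgroup G) ≤ normalizer (Y : Set G)) :
    Y ≤ Cfsg.pPrimeCore r G := by
  by_cases hr2 : r = 2
  · refine (le_top : Y ≤ ⊤).trans (Cfsg.Lib.Components.le_pPrimeCore (N := (⊤ : Subgroup G)) ?_)
    rw [Subgroup.card_top, hr2]
    exact Nat.coprime_two_right.2 hodd
  haveI := Cfsg.Agent.PF.isSolvable_of_odd G hodd
  refine Cfsg.Lib.OddLocal.InvariantCore.le_pPrimeCore
    Cfsg.Lib.OddLocal.InvariantCore.quotientConstrained_of_solvable
    (fun h => absurd h hr2) R.isPGroup' ?_ hY hRY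
  intro x hx hxp
  have hle : zpowers x ≤ normalizer ((R : Subgroup G) : Set G) :=
    (zpowers_le.2 hx).trans (centralizer_le_normalizer _)
  have hsup := R.isPGroup'.to_sup_of_normal_left' hxp hle
  have := R.is_maximal' hsup le_sup_left
  exact this.le ((le_sup_right : zpowers x ≤ _) (mem_zpowers x))

/-- the same inside a subgroup `D` of odd order of an ambient group -/
theorem le_pPrimeCore_map_of_odd {D : Subgroup G} (hodd : Odd (Nat.card D)) (R : Sylow r D)
    {Y : Subgroup G} (hYD : Y ≤ D) (hY : (Nat.card Y).Coprime r)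
    (hRY : (R : Subgroup D).map D.subtype ≤ normalizer (Y : Set G)) :
    Y ≤ (Cfsg.pPrimeCore r D).map D.subtype := by
  have h := le_pPrimeCore_of_odd hodd R (Y := Y.subgroupOf D)
    (by rwa [Nat.card_congr (subgroupOfEquivOfLe hYD).toEquiv]) (fun x hx => by
      have hn := mem_normalizer_iff.1 (hRY (mem_map_of_mem _ hx))
      refine mem_normalizer_iff.2 fun z => ?_
      rw [mem_subgroupOf, mem_subgroupOf]
      exact hn z)
  intro y hy
  exact ⟨⟨y, hYD hy⟩, h (mem_subgroupOf.2 hy), rfl⟩

end Cfsg.Lib.BenderSE
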