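/-
A full configuration gives a proper subgroup containing all involutions at two points and the
stabiliser of the pair (part B of the Bender argument).
-/
import Cfsg.Agent.BenderSE.Full
import Cfsg.Agent.BenderSE.Defs
import Cfsg.Agent.BenderSE.Invariant
import Cfsg.Agent.InvolCalc.ZStarApps
import Cfsg.Agent.Coprime.Action
import Cfsg.Agent.Coprime.Fitting
import Cfsg.Agent.OddLocal.CNThreeStep
import Cfsg.Agent.Components.ZJ.Reduce
import Cfsg.Agent.Components.ZJ.Closed
import Cfsg.Agent.Coprime.HalfFixed.Maximal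
import Cfsg.Agent.Fusion.InvSylow

set_option autoImplicit false
set_option linter.unusedSectionVars false

namespace Cfsg.Lib.BenderSE

open Subgroup MulAction Cfsg.Lib.InvolCalc
open scoped commutatorElement

universe u

variable {G : Type u} [Group G] [Finite G] {H : Subgroup G} {r : ℕ}

/-- `X` fixes the centre `c` of `t` if an `r`-group `E` at `c`, generated by elements inverted by
`t`, normalises it and the fixed points of `E` in `X` fix `c`. -/
theorem le_stabilizer_of_generated [Fact r.Prime] (hH : Cfsg.IsStronglyEmbedded H) {t : G}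
    {c : G ⧸ H} (ht : orderOf t = 2) (htc : t • c = c) {E : Subgroup G} (hEp : IsPGroup r E)
    (hEodd : Odd (Nat.card E)) (hEc : E ≤ stabilizer G c)
    (hgen : E ≤ closure {y | y ∈ E ∧ t * y * t⁻¹ = y⁻¹}) {X : Subgroup G} (hX : Odd (Nat.card X))
    (hcop : (Nat.card X).Coprime r) (htX : t ∈ normalizer (X : Set G))
    (hEX : E ≤ normalizer (X : Set G))
    (hC : ∀ x ∈ X, x ∈ centralizer (E : Set G) → x • c = c) : X ≤ stabilizer G c := by
  induction hn : Nat.card X using Nat.strong_induction_on generalizing X with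
  | _ n ih =>
  subst hn
  by_cases hXne : X = ⊥
  · exact hXne ▸ bot_le
  have hle : ⁅X, X⁆ ≤ X := commutator_le.2 fun p hp q hq => by
    rw [commutatorElement_def]
    exact mul_mem (mul_mem (mul_mem hp hq) (inv_mem hp)) (inv_mem hq)
  have hlt : Nat.card ↥⁅X, X⁆ < Nat.card X := by
    haveI := Cfsg.Agent.PF.isSolvable_of_odd X hX
    haveI : Nontrivial X := (nontrivial_iff_ne_bot X).2 hXne
    have hlt := Group.IsSolvable.commutator_lt_top_of_nontrivial X
    by_contra hge
    have heq : ⁅X, X⁆ = X := Cfsg.Lib.Coprime.eq_of_le_of_card_eq hle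
      (le_antisymm (card_le_of_le hle) (not_lt.1 hge))
    apply hlt.ne
    apply Subgroup.map_injective X.subtype_injective
    rw [Subgroup.map_subtype_commutator, ← MonoidHom.range_eq_map, range_subtype]
    exact heq
  have hX' : ⁅X, X⁆ ≤ stabilizer G c := ih _ hlt (hX.of_dvd_nat (card_dvd_of_le hle))
    (hcop.coprime_dvd_left (card_dvd_of_le hle)) (mem_normalizer_commutator htX)
    (fun e he => mem_normalizer_commutator (hEX he)) (fun x hx => hC x (hle hx)) rfl
  set N := X ⊓ stabilizer G c with hN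
  have hNX : N ≤ X := inf_le_left
  have hXN : ⁅X, X⁆ ≤ N := le_inf hle hX'
  have hNo : Odd (Nat.card N) := hX.of_dvd_nat (card_dvd_of_le hNX)
  have htN : t ∈ normalizer (N : Set G) := conj_mem_inf htX (le_normalizer (G := G) htc)
  have hEN : E ≤ normalizer (N : Set G) := fun e he =>
    conj_mem_inf (hEX he) (le_normalizer (G := G) (hEc he))
  have hgen1 : ∀ y ∈ E, t * y * t⁻¹ = y⁻¹ → ∀ x ∈ X, y * x * y⁻¹ * x⁻¹ ∈ N := by
    intro y hy hinv x hx
    have hyc : y • c = c := hEc hy
    have hyo : Odd (orderOf y) := hEodd.of_dvd_nat (Subgroup.orderOf_dvd_natCard E hy)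
    have ht2 := sq_of_order_two ht
    have hti := inv_of_order_two ht
    rw [hti] at hinv
    have hr : t * y * (t * y) = 1 := by
      rw [show t * y * (t * y) = (t * y * t) * y by group, hinv, inv_mul_cancel]
    have hr1 : t * y ≠ 1 := fun h1 => by
      have e : y = t := by rw [eq_inv_of_mul_eq_one_right h1, hti]
      rw [e, ht] at hyo
      exact absurd hyo (by decide)
    have hro : orderOf (t * y) = 2 := order_two_of_mul_self hr hr1
    have hrc : (t * y) • c = c := by rw [mul_smul, hyc, htc]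
    have hrX : t * y ∈ normalizer (X : Set G) := mul_mem htX (hEX hy)
    have hrN : t * y ∈ normalizer (N : Set G) := mul_mem htN (hEN hy)
    have hx' : y * x * y⁻¹ ∈ X := (mem_normalizer_iff.1 (hEX hy) x).1 hx
    have e0 := mul_conj_mem hNX hXN hNo ht2 htX htN
      (fun z hz hzt => mem_inf.2 ⟨hz, fix_centre_of_commute hH ht htc hzt⟩) hx'
    have e1 := mul_conj_mem hNX hXN hNo hr hrX hrN
      (fun z hz hzt => mem_inf.2 ⟨hz, fix_centre_of_commute hH hro hrc hzt⟩) hx
    have h3 := mul_mem e0 (inv_mem e1)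
    have h4 : y * x * y⁻¹ * (t * (y * x * y⁻¹) * t⁻¹) * (x * (t * y * x * (t * y)⁻¹))⁻¹ =
        y * x * y⁻¹ * x⁻¹ := by group
    rwa [h4] at h3
  have hall : ∀ a ∈ E, a ∈ normalizer (N : Set G) ∧ a ∈ normalizer (X : Set G) ∧
      ∀ x ∈ X, a * x * a⁻¹ * x⁻¹ ∈ N := by
    intro a ha
    have ha' := hgen ha
    clear ha
    induction ha' using Subgroup.closure_induction with
    | mem z hz => exact ⟨hEN hz.1, hEX hz.1, hgen1 z hz.1 hz.2⟩
    | one => exact ⟨one_mem _, one_mem _, fun x _ => by simp⟩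
    | mul p q _ _ hp hq =>
      refine ⟨mul_mem hp.1 hq.1, mul_mem hp.2.1 hq.2.1, fun x hx => ?_⟩
      rw [show p * q * x * (p * q)⁻¹ * x⁻¹ =
        p * (q * x * q⁻¹ * x⁻¹) * p⁻¹ * (p * x * p⁻¹ * x⁻¹) by group]
      exact mul_mem ((mem_normalizer_iff.1 hp.1 _).1 (hq.2.2 x hx)) (hp.2.2 x hx)
    | inv p _ hp =>
      refine ⟨inv_mem hp.1, inv_mem hp.2.1, fun x hx => ?_⟩
      have hx' : p⁻¹ * x * p ∈ X := (mem_normalizer_iff''.1 hp.2.1 x).1 hx
      have h := inv_mem (hp.2.2 _ hx')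
      rwa [show (p * (p⁻¹ * x * p) * p⁻¹ * (p⁻¹ * x * p)⁻¹)⁻¹ = p⁻¹ * x * p⁻¹⁻¹ * x⁻¹ by group]
        at h
  intro k hk
  have hkN : ∀ a ∈ E, k⁻¹ * a * k * a⁻¹ ∈ N := by
    intro a ha
    have h := inv_mem ((hall a ha).2.2 k⁻¹ (inv_mem hk))
    rwa [show (a * k⁻¹ * a⁻¹ * k⁻¹⁻¹)⁻¹ = k⁻¹ * a * k * a⁻¹ by group] at h
  have hcopN : (Nat.card E).Coprime (Nat.card N) := by
    obtain ⟨j, hj⟩ := IsPGroup.iff_card.1 hEp
    rw [hj]
    exact Nat.Coprime.pow_left j (hcop.coprime_dvd_left (card_dvd_of_le hNX)).symm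
  obtain ⟨d, hd, hkd⟩ := Cfsg.Lib.Coprime.exists_fixed_in_coset hEN hcopN
    (Or.inr (Cfsg.Agent.PF.isSolvable_of_odd N hNo)) hkN
  have h1 : (k * d) • c = c := hC _ (mul_mem hk (hNX hd)) hkd
  have h2 : d • c = c := (mem_inf.1 hd).2
  rwa [mul_smul, h2] at h1

/-- a group moving the centre of one of its involutions has two commuting involutions, or a normal
subgroup of odd order moving the centre -/
theorem exists_pair_or_normal_odd (hH : Cfsg.IsStronglyEmbedded H) {K : Subgroup G} {t : G}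
    {c : G ⧸ H} (ht : orderOf t = 2) (htK : t ∈ K) (htc : t • c = c)
    (hK : ¬ K ≤ stabilizer G c) :
    (∃ u ∈ K, ∃ v ∈ K, orderOf u = 2 ∧ orderOf v = 2 ∧ u ≠ v ∧ Commute u v) ∨
      ∃ L : Subgroup G, L ≤ K ∧ K ≤ normalizer (L : Set G) ∧ Odd (Nat.card L) ∧
        ¬ L ≤ stabilizer G c := by
  by_cases hp : ∃ u ∈ K, ∃ v ∈ K, orderOf u = 2 ∧ orderOf v = 2 ∧ u ≠ v ∧ Commute u v
  · exact Or.inl hp
  push Not at hp
  right
  have hiso : Cfsg.IsIsolatedInvolution (⟨t, htK⟩ : K) := by
    refine ⟨by rw [Subgroup.orderOf_mk, ht], fun g hg => ?_⟩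
    by_contra hne
    exact hp t htK ((g : G) * t * (g : G)⁻¹) (mul_mem (mul_mem g.2 htK) (inv_mem g.2)) ht
      (by rw [orderOf_conj', ht]) (fun e => hne (Subtype.ext e.symm))
      (congrArg Subtype.val hg.eq)
  haveI : (Cfsg.pPrimeCore 2 K).Normal := inferInstance
  refine ⟨(Cfsg.pPrimeCore 2 K).map K.subtype, map_subtype_le _, ?_, ?_, ?_⟩
  · intro g hg
    haveI : (Cfsg.pPrimeCore 2 K).Characteristic :=
      Cfsg.Lib.Components.pPrimeCore_characteristic
    exact Cfsg.Lib.HalfFixed.normalizer_le_map_of_characteristic K _ (le_normalizer hg)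
  · rw [card_map_of_injective K.subtype_injective]
    exact Cfsg.Lib.ZStarApps.odd_card_pPrimeCore
  · intro hL
    obtain ⟨g, hg, hgc⟩ := SetLike.not_le_iff_exists.1 hK
    have h1 : t * g * t⁻¹ * g⁻¹ ∈ stabilizer G c :=
      hL ⟨_, Cfsg.Lib.ZStarApps.zstarProp hiso ⟨g, hg⟩, rfl⟩
    have hti := inv_of_order_two ht
    have h2 : (g * t * g⁻¹) • c = c := by
      have h3 : (t * (t * g * t⁻¹ * g⁻¹)) • c = c := by rw [mul_smul, mem_stabilizer_iff.1 h1, htc]
      rwa [hti, show t * (t * g * t * g⁻¹) = (t * t) * (g * t * g⁻¹) by group, sq_of_order_two ht,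
        one_mul] at h3
    refine hgc (mem_stabilizer_iff.2 ?_)
    refine (Cfsg.Lib.StrongEmb.eq_of_fixed hH (t := g * t * g⁻¹) (by rw [orderOf_conj', ht]) ?_ h2)
    rw [mul_smul, mul_smul, inv_smul_smul, htc]

/-- all involutions of a subgroup moving the centre of one of them are conjugate -/
theorem exists_conj_of_moves (hH : Cfsg.IsStronglyEmbedded H) {K : Subgroup G} {t u : G}
    {c : G ⧸ H} (ht : orderOf t = 2) (htK : t ∈ K) (htc : t • c = c)
    (hK : ¬ K ≤ stabilizer G c) (hu : orderOf u = 2) (huK : u ∈ K) :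
    ∃ g ∈ K, g * t * g⁻¹ = u := by
  have step : ∀ (s w : G) (x y : G ⧸ H), orderOf s = 2 → orderOf w = 2 → s ∈ K → w ∈ K →
      s • x = x → w • y = y → x ≠ y → ∃ g ∈ K, g * s * g⁻¹ = w := by
    intro s w x y hs hw hsK hwK hsx hwy hxy
    obtain ⟨g, hg, hgs⟩ := conj_of_odd hs hw (odd_product_centres hH hs hw hsx hwy hxy)
    refine ⟨g, (closure_le _).2 ?_ hg, hgs⟩
    rintro z (rfl | hz)
    · exact hsK
    · rw [Set.mem_singleton_iff] at hz; exact hz ▸ hwK
  obtain ⟨d, hud⟩ := exists_centre hH hu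
  by_cases hdc : c = d
  · obtain ⟨g, hg, hgc⟩ := SetLike.not_le_iff_exists.1 hK
    have hgc' : g • c ≠ c := hgc
    have ht' : orderOf (g * t * g⁻¹) = 2 := by rw [orderOf_conj', ht]
    have htg : (g * t * g⁻¹) • (g • c) = g • c := by rw [mul_smul, mul_smul, inv_smul_smul, htc]
    have ht'K : g * t * g⁻¹ ∈ K := mul_mem (mul_mem hg htK) (inv_mem hg)
    obtain ⟨k, hk, hks⟩ := step _ u _ d ht' hu ht'K huK htg hud (hdc ▸ hgc')
    exact ⟨k * g, mul_mem hk hg, by rw [← hks]; group⟩
  · exact step t u c d ht hu htK huK htc hud hdc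

/-- a normaliser of an odd group generated by elements inverted by one of its involutions, moving
the centre, has no two commuting involutions -/
theorem no_pair_normalizer (hH : Cfsg.IsStronglyEmbedded H) {E : Subgroup G}
    (hEodd : Odd (Nat.card E)) (hE : E ≠ ⊥) {t : G} {c : G ⧸ H} (ht : orderOf t = 2)
    (htc : t • c = c) (hgen : E ≤ closure {y | y ∈ E ∧ t * y * t⁻¹ = y⁻¹})
    (htE : t ∈ normalizer (E : Set G)) (hmove : ¬ normalizer (E : Set G) ≤ stabilizer G c)
    {u v : G} (huE : u ∈ normalizer (E : Set G)) (hvE : v ∈ normalizer (E : Set G))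
    (hu : orderOf u = 2) (hv : orderOf v = 2) (huv : u ≠ v) (hcomm : Commute u v) : False := by
  set N := ⁅E, E⁆ with hN
  have hNE : N ≤ E := commutator_le.2 fun p hp q hq => by
    rw [commutatorElement_def]
    exact mul_mem (mul_mem (mul_mem hp hq) (inv_mem hp)) (inv_mem hq)
  have hnorm : ∀ g ∈ normalizer (E : Set G), g ∈ normalizer (N : Set G) :=
    fun g hg => mem_normalizer_commutator hg
  have hcom : ∀ p ∈ E, ∀ q ∈ E, p * q * p⁻¹ * q⁻¹ ∈ N := fun p hp q hq => by
    rw [← commutatorElement_def]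
    exact commutator_mem_commutator hp hq
  have hNn : ∀ p ∈ E, ∀ n ∈ N, p * n * p⁻¹ ∈ N := fun p hp n hn =>
    (mem_normalizer_iff.1 (hnorm p (le_normalizer hp)) n).1 hn
  -- `t` inverts `E` modulo `N`
  have ht' : ∀ e ∈ E, t * e * t⁻¹ * e ∈ N := by
    intro e he
    have he' := hgen he
    clear he
    have : e ∈ E ∧ t * e * t⁻¹ * e ∈ N := by
      induction he' using Subgroup.closure_induction with
      | mem z hz => exact ⟨hz.1, by rw [hz.2, inv_mul_cancel]; exact one_mem _⟩
      | one => exact ⟨one_mem _, by simp⟩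
      | mul p q _ _ hp hq =>
        refine ⟨mul_mem hp.1 hq.1, ?_⟩
        set n₁ := t * p * t⁻¹ * p with hn₁
        set n₂ := t * q * t⁻¹ * q with hn₂
        rw [show t * (p * q) * t⁻¹ * (p * q) =
          n₁ * (p⁻¹ * n₂ * p⁻¹⁻¹) * (p⁻¹ * q⁻¹ * p⁻¹⁻¹ * q⁻¹⁻¹) by rw [hn₁, hn₂]; group]
        exact mul_mem (mul_mem hp.2 (hNn _ (inv_mem hp.1) _ hq.2))
          (hcom _ (inv_mem hp.1) _ (inv_mem hq.1))
      | inv p _ hp =>
        refine ⟨inv_mem hp.1, ?_⟩
        have h := hNn _ hp.1 _ (inv_mem hp.2)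
        rw [show p * (t * p * t⁻¹ * p)⁻¹ * p⁻¹ = t * p⁻¹ * t⁻¹ * p⁻¹ by group] at h
        exact h
    exact this.2
  -- so does every involution of the normaliser
  have hall : ∀ w ∈ normalizer (E : Set G), orderOf w = 2 → ∀ e ∈ E, w * e * w⁻¹ * e ∈ N := by
    intro w hw hw2 e he
    obtain ⟨g, hg, rfl⟩ := exists_conj_of_moves hH ht htE htc hmove hw2 hw
    have h1 := ht' _ ((mem_normalizer_iff''.1 hg e).1 he)
    have h2 := (mem_normalizer_iff.1 (hnorm g hg) _).1 h1
    rwa [show g * (t * (g⁻¹ * e * g) * t⁻¹ * (g⁻¹ * e * g)) * g⁻¹ =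
      g * t * g⁻¹ * e * (g * t * g⁻¹)⁻¹ * e by group] at h2
  have hwmem : u * v ∈ normalizer (E : Set G) := mul_mem huE hvE
  have hw2 : orderOf (u * v) = 2 := by
    refine order_two_of_mul_self ?_ fun h => huv ?_
    · rw [show u * v * (u * v) = u * (v * u) * v by group, ← hcomm.eq,
        show u * (u * v) * v = (u * u) * (v * v) by group, sq_of_order_two hu, sq_of_order_two hv,
        one_mul]
    · rw [eq_inv_of_mul_eq_one_left h, inv_of_order_two hv]
  have hsq : ∀ e ∈ E, e * e ∈ N := by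
    intro e he
    have he' : v * e * v⁻¹ ∈ E := (mem_normalizer_iff.1 hvE e).1 he
    have h1 := hall u huE hu _ he'
    have h2 := hall (u * v) hwmem hw2 e he
    have h3 := hall v hvE hv e he
    rw [show u * (v * e * v⁻¹) * u⁻¹ * (v * e * v⁻¹) =
      u * v * e * (u * v)⁻¹ * e * (e⁻¹ * (v * e * v⁻¹ * e) * e⁻¹) by group] at h1
    have h4 := (Subgroup.mul_mem_cancel_left N h2).1 h1
    have h5 := hNn e he _ h4
    rw [show e * (e⁻¹ * (v * e * v⁻¹ * e) * e⁻¹) * e⁻¹ = v * e * v⁻¹ * e * (e * e)⁻¹ by group] at h5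
    exact inv_mem_iff.1 ((Subgroup.mul_mem_cancel_left N h3).1 h5)
  have hEN : E ≤ N := fun e he => mem_of_sq_mem hEodd he (hsq e he)
  haveI := Cfsg.Agent.PF.isSolvable_of_odd E hEodd
  haveI : Nontrivial E := (nontrivial_iff_ne_bot E).2 hE
  refine (Group.IsSolvable.commutator_lt_top_of_nontrivial E).ne ?_
  apply Subgroup.map_injective E.subtype_injective
  rw [Subgroup.map_subtype_commutator, ← MonoidHom.range_eq_map, range_subtype]
  exact le_antisymm hNE hEN

namespace FullConfig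

variable {t : G} {c a : G ⧸ H} {P : Subgroup G}

theorem odd_group (h : FullConfig r t c a P) (hH : Cfsg.IsStronglyEmbedded H) :
    Odd (Nat.card P) :=
  (odd_stabilizer_inf hH (h.ne_pair hH)).of_dvd_nat (card_dvd_of_le h.le_pair)

theorem prime_ne_two [Fact r.Prime] (h : FullConfig r t c a P) (hH : Cfsg.IsStronglyEmbedded H) :
    r ≠ 2 := by
  intro hr
  obtain ⟨y, hy, hy1, -⟩ := h.bad
  obtain ⟨k, hk⟩ := IsPGroup.iff_card.1 h.isPGroup
  have hodd := h.odd_group hH
  rw [hk, hr] at hodd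
  rcases Nat.eq_zero_or_pos k with rfl | hk0
  · rw [pow_zero] at hk
    have := Subgroup.eq_bot_of_card_eq P hk
    exact hy1 (by rw [this, mem_bot] at hy; exact hy)
  · exact absurd hodd (by rw [Nat.not_odd_iff_even]; exact (Nat.even_pow).2 ⟨even_two, hk0.ne'⟩)

theorem gen (t : G) (P : Subgroup G) :
    invClosure P t ≤ closure {y | y ∈ invClosure P t ∧ t * y * t⁻¹ = y⁻¹} :=
  closure_mono fun _ hy => ⟨subset_closure hy, hy.2⟩

theorem invClosure_ne_bot (h : FullConfig r t c a P) : invClosure P t ≠ ⊥ := by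
  obtain ⟨y, hyP, hy1, hy⟩ := h.bad
  intro he
  have h1 : y ∈ invClosure P t := subset_closure ⟨hyP, hy⟩
  rw [he, mem_bot] at h1
  exact hy1 h1

/-- a full configuration gives one in the class -/
theorem exists_mem_class [Fact r.Prime] (h : FullConfig r t c a P)
    (hH : Cfsg.IsStronglyEmbedded H) :
    ∃ (a' : G ⧸ H) (P' : Subgroup G), InClass r t c a' P' := by
  set E := invClosure P t with hE
  set K := normalizer (E : Set G) with hK
  have hEc : E ≤ stabilizer G c := (invClosure_le P t).trans h.le_centre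
  have htK : t ∈ K := mem_normalizer_invClosure h.normal (Commute.refl t)
  by_cases hKc : K ≤ stabilizer G c
  · exact ⟨a, P, h, Or.inl hKc⟩
  rcases exists_pair_or_normal_odd hH h.invol htK h.centre hKc with
    ⟨u, huK, v, hvK, hu, hv, huv, hcomm⟩ | ⟨L, hLK, hKL, hLodd, hLc⟩
  · exact (no_pair_normalizer hH ((h.odd_group hH).of_dvd_nat (card_dvd_of_le (invClosure_le P t)))
      h.invClosure_ne_bot h.invol h.centre (gen t P) htK hKc huK hvK hu hv huv hcomm).elim
  obtain ⟨b, -⟩ := exists_centreBlock_centre hH hLK hKL hLodd h.invol htK h.centre hLc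
  obtain ⟨m, hm, hmc⟩ := SetLike.not_le_iff_exists.1 b.moves
  have hfix : E ≤ stabilizer G (m • c) := by
    intro q hq
    have h2 : (m⁻¹ * q * m) • c = c := hEc ((mem_normalizer_iff''.1 (b.le hm) q).1 hq)
    rw [mul_smul, mul_smul, inv_smul_eq_iff] at h2
    exact h2
  obtain ⟨P', hP', hEeq⟩ := h.exists_full_of_invClosure_le hH (show m • c ≠ c from hmc) hfix
  refine ⟨m • c, P', hP', Or.inr ?_⟩
  rw [hEeq]
  exact ⟨b, m, hm, rfl⟩

end FullConfig

/-- the class is closed under `(c, a) ↦ (d, c)` -/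
theorem InClass.exists_next [Fact r.Prime] (hH : Cfsg.IsStronglyEmbedded H) {t : G} {c a : G ⧸ H}
    {P : Subgroup G} (h : InClass r t c a P) :
    ∃ (s : G) (d : G ⧸ H), s • c = a ∧ s ∈ normalizer (P : Set G) ∧ InClass r s d c P := by
  obtain ⟨hf, h1 | ⟨b, m, hm, ham⟩⟩ := h
  · obtain ⟨v, hv, hvc⟩ := exists_swapper hH hf.ne.symm
    obtain ⟨s, d, -, hsc, hsP, hdc, hs'⟩ := hf.exists_next hH (K := ⊤) le_top ⟨v, mem_top v, hv, hvc⟩
    obtain ⟨g, hg, hgs⟩ := conj_of_odd hf.invol hs'.invol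
      (odd_product_centres hH hf.invol hs'.invol hf.centre hs'.centre hdc.symm)
    have hgP : g ∈ normalizer (P : Set G) := by
      refine (closure_le _).2 ?_ hg
      rintro x (rfl | hx)
      · exact hf.normal
      · rw [Set.mem_singleton_iff] at hx; exact hx ▸ hsP
    have hgd : g • c = d := by
      refine Cfsg.Lib.StrongEmb.eq_of_fixed hH hs'.invol ?_ hs'.centre
      rw [← hgs, mul_smul, mul_smul, inv_smul_smul, hf.centre]
    have hE : invClosure P s = Cfsg.Lib.Coprime.conjMap g (invClosure P t) := by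
      rw [← hgs]
      exact invClosure_conj hgP
    refine ⟨s, d, hsc, hsP, hs', Or.inl fun x hx => ?_⟩
    have hx' : g⁻¹ * x * g ∈ normalizer ((invClosure P t : Subgroup G) : Set G) := by
      refine mem_normalizer_iff.2 fun z => ?_
      have h2 := mem_normalizer_iff.1 hx (g * z * g⁻¹)
      rw [hE, Cfsg.Lib.Coprime.mem_conjMap, Cfsg.Lib.Coprime.mem_conjMap,
        show g⁻¹ * (g * z * g⁻¹) * g = z by group,
        show g⁻¹ * (x * (g * z * g⁻¹) * x⁻¹) * g = g⁻¹ * x * g * z * (g⁻¹ * x * g)⁻¹ by group] at h2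
      exact h2
    have h3 : (g⁻¹ * x * g) • c = c := h1 hx'
    rw [mul_smul, mul_smul, hgd, inv_smul_eq_iff, hgd] at h3
    exact h3
  · obtain ⟨s, d, hsc, hsP, -, hs', -, b', -, n, hn, hcn⟩ := hf.exists_next_block hH b hm ham
    exact ⟨s, d, hsc, hsP, hs', Or.inr ⟨b', n, hn, hcn⟩⟩

/-- `O_{r'}` of the pair stabiliser -/
def pairCore (r : ℕ) (x y : G ⧸ H) : Subgroup G :=
  (Cfsg.pPrimeCore r ↥(stabilizer G x ⊓ stabilizer G y)).map
    (stabilizer G x ⊓ stabilizer G y).subtype

theorem pairCore_le (x y : G ⧸ H) : pairCore r x y ≤ stabilizer G x ⊓ stabilizer G y :=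
  map_subtype_le _

theorem coprime_pairCore (x y : G ⧸ H) : (Nat.card (pairCore r x y)).Coprime r := by
  rw [pairCore, card_map_of_injective (subtype_injective _)]
  exact Cfsg.Lib.Components.coprime_card_pPrimeCore r

theorem normalizer_le_pairCore (x y : G ⧸ H) :
    normalizer ((stabilizer G x ⊓ stabilizer G y : Subgroup G) : Set G) ≤
      normalizer ((pairCore r x y : Subgroup G) : Set G) := by
  haveI : (Cfsg.pPrimeCore r ↥(stabilizer G x ⊓ stabilizer G y)).Characteristic :=
    Cfsg.Lib.Components.pPrimeCore_characteristic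
  exact Cfsg.Lib.HalfFixed.normalizer_le_map_of_characteristic _ _

/-- STEP A -/
theorem InClass.core_le [Fact r.Prime] (hH : Cfsg.IsStronglyEmbedded H) {t : G} {c a : G ⧸ H}
    {P : Subgroup G} (h : InClass r t c a P) : pairCore r a (t • a) ≤ stabilizer G c := by
  obtain ⟨hf, hcls⟩ := h
  set D := stabilizer G a ⊓ stabilizer G (t • a)
  have hDodd : Odd (Nat.card D) := odd_stabilizer_inf hH (hf.ne_pair hH)
  have hED : invClosure P t ≤ D := (invClosure_le P t).trans hf.le_pair
  refine le_stabilizer_of_generated (r := r) hH hf.invol hf.centre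
    (hf.isPGroup.to_le (invClosure_le P t)) (hDodd.of_dvd_nat (card_dvd_of_le hED))
    ((invClosure_le P t).trans hf.le_centre) (FullConfig.gen t P)
    (hDodd.of_dvd_nat (card_dvd_of_le (pairCore_le _ _))) (coprime_pairCore _ _)
    (normalizer_le_pairCore _ _ (pair_normalizer hf.invol a))
    (fun e he => normalizer_le_pairCore _ _ (le_normalizer (G := G) (hED he))) ?_
  intro x hx hxE
  have hxK : x ∈ normalizer ((invClosure P t : Subgroup G) : Set G) := centralizer_le_normalizer _ hxE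
  rcases hcls with h1 | ⟨b, m, hm, ham⟩
  · exact h1 hxK
  · have hxD := mem_inf.1 (pairCore_le _ _ hx)
    have e1 : x • a = a := hxD.1
    have e2 : x • t • a = t • a := hxD.2
    rw [ham] at e1 e2
    exact b.midpoint m hm x hxK e1 e2

/-- `ZJ` of a Sylow subgroup is normal in a group of odd order with trivial `r'`-core -/
theorem le_normalizer_zj_of_core [Fact r.Prime] (hr : r ≠ 2) {D P : Subgroup G}
    (hD : Odd (Nat.card D)) (hPD : P ≤ D)
    (hcard : Nat.card P = r ^ (Nat.card D).factorization r)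
    (hcore : (Cfsg.pPrimeCore r D).map D.subtype = ⊥) :
    D ≤ normalizer ((Cfsg.centerThompsonAOf P : Subgroup G) : Set G) := by
  let S : Sylow r D := Sylow.ofCard (P.subgroupOf D)
    (by rw [Nat.card_congr (subgroupOfEquivOfLe hPD).toEquiv, hcard])
  haveI := Cfsg.Agent.PF.isSolvable_of_odd D hD
  have hc0 : Cfsg.pPrimeCore r D = ⊥ := (map_eq_bot_iff_of_injective _ D.subtype_injective).1 hcore
  haveI := Cfsg.Lib.ZJ.centerThompsonA_characteristic hr (Cfsg.Lib.CN.stable_of_odd hD hr)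
    (Cfsg.Lib.Coprime.centralizer_pCore_le r hc0) S
  have hmap : (Cfsg.centerThompsonAOf (S : Subgroup D)).map D.subtype = Cfsg.centerThompsonAOf P := by
    rw [Cfsg.Lib.ZJ.centerThompsonAOf_map_injOn D.subtype_injective.injOn]
    exact congrArg Cfsg.centerThompsonAOf (map_subgroupOf_eq_of_le hPD)
  rw [← hmap]
  exact le_normalizer.trans (Cfsg.Lib.HalfFixed.normalizer_le_map_of_characteristic D _)

/-- in a core-free action no non-trivial normal subgroup fixes a point -/
theorem eq_bot_of_normal_le_stabilizer (hcore : H.normalCore = ⊥) {a : G ⧸ H} {Y : Subgroup G}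
    (hY : Y.Normal) (hYa : Y ≤ stabilizer G a) : Y = ⊥ := by
  rw [eq_bot_iff, ← hcore]
  haveI := hY
  refine normal_le_normalCore.2 fun y hy => ?_
  obtain ⟨g, hg⟩ := MulAction.exists_smul_eq G (QuotientGroup.mk 1 : G ⧸ H) a
  have h := hYa (hY.conj_mem y hy g)
  rw [mem_stabilizer_iff, ← hg, mul_smul, mul_smul, inv_smul_smul, smul_left_cancel_iff,
    MulAction.Quotient.smul_mk, smul_eq_mul, mul_one, eq_comm, QuotientGroup.eq, inv_one, one_mul] at h
  exact h

/-- PART B: a full configuration gives a proper subgroup containing a pair stabiliser, its swapper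
`t`, and all involutions at the centre of `t` and at a point of the pair. -/
theorem full_local [Fact r.Prime] (hH : Cfsg.IsStronglyEmbedded H) (hcore : H.normalCore = ⊥) {t : G}
    {c a : G ⧸ H} {P : Subgroup G} (h : FullConfig r t c a P) :
    ∃ (t : G) (c a : G ⧸ H) (K : Subgroup G), orderOf t = 2 ∧ t • c = c ∧ a ≠ c ∧ K ≠ ⊤ ∧
      stabilizer G a ⊓ stabilizer G (t • a) ≤ K ∧ stabilizer G c ⊓ stabilizer G a ≤ K ∧ t ∈ K ∧
      ∀ u : G, orderOf u = 2 → u • c = c ∨ u • a = a → u ∈ K := by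
  classical
  obtain ⟨a₀, P₀, h₀⟩ := h.exists_mem_class hH
  let S : ℕ → Prop := fun n => ∃ (t : G) (c a : G ⧸ H) (P : Subgroup G),
    InClass r t c a P ∧ Nat.card (pairCore r a (t • a)) = n
  have hS : S (Nat.card (pairCore r a₀ (t • a₀))) := ⟨t, c, a₀, P₀, h₀, rfl⟩
  obtain ⟨t, c, a, P, hC, hn⟩ :=
    Nat.findGreatest_spec (n := Nat.card G) (Subgroup.card_le_card_group _) hS
  have hf := hC.1
  obtain ⟨s, d, hsc, hsP, hnext⟩ := hC.exists_next hH
  set X := pairCore r a (t • a) with hX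
  set D := stabilizer G a ⊓ stabilizer G (t • a) with hD
  set D' := stabilizer G c ⊓ stabilizer G a with hD'
  have hDodd : Odd (Nat.card D) := odd_stabilizer_inf hH (hf.ne_pair hH)
  have hD'odd : Odd (Nat.card D') := odd_stabilizer_inf hH hf.ne.symm
  have hXD' : X ≤ D' := le_inf (hC.core_le hH) ((pairCore_le _ _).trans inf_le_left)
  have hPD' : P ≤ D' := le_inf hf.le_centre (hf.le_pair.trans inf_le_left)
  let S' : Sylow r D' := Sylow.ofCard (P.subgroupOf D')
    (by rw [Nat.card_congr (subgroupOfEquivOfLe hPD').toEquiv, hf.card_eq_centre hH])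
  have hle : X ≤ pairCore r c a := le_pPrimeCore_map_of_odd hD'odd S' hXD' (coprime_pairCore _ _)
    (by
      rw [show (S' : Subgroup D').map D'.subtype = P from map_subgroupOf_eq_of_le hPD']
      exact hf.le_pair.trans (le_normalizer.trans (normalizer_le_pairCore _ _)))
  have heq : X = pairCore r c a := by
    refine Subgroup.eq_of_le_of_card_ge hle (le_trans ?_ hn.ge)
    exact Nat.le_findGreatest (Subgroup.card_le_card_group _)
      ⟨s, d, c, P, hnext, by rw [hsc]⟩
  have hsn : s ∈ normalizer (D' : Set G) := by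
    rw [hD']
    exact swapper_mem_normalizer hnext.1.invol hsc
  -- the subgroup to be normalised
  obtain ⟨Y, hY, hYa, hDY, hD'Y, htY, hsY⟩ : ∃ Y : Subgroup G, Y ≠ ⊥ ∧ Y ≤ stabilizer G a ∧
      D ≤ normalizer (Y : Set G) ∧ D' ≤ normalizer (Y : Set G) ∧ t ∈ normalizer (Y : Set G) ∧
      s ∈ normalizer (Y : Set G) := by
    by_cases hXne : X = ⊥
    · have hr := hf.prime_ne_two hH
      refine ⟨Cfsg.centerThompsonAOf P, Cfsg.Lib.ZJ.centerThompsonAOf_ne_bot hf.isPGroup ?_,
        (Cfsg.Lib.InvSylow.centerThompsonAOf_le P).trans (hf.le_pair.trans inf_le_left),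
        le_normalizer_zj_of_core hr hDodd hf.le_pair hf.card_eq hXne,
        le_normalizer_zj_of_core hr hD'odd hPD' (hf.card_eq_centre hH) (heq.symm.trans hXne),
        Cfsg.Lib.InvSylow.normalizer_le_normalizer_centerThompsonAOf P hf.normal,
        Cfsg.Lib.InvSylow.normalizer_le_normalizer_centerThompsonAOf P hsP⟩
      obtain ⟨y, hy, hy1, -⟩ := hf.bad
      exact fun hb => hy1 (by rw [hb, mem_bot] at hy; exact hy)
    · refine ⟨X, hXne, (pairCore_le _ _).trans inf_le_left,
        le_normalizer.trans (normalizer_le_pairCore _ _), ?_,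
        normalizer_le_pairCore _ _ (pair_normalizer hf.invol a), ?_⟩
      · rw [heq]; exact le_normalizer.trans (normalizer_le_pairCore _ _)
      · rw [heq]; exact normalizer_le_pairCore _ _ hsn
  have hc : ∀ u : G, orderOf u = 2 → u • c = c → u ∈ normalizer (Y : Set G) := by
    intro u hu huc
    obtain ⟨g, hg, rfl⟩ := exists_conj_centre hH hf.ne.symm hf.invol hf.centre hu huc
    exact mul_mem (mul_mem (hD'Y hg) htY) (inv_mem (hD'Y hg))
  refine ⟨t, c, a, normalizer (Y : Set G), hf.invol, hf.centre, hf.ne, ?_, hDY, hD'Y, htY, ?_⟩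
  · intro htop
    exact hY (eq_bot_of_normal_le_stabilizer hcore (normalizer_eq_top_iff.1 htop) hYa)
  · rintro u hu (huc | hua)
    · exact hc u hu huc
    · have h1 : s * u * s⁻¹ ∈ normalizer (Y : Set G) := by
        refine hc _ (by rw [orderOf_conj', hu]) ?_
        rw [mul_smul, mul_smul, inv_of_order_two hnext.1.invol, hsc, hua,
          smul_swap hnext.1.invol hsc]
      have h2 := mul_mem (mul_mem (inv_mem hsY) h1) hsY
      rwa [show s⁻¹ * (s * u * s⁻¹) * s = u by group] at h2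

/-- PART B in the shared vocabulary -/
theorem hasLocal_of_full [Fact r.Prime] (hH : Cfsg.IsStronglyEmbedded H) (hcore : H.normalCore = ⊥) {t : G}
    {c a : G ⧸ H} {P : Subgroup G} (h : FullConfig r t c a P) : HasLocal H := by
  obtain ⟨t, c, a, K, ht, htc, hac, hK, hD, -, htK, hI⟩ := full_local hH hcore h
  exact ⟨K, a, t • a, hK, pair_ne hH ht htc hac, hD, ⟨t, htK, ht, rfl⟩,
    fun i hi hia => hI i hi (Or.inr hia)⟩

end Cfsg.Lib.BenderSE
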