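/-
Good `r`-groups of an involution: an `r`-group with wide normaliser which is maximal among the
`r`-groups fixing all centres of its normaliser (part C of the Bender argument).
-/
import Cfsg.Agent.BenderSE.FullLocal
import Cfsg.Agent.BenderSE.Coprime
import Cfsg.Agent.BenderSE.Defs
import Cfsg.Agent.Coprime.Generation
import Cfsg.Agent.OddLocal.InvariantCore

set_option autoImplicit false
set_option linter.unusedSectionVars false
set_option linter.style.haveILetI false

namespace Cfsg.Lib.BenderSE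

open Subgroup MulAction Cfsg.Lib.InvolCalc
open scoped commutatorElement

universe u

variable {G : Type u} [Group G] [Finite G] {H : Subgroup G} {r : ℕ}

/-- the elements fixing every point of the orbit of `c` under `N` -/
def orbitFix (N : Subgroup G) (c : G ⧸ H) : Subgroup G := ⨅ n ∈ N, stabilizer G (n • c)

theorem mem_orbitFix {N : Subgroup G} {c : G ⧸ H} {g : G} :
    g ∈ orbitFix N c ↔ ∀ n ∈ N, g • n • c = n • c := by
  simp [orbitFix, mem_iInf]

theorem orbitFix_le_stabilizer {N : Subgroup G} {c : G ⧸ H} : orbitFix N c ≤ stabilizer G c :=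
  fun g hg => mem_stabilizer_iff.2 (by simpa using mem_orbitFix.1 hg 1 (one_mem N))

theorem orbitFix_le_point {N : Subgroup G} {c a : G ⧸ H} {n : G} (hn : n ∈ N) (hna : n • c = a) :
    orbitFix N c ≤ stabilizer G a :=
  fun g hg => mem_stabilizer_iff.2 (hna ▸ mem_orbitFix.1 hg n hn)

theorem orbitFix_conj {N : Subgroup G} {c : G ⧸ H} {g : G} (hg : g ∈ N) :
    orbitFix N (g • c) = orbitFix N c := by
  ext x
  rw [mem_orbitFix, mem_orbitFix]
  constructor
  · intro h n hn
    simpa [smul_smul] using h (n * g⁻¹) (mul_mem hn (inv_mem hg))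
  · intro h n hn
    simpa [smul_smul] using h (n * g) (mul_mem hn hg)

theorem le_normalizer_orbitFix (N : Subgroup G) (c : G ⧸ H) :
    N ≤ normalizer ((orbitFix N c : Subgroup G) : Set G) := by
  intro g hg
  refine mem_normalizer_of_maps_to fun x hx => mem_orbitFix.2 fun n hn => ?_
  have h := mem_orbitFix.1 hx (g⁻¹ * n) (mul_mem (inv_mem hg) hn)
  rw [mul_smul, mul_smul, smul_smul g⁻¹, h, smul_smul, mul_inv_cancel_left]

theorem le_orbitFix_of_normal {N L : Subgroup G} {c : G ⧸ H} (hn : N ≤ normalizer (L : Set G))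
    (hLc : L ≤ stabilizer G c) : L ≤ orbitFix N c := by
  intro x hx
  refine mem_orbitFix.2 fun n hnN => ?_
  have h1 : (n⁻¹ * x * n) • c = c := hLc ((mem_normalizer_iff''.1 (hn hnN) x).1 hx)
  rwa [mul_smul, mul_smul, inv_smul_eq_iff] at h1

/-- an odd group normalised by two commuting involutions at `c` fixes `c` -/
theorem le_stabilizer_of_four (hH : Cfsg.IsStronglyEmbedded H) {t u : G} {c : G ⧸ H}
    (ht : orderOf t = 2) (hu : orderOf u = 2) (htu : t ≠ u) (hc : Commute t u) (htc : t • c = c)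
    {L : Subgroup G} (hL : Odd (Nat.card L)) (htL : t ∈ normalizer (L : Set G))
    (huL : u ∈ normalizer (L : Set G)) : L ≤ stabilizer G c := by
  set A : Subgroup G := closure {t, u} with hA
  have huc : u • c = c := fix_centre_of_commute hH ht htc hc.symm
  have hsub : ∀ a ∈ A, Commute a t ∧ Commute a u ∧ a * a = 1 ∧ a • c = c := by
    intro a ha
    induction ha using closure_induction with
    | mem z hz =>
      rcases hz with rfl | rfl
      · exact ⟨Commute.refl _, hc, sq_of_order_two ht, htc⟩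
      · exact ⟨hc.symm, Commute.refl _, sq_of_order_two hu, huc⟩
    | one => exact ⟨Commute.one_left _, Commute.one_left _, one_mul 1, one_smul _ _⟩
    | mul p q hp hq ihp ihq =>
      refine ⟨ihp.1.mul_left ihq.1, ihp.2.1.mul_left ihq.2.1, ?_, by rw [mul_smul, ihq.2.2.2, ihp.2.2.2]⟩
      have hpq : Commute p q := by
        clear ihq
        induction hq using closure_induction with
        | mem z hz => rcases hz with rfl | rfl <;> [exact ihp.1; exact ihp.2.1]
        | one => exact Commute.one_right p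
        | mul x y _ _ hx hy => exact hx.mul_right hy
        | inv x _ hx => exact hx.inv_right
      rw [mul_assoc, ← mul_assoc q, ← hpq.eq, mul_assoc, ihq.2.2.1, mul_one, ihp.2.2.1]
    | inv p _ ihp =>
      have h1 : p⁻¹ = p := inv_eq_of_mul_eq_one_right ihp.2.2.1
      rw [h1]
      exact ihp
  haveI : IsMulCommutative A := by
    refine ⟨⟨fun a b => Subtype.ext ?_⟩⟩
    show (a : G) * b = b * a
    obtain ⟨a, ha⟩ := a
    obtain ⟨b, hb⟩ := b
    show a * b = b * a
    induction hb using closure_induction with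
    | mem z hz => rcases hz with rfl | rfl <;> [exact (hsub a ha).1.eq; exact (hsub a ha).2.1.eq]
    | one => simp
    | mul x y _ _ hx hy => exact (Commute.mul_right hx hy).eq
    | inv x _ hx => exact (Commute.inv_right hx).eq
  have hA2 : IsPGroup 2 A := fun a => ⟨1, Subtype.ext (by
    rw [pow_one, Subgroup.coe_pow, pow_two, (hsub a a.2).2.2.1, Subgroup.coe_one])⟩
  have hcyc : ¬ IsCyclic A := by
    rintro ⟨g, hg⟩
    have key : ∀ a ∈ A, a = 1 ∨ a = (g : G) := by
      intro a ha
      obtain ⟨k, hk⟩ := hg ⟨a, ha⟩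
      have hk' : (g : G) ^ k = a := congrArg Subtype.val hk
      have hgg : (g : G) * g = 1 := (hsub g g.2).2.2.1
      rcases Int.even_or_odd k with ⟨j, rfl⟩ | ⟨j, rfl⟩
      · exact Or.inl (by rw [← hk', zpow_add, ← (Commute.refl (g : G)).mul_zpow, hgg, one_zpow])
      · exact Or.inr (by rw [← hk', zpow_add, two_mul, zpow_add, ← (Commute.refl (g : G)).mul_zpow,
          hgg, one_zpow, one_mul, zpow_one])
    exact htu (((key t (subset_closure (by simp))).resolve_left (ne_one_of_order_two ht)).trans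
      ((key u (subset_closure (by simp))).resolve_left (ne_one_of_order_two hu)).symm)
  have hcop : (Nat.card A).Coprime (Nat.card L) := by
    haveI : Fact (Nat.Prime 2) := ⟨Nat.prime_two⟩
    obtain ⟨n, hn⟩ := IsPGroup.iff_card.1 hA2
    rw [hn]
    exact (Nat.coprime_two_left.2 hL).pow_left n
  rw [← Cfsg.Lib.Coprime.centralizerJoin_eq hcyc
    ((closure_le _).2 (by rintro z (rfl | rfl) <;> assumption)) hcop]
  refine iSup₂_le fun a ha z hz => ?_
  obtain ⟨haA, ha1⟩ := ha
  have hao : orderOf a = 2 := order_two_of_mul_self (hsub a haA).2.2.1 ha1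
  exact fix_centre_of_commute hH hao (hsub a haA).2.2.2
    (mem_centralizer_singleton_iff.1 (mem_inf.1 hz).2)

/-- an odd power of `w` is an involution if `w * w` lies in an odd group avoiding `w` -/
theorem exists_odd_pow_involution {F : Subgroup G} (hF : Odd (Nat.card F)) {w : G}
    (hw : w * w ∈ F) (hwF : w ∉ F) :
    ∃ k : ℕ, orderOf (w ^ k) = 2 ∧ w ^ k * w⁻¹ ∈ F := by
  obtain ⟨j, hj⟩ : Odd (orderOf (w * w)) := hF.of_dvd_nat (Subgroup.orderOf_dvd_natCard F hw)
  have h2 : w ^ (2 * j + 1) * w ^ (2 * j + 1) = 1 := by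
    rw [← pow_add, ← two_mul (2 * j + 1), pow_mul, sq, ← hj, pow_orderOf_eq_one]
  have h3 : w ^ (2 * j + 1) * w⁻¹ ∈ F := by
    rw [pow_succ, mul_inv_cancel_right, pow_mul, sq]
    exact pow_mem hw j
  refine ⟨2 * j + 1, order_two_of_mul_self h2 fun h => hwF ?_, h3⟩
  rw [h, one_mul] at h3
  exact inv_mem_iff.1 h3

/-- two centres of a subgroup are exchanged by one of its involutions -/
theorem exists_swapper_mem (hH : Cfsg.IsStronglyEmbedded H) {K : Subgroup G} {i j : G} {x y : G ⧸ H}
    (hi : orderOf i = 2) (hiK : i ∈ K) (hix : i • x = x) (hj : orderOf j = 2) (hjK : j ∈ K)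
    (hjy : j • y = y) (hxy : x ≠ y) : ∃ w ∈ K, orderOf w = 2 ∧ w • x = y := by
  obtain ⟨d, hd, hde⟩ := conj_of_odd hi hj (odd_product_centres hH hi hj hix hjy hxy)
  have hdK : d ∈ K := (closure_le _).2 (by rintro z (rfl | rfl) <;> assumption) hd
  have hdx : d • x = y := Cfsg.Lib.StrongEmb.eq_of_fixed hH hj
    (by rw [← hde, mul_smul, mul_smul, inv_smul_smul, hix]) hjy
  rcases mem_closure_pair hi hj hd with ⟨n, rfl⟩ | ⟨n, rfl⟩
  · refine ⟨(i * j) ^ n * i, mul_mem hdK hiK, order_two_of_mul_self ?_ fun h => hxy ?_,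
      by rw [mul_smul, hix, hdx]⟩
    · rw [mul_assoc, ← mul_assoc i, flip_zpow hi hj, mul_assoc _ i i, sq_of_order_two hi, mul_one,
        ← zpow_add, add_neg_cancel, zpow_zero]
    · have := hdx
      rw [eq_inv_of_mul_eq_one_left h, inv_of_order_two hi, hix] at this
      exact this
  · refine ⟨_, hdK, order_two_of_mul_self ?_ fun h => hxy (by rwa [h, one_smul] at hdx), hdx⟩
    rw [show i * (i * j) ^ n * (i * (i * j) ^ n) = i * ((i * j) ^ n * i) * (i * j) ^ n by group,
      show (i * j) ^ n * i = i * (i * j) ^ (-n) by rw [flip_zpow hi hj, neg_neg], ← mul_assoc,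
      sq_of_order_two hi, one_mul, ← zpow_add, neg_add_cancel, zpow_zero]

/-- `R` is good for the involution `t` with centre `c` -/
structure GoodAt (r : ℕ) (t : G) (c : G ⧸ H) (R : Subgroup G) : Prop where
  invol : orderOf t = 2
  centre : t • c = c
  isPGroup : IsPGroup r R
  normal : t ∈ normalizer (R : Set G)
  le_centre : R ≤ stabilizer G c
  bad : HasInverted R t
  moves : ¬ normalizer (R : Set G) ≤ stabilizer G c
  pair : ∃ u ∈ normalizer (R : Set G), orderOf u = 2 ∧ u ≠ t ∧ Commute u t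
  maximal : ∀ Q : Subgroup G, IsPGroup r Q → R ≤ Q →
    Q ≤ orbitFix (normalizer (R : Set G)) c → Q = R

namespace GoodAt

variable {t : G} {c : G ⧸ H} {R : Subgroup G}

theorem le_orbitFix (h : GoodAt r t c R) : R ≤ orbitFix (normalizer (R : Set G)) c :=
  le_orbitFix_of_normal le_rfl h.le_centre

theorem not_all_commute (h : GoodAt r t c R) (hodd : Odd (Nat.card R)) :
    ¬ ∀ y ∈ R, Commute t y := by
  intro hall
  obtain ⟨y, hy, hy1, hinv⟩ := h.bad
  rw [(hall y hy).eq, mul_inv_cancel_right] at hinv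
  refine hy1 (mem_bot.1 (?_ : y ∈ (⊥ : Subgroup G)))
  refine mem_of_sq_mem hodd hy (mem_bot.2 ?_)
  nth_rw 2 [hinv]
  exact mul_inv_cancel y

theorem exists_moved (h : GoodAt r t c R) : ∃ n ∈ normalizer (R : Set G), n • c ≠ c := by
  obtain ⟨n, hn, hnc⟩ := SetLike.not_le_iff_exists.1 h.moves
  exact ⟨n, hn, hnc⟩

theorem odd_fix (h : GoodAt r t c R) (hH : Cfsg.IsStronglyEmbedded H) :
    Odd (Nat.card ↥(orbitFix (normalizer (R : Set G)) c)) := by
  obtain ⟨n, hn, hnc⟩ := h.exists_moved
  exact (odd_stabilizer_inf hH (Ne.symm hnc)).of_dvd_nat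
    (card_dvd_of_le (le_inf orbitFix_le_stabilizer (orbitFix_le_point hn rfl)))

theorem odd_group (h : GoodAt r t c R) (hH : Cfsg.IsStronglyEmbedded H) : Odd (Nat.card R) :=
  (h.odd_fix hH).of_dvd_nat (card_dvd_of_le h.le_orbitFix)

theorem prime_ne_two (h : GoodAt r t c R) (hH : Cfsg.IsStronglyEmbedded H) : r ≠ 2 := by
  intro hr
  obtain ⟨y, hy, hy1, -⟩ := h.bad
  obtain ⟨k, hk⟩ := h.isPGroup ⟨y, hy⟩
  have hk' : y ^ r ^ k = 1 := congrArg Subtype.val hk
  have hodd : Odd (orderOf y) := (h.odd_group hH).of_dvd_nat (Subgroup.orderOf_dvd_natCard R hy)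
  rw [hr] at hk'
  obtain ⟨j, -, hj⟩ := (Nat.dvd_prime_pow Nat.prime_two).1 (orderOf_dvd_of_pow_eq_one hk')
  rw [hj] at hodd
  rcases Nat.eq_zero_or_pos j with rfl | hj0
  · exact hy1 (orderOf_eq_one_iff.1 (by rw [hj, pow_zero]))
  · exact absurd hodd (by rw [Nat.not_odd_iff_even]; exact (Nat.even_pow).2 ⟨even_two, hj0.ne'⟩)

/-- no involution of the normaliser centralises `R` -/
theorem not_centralize (h : GoodAt r t c R) (hH : Cfsg.IsStronglyEmbedded H) {i : G}
    (hi : orderOf i = 2) (hiN : i ∈ normalizer (R : Set G)) : ¬ ∀ y ∈ R, Commute i y := by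
  intro hall
  obtain ⟨g, hg, rfl⟩ := exists_conj_of_moves hH h.invol h.normal h.centre h.moves hi hiN
  refine h.not_all_commute (h.odd_group hH) fun y hy => ?_
  have h1 := hall _ ((mem_normalizer_iff.1 hg y).1 hy)
  exact (MulAut.conj g).injective (by simpa [MulAut.conj_apply] using h1.eq)

/-- `R` is good for the conjugates of `t` under its normaliser -/
theorem conj (h : GoodAt r t c R) {g : G} (hg : g ∈ normalizer (R : Set G)) :
    GoodAt r (g * t * g⁻¹) (g • c) R := by
  obtain ⟨y, hy, hy1, hinv⟩ := h.bad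
  obtain ⟨u, hu, huo, hut, huc⟩ := h.pair
  refine ⟨by rw [orderOf_conj', h.invol], by rw [mul_smul, mul_smul, inv_smul_smul, h.centre],
    h.isPGroup, mul_mem (mul_mem hg h.normal) (inv_mem hg), fun x hx => ?_,
    ⟨g * y * g⁻¹, (mem_normalizer_iff.1 hg y).1 hy, fun e => hy1 (conj_eq_one_iff.1 e), ?_⟩, ?_,
    ⟨g * u * g⁻¹, mul_mem (mul_mem hg hu) (inv_mem hg), by rw [orderOf_conj', huo],
      fun e => hut (mul_left_cancel (mul_right_cancel e)), huc.map (MulAut.conj g).toMonoidHom⟩,
    fun Q hQ hRQ hQF => h.maximal Q hQ hRQ (orbitFix_conj hg (c := c) ▸ hQF)⟩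
  · exact mem_stabilizer_iff.2 (mem_orbitFix.1 (h.le_orbitFix hx) g hg)
  · rw [show g * t * g⁻¹ * (g * y * g⁻¹) * (g * t * g⁻¹)⁻¹ = g * (t * y * t⁻¹) * g⁻¹ by group, hinv]
    group
  · intro hle
    refine h.moves fun n hn => ?_
    have h1 : (g * n * g⁻¹) • g • c = g • c := hle (mul_mem (mul_mem hg hn) (inv_mem hg))
    rw [smul_smul, inv_mul_cancel_right, mul_smul, smul_left_cancel_iff] at h1
    exact h1

/-- every involution of the normaliser has a companion -/
theorem exists_pair (h : GoodAt r t c R) (hH : Cfsg.IsStronglyEmbedded H) {i : G}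
    (hi : orderOf i = 2) (hiN : i ∈ normalizer (R : Set G)) :
    ∃ j ∈ normalizer (R : Set G), orderOf j = 2 ∧ j ≠ i ∧ Commute j i := by
  obtain ⟨g, hg, rfl⟩ := exists_conj_of_moves hH h.invol h.normal h.centre h.moves hi hiN
  exact (h.conj hg).pair

/-- an odd group centralising `R` fixes all centres of the normaliser -/
theorem centralizer_le (h : GoodAt r t c R) (hH : Cfsg.IsStronglyEmbedded H) :
    centralizer (R : Set G) ≤ orbitFix (normalizer (R : Set G)) c := by
  set N := normalizer (R : Set G) with hN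
  set L := centralizer (R : Set G) with hL
  have hLn : N ≤ normalizer (L : Set G) := by
    intro g hg
    refine mem_normalizer_of_maps_to fun x hx => mem_centralizer_iff.2 fun y hy => ?_
    have h1 := mem_centralizer_iff.1 hx _ ((mem_normalizer_iff''.1 hg y).1 hy)
    have h2 := congrArg (fun z => g * z * g⁻¹) h1
    simpa [mul_assoc] using h2
  have hLodd : Odd (Nat.card L) := by
    rw [← Nat.not_even_iff_odd]
    intro he
    obtain ⟨i, hiL, hi⟩ := Cfsg.Lib.StrongEmb.exists_involution_of_even he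
    exact h.not_centralize hH hi (centralizer_le_normalizer _ hiL)
      fun y hy => (mem_centralizer_iff.1 hiL y hy).symm
  obtain ⟨u, hu, huo, hut, huc⟩ := h.pair
  exact le_orbitFix_of_normal hLn (le_stabilizer_of_four hH h.invol huo hut.symm huc.symm h.centre
    hLodd (hLn h.normal) (hLn hu))

/-- `O_{r'}(G_{a, t a})` lies in `O_{r'}(G_{c a})` -/
theorem core_le [Fact r.Prime] (h : GoodAt r t c R) (hH : Cfsg.IsStronglyEmbedded H) {a : G ⧸ H}
    {n : G} (hn : n ∈ normalizer (R : Set G)) (hna : n • c = a) (hac : a ≠ c) :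
    pairCore r a (t • a) ≤ pairCore r c a := by
  set N := normalizer (R : Set G) with hN
  set F := orbitFix N c with hF
  set D := stabilizer G a ⊓ stabilizer G (t • a) with hD
  set D' := stabilizer G c ⊓ stabilizer G a with hD'
  set X := pairCore r a (t • a) with hX
  have hta : (t * n) • c = t • a := by rw [mul_smul, hna]
  have hFD : F ≤ D := le_inf (orbitFix_le_point hn hna) (orbitFix_le_point (mul_mem h.normal hn) hta)
  have hFD' : F ≤ D' := le_inf orbitFix_le_stabilizer (orbitFix_le_point hn hna)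
  have hRD : R ≤ D := h.le_orbitFix.trans hFD
  have hDodd : Odd (Nat.card D) := odd_stabilizer_inf hH (pair_ne hH h.invol h.centre hac)
  have hXodd : Odd (Nat.card X) := hDodd.of_dvd_nat (card_dvd_of_le (pairCore_le a (t • a)))
  have hRX : R ≤ normalizer (X : Set G) := hRD.trans (le_normalizer.trans (normalizer_le_pairCore a (t • a)))
  have hcop : (Nat.card R).Coprime (Nat.card X) := by
    obtain ⟨k, hk⟩ := IsPGroup.iff_card.1 h.isPGroup
    rw [hk]
    exact (coprime_pairCore a (t • a)).symm.pow_left k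
  have hXc : X ≤ stabilizer G c := by
    refine le_stabilizer_of_invClosure hH hXodd (h.odd_group hH) h.invol h.centre h.le_centre
      (normalizer_le_pairCore a (t • a) (pair_normalizer h.invol a)) hRX h.normal hcop ?_
    intro x hx
    set E := invClosure R t with hE
    have hEn : t ∈ normalizer (E : Set G) := mem_normalizer_invClosure h.normal (Commute.refl t)
    by_cases hKc : normalizer (E : Set G) ≤ stabilizer G c
    · exact hKc (centralizer_le_normalizer _ (mem_inf.1 hx).2)
    obtain ⟨u, hu, huo, hut, huc⟩ := h.pair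
    obtain ⟨y, hy, hy1, hinv⟩ := h.bad
    exact (no_pair_normalizer hH ((h.odd_group hH).of_dvd_nat (card_dvd_of_le (invClosure_le R t)))
      (fun e => hy1 (by
        have h1 : y ∈ E := subset_closure ⟨hy, hinv⟩
        rwa [hE, e, mem_bot] at h1))
      h.invol h.centre (FullConfig.gen t R) hEn hKc hEn (mem_normalizer_invClosure hu huc)
      h.invol huo hut.symm huc.symm).elim
  have hXD' : X ≤ D' := le_inf hXc ((pairCore_le a (t • a)).trans inf_le_left)
  have hRD' : R ≤ D' := h.le_orbitFix.trans hFD'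
  have hD'odd : Odd (Nat.card D') := odd_stabilizer_inf hH hac.symm
  haveI := Cfsg.Agent.PF.isSolvable_of_odd D' hD'odd
  have key : X.subgroupOf D' ≤ Cfsg.pPrimeCore r D' := by
    refine Cfsg.Lib.OddLocal.InvariantCore.le_pPrimeCore
      Cfsg.Lib.OddLocal.InvariantCore.quotientConstrained_of_solvable
      (fun e => absurd e (h.prime_ne_two hH)) (A := R.subgroupOf D')
      (h.isPGroup.of_equiv (subgroupOfEquivOfLe hRD').symm) ?_ ?_ ?_
    · intro x hx hxp
      have hxC : (x : G) ∈ centralizer (R : Set G) := mem_centralizer_iff.2 fun y hy =>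
        congrArg Subtype.val (mem_centralizer_iff.1 hx ⟨y, hRD' hy⟩ (mem_subgroupOf.2 hy))
      have hxp' : IsPGroup r (zpowers (x : G)) := by
        have h1 := hxp.map D'.subtype
        rwa [MonoidHom.map_zpowers] at h1
      have hQ : R ⊔ zpowers (x : G) = R := h.maximal _
        (h.isPGroup.to_sup_of_normal_left' hxp' (zpowers_le.2 (centralizer_le_normalizer _ hxC)))
        le_sup_left (sup_le h.le_orbitFix (zpowers_le.2 (h.centralizer_le hH hxC)))
      rw [mem_subgroupOf, ← hQ]
      exact (le_sup_right : zpowers (x : G) ≤ _) (mem_zpowers _)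
    · rw [Nat.card_congr (subgroupOfEquivOfLe hXD').toEquiv]
      exact coprime_pairCore a (t • a)
    · intro x hx
      have h1 := mem_normalizer_iff.1 (hRX (mem_subgroupOf.1 hx))
      refine mem_normalizer_iff.2 fun z => ?_
      rw [mem_subgroupOf, mem_subgroupOf]
      exact h1 z
  intro x hx
  exact ⟨⟨x, hXD' hx⟩, key (mem_subgroupOf.2 hx), rfl⟩

end GoodAt

/-- a maximal `r`-subgroup of `F`, as a Sylow subgroup -/
def sylowOfMaximal {F R : Subgroup G} (hRF : R ≤ F) (hR : IsPGroup r R)
    (hmax : ∀ Q : Subgroup G, IsPGroup r Q → R ≤ Q → Q ≤ F → Q = R) : Sylow r F where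
  toSubgroup := R.subgroupOf F
  isPGroup' := hR.of_equiv (subgroupOfEquivOfLe hRF).symm
  is_maximal' := fun {Q} hQ hle => by
    have h2 := hmax (Q.map F.subtype) (hQ.map _)
      (fun x hx => ⟨⟨x, hRF hx⟩, hle (mem_subgroupOf.2 hx), rfl⟩) (map_subtype_le _)
    apply Subgroup.map_injective F.subtype_injective
    rw [h2, map_subgroupOf_eq_of_le hRF]

/-- PROMOTE: a good group above an `r`-group fixing the centres of a subgroup with two commuting
involutions. -/
theorem exists_goodAt [Fact r.Prime] (hH : Cfsg.IsStronglyEmbedded H) {N V : Subgroup G} {t : G}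
    {c a : G ⧸ H} {n : G} (ht : orderOf t = 2) (htc : t • c = c) (htN : t ∈ N)
    (hpair : ∃ u ∈ N, orderOf u = 2 ∧ u ≠ t ∧ Commute u t) (hn : n ∈ N) (hna : n • c = a)
    (hac : a ≠ c) (hVp : IsPGroup r V) (hVN : V ≤ N)
    (hVD : V ≤ stabilizer G a ⊓ stabilizer G (t • a)) (htV : t ∈ normalizer (V : Set G))
    (hbad : HasInverted (V ⊓ orbitFix N c) t) :
    ∃ R : Subgroup G, GoodAt r t c R ∧ V ≤ normalizer (R : Set G) ∧
      ∃ m ∈ normalizer (R : Set G), m • c = a := by
  set F := orbitFix N c with hF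
  set D := stabilizer G a ⊓ stabilizer G (t • a) with hD
  have htF : t ∈ normalizer (F : Set G) := le_normalizer_orbitFix N c htN
  have hVF : V ≤ normalizer (F : Set G) := hVN.trans (le_normalizer_orbitFix N c)
  have hta : (t * n) • c = t • a := by rw [mul_smul, hna]
  have hFD : F ≤ D := le_inf (orbitFix_le_point hn hna) (orbitFix_le_point (mul_mem htN hn) hta)
  have hDodd : Odd (Nat.card D) := odd_stabilizer_inf hH (pair_ne hH ht htc hac)
  set J := F ⊔ V with hJ
  have hJodd : Odd (Nat.card J) := hDodd.of_dvd_nat (card_dvd_of_le (sup_le hFD hVD))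
  have hAJ : zpowers t ≤ normalizer (J : Set G) :=
    Cfsg.Lib.Coprime.le_normalizer_sup (zpowers_le.2 htF) (zpowers_le.2 htV)
  have hcop : (Nat.card (zpowers t)).Coprime (Nat.card J) := by
    rw [Nat.card_zpowers, ht]
    exact Nat.coprime_two_left.2 hJodd
  obtain ⟨S, hVS, hSt⟩ := Cfsg.Lib.Coprime.exists_invariant_sylow_ge hAJ hcop (Or.inl inferInstance) r
    (le_sup_right : V ≤ J) hVp (zpowers_le.2 htV)
  set S₀ := (S : Subgroup J).map J.subtype with hS₀
  set R := S₀ ⊓ F with hR
  have hRp : IsPGroup r R := (S.2.map _).to_le inf_le_left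
  have htR : t ∈ normalizer (R : Set G) := conj_mem_inf (hSt (mem_zpowers t)) htF
  have hJF : J ≤ normalizer (F : Set G) := sup_le le_normalizer hVF
  have hmaxF : ∀ Q : Subgroup G, IsPGroup r Q → R ≤ Q → Q ≤ F → Q = R := by
    intro Q hQ hRQ hQF
    refine (Subgroup.eq_of_le_of_card_ge hRQ ?_).symm
    have hQJ : Q ≤ J := hQF.trans le_sup_left
    obtain ⟨S', hS'⟩ := (hQ.of_equiv (subgroupOfEquivOfLe hQJ).symm).exists_le_sylow
    obtain ⟨x, hx⟩ := MulAction.exists_smul_eq J S S'
    have h1 : Q ≤ Cfsg.Lib.Coprime.conjMap (x : G) S₀ ⊓ F := by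
      refine le_inf ?_ hQF
      rw [hS₀, ← Cfsg.Lib.Coprime.map_subtype_smul, hx]
      exact (map_subgroupOf_eq_of_le hQJ).symm.le.trans (map_mono hS')
    rw [← Cfsg.Lib.Coprime.conjMap_eq_self (hJF x.2), ← Cfsg.Lib.Coprime.conjMap_inf] at h1
    exact (card_le_of_le h1).trans_eq (Cfsg.Lib.Coprime.card_conjMap _ _)
  have hVR : V ≤ normalizer (R : Set G) := fun v hv =>
    conj_mem_inf (le_normalizer (G := G) (hVS hv)) (hVF hv)
  -- Frattini
  have hfrat : ∀ g ∈ N, ∃ f ∈ F, f * g ∈ normalizer (R : Set G) := by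
    intro g hg
    have hgF := le_normalizer_orbitFix N c hg
    let PR := sylowOfMaximal (inf_le_right : R ≤ F) hRp hmaxF
    have hR'F : R.map (MulAut.conj g).toMonoidHom ≤ F := by
      rintro _ ⟨x, hx, rfl⟩
      exact (mem_normalizer_iff.1 hgF x).1 (mem_inf.1 hx).2
    let PR' : Sylow r F := sylowOfMaximal hR'F (hRp.map _) (fun Q hQ hle hQF => by
      refine (Subgroup.eq_of_le_of_card_ge hle ?_).symm
      rw [card_map_of_injective (MulAut.conj g).injective]
      obtain ⟨Q', hQ'⟩ := (hQ.of_equiv (subgroupOfEquivOfLe hQF).symm).exists_le_sylow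
      have h1 := card_le_of_le hQ'
      rw [Nat.card_congr (subgroupOfEquivOfLe hQF).toEquiv, Sylow.card_eq_multiplicity Q',
        ← Sylow.card_eq_multiplicity PR] at h1
      exact h1.trans_eq (Nat.card_congr (subgroupOfEquivOfLe (inf_le_right : R ≤ F)).toEquiv))
    obtain ⟨f, hf⟩ := MulAction.exists_smul_eq F PR' PR
    have h2 := congrArg (fun P : Sylow r F => (P : Subgroup F).map F.subtype) hf
    simp only [Cfsg.Lib.Coprime.map_subtype_smul] at h2
    rw [show (PR' : Subgroup F).map F.subtype = R.map (MulAut.conj g).toMonoidHom from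
        map_subgroupOf_eq_of_le hR'F,
      show (PR : Subgroup F).map F.subtype = R from map_subgroupOf_eq_of_le inf_le_right] at h2
    refine ⟨f, f.2, ?_⟩
    rw [← Cfsg.Lib.Coprime.conjMap_eq_self_iff, ← Cfsg.Lib.Coprime.conjMap_mul]
    exact h2
  have hsubF : orbitFix (normalizer (R : Set G)) c ≤ F := by
    intro x hx
    refine mem_orbitFix.2 fun g hg => ?_
    obtain ⟨f, hf, hfg⟩ := hfrat g hg
    have h1 := mem_orbitFix.1 hx _ hfg
    rwa [mul_smul, mem_orbitFix.1 hf g hg] at h1
  obtain ⟨f, hf, hfn⟩ := hfrat n hn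
  have hma : (f * n) • c = a := by rw [mul_smul, mem_orbitFix.1 hf n hn, hna]
  refine ⟨R, ⟨ht, htc, hRp, htR, inf_le_right.trans orbitFix_le_stabilizer, ?_, ?_, ?_,
    fun Q hQ hRQ hQF => hmaxF Q hQ hRQ (hQF.trans hsubF)⟩, hVR, f * n, hfn, hma⟩
  · exact hbad.imp fun y hy => ⟨le_inf (inf_le_left.trans hVS) inf_le_right hy.1, hy.2⟩
  · exact fun hle => hac (by rw [← hma]; exact hle hfn)
  -- the commuting involution
  obtain ⟨u, huN, huo, hut, huc⟩ := hpair
  have huF := le_normalizer_orbitFix N c huN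
  have huu := sq_of_order_two huo
  set A := zpowers t
  have hAF : A ≤ normalizer (F : Set G) := zpowers_le.2 htF
  have hFodd : Odd (Nat.card F) := hDodd.of_dvd_nat (card_dvd_of_le hFD)
  have hcopF : (Nat.card A).Coprime (Nat.card F) := by
    rw [Nat.card_zpowers, ht]
    exact Nat.coprime_two_left.2 hFodd
  let PR := sylowOfMaximal (inf_le_right : R ≤ F) hRp hmaxF
  have hPR : (PR : Subgroup F).map F.subtype = R := map_subgroupOf_eq_of_le inf_le_right
  have hR'F : R.map (MulAut.conj u).toMonoidHom ≤ F := by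
    rintro _ ⟨x, hx, rfl⟩
    exact (mem_normalizer_iff.1 huF x).1 (mem_inf.1 hx).2
  let PR' : Sylow r F := Sylow.ofCard ((R.map (MulAut.conj u).toMonoidHom).subgroupOf F) (by
    rw [Nat.card_congr (subgroupOfEquivOfLe hR'F).toEquiv, card_map_of_injective (MulAut.conj u).injective,
      ← Sylow.card_eq_multiplicity PR]
    exact (Nat.card_congr (subgroupOfEquivOfLe (inf_le_right : R ≤ F)).toEquiv).symm)
  have hPR' : (PR' : Subgroup F).map F.subtype = Cfsg.Lib.Coprime.conjMap u R := map_subgroupOf_eq_of_le hR'F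
  obtain ⟨d, hd, hde⟩ := Cfsg.Lib.Coprime.invariant_sylow_conj hAF hcopF (Or.inl inferInstance) r PR' PR
    (zpowers_le.2 (by
      rw [hPR', ← Cfsg.Lib.Coprime.conjMap_eq_self_iff, Cfsg.Lib.Coprime.conjMap_mul, ← huc.eq,
        ← Cfsg.Lib.Coprime.conjMap_mul, Cfsg.Lib.Coprime.conjMap_eq_self htR]))
    (zpowers_le.2 (hPR ▸ htR))
  have hdu : (d : G) * u ∈ normalizer (R : Set G) := by
    have h2 := congrArg (fun P : Sylow r F => (P : Subgroup F).map F.subtype) hde
    simp only [Cfsg.Lib.Coprime.map_subtype_smul] at h2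
    rw [hPR', hPR, Cfsg.Lib.Coprime.conjMap_mul] at h2
    exact Cfsg.Lib.Coprime.conjMap_eq_self_iff.1 h2
  have hdt : Commute (d : G) t := (mem_centralizer_iff.1 hd t (mem_zpowers t)).symm
  have hw2 : (d : G) * u * (d * u) ∈ F := by
    rw [show (d : G) * u * (d * u) = d * (u * d * u) by group]
    refine mul_mem d.2 ?_
    have h1 := (mem_normalizer_iff.1 huF d).1 d.2
    rwa [inv_of_order_two huo] at h1
  have huF' : u ∉ F := fun h => by
    have := hFodd.of_dvd_nat (Subgroup.orderOf_dvd_natCard F h)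
    rw [huo] at this
    exact absurd this (by decide)
  obtain ⟨k, hk, hkF⟩ := exists_odd_pow_involution hFodd hw2
    (fun h => huF' ((Subgroup.mul_mem_cancel_left F d.2).1 h))
  refine ⟨_, pow_mem hdu k, hk, ?_, (hdt.mul_left huc).pow_left k⟩
  intro he
  rw [he, mul_inv_rev, ← mul_assoc, Subgroup.mul_mem_cancel_right F (inv_mem d.2),
    inv_of_order_two huo] at hkF
  have h2 : t * u * (t * u) = 1 := by
    rw [show t * u * (t * u) = t * (u * t) * u by group, huc.eq, ← mul_assoc, sq_of_order_two ht,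
      one_mul, huu]
  refine hut ?_
  have h3 := mem_of_sq_mem hFodd hkF (N := (⊥ : Subgroup G)) (mem_bot.2 h2)
  rw [mem_bot] at h3
  rw [eq_inv_of_mul_eq_one_right h3, inv_of_order_two ht]

end Cfsg.Lib.BenderSE
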