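/-
PART C of the Bender argument: a bad element gives a LOCAL. The only fact needed about proper
subgroups is that two involutions with a common centre have a product whose square fixes all centres.
-/
import Cfsg.Agent.BenderSE.TorusGood
import Cfsg.Agent.Coprime.AbelianQSq.QdTwo
import Cfsg.Agent.Quadratic.StableQd
import Cfsg.Agent.Components.ZJ.Stable
import Cfsg.Agent.Components.Signalizer.Basic

set_option autoImplicit false
set_option linter.unusedSectionVars false
set_option linter.style.haveILetI false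

namespace Cfsg.Lib.BenderSE

open Subgroup MulAction Cfsg.Lib.InvolCalc
open scoped commutatorElement

universe u

variable {G : Type u} [Group G] [Finite G] {H : Subgroup G} {r : ℕ}

/-- In a proper subgroup `N` moving a centre and with two commuting involutions, involutions with a
common centre `c` commute modulo the elements fixing the orbit of `c`. -/
def CentreSquares (H : Subgroup G) : Prop :=
  ∀ N : Subgroup G, N ≠ ⊤ →
    (∃ u ∈ N, ∃ v ∈ N, orderOf u = 2 ∧ orderOf v = 2 ∧ u ≠ v ∧ Commute u v) →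
    ∀ (c : G ⧸ H) (i j : G), i ∈ N → j ∈ N → orderOf i = 2 → orderOf j = 2 → i • c = c → j • c = c →
      ¬ N ≤ stabilizer G c → i * j * (i * j) ∈ orbitFix N c

/-- Glauberman's factorisation for a solvable group with abelian Sylow `2`-subgroups -/
theorem zj_factor {p : ℕ} [Fact p.Prime] (hp : p ≠ 2) [Group.IsSolvable G]
    (hab : ∀ S : Sylow 2 G, ∀ x ∈ S, ∀ y ∈ S, x * y = y * x) (P : Sylow p G) :
    Cfsg.pPrimeCore p G ⊔ normalizer (Cfsg.centerThompsonAOf (P : Subgroup G) : Set G) = ⊤ := by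
  set N := Cfsg.pPrimeCore p G with hNdef
  have hN : (Nat.card N).Coprime p := Cfsg.Lib.Components.coprime_card_pPrimeCore p
  set π := QuotientGroup.mk' N
  have hinj := Cfsg.Lib.ZJ.injOn_mk hN P.2
  have hab' : ∀ S : Sylow 2 (G ⧸ N), ∀ x ∈ S, ∀ y ∈ S, x * y = y * x := by
    intro S x hx y hy
    haveI : Fact (Nat.Prime 2) := ⟨Nat.prime_two⟩
    obtain ⟨T, rfl⟩ := Sylow.mapSurjective_surjective (QuotientGroup.mk'_surjective N) 2 S
    obtain ⟨a, ha, rfl⟩ := hx
    obtain ⟨b, hb, rfl⟩ := hy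
    rw [← map_mul, hab T a ha b hb, map_mul]
  have hfree := Cfsg.Lib.AbQSq.qd_free_of_abelian_two (r := p) hp hab'
  have hst : Cfsg.Lib.ZJ.Stable p (G ⧸ N) := Cfsg.Lib.ZJ.stable_of_isPStableOn fun B _ hB =>
    Cfsg.Lib.QuadPair.stable_of_qd_free hp (Nat.card B) (G ⧸ N)
      (fun ⟨K, R, hR, h⟩ => hfree ⟨K, R, hR, h⟩) B hB rfl
  have hn := Cfsg.Lib.ZJ.centerThompsonA_normal (S := P.mapSurjective (QuotientGroup.mk'_surjective N))
    hp hst Cfsg.Lib.OddP.charP_quotient_pPrimeCore (Cfsg.Lib.ZJ.stronglyClosed_self _)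
  change (Cfsg.centerThompsonAOf ((P : Subgroup G).map π)).Normal at hn
  rw [← Cfsg.Lib.ZJ.centerThompsonAOf_map_injOn hinj] at hn
  set Z := Cfsg.centerThompsonAOf (P : Subgroup G)
  haveI := hn
  set M := (Z.map π).comap π
  have hM : M = N ⊔ Z := by
    show (Z.map π).comap π = _
    rw [comap_map_eq, QuotientGroup.ker_mk', sup_comm]
  have hZP : Z ≤ (P : Subgroup G) := Cfsg.Lib.InvSylow.centerThompsonAOf_le _
  have hPM : (P : Subgroup G) ⊓ M = Z := by
    refine le_antisymm (fun x hx => ?_) (le_inf hZP (hM ▸ le_sup_right))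
    obtain ⟨z, hz, hzx⟩ := hx.2
    rw [← hinj (hZP hz) hx.1 hzx]
    exact hz
  have hfr := Cfsg.Lib.ZJ.sup_normalizer_inf_eq_top M P
  rw [hPM, hM, sup_assoc, sup_eq_right.mpr le_normalizer] at hfr
  exact hfr

theorem proper_normalizer (hcore : H.normalCore = ⊥) {a : G ⧸ H} {Y : Subgroup G}
    (hY : Y ≠ ⊥) (hYa : Y ≤ stabilizer G a) : normalizer (Y : Set G) ≠ ⊤ := by
  intro htop
  exact hY (eq_bot_of_normal_le_stabilizer hcore (normalizer_eq_top_iff.1 htop) hYa)

theorem isLocal_normalizer (hH : Cfsg.IsStronglyEmbedded H) (hcore : H.normalCore = ⊥) {t v : G}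
    {c a : G ⧸ H} (ht : orderOf t = 2) (htc : t • c = c) (hac : a ≠ c) {Y : Subgroup G}
    (hY : Y ≠ ⊥) (hYa : Y ≤ stabilizer G a)
    (hDY : stabilizer G a ⊓ stabilizer G (t • a) ≤ normalizer (Y : Set G))
    (htY : t ∈ normalizer (Y : Set G)) (hv : orderOf v = 2) (hva : v • a = a)
    (hvY : v ∈ normalizer (Y : Set G)) : HasLocal H := by
  have hne := pair_ne hH ht htc hac
  refine ⟨_, a, t • a, proper_normalizer hcore hY hYa, hne, hDY, ⟨t, htY, ht, rfl⟩, fun i hi hia => ?_⟩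
  obtain ⟨d, hd, rfl⟩ := exists_conj_centre hH hne hv hva hi hia
  exact mul_mem (mul_mem (hDY hd) hvY) (inv_mem (hDY hd))

/-- if some pair of centres of a good normaliser has a non-trivial core, there is a LOCAL -/
theorem hasLocal_of_core [Fact r.Prime] (hH : Cfsg.IsStronglyEmbedded H) (hcore : H.normalCore = ⊥)
    (hex : ∃ (t : G) (c a : G ⧸ H) (R : Subgroup G) (n : G), GoodAt r t c R ∧
      n ∈ normalizer (R : Set G) ∧ n • c = a ∧ a ≠ c ∧ pairCore r a (t • a) ≠ ⊥) : HasLocal H := by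
  classical
  let S : ℕ → Prop := fun k => ∃ (t : G) (c a : G ⧸ H) (R : Subgroup G) (n : G), GoodAt r t c R ∧
      n ∈ normalizer (R : Set G) ∧ n • c = a ∧ a ≠ c ∧ Nat.card (pairCore r a (t • a)) = k
  obtain ⟨t, c, a, R, n, hR, hn, hna, hac, hne0⟩ := hex
  have hS : S (Nat.card (pairCore r a (t • a))) := ⟨t, c, a, R, n, hR, hn, hna, hac, rfl⟩
  have hle0 := Nat.le_findGreatest (P := S) (Subgroup.card_le_card_group (pairCore r a (t • a))) hS
  obtain ⟨t', c', a', R', n', hR', hn', hna', hac', hk⟩ :=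
    Nat.findGreatest_spec (n := Nat.card G) (Subgroup.card_le_card_group _) hS
  rw [← hk] at hle0
  have hX0 : pairCore r a' (t' • a') ≠ ⊥ := by
    intro e
    rw [e, Subgroup.card_bot] at hle0
    exact hne0 (Subgroup.eq_bot_of_card_le _ hle0)
  clear hne0 hle0 hR hn hna hac hS
  set N := normalizer (R' : Set G) with hN
  set v := n' * t' * n'⁻¹ with hv
  have hvo : orderOf v = 2 := by rw [hv, orderOf_conj', hR'.invol]
  have hvN : v ∈ N := mul_mem (mul_mem hn' hR'.normal) (inv_mem hn')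
  have hva : v • a' = a' := by rw [hv, ← hna', mul_smul, mul_smul, inv_smul_smul, hR'.centre]
  obtain ⟨w, hwN, hwo, hwc⟩ := exists_swapper_mem hH hR'.invol hR'.normal hR'.centre hvo hvN hva hac'.symm
  obtain ⟨e, hwe⟩ := exists_centre hH hwo
  obtain ⟨g, hg, hgw⟩ := exists_conj_of_moves hH hR'.invol hR'.normal hR'.centre hR'.moves hwo hwN
  have hge : g • c' = e := Cfsg.Lib.StrongEmb.eq_of_fixed hH hwo
    (by rw [← hgw, mul_smul, mul_smul, inv_smul_smul, hR'.centre]) hwe
  have hce : c' ≠ g • c' := by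
    intro he
    rw [← he] at hge
    rw [← hge] at hwe
    exact hac' (by rw [← hwc, hwe])
  have hle := hR'.core_le hH hn' hna' hac'
  have hmax : Nat.card (pairCore r c' a') ≤ Nat.card (pairCore r a' (t' • a')) := by
    rw [hk]
    refine Nat.le_findGreatest (Subgroup.card_le_card_group _)
      ⟨g * t' * g⁻¹, g • c', c', R', g⁻¹, hR'.conj hg, inv_mem hg, inv_smul_smul _ _, hce, ?_⟩
    rw [hgw, hwc]
  have heq := Subgroup.eq_of_le_of_card_ge hle hmax
  have hvX : w * t' * w⁻¹ ∈ normalizer ((pairCore r a' (t' • a') : Subgroup G) : Set G) := by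
    have hwX : w ∈ normalizer ((pairCore r a' (t' • a') : Subgroup G) : Set G) := by
      rw [heq]
      exact normalizer_le_pairCore c' a' (swapper_mem_normalizer hwo hwc)
    exact mul_mem (mul_mem hwX (normalizer_le_pairCore _ _ (pair_normalizer hR'.invol a'))) (inv_mem hwX)
  exact isLocal_normalizer hH hcore hR'.invol hR'.centre hac' hX0 ((pairCore_le _ _).trans inf_le_left)
    (le_normalizer.trans (normalizer_le_pairCore _ _))
    (normalizer_le_pairCore _ _ (pair_normalizer hR'.invol a'))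
    (by rw [orderOf_conj', hR'.invol])
    (by rw [mul_smul, mul_smul, inv_smul_eq_iff.2 hwc.symm, hR'.centre, hwc]) hvX

/-- the squares and commutators of the group generated by the involutions at `a` -/
theorem involution_group_spec {N F : Subgroup G} (hFN : N ≤ normalizer (F : Set G)) {S : Set G}
    (hS : ∀ i ∈ S, i ∈ N ∧ i * i = 1) (hij : ∀ i ∈ S, ∀ j ∈ S, i * j * (i * j) ∈ F) :
    ∀ x ∈ closure S ⊔ F ⊓ N, x * x ∈ F ∧ ∀ y ∈ closure S ⊔ F ⊓ N, ⁅x, y⁆ ∈ F := by
  set M := closure S ⊔ F ⊓ N with hM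
  have hMN : M ≤ N := sup_le ((closure_le _).2 fun i hi => (hS i hi).1) inf_le_right
  have hMc : M = closure (S ∪ ((F ⊓ N : Subgroup G) : Set G)) := by
    rw [Subgroup.closure_union, Subgroup.closure_eq]
  have hconj : ∀ g ∈ N, ∀ f ∈ F, g * f * g⁻¹ ∈ F := fun g hg f hf =>
    (mem_normalizer_iff.1 (hFN hg) f).1 hf
  have hgen : ∀ x ∈ S ∪ ((F ⊓ N : Subgroup G) : Set G), ∀ y ∈ S ∪ ((F ⊓ N : Subgroup G) : Set G),
      ⁅x, y⁆ ∈ F := by
    rintro x (hx | hx) y (hy | hy) <;> rw [commutatorElement_def]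
    · rw [inv_eq_of_mul_eq_one_right (hS x hx).2, inv_eq_of_mul_eq_one_right (hS y hy).2, mul_assoc (x * y)]
      exact hij x hx y hy
    · exact mul_mem (hconj x (hS x hx).1 y hy.1) (inv_mem hy.1)
    · rw [show x * y * x⁻¹ * y⁻¹ = x * (y * x⁻¹ * y⁻¹) by group]
      exact mul_mem hx.1 (hconj y (hS y hy).1 _ (inv_mem hx.1))
    · exact mul_mem (mul_mem (mul_mem hx.1 hy.1) (inv_mem hx.1)) (inv_mem hy.1)
  have hmem : ∀ {x}, x ∈ M → x ∈ closure (S ∪ ((F ⊓ N : Subgroup G) : Set G)) := fun hx => hMc ▸ hx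
  have h1 : ∀ x ∈ M, ∀ y ∈ S ∪ ((F ⊓ N : Subgroup G) : Set G), ⁅x, y⁆ ∈ F := by
    intro x hx
    have hx' := hmem hx
    clear hx
    induction hx' using closure_induction with
    | mem z hz => exact hgen z hz
    | one => intro y _; rw [commutatorElement_one_left]; exact one_mem _
    | mul p q hp hq ihp ihq =>
      intro y hy
      rw [show ⁅p * q, y⁆ = p * ⁅q, y⁆ * p⁻¹ * ⁅p, y⁆ by simp only [commutatorElement_def]; group]
      exact mul_mem (hconj p (hMN (hMc ▸ hp)) _ (ihq y hy)) (ihp y hy)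
    | inv p hp ihp =>
      intro y hy
      rw [show ⁅p⁻¹, y⁆ = p⁻¹ * ⁅p, y⁆⁻¹ * p⁻¹⁻¹ by simp only [commutatorElement_def]; group]
      exact hconj _ (inv_mem (hMN (hMc ▸ hp))) _ (inv_mem (ihp y hy))
  have h2 : ∀ x ∈ M, ∀ y ∈ M, ⁅x, y⁆ ∈ F := by
    intro x hx y hy
    have hy' := hmem hy
    clear hy
    induction hy' using closure_induction with
    | mem z hz => exact h1 x hx z hz
    | one => rw [commutatorElement_one_right]; exact one_mem _
    | mul p q hp hq ihp ihq =>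
      rw [show ⁅x, p * q⁆ = ⁅x, p⁆ * (p * ⁅x, q⁆ * p⁻¹) by simp only [commutatorElement_def]; group]
      exact mul_mem ihp (hconj p (hMN (hMc ▸ hp)) _ ihq)
    | inv p hp ihp =>
      rw [show ⁅x, p⁻¹⁆ = p⁻¹ * ⁅x, p⁆⁻¹ * p⁻¹⁻¹ by simp only [commutatorElement_def]; group]
      exact hconj _ (inv_mem (hMN (hMc ▸ hp))) _ (inv_mem ihp)
  intro x hx
  refine ⟨?_, h2 x hx⟩
  have hx' := hmem hx
  clear hx
  induction hx' using closure_induction with
  | mem z hz =>
    rcases hz with hz | hz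
    · rw [(hS z hz).2]; exact one_mem _
    · exact mul_mem hz.1 hz.1
  | one => rw [one_mul]; exact one_mem _
  | mul p q hp hq ihp ihq =>
    rw [show p * q * (p * q) = p * (⁅q, p⁆ * (p * (q * q) * p⁻¹)) * p⁻¹ * (p * p) by
      simp only [commutatorElement_def]; group]
    exact mul_mem (hconj p (hMN (hMc ▸ hp)) _ (mul_mem (h2 q (hMc ▸ hq) p (hMc ▸ hp))
      (hconj p (hMN (hMc ▸ hp)) _ ihq))) ihp
  | inv p hp ihp => rw [← mul_inv_rev]; exact inv_mem ihp

theorem mem_of_pow_mem {M : Subgroup G} {x : G} {n : ℕ} (h : x ^ n ∈ M)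
    (hc : (orderOf x).Coprime n) : x ∈ M := by
  obtain ⟨m, hm⟩ := exists_pow_eq_self_of_coprime hc.symm
  exact hm ▸ pow_mem h m

theorem factorization_of_pgroup {p : ℕ} [Fact p.Prime] {Q : Subgroup G} {k : ℕ}
    (hk : Nat.card Q = p ^ k) : (Nat.card Q).factorization p = k := by
  rw [hk, Nat.factorization_pow, Finsupp.smul_apply, (Fact.out : p.Prime).factorization_self,
    smul_eq_mul, mul_one]

/-- PART C, main step: a good group gives a LOCAL. -/
theorem hasLocal_of_good [Fact r.Prime] (hH : Cfsg.IsStronglyEmbedded H) (hcore : H.normalCore = ⊥)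
    (hfact : CentreSquares H) {t₀ : G} {c₀ : G ⧸ H} {R₀ : Subgroup G} (hR₀ : GoodAt r t₀ c₀ R₀) :
    HasLocal H := by
  classical
  by_cases hex : ∃ (t : G) (c a : G ⧸ H) (R : Subgroup G) (n : G), GoodAt r t c R ∧
      n ∈ normalizer (R : Set G) ∧ n • c = a ∧ a ≠ c ∧ pairCore r a (t • a) ≠ ⊥
  · exact hasLocal_of_core hH hcore hex
  let S : ℕ → Prop := fun k => ∃ (t : G) (c a : G ⧸ H) (R P : Subgroup G) (n : G), GoodAt r t c R ∧
    n ∈ normalizer (R : Set G) ∧ n • c = a ∧ a ≠ c ∧ IsPGroup r P ∧ P ≤ normalizer (R : Set G) ∧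
    P ≤ stabilizer G a ⊓ stabilizer G (t • a) ∧ t ∈ normalizer (P : Set G) ∧ Nat.card P = k
  obtain ⟨n₀, hn₀, hn₀c⟩ := hR₀.exists_moved
  have hS : S (Nat.card R₀) := ⟨t₀, c₀, _, R₀, R₀, n₀, hR₀, hn₀, rfl, hn₀c, hR₀.isPGroup, le_normalizer,
    le_inf (hR₀.le_orbitFix.trans (orbitFix_le_point hn₀ rfl))
      (hR₀.le_orbitFix.trans (orbitFix_le_point (mul_mem hR₀.normal hn₀) (mul_smul _ _ _))),
    hR₀.normal, rfl⟩
  obtain ⟨t, c, a, R, P, n, hR, hn, hna, hac, hPp, hPN, hPD, htP, hk⟩ :=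
    Nat.findGreatest_spec (n := Nat.card G) (Subgroup.card_le_card_group _) hS
  have hmax : ∀ (t' : G) (c' a' : G ⧸ H) (R' P' : Subgroup G) (n' : G), GoodAt r t' c' R' →
      n' ∈ normalizer (R' : Set G) → n' • c' = a' → a' ≠ c' → IsPGroup r P' →
      P' ≤ normalizer (R' : Set G) → P' ≤ stabilizer G a' ⊓ stabilizer G (t' • a') →
      t' ∈ normalizer (P' : Set G) → Nat.card P' ≤ Nat.card P :=
    fun t' c' a' R' P' n' h1 h2 h3 h4 h5 h6 h7 h8 => hk ▸ Nat.le_findGreatest
      (Subgroup.card_le_card_group _) ⟨t', c', a', R', P', n', h1, h2, h3, h4, h5, h6, h7, h8, rfl⟩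
  clear hS hR₀ hk S hn₀ hn₀c
  have ht := hR.invol
  have htc := hR.centre
  have hr := hR.prime_ne_two hH
  set N := normalizer (R : Set G) with hN
  set D := stabilizer G a ⊓ stabilizer G (t • a) with hD
  set F := orbitFix N c with hF
  have hta : (t * n) • c = t • a := by rw [mul_smul, hna]
  have hFD : F ≤ D := le_inf (orbitFix_le_point hn hna) (orbitFix_le_point (mul_mem hR.normal hn) hta)
  have hFodd := hR.odd_fix hH
  have hDodd : Odd (Nat.card D) := odd_stabilizer_inf hH (pair_ne hH ht htc hac)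
  have htD : t ∈ normalizer (D : Set G) := pair_normalizer ht a
  have hRP : R ≤ P := by
    have h1 : P ⊔ R = P := (Subgroup.eq_of_le_of_card_ge le_sup_left (hmax t c a R (P ⊔ R) n hR hn hna hac
      (hPp.to_sup_of_normal_right' hR.isPGroup hPN) (sup_le hPN le_normalizer)
      (sup_le hPD (hR.le_orbitFix.trans hFD))
      ((Cfsg.Lib.Coprime.le_normalizer_sup (zpowers_le.2 htP) (zpowers_le.2 hR.normal))
        (mem_zpowers t)))).symm
    exact h1 ▸ le_sup_right
  -- the group `M` of the involutions at `a`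
  set S : Set G := {i | i ∈ N ∧ orderOf i = 2 ∧ i • a = a} with hSdef
  set F₀ := F ⊓ N with hF₀
  set M := closure S ⊔ F₀ with hM
  have hNtop : N ≠ ⊤ := by
    obtain ⟨y, hy, hy1, -⟩ := hR.bad
    exact proper_normalizer hcore (fun e => hy1 (by rwa [e, mem_bot] at hy))
      (hR.le_orbitFix.trans (orbitFix_le_point hn hna))
  obtain ⟨u, huN, huo, hut, huc⟩ := hR.pair
  have hNpair : ∃ u ∈ N, ∃ v ∈ N, orderOf u = 2 ∧ orderOf v = 2 ∧ u ≠ v ∧ Commute u v :=
    ⟨u, huN, t, hR.normal, huo, ht, hut, huc⟩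
  have hNa : ¬ N ≤ stabilizer G a := fun hle => hac (by
    have := hle (inv_mem hn)
    rw [mem_stabilizer_iff, ← hna, inv_smul_smul] at this
    rw [← hna, ← this])
  have hSs : ∀ i ∈ S, i ∈ N ∧ i * i = 1 := fun i hi => ⟨hi.1, sq_of_order_two hi.2.1⟩
  have hSij : ∀ i ∈ S, ∀ j ∈ S, i * j * (i * j) ∈ F := fun i hi j hj => by
    have h := hfact N hNtop hNpair a i j hi.1 hj.1 hi.2.1 hj.2.1 hi.2.2 hj.2.2 hNa
    rwa [← hna, orbitFix_conj hn] at h
  have hspec := involution_group_spec (le_normalizer_orbitFix N c) hSs hSij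
  have hMN : M ≤ N := sup_le ((closure_le _).2 fun i hi => hi.1) inf_le_right
  have hMa : M ≤ stabilizer G a :=
    sup_le ((closure_le _).2 fun i hi => hi.2.2) (inf_le_left.trans (orbitFix_le_point hn hna))
  have hPM : P ≤ normalizer (M : Set G) := by
    refine Cfsg.Lib.Coprime.le_normalizer_sup (fun p hp => ?_)
      (Cfsg.Lib.Coprime.le_normalizer_inf (hPN.trans (le_normalizer_orbitFix N c)) (hPN.trans le_normalizer))
    refine mem_normalizer_closure fun i hi => subset_closure ⟨mul_mem (mul_mem (hPN hp) hi.1)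
      (inv_mem (hPN hp)), by rw [orderOf_conj', hi.2.1], ?_⟩
    have hpa : p • a = a := mem_stabilizer_iff.1 (mem_inf.1 (hPD hp)).1
    rw [mul_smul, mul_smul, inv_smul_eq_iff.2 hpa.symm, hi.2.2, hpa]
  set K := M ⊔ P with hK
  have hMK : M ≤ K := le_sup_left
  have hPK : P ≤ K := le_sup_right
  have hKN : K ≤ N := sup_le hMN hPN
  have hRF₀ : R ≤ F₀ := le_inf hR.le_orbitFix le_normalizer
  have hRM : R ≤ M := hRF₀.trans le_sup_right
  -- `r`-subgroups of `M`
  have hrM : ∀ Q : Subgroup G, IsPGroup r Q → Q ≤ M → Q ≤ F := by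
    intro Q hQ hQM x hx
    refine mem_of_sq_mem (L := zpowers x) ?_ (mem_zpowers x) (hspec x (hQM hx)).1
    rw [Nat.card_zpowers]
    obtain ⟨k, hk⟩ := IsPGroup.iff_card.1 hQ
    exact (((Fact.out : r.Prime).odd_of_ne_two hr).pow (n := k)).of_dvd_nat
      (hk ▸ Subgroup.orderOf_dvd_natCard Q hx)
  let PR := sylowOfMaximal hR.le_orbitFix hR.isPGroup hR.maximal
  obtain ⟨kR, hkR⟩ := IsPGroup.iff_card.1 hR.isPGroup
  have hQR : ∀ Q : Subgroup G, IsPGroup r Q → Q ≤ F → Nat.card Q ≤ Nat.card R := by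
    intro Q hQ hQF
    obtain ⟨Q', hQ'⟩ := (hQ.of_equiv (subgroupOfEquivOfLe hQF).symm).exists_le_sylow
    have h1 := card_le_of_le hQ'
    rw [Nat.card_congr (subgroupOfEquivOfLe hQF).toEquiv, Sylow.card_eq_multiplicity Q',
      ← Sylow.card_eq_multiplicity PR] at h1
    exact h1.trans_eq (Nat.card_congr (subgroupOfEquivOfLe hR.le_orbitFix).toEquiv)
  have hfM : (Nat.card M).factorization r = kR := by
    obtain ⟨T⟩ : Nonempty (Sylow r M) := inferInstance
    have h1 := hQR _ (T.2.map M.subtype) (hrM _ (T.2.map _) (map_subtype_le _))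
    rw [card_map_of_injective M.subtype_injective, Sylow.card_eq_multiplicity, hkR] at h1
    refine le_antisymm ((Nat.pow_le_pow_iff_right (Fact.out : r.Prime).one_lt).1 h1)
      (((Fact.out : r.Prime).pow_dvd_iff_le_factorization Nat.card_pos.ne').1 (hkR ▸ card_dvd_of_le hRM))
  have hMP : M ⊓ P = R :=
    (hR.maximal _ (hPp.to_le inf_le_right) (le_inf hRM hRP)
      (hrM _ (hPp.to_le inf_le_right) inf_le_left))
  obtain ⟨kP, hkP⟩ := IsPGroup.iff_card.1 hPp
  have hcardK : Nat.card K * Nat.card R = Nat.card M * Nat.card P := by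
    rw [← hMP]
    exact Cfsg.Lib.Coprime.card_sup_mul_card_inf hPM
  have hfK : (Nat.card K).factorization r = kP := by
    have h1 := congrArg (fun m => m.factorization r) hcardK
    simp only [Nat.factorization_mul Nat.card_pos.ne' Nat.card_pos.ne', Finsupp.add_apply,
      factorization_of_pgroup hkR, factorization_of_pgroup hkP, hfM] at h1
    omega
  let PK : Sylow r K := Sylow.ofCard (P.subgroupOf K)
    (by rw [Nat.card_congr (subgroupOfEquivOfLe hPK).toEquiv, hkP, hfK])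
  -- `2`-elements of `K` lie in `M`
  have hidx : ∀ x ∈ K, (orderOf x).Coprime r → x ∈ M := by
    intro x hx hxr
    haveI : (M.subgroupOf K).Normal :=
      (normal_subgroupOf_iff_le_normalizer hMK).2 (sup_le le_normalizer hPM)
    have h1 := (M.subgroupOf K).card_mul_index
    rw [Nat.card_congr (subgroupOfEquivOfLe hMK).toEquiv] at h1
    rw [← h1, mul_assoc] at hcardK
    have h2 : (M.subgroupOf K).index ∣ r ^ kP :=
      hkP ▸ Dvd.intro _ (Nat.eq_of_mul_eq_mul_left Nat.card_pos hcardK)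
    have h3 : x ^ (M.subgroupOf K).index ∈ M := by
      simpa [mem_subgroupOf] using Subgroup.pow_index_mem (M.subgroupOf K) (⟨x, hx⟩ : K)
    exact mem_of_pow_mem h3 ((hxr.pow_right kP).coprime_dvd_right h2)
  have h2elt : ∀ Q : Subgroup G, IsPGroup 2 Q → Q ≤ K → Q ≤ M := by
    intro Q hQ hQK x hx
    refine hidx x (hQK hx) ?_
    haveI : Fact (Nat.Prime 2) := ⟨Nat.prime_two⟩
    obtain ⟨k, hk⟩ := IsPGroup.iff_card.1 hQ
    exact (((Nat.coprime_primes Nat.prime_two (Fact.out : r.Prime)).2 (Ne.symm hr)).pow_left k).coprime_dvd_left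
      (hk ▸ Subgroup.orderOf_dvd_natCard Q hx)
  have h2triv : ∀ Q : Subgroup G, IsPGroup 2 Q → Q ≤ K →
      ∀ x ∈ Q, x * x = 1 ∧ ∀ y ∈ Q, x * y = y * x := by
    intro Q hQ hQK x hx
    have hsp := hspec x (h2elt Q hQ hQK hx)
    have hQF : ∀ z ∈ Q, z ∈ F → z = 1 := by
      intro z hz hzF
      haveI : Fact (Nat.Prime 2) := ⟨Nat.prime_two⟩
      obtain ⟨k, hk⟩ := IsPGroup.iff_card.1 hQ
      exact orderOf_eq_one_iff.1 (Nat.eq_one_of_dvd_coprimes
        ((Nat.coprime_two_left.2 hFodd).pow_left k) (hk ▸ Subgroup.orderOf_dvd_natCard Q hz)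
        (Subgroup.orderOf_dvd_natCard F hzF))
    refine ⟨hQF _ (mul_mem hx hx) hsp.1, fun y hy => ?_⟩
    refine commutatorElement_eq_one_iff_mul_comm.1 (hQF _ ?_ (hsp.2 y (h2elt Q hQ hQK hy)))
    rw [commutatorElement_def]
    exact mul_mem (mul_mem (mul_mem hx hy) (inv_mem hx)) (inv_mem hy)
  -- solvability
  haveI hMsol : Group.IsSolvable M := by
    haveI : (F.subgroupOf M).Normal := by
      refine ⟨fun x hx g => ?_⟩
      rw [mem_subgroupOf] at hx ⊢
      exact (mem_normalizer_iff.1 (le_normalizer_orbitFix N c (hMN g.2)) x).1 hx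
    haveI : Group.IsSolvable (F.subgroupOf M) :=
      Cfsg.Agent.PF.isSolvable_of_odd _ (hFodd.of_dvd_nat (by
        rw [← card_map_of_injective M.subtype_injective, subgroupOf_map_subtype]
        exact card_dvd_of_le inf_le_left))
    haveI : Group.IsSolvable (M ⧸ F.subgroupOf M) := Group.isSolvable_of_comm fun p q => by
      induction p using QuotientGroup.induction_on with
      | H x =>
      induction q using QuotientGroup.induction_on with
      | H y =>
      rw [← QuotientGroup.mk_mul, ← QuotientGroup.mk_mul, QuotientGroup.eq, mem_subgroupOf]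
      have h := (hspec (y : G)⁻¹ (inv_mem y.2)).2 (x : G)⁻¹ (inv_mem x.2)
      simpa [commutatorElement_def, mul_assoc] using h
    exact Group.isSolvable_of_ker_le_range (F.subgroupOf M).subtype (QuotientGroup.mk' (F.subgroupOf M))
      (by simp)
  haveI hKsol : Group.IsSolvable K :=
    Cfsg.Lib.Signalizer.isSolvable_sup hPM hMsol (haveI := hPp.isNilpotent; inferInstance)
  -- `O_{r'}(K)` has odd order
  set O := Cfsg.pPrimeCore r K with hO
  have hOodd : Odd (Nat.card O) := by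
    rw [← Nat.not_even_iff_odd]
    intro he
    obtain ⟨i, hiO, hi⟩ := Cfsg.Lib.StrongEmb.exists_involution_of_even he
    haveI : (R.subgroupOf K).Normal :=
      (normal_subgroupOf_iff_le_normalizer (hRP.trans hPK)).2 hKN
    have hRK : IsPGroup r (R.subgroupOf K) :=
      hR.isPGroup.of_equiv (subgroupOfEquivOfLe (hRP.trans hPK)).symm
    refine hR.not_centralize hH (i := (i : G)) (by rw [Subgroup.orderOf_coe, hi]) (hKN i.2) fun y hy => ?_
    have hdis : Disjoint O (R.subgroupOf K) := by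
      obtain ⟨k, hk⟩ := IsPGroup.iff_card.1 hRK
      refine disjoint_iff.2 (Cfsg.Lib.Coprime.inf_eq_bot_of_coprime ?_)
      rw [hk]
      exact (Cfsg.Lib.Components.coprime_card_pPrimeCore r).pow_right k
    have h := Subgroup.commute_of_normal_of_disjoint O (R.subgroupOf K) inferInstance inferInstance
      hdis i ⟨y, hPK (hRP hy)⟩ hiO (mem_subgroupOf.2 hy)
    exact congrArg Subtype.val h.eq
  have hab : ∀ T : Sylow 2 K, ∀ x ∈ T, ∀ y ∈ T, x * y = y * x := fun T x hx y hy =>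
    Subtype.ext ((h2triv _ (T.2.map K.subtype) (map_subtype_le _) _ (mem_map_of_mem _ hx)).2 _
      (mem_map_of_mem _ hy))
  have hfac := zj_factor hr hab PK
  set Z := Cfsg.centerThompsonAOf P with hZ
  set NK := normalizer (Cfsg.centerThompsonAOf (PK : Subgroup K) : Set K)
  have hNKZ : NK.map K.subtype ≤ normalizer (Z : Set G) := by
    have hmap : (Cfsg.centerThompsonAOf (PK : Subgroup K)).map K.subtype = Z := by
      rw [Cfsg.Lib.ZJ.centerThompsonAOf_map_injOn K.subtype_injective.injOn]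
      exact congrArg Cfsg.centerThompsonAOf (map_subgroupOf_eq_of_le hPK)
    rw [← hmap]
    exact le_normalizer_map _
  -- a four group in `M`
  have hvat : n * t * n⁻¹ ∈ S := ⟨mul_mem (mul_mem hn hR.normal) (inv_mem hn), by rw [orderOf_conj', ht],
    by rw [← hna, mul_smul, mul_smul, inv_smul_smul, htc]⟩
  obtain ⟨j, hjN, hjo, hjne, hjc⟩ := hR.exists_pair hH hvat.2.1 hvat.1
  have hjS : j ∈ S := ⟨hjN, hjo, fix_centre_of_commute hH hvat.2.1 hvat.2.2 hjc⟩
  have h4 : 4 ∣ Nat.card K := by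
    set i := n * t * n⁻¹
    have hji : zpowers j ≤ normalizer ((zpowers i : Subgroup G) : Set G) := by
      refine zpowers_le.2 (centralizer_le_normalizer _ (mem_centralizer_iff.2 ?_))
      rintro _ ⟨k, rfl⟩
      exact (hjc.zpow_right k).symm.eq
    have h1 := Cfsg.Lib.Coprime.card_sup_mul_card_inf hji
    have hbot : zpowers i ⊓ zpowers j = ⊥ := by
      refine (Subgroup.eq_bot_iff_forall _).2 fun z hz => ?_
      obtain ⟨⟨k, rfl⟩, ⟨l, hl⟩⟩ := mem_inf.1 hz
      beta_reduce at hl ⊢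
      have key : ∀ (w : G), w * w = 1 → ∀ m : ℤ, w ^ m = 1 ∨ w ^ m = w := fun w hw m => by
        rcases Int.even_or_odd m with ⟨q, rfl⟩ | ⟨q, rfl⟩
        · exact Or.inl (by rw [zpow_add, ← (Commute.refl w).mul_zpow, hw, one_zpow])
        · exact Or.inr (by rw [zpow_add, two_mul, zpow_add, ← (Commute.refl w).mul_zpow, hw, one_zpow,
            one_mul, zpow_one])
      rcases key i (sq_of_order_two hvat.2.1) k with h | h
      · exact h
      rcases key j (sq_of_order_two hjo) l with h' | h'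
      · rw [← hl, h']
      · exact absurd (h'.symm.trans (hl.trans h)) hjne
    rw [hbot, Subgroup.card_bot, mul_one, Nat.card_zpowers, Nat.card_zpowers, hvat.2.1, hjo] at h1
    rw [show (4 : ℕ) = 2 * 2 from rfl, ← h1]
    exact card_dvd_of_le (sup_le (zpowers_le.2 ((le_sup_left : closure S ≤ M).trans hMK (subset_closure hvat)))
      (zpowers_le.2 ((le_sup_left : closure S ≤ M).trans hMK (subset_closure hjS))))
  have h4N : 2 ^ 2 ∣ Nat.card NK := by
    have h1 := Cfsg.Lib.Components.card_sup_dvd_mul O NK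
    rw [hfac, Subgroup.card_top] at h1
    exact ((Nat.coprime_two_left.2 hOodd).pow_left 2).dvd_of_dvd_mul_left (h4.trans h1)
  haveI : Fact (Nat.Prime 2) := ⟨Nat.prime_two⟩
  obtain ⟨Q, hQ⟩ := Sylow.exists_subgroup_card_pow_prime (G := NK) 2 h4N
  set Q' := (Q.map NK.subtype).map K.subtype with hQ'
  have hQ'c : Nat.card Q' = 4 := by
    rw [hQ', card_map_of_injective K.subtype_injective, card_map_of_injective NK.subtype_injective, hQ]; rfl
  have hQ'p : IsPGroup 2 Q' := IsPGroup.of_card (n := 2) (by rw [hQ'c]; rfl)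
  have hQ'K : Q' ≤ K := map_subtype_le _
  have hQ'Z : Q' ≤ normalizer (Z : Set G) := (map_mono (map_subtype_le _)).trans hNKZ
  obtain ⟨v, hvQ, hv1⟩ : ∃ v ∈ Q', v ≠ 1 := by
    by_contra hcon
    push Not at hcon
    have : Q' = ⊥ := (Subgroup.eq_bot_iff_forall _).2 hcon
    rw [this, Subgroup.card_bot] at hQ'c
    omega
  obtain ⟨v₂, hv₂Q, hv₂1, hv₂v⟩ : ∃ w ∈ Q', w ≠ 1 ∧ w ≠ v := by
    by_contra hcon
    push Not at hcon
    have hle : Q' ≤ zpowers v := fun w hw => by
      by_cases hw1 : w = 1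
      · exact hw1 ▸ one_mem _
      · exact hcon w hw hw1 ▸ mem_zpowers v
    have := card_le_of_le hle
    rw [hQ'c, Nat.card_zpowers] at this
    have h2 : orderOf v ≤ 2 := Nat.le_of_dvd two_pos
      (orderOf_dvd_of_pow_eq_one (by rw [pow_two, (h2triv Q' hQ'p hQ'K v hvQ).1]))
    omega
  have hvo : orderOf v = 2 := order_two_of_mul_self (h2triv Q' hQ'p hQ'K v hvQ).1 hv1
  have hv₂o : orderOf v₂ = 2 := order_two_of_mul_self (h2triv Q' hQ'p hQ'K v₂ hv₂Q).1 hv₂1
  have hva : v • a = a := hMa (h2elt Q' hQ'p hQ'K hvQ)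
  -- the subgroup `N(Z)`
  set N' := normalizer (Z : Set G) with hN'
  have hvN' : v ∈ N' := hQ'Z hvQ
  have hv₂N' : v₂ ∈ N' := hQ'Z hv₂Q
  have hvv₂ : Commute v v₂ := (h2triv Q' hQ'p hQ'K v hvQ).2 v₂ hv₂Q
  have htN' : t ∈ N' := Cfsg.Lib.InvSylow.normalizer_le_normalizer_centerThompsonAOf P htP
  obtain ⟨y, hyR, hy1, hyinv⟩ := hR.bad
  have hP1 : P ≠ ⊥ := fun e => hy1 (by
    have := hRP hyR
    rwa [e, mem_bot] at this)
  have hZne : Z ≠ ⊥ := Cfsg.Lib.ZJ.centerThompsonAOf_ne_bot hPp hP1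
  have hZa : Z ≤ stabilizer G a :=
    (Cfsg.Lib.InvSylow.centerThompsonAOf_le P).trans (hPD.trans inf_le_left)
  have hN'top : N' ≠ ⊤ := proper_normalizer hcore hZne hZa
  have hN'c : ¬ N' ≤ stabilizer G c := fun hle =>
    hac (Cfsg.Lib.StrongEmb.eq_of_fixed hH hvo hva (hle hvN'))
  obtain ⟨g, hg, hgv⟩ := exists_conj_of_moves hH ht htN' htc hN'c hvo hvN'
  have hgc : g • c = a := Cfsg.Lib.StrongEmb.eq_of_fixed hH hvo
    (by rw [← hgv, mul_smul, mul_smul, inv_smul_smul, htc]) hva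
  have hpair' : ∃ u ∈ N', orderOf u = 2 ∧ u ≠ t ∧ Commute u t := by
    refine ⟨g⁻¹ * v₂ * g, mul_mem (mul_mem (inv_mem hg) hv₂N') hg, ?_, ?_, ?_⟩
    · rw [show g⁻¹ * v₂ * g = g⁻¹ * v₂ * g⁻¹⁻¹ by rw [inv_inv], orderOf_conj', hv₂o]
    · intro e
      refine hv₂v ?_
      rw [← hgv, ← e]
      group
    · have h1 := hvv₂.symm.map (MulAut.conj g⁻¹).toMonoidHom
      rw [← hgv] at h1
      simpa [MulAut.conj_apply, mul_assoc] using h1
  -- `y` fixes all centres of `N(Z)`
  have hPN' : P ≤ N' := le_normalizer.trans (Cfsg.Lib.InvSylow.normalizer_le_normalizer_centerThompsonAOf P)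
  have hyF : y ∈ orbitFix N' c := by
    have hyc : y • c = c := hR.le_centre hyR
    have hyN' : y ∈ N' := hPN' (hRP hyR)
    have h := hfact N' hN'top ⟨v, hvN', v₂, hv₂N', hvo, hv₂o, hv₂v.symm, hvv₂⟩ c t (y * t * y⁻¹) htN'
      (mul_mem (mul_mem hyN' htN') (inv_mem hyN')) ht (by rw [orderOf_conj', ht]) htc
      (by rw [mul_smul, mul_smul, inv_smul_eq_iff.2 hyc.symm, htc, hyc]) hN'c
    have hy2 : t * (y * t * y⁻¹) = (y * y)⁻¹ := by
      rw [show t * (y * t * y⁻¹) = t * y * t * y⁻¹ by group]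
      rw [inv_of_order_two ht] at hyinv
      rw [hyinv, mul_inv_rev]
    rw [hy2, ← mul_inv_rev, inv_mem_iff] at h
    exact mem_of_sq_mem (hR.odd_group hH) hyR (mem_of_sq_mem (hR.odd_group hH) (mul_mem hyR hyR) h)
  -- `P` is a Sylow subgroup of `D`
  have hAD : zpowers t ≤ normalizer (D : Set G) := zpowers_le.2 htD
  have hcopD : (Nat.card (zpowers t)).Coprime (Nat.card D) := by
    rw [Nat.card_zpowers, ht]
    exact Nat.coprime_two_left.2 hDodd
  obtain ⟨T, hPT, hTt⟩ := Cfsg.Lib.Coprime.exists_invariant_sylow_ge hAD hcopD (Or.inl inferInstance) r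
    hPD hPp (zpowers_le.2 htP)
  set T₀ := (T : Subgroup D).map D.subtype with hT₀
  have hPT' : P = T₀ := by
    by_contra hne
    have hTp : IsPGroup r T₀ := T.2.map _
    haveI := hTp.isNilpotent
    have hlt : P.subgroupOf T₀ < ⊤ := lt_top_iff_ne_top.2 fun h =>
      hne (le_antisymm hPT (subgroupOf_eq_top.1 h))
    obtain ⟨x, hxn, hxP⟩ := SetLike.exists_of_lt
      (Group.normalizerCondition_of_isNilpotent (G := T₀) _ hlt)
    rw [← subgroupOf_normalizer_eq hPT] at hxn
    set W := T₀ ⊓ normalizer (P : Set G) with hW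
    have hPW : P ≤ W := le_inf hPT le_normalizer
    have hWN' : W ≤ N' :=
      inf_le_right.trans (Cfsg.Lib.InvSylow.normalizer_le_normalizer_centerThompsonAOf P)
    have hWD : W ≤ D := inf_le_left.trans (map_subtype_le _)
    have htW : t ∈ normalizer (W : Set G) :=
      conj_mem_inf (hTt (mem_zpowers t)) (le_normalizer (G := G) htP)
    obtain ⟨R', hR', hWR', m, hm, hmc⟩ := exists_goodAt hH ht htc htN' hpair' hg hgc hac
      (hTp.to_le inf_le_left) hWN' hWD htW ⟨y, mem_inf.2 ⟨hPW (hRP hyR), hyF⟩, hy1, hyinv⟩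
    have hle := hmax t c a R' W m hR' hm hmc hac (hTp.to_le inf_le_left) hWR' hWD htW
    have heq := Subgroup.eq_of_le_of_card_ge hPW hle
    exact hxP (mem_subgroupOf.2 (heq ▸ mem_inf.2 ⟨x.2, hxn⟩ : (x : G) ∈ P))
  have hcardP : Nat.card P = r ^ (Nat.card D).factorization r := by
    rw [hPT', hT₀, card_map_of_injective D.subtype_injective, Sylow.card_eq_multiplicity]
  have hX1 : pairCore r a (t • a) = ⊥ := by
    by_contra hne
    exact hex ⟨t, c, a, R, n, hR, hn, hna, hac, hne⟩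
  exact isLocal_normalizer hH hcore ht htc hac hZne hZa
    (le_normalizer_zj_of_core hr hDodd hPD hcardP hX1) htN' hvo hva hvN'

/-- PART C with part B: a bad element gives a LOCAL. -/
theorem hasLocal_of_bad (hH : Cfsg.IsStronglyEmbedded H) (hcore : H.normalCore = ⊥) (hfact : CentreSquares H)
    {t y : G} {c a : G ⧸ H} (hb : Bad t y c a) : HasLocal H := by
  obtain ⟨ht, htc, hac, hyc, hya, hy1, hinv⟩ := hb
  obtain ⟨r, hr, hrd⟩ := Nat.exists_prime_and_dvd (mt orderOf_eq_one_iff.1 hy1)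
  haveI := Fact.mk hr
  obtain ⟨e, he⟩ := hrd
  have hd0 : 0 < e := Nat.pos_of_ne_zero fun h => by
    rw [h, mul_zero] at he
    exact (orderOf_pos y).ne' he
  set y' := y ^ e with hy'
  have hyr : orderOf y' = r := by
    rw [hy', orderOf_pow' _ hd0.ne', he, Nat.gcd_mul_left_left, Nat.mul_div_cancel _ hd0]
  have hy'1 : y' ≠ 1 := fun h => hr.ne_one (by rw [← hyr, h, orderOf_one])
  have hy'c : y' • c = c := (pow_mem (show y ∈ stabilizer G c from hyc) e : y' ∈ stabilizer G c)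
  have hy'a : y' • a = a := (pow_mem (show y ∈ stabilizer G a from hya) e : y' ∈ stabilizer G a)
  have hinv' : t * y' * t⁻¹ = y'⁻¹ := by rw [hy', ← conj_pow, hinv, inv_pow]
  have hp : IsPGroup r (zpowers y') := IsPGroup.of_card (n := 1) (by rw [Nat.card_zpowers, hyr, pow_one])
  obtain ⟨t', c', a', Q, hQ, -, hQ'⟩ :=
    exists_maximal_full_or_wide hH ht htc hac hy'c hy'a hy'1 hp hinv'
  rcases hQ' with ⟨a'', hfull⟩ | ⟨-, htQ, hQc, hQbad, hQmove, hQodd⟩
  · exact hasLocal_of_full hH hcore hfull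
  obtain ⟨ht', htc', -, hQp, -⟩ := hQ
  set N := normalizer (Q : Set G) with hN
  obtain ⟨n, hn, hnc⟩ := SetLike.not_le_iff_exists.1 hQmove
  rcases exists_pair_or_normal_odd hH ht' htQ htc' hQmove with
    ⟨u, huN, v, hvN, hu, hv, huv, hcomm⟩ | ⟨L, hLN, hNL, hLodd, hLc⟩
  swap
  · exact absurd (hQodd L hLN hNL hLodd) hLc
  obtain ⟨g, hg, hgu⟩ := exists_conj_of_moves hH ht' htQ htc' hQmove hu huN
  have hpair : ∃ u' ∈ N, orderOf u' = 2 ∧ u' ≠ t' ∧ Commute u' t' := by
    refine ⟨g⁻¹ * v * g, mul_mem (mul_mem (inv_mem hg) hvN) hg, ?_, ?_, ?_⟩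
    · rw [show g⁻¹ * v * g = g⁻¹ * v * g⁻¹⁻¹ by rw [inv_inv], orderOf_conj', hv]
    · intro e
      refine huv ?_
      rw [← hgu, ← e]
      group
    · have h1 := hcomm.symm.map (MulAut.conj g⁻¹).toMonoidHom
      rw [← hgu] at h1
      simpa [MulAut.conj_apply, mul_assoc] using h1
  have hQF : Q ≤ orbitFix N c' := le_orbitFix_of_normal le_rfl hQc
  obtain ⟨R, hR, -⟩ := exists_goodAt hH ht' htc' htQ hpair hn rfl hnc hQp le_normalizer
    (le_inf (hQF.trans (orbitFix_le_point hn rfl))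
      (hQF.trans (orbitFix_le_point (mul_mem htQ hn) (mul_smul _ _ _))))
    htQ (hQbad.imp fun z hz => ⟨mem_inf.2 ⟨hz.1, hQF hz.1⟩, hz.2⟩)
  exact hasLocal_of_good hH hcore hfact hR

end Cfsg.Lib.BenderSE
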