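/-
Descent: if in all smaller simple groups with a strongly embedded subgroup of 2-rank at least two
the involutions of that subgroup commute, then `CentreSquares` holds.
-/
import Cfsg.Agent.BenderSE.TorusLocal

set_option autoImplicit false
set_option linter.unusedSectionVars false
set_option linter.style.haveILetI false

namespace Cfsg.Lib.BenderSE

open Subgroup MulAction Cfsg.Lib.InvolCalc
open scoped commutatorElement

universe u

variable {G : Type u} [Group G] [Finite G] {H : Subgroup G}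

/-- in simple groups of order less than `n`, the involutions of a strongly embedded subgroup
commute, if the group has two commuting involutions -/
def CommBelow (n : ℕ) : Prop :=
  ∀ (S : Type u) [Group S] [Finite S], IsSimpleGroup S → Nat.card S < n →
    ∀ K : Subgroup S, Cfsg.IsStronglyEmbedded K → HasCommutingInvolutions S →
      ∀ i ∈ K, ∀ j ∈ K, orderOf i = 2 → orderOf j = 2 → i * j = j * i

/-- the descent -/
theorem centreSquares_of_commBelow (hH : Cfsg.IsStronglyEmbedded H)
    (hcomm : CommBelow.{u} (Nat.card G)) : CentreSquares H := by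
  intro N hN hpair c i j hiN hjN hi hj hic hjc hmove
  obtain ⟨u, hu, v, hv, huo, hvo, huv, hc⟩ := hpair
  obtain ⟨g, hg, hgu⟩ := exists_conj_of_moves hH hi hiN hic hmove huo hu
  set i' := g⁻¹ * v * g with hi'
  have hi'N : i' ∈ N := mul_mem (mul_mem (inv_mem hg) hv) hg
  have hi'o : orderOf i' = 2 := by
    rw [hi', show g⁻¹ * v * g = g⁻¹ * v * g⁻¹⁻¹ by rw [inv_inv], orderOf_conj', hvo]
  have hi'ne : i' ≠ i := fun e => huv (by rw [← hgu, ← e, hi']; group)
  have hi'c : Commute i' i := by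
    have h1 := hc.symm.map (MulAut.conj g⁻¹).toMonoidHom
    rw [← hgu] at h1
    simpa [hi', MulAut.conj_apply, mul_assoc] using h1
  set O := Cfsg.pPrimeCore 2 N with hO
  have hOodd : Odd (Nat.card O) := Cfsg.Lib.ZStarApps.odd_card_pPrimeCore
  set L := O.map N.subtype with hL
  haveI : O.Characteristic := Cfsg.Lib.Components.pPrimeCore_characteristic
  have hNL : N ≤ normalizer (L : Set G) :=
    le_normalizer.trans (Cfsg.Lib.HalfFixed.normalizer_le_map_of_characteristic N O)
  have hLodd : Odd (Nat.card L) := by rwa [hL, card_map_of_injective N.subtype_injective]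
  have hLc : L ≤ stabilizer G c :=
    le_stabilizer_of_four hH hi hi'o hi'ne.symm hi'c.symm hic hLodd (hNL hiN) (hNL hi'N)
  have hLF : L ≤ orbitFix N c := le_orbitFix_of_normal hNL hLc
  -- a minimal normal subgroup over `O`
  obtain ⟨n, hn, hnc⟩ := SetLike.not_le_iff_exists.1 hmove
  have hne_inv : ∀ a : N, orderOf a = 2 → a ∉ O := by
    intro a ha haO
    have := hOodd.of_dvd_nat (Subgroup.orderOf_dvd_natCard O haO)
    rw [ha] at this
    exact absurd this (by decide)
  have hiO : (⟨i, hiN⟩ : N) ∉ O := hne_inv _ ((Subgroup.orderOf_mk i hiN).trans hi)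
  obtain ⟨M, ⟨hMn, hOM⟩, hMmin⟩ := WellFounded.has_min (wellFounded_lt (α := Subgroup N))
    {M | M.Normal ∧ O < M} ⟨⊤, inferInstance, lt_top_iff_ne_top.2 fun e => hiO (e ▸ mem_top _)⟩
  haveI := hMn
  have hoddO : ∀ T : Subgroup N, T ≤ M → M ≤ normalizer (T : Set N) → Odd (Nat.card T) → T ≤ O := by
    intro T hTM hMT hT
    haveI : (T.subgroupOf M).Normal := (normal_subgroupOf_iff_le_normalizer hTM).2 hMT
    haveI : (Cfsg.pPrimeCore 2 M).Characteristic := Cfsg.Lib.Components.pPrimeCore_characteristic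
    haveI : ((Cfsg.pPrimeCore 2 M).map M.subtype).Normal := inferInstance
    have h1 : (Cfsg.pPrimeCore 2 M).map M.subtype ≤ O := Cfsg.Lib.Components.le_pPrimeCore (by
      rw [card_map_of_injective M.subtype_injective]
      exact Cfsg.Lib.Components.coprime_card_pPrimeCore 2)
    refine le_trans ?_ h1
    intro x hx
    refine ⟨⟨x, hTM hx⟩, Cfsg.Lib.Components.le_pPrimeCore (N := T.subgroupOf M) ?_ (mem_subgroupOf.2 hx), rfl⟩
    rw [Nat.card_congr (subgroupOfEquivOfLe hTM).toEquiv]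
    exact Nat.coprime_two_right.2 hT
  have heven : ∀ T : Subgroup N, O < T → T ≤ M → M ≤ normalizer (T : Set N) →
      ∃ a ∈ T, orderOf a = 2 := fun T hOT hTM hMT => by
    refine Cfsg.Lib.StrongEmb.exists_involution_of_even (Nat.not_odd_iff_even.1 fun hodd => ?_)
    exact not_le_of_gt hOT (hoddO T hTM hMT hodd)
  obtain ⟨a₀, ha₀, ha₀2⟩ := heven M hOM le_rfl le_normalizer
  have hall : ∀ a : N, orderOf a = 2 → a ∈ M := by
    intro a ha
    obtain ⟨x, hx, hxa⟩ := exists_conj_of_moves hH hi hiN hic hmove (u := (a : G))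
      (by rw [Subgroup.orderOf_coe, ha]) a.2
    obtain ⟨y, hy, hya⟩ := exists_conj_of_moves hH hi hiN hic hmove (u := (a₀ : G))
      (by rw [Subgroup.orderOf_coe, ha₀2]) a₀.2
    have h1 := hMn.conj_mem a₀ ha₀ (⟨x, hx⟩ * ⟨y, hy⟩⁻¹)
    have h2 : (⟨x, hx⟩ * ⟨y, hy⟩⁻¹ : N) * a₀ * (⟨x, hx⟩ * ⟨y, hy⟩⁻¹ : N)⁻¹ = a := by
      apply Subtype.ext
      push_cast
      rw [← hxa, ← hya]
      group
    rwa [h2] at h1
  -- the images of `n` move the centre
  have hne_fix : ¬ ∀ m ∈ M, (m : G) • c = c := by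
    intro hfix
    have ho : orderOf (n * i * n⁻¹) = 2 := by rw [orderOf_conj', hi]
    have h1 := hfix ⟨n * i * n⁻¹, mul_mem (mul_mem hn hiN) (inv_mem hn)⟩
      (hall _ ((Subgroup.orderOf_mk _ _).trans ho))
    exact hnc (mem_stabilizer_iff.2 (Cfsg.Lib.StrongEmb.eq_of_fixed hH ho
      (by rw [mul_smul, mul_smul, inv_smul_smul, hic]) h1))
  -- simplicity
  have hsimple : ∀ T : Subgroup N, O < T → T ≤ M → M ≤ normalizer (T : Set N) → T = M := by
    intro T₁ hOT₁ hT₁M hMT₁
    obtain ⟨T, ⟨hOT, hTT₁, hMT⟩, hTmin⟩ := WellFounded.has_min (wellFounded_lt (α := Subgroup N))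
      {T | O < T ∧ T ≤ T₁ ∧ M ≤ normalizer (T : Set N)} ⟨T₁, hOT₁, le_rfl, hMT₁⟩
    have hTM := hTT₁.trans hT₁M
    suffices hTn : T.Normal by
      rcases eq_or_lt_of_le hTM with h | h
      · exact le_antisymm hT₁M (h ▸ hTT₁)
      · exact absurd h (hMmin T ⟨hTn, hOT⟩)
    by_contra hTn
    obtain ⟨x, hxT⟩ : ∃ x : N, Cfsg.Lib.Coprime.conjMap x T ≠ T := by
      by_contra hall'
      push Not at hall'
      exact hTn (normalizer_eq_top_iff.1 (eq_top_iff.2 fun x _ =>
        Cfsg.Lib.Coprime.conjMap_eq_self_iff.1 (hall' x)))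
    set T' := Cfsg.Lib.Coprime.conjMap x T with hT'
    have hOc : Cfsg.Lib.Coprime.conjMap x O = O :=
      Cfsg.Lib.Coprime.conjMap_eq_self (le_normalizer_of_normal (mem_top x))
    have hMc : Cfsg.Lib.Coprime.conjMap x M = M :=
      Cfsg.Lib.Coprime.conjMap_eq_self (le_normalizer_of_normal (mem_top x))
    have hOT' : O ≤ T' := hOc ▸ Cfsg.Lib.Coprime.conjMap_mono hOT.le
    have hT'M : T' ≤ M := hMc ▸ Cfsg.Lib.Coprime.conjMap_mono hTM
    have hMT' : M ≤ normalizer (T' : Set N) := by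
      rw [hT', Cfsg.Lib.Coprime.normalizer_conjMap, ← hMc]
      exact Cfsg.Lib.Coprime.conjMap_mono hMT
    have hcard : Nat.card T' = Nat.card T := Cfsg.Lib.Coprime.card_conjMap _ _
    have hinf : T ⊓ T' = O := by
      rcases eq_or_lt_of_le (le_inf hOT.le hOT') with h | h
      · exact h.symm
      refine absurd (lt_of_le_of_ne inf_le_left fun e => hxT ?_)
        (hTmin (T ⊓ T') ⟨h, inf_le_left.trans hTT₁,
          Cfsg.Lib.Coprime.le_normalizer_inf hMT hMT'⟩)
      exact (eq_of_le_of_card_ge (inf_eq_left.1 e) hcard.le).symm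
    have hOT'' : O < T' := by
      refine lt_of_le_of_ne hOT' fun e => hOT.ne ?_
      exact eq_of_le_of_card_ge hOT.le (by rw [← hcard, ← e])
    obtain ⟨b, hb, hb2⟩ := heven T' hOT'' hT'M hMT'
    -- all involutions of `T` have the centre of `b`
    obtain ⟨e, hbe⟩ := exists_centre (G := G) hH (t := (b : G)) (by rw [Subgroup.orderOf_coe, hb2])
    have hsame : ∀ a ∈ T, orderOf a = 2 → (a : G) • e = e := by
      intro a ha ha2
      have hao : orderOf (a : G) = 2 := by rw [Subgroup.orderOf_coe, ha2]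
      have hbo : orderOf (b : G) = 2 := by rw [Subgroup.orderOf_coe, hb2]
      obtain ⟨d, had⟩ := exists_centre (G := G) hH hao
      by_contra hne
      have hde : d ≠ e := fun h => hne (h ▸ had)
      have hodd := odd_product_centres hH hao hbo had hbe hde
      have hsq : a * b * (a * b) ∈ O := by
        have h1 : a * b * a⁻¹ * b⁻¹ ∈ T := by
          rw [show a * b * a⁻¹ * b⁻¹ = a * (b * a⁻¹ * b⁻¹) by group]
          exact mul_mem ha ((mem_normalizer_iff.1 (hMT (hT'M hb)) _).1 (inv_mem ha))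
        have h2 : a * b * a⁻¹ * b⁻¹ ∈ T' :=
          mul_mem ((mem_normalizer_iff.1 (hMT' (hTM ha)) b).1 hb) (inv_mem hb)
        have h3 : a * b * a⁻¹ * b⁻¹ ∈ T ⊓ T' := mem_inf.2 ⟨h1, h2⟩
        rw [hinf, inv_of_order_two ha2, inv_of_order_two hb2, mul_assoc (a * b)] at h3
        exact h3
      have hodd' : Odd (orderOf (a * b)) := by
        rw [← Subgroup.orderOf_coe]
        push_cast
        exact hodd
      have hab : a * b ∈ O := mem_of_sq_mem (L := zpowers (a * b)) (by rwa [Nat.card_zpowers])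
        (mem_zpowers _) hsq
      refine hne_inv a ha2 ?_
      rw [← hinf]
      refine mem_inf.2 ⟨ha, ?_⟩
      have := mul_mem (hOT' hab) (inv_mem hb)
      rwa [mul_inv_cancel_right] at this
    obtain ⟨a, ha, ha2⟩ := heven T hOT hTM hMT
    have hMe : ∀ m ∈ M, (m : G) • e = e := by
      intro m hm
      have h1 := hsame (m * a * m⁻¹) ((mem_normalizer_iff.1 (hMT hm) a).1 ha) (by rw [orderOf_conj', ha2])
      push_cast at h1
      rw [mul_smul, mul_smul, smul_eq_iff_eq_inv_smul] at h1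
      have h2 := Cfsg.Lib.StrongEmb.eq_of_fixed hH (by rw [Subgroup.orderOf_coe, ha2]) (hsame a ha ha2) h1
      exact (eq_inv_smul_iff.1 h2)
    refine hne_fix fun m hm => ?_
    have hce : c = e := Cfsg.Lib.StrongEmb.eq_of_fixed hH hi hic
      (hMe ⟨i, hiN⟩ (hall _ ((Subgroup.orderOf_mk i hiN).trans hi)))
    exact hce ▸ hMe m hm
  -- the simple section
  set O' := O.subgroupOf M with hO'
  haveI : O'.Normal := inferInstance
  set π := QuotientGroup.mk' O' with hπ
  have hπs : Function.Surjective π := QuotientGroup.mk'_surjective O'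
  set CM := (stabilizer G c).comap (N.subtype.comp M.subtype) with hCM
  have hmemC : ∀ m : M, m ∈ CM ↔ ((m : N) : G) • c = c := fun m => Iff.rfl
  have hOC : O' ≤ CM := fun m hm => (hmemC m).2 (hLc ⟨(m : N), mem_subgroupOf.1 hm, rfl⟩)
  haveI : Nontrivial (M ⧸ O') := by
    obtain ⟨m, hm, hmO⟩ := SetLike.exists_of_lt hOM
    exact ⟨⟨π ⟨m, hm⟩, 1, fun e => hmO (mem_subgroupOf.1 ((QuotientGroup.eq_one_iff _).1 e))⟩⟩
  have hS : IsSimpleGroup (M ⧸ O') := by
    refine ⟨fun U hU => ?_⟩
    haveI := hU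
    set T := (U.comap π).map M.subtype with hT
    have hker : O' ≤ U.comap π := by
      intro x hx
      rw [mem_comap, show π x = 1 from (QuotientGroup.eq_one_iff x).2 hx]
      exact one_mem _
    have hOT : O ≤ T := by
      rw [hT, ← map_subgroupOf_eq_of_le hOM.le]
      exact map_mono hker
    rcases eq_or_lt_of_le hOT with h | h
    · left
      have h1 : U.comap π = O' := by
        apply Subgroup.map_injective M.subtype_injective
        rw [map_subgroupOf_eq_of_le hOM.le]
        exact h.symm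
      rw [← map_comap_eq_self_of_surjective hπs U, h1, (Subgroup.map_eq_bot_iff _).2]
      rw [hπ, QuotientGroup.ker_mk']
    · right
      have hTM : T ≤ M := map_subtype_le _
      have hMT : M ≤ normalizer (T : Set N) := by
        intro m hm
        refine mem_normalizer_of_maps_to ?_
        rintro _ ⟨y, hy, rfl⟩
        exact ⟨⟨m, hm⟩ * y * ⟨m, hm⟩⁻¹, (inferInstance : (U.comap π).Normal).conj_mem y hy _, rfl⟩
      have h1 : U.comap π = ⊤ := by
        apply Subgroup.map_injective M.subtype_injective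
        rw [← MonoidHom.range_eq_map, range_subtype]
        exact hsimple T h hTM hMT
      rw [← map_comap_eq_self_of_surjective hπs U, h1, map_top_of_surjective π hπs]
  have hcardS : Nat.card (M ⧸ O') < Nat.card G := by
    refine lt_of_le_of_lt ?_ (lt_of_le_of_ne (Subgroup.card_le_card_group N)
      fun e => hN (Subgroup.card_eq_iff_eq_top N |>.1 e))
    exact (Nat.card_le_card_of_surjective π hπs).trans (Subgroup.card_le_card_group M)
  set K := CM.map π with hK
  have hKmem : ∀ m : M, π m ∈ K → m ∈ CM := by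
    rintro m ⟨k, hk, hkm⟩
    have h1 : k⁻¹ * m ∈ O' := QuotientGroup.eq.1 hkm
    have h2 := mul_mem hk (hOC h1)
    rwa [mul_inv_cancel_left] at h2
  have hKi : ∀ a : N, orderOf a = 2 → (a : G) • c = c →
      ∃ m : M, (m : N) = a ∧ π m ∈ K ∧ orderOf (π m) = 2 := by
    intro a ha hac
    refine ⟨⟨a, hall a ha⟩, rfl, mem_map_of_mem π ((hmemC _).2 hac), ?_⟩
    refine order_two_of_mul_self ?_ fun e =>
      hne_inv a ha (mem_subgroupOf.1 ((QuotientGroup.eq_one_iff _).1 e))
    rw [← map_mul, show (⟨a, hall a ha⟩ : M) * ⟨a, hall a ha⟩ = 1 from Subtype.ext (sq_of_order_two ha),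
      map_one]
  obtain ⟨mi, hmi, hmiK, hmi2⟩ := hKi ⟨i, hiN⟩ ((Subgroup.orderOf_mk i hiN).trans hi) hic
  obtain ⟨mj, hmj, hmjK, hmj2⟩ := hKi ⟨j, hjN⟩ ((Subgroup.orderOf_mk j hjN).trans hj) hjc
  obtain ⟨mi', hmi', hmi'K, hmi'2⟩ := hKi ⟨i', hi'N⟩ ((Subgroup.orderOf_mk i' hi'N).trans hi'o)
    (fix_centre_of_commute hH hi hic hi'c)
  have hSE : Cfsg.IsStronglyEmbedded K := by
    refine ⟨fun hKtop => hne_fix fun m hm => (hmemC ⟨m, hm⟩).1 (hKmem _ (hKtop ▸ mem_top _)), ?_,
      fun q hq => ?_⟩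
    · exact even_iff_two_dvd.2 (hmi2 ▸ Subgroup.orderOf_dvd_natCard K hmiK)
    obtain ⟨m, rfl⟩ := hπs q
    have hm : ¬ ((m : N) : G) • c = c := fun h => hq (mem_map_of_mem π ((hmemC m).2 h))
    set X := (stabilizer G c ⊓ stabilizer G (((m : N) : G) • c)).comap (N.subtype.comp M.subtype) with hX
    have hXodd : Odd (Nat.card X) := by
      have hinj : Function.Injective (N.subtype.comp M.subtype) :=
        N.subtype_injective.comp M.subtype_injective
      rw [← card_map_of_injective hinj]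
      exact (odd_stabilizer_inf hH (Ne.symm hm)).of_dvd_nat (card_dvd_of_le (map_comap_le _ _))
    refine (hXodd.of_dvd_nat (Subgroup.card_map_dvd X π)).of_dvd_nat (card_dvd_of_le ?_)
    rintro _ ⟨⟨x, hx, rfl⟩, ⟨_, ⟨y, hy, rfl⟩, hxy⟩⟩
    refine mem_map_of_mem π ?_
    change π m * π y * (π m)⁻¹ = π x at hxy
    have h1 : (m * y * m⁻¹)⁻¹ * x ∈ O' := QuotientGroup.eq.1 (show π (m * y * m⁻¹) = π x by
      rw [map_mul, map_mul, map_inv]; exact hxy)
    have h2 : m⁻¹ * ((m * y * m⁻¹)⁻¹ * x) * m ∈ O' := by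
      have := (inferInstance : O'.Normal).conj_mem _ h1 m⁻¹
      rwa [inv_inv] at this
    have h3 : m⁻¹ * x * m ∈ CM := by
      have := mul_mem hy (hOC h2)
      rwa [show y * (m⁻¹ * ((m * y * m⁻¹)⁻¹ * x) * m) = m⁻¹ * x * m by group] at this
    have h4 := (hmemC _).1 h3
    push_cast at h4
    rw [mul_smul, mul_smul, inv_smul_eq_iff] at h4
    exact mem_comap.2 (mem_inf.2 ⟨hx, h4⟩)
  have hpair : HasCommutingInvolutions (M ⧸ O') := by
    refine ⟨π mi', π mi, hmi'2, hmi2, fun e => ?_, ?_⟩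
    · have h1 : mi'⁻¹ * mi ∈ O' := QuotientGroup.eq.1 e
      have h2 : (⟨i', hi'N⟩ : N)⁻¹ * ⟨i, hiN⟩ ∈ O := by rw [← hmi', ← hmi]; exact mem_subgroupOf.1 h1
      refine hne_inv _ ?_ h2
      rw [← Subgroup.orderOf_coe]
      push_cast
      rw [inv_of_order_two hi'o]
      refine order_two_of_mul_self ?_ fun e' => hi'ne ?_
      · rw [show i' * i * (i' * i) = i' * (i * i') * i by group, ← hi'c.eq, ← mul_assoc,
          sq_of_order_two hi'o, one_mul, sq_of_order_two hi]
      · rw [eq_inv_of_mul_eq_one_left e', inv_of_order_two hi]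
    · rw [← map_mul, ← map_mul]
      congr 1
      apply Subtype.ext
      push_cast
      rw [hmi, hmi']
      exact Subtype.ext hi'c.eq
  have key := hcomm (M ⧸ O') hS hcardS K hSE hpair _ hmiK _ hmjK hmi2 hmj2
  have h1 : π ⁅mi, mj⁆ = 1 := by
    rw [map_commutatorElement, commutatorElement_eq_one_iff_mul_comm]
    exact key
  have h2 : ((⁅mi, mj⁆ : M) : N) ∈ O := mem_subgroupOf.1 ((QuotientGroup.eq_one_iff _).1 h1)
  refine hLF ⟨_, h2, ?_⟩
  show (((⁅mi, mj⁆ : M) : N) : G) = i * j * (i * j)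
  rw [commutatorElement_def]
  push_cast
  rw [hmi, hmj]
  push_cast
  rw [inv_of_order_two hi, inv_of_order_two hj]
  group

end Cfsg.Lib.BenderSE
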