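import Cfsg.Agent.InvolCalc.StronglyEmbedded
import Cfsg.Agent.InvolCalc.ZStarApps
import Mathlib

/-!
Strongly embedded subgroups with two commuting involutions: for distinct points `x`, `y` no
involution fixing `x` normalises the two-point stabiliser of `x` and `y`. Consequently the
stabiliser of an exchanged pair never fixes the centre of an involution exchanging it. The same holds for
every subgroup of odd order transitive on the involutions at a point; this gives the rank-one endpoint.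
-/

set_option autoImplicit false

namespace Cfsg.Lib.BenderSE

open Cfsg.Lib.InvolCalc Cfsg.Lib.StrongEmb MulAction

variable {G : Type*} [Group G] [Finite G] {H : Subgroup G}

/-- An involution fixes at most one coset, so none fixes two distinct points. -/
theorem not_involution_pair (hH : Cfsg.IsStronglyEmbedded H) {x y : G ⧸ H} (hxy : x ≠ y) {g : G}
    (hgx : g • x = x) (hgy : g • y = y) : orderOf g ≠ 2 :=
  fun hg => hxy (eq_of_fixed hH hg hgx hgy)

/-- Every point is the centre of an involution. -/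
theorem exists_involution_fixing (hH : Cfsg.IsStronglyEmbedded H) (x : G ⧸ H) :
    ∃ s : G, orderOf s = 2 ∧ s • x = x := by
  obtain ⟨s, hs, hs2⟩ := exists_involution_of_even hH.2.1
  obtain ⟨g, rfl⟩ := QuotientGroup.mk_surjective x
  refine ⟨MulAut.conj g s, by rw [MulEquiv.orderOf_eq, hs2], ?_⟩
  rw [MulAction.Quotient.smul_mk, smul_eq_mul, QuotientGroup.eq]
  simpa [mul_assoc] using inv_mem hs

/-- The two-point stabiliser is transitive on the involutions at either point. -/
theorem exists_conj_fixing (hH : Cfsg.IsStronglyEmbedded H) {x y : G ⧸ H} (hxy : x ≠ y) {s s' : G}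
    (hs : orderOf s = 2) (hsx : s • x = x) (hs' : orderOf s' = 2) (hs'x : s' • x = x) :
    ∃ d : G, d • x = x ∧ d • y = y ∧ d * s * d⁻¹ = s' := by
  obtain ⟨t, ht, hty⟩ := exists_involution_fixing hH y
  obtain ⟨v, hv, hvx, hvs, -⟩ := exists_swap hH hxy hs hsx ht hty
  obtain ⟨v', hv', hv'x, -, hv't⟩ := exists_swap hH hxy hs' hs'x ht hty
  have hvy : v • y = x := by rw [← hvx, smul_smul, sq_of_order_two hv, one_smul]
  have hv'y : v' • y = x := by rw [← hv'x, smul_smul, sq_of_order_two hv', one_smul]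
  refine ⟨v' * v, by rw [mul_smul, hvx, hv'y], by rw [mul_smul, hvy, hv'x], ?_⟩
  calc v' * v * s * (v' * v)⁻¹ = v' * (v * s * v⁻¹) * v'⁻¹ := by group
    _ = s' := by rw [inv_of_order_two hv, inv_of_order_two hv', hvs, hv't]

/-- With two commuting involutions in `G`, there are two at every point. -/
theorem exists_commuting_fixing (hH : Cfsg.IsStronglyEmbedded H)
    (h2 : ∃ p q : G, orderOf p = 2 ∧ orderOf q = 2 ∧ p ≠ q ∧ p * q = q * p) (x : G ⧸ H) :
    ∃ p q : G, orderOf p = 2 ∧ orderOf q = 2 ∧ p ≠ q ∧ p * q = q * p ∧ p • x = x ∧ q • x = x := by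
  obtain ⟨p, q, hp, hq, hne, hc⟩ := h2
  obtain ⟨⟨z, hz⟩⟩ := (Nat.card_eq_one_iff_unique.1 (card_fixed hH hp)).2
  have hqz : q • z = z := eq_of_fixed hH hp (by rw [smul_smul, hc, mul_smul, hz]) hz
  obtain ⟨g, rfl⟩ := MulAction.exists_smul_eq G z x
  refine ⟨MulAut.conj g p, MulAut.conj g q, by rw [MulEquiv.orderOf_eq, hp],
    by rw [MulEquiv.orderOf_eq, hq], fun h => hne ((MulAut.conj g).injective h),
    by rw [← map_mul, hc, map_mul], ?_, ?_⟩
  · simp [mul_smul, hz]
  · simp [mul_smul, hqz]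

/-- No involution fixing `x` normalises a subgroup of odd order that is transitive by conjugation
on the involutions fixing `x`. -/
theorem not_normalize_transitive (hH : Cfsg.IsStronglyEmbedded H)
    (h2 : ∃ p q : G, orderOf p = 2 ∧ orderOf q = 2 ∧ p ≠ q ∧ p * q = q * p) {x : G ⧸ H}
    {K : Subgroup G} (hK : Odd (Nat.card K)) {v : G}
    (htrans : ∀ s : G, orderOf s = 2 → s • x = x → ∃ d ∈ K, d * v * d⁻¹ = s)
    (hn : ∀ g ∈ K, v * g * v⁻¹ ∈ K) : False := by
  obtain ⟨p, q, hp, hq, hne, hc, hpx, hqx⟩ := exists_commuting_fixing hH h2 x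
  -- each involution at `x` lies in the coset of `v`
  have key : ∀ s : G, orderOf s = 2 → s • x = x → s * v⁻¹ ∈ K := by
    intro s hs hsx
    obtain ⟨d, hd, rfl⟩ := htrans s hs hsx
    rw [show d * v * d⁻¹ * v⁻¹ = d * (v * d⁻¹ * v⁻¹) by group]
    exact K.mul_mem hd (hn _ (K.inv_mem hd))
  have hpq : p * q ∈ K := by
    rw [show p * q = p * v⁻¹ * (q * v⁻¹)⁻¹ by
      conv_lhs => rw [← inv_of_order_two hq]
      group]
    exact K.mul_mem (key p hp hpx) (K.inv_mem (key q hq hqx))
  have ho : orderOf (p * q) = 2 := order_two_of_mul_self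
    (by rw [mul_assoc, ← mul_assoc q, ← hc, mul_assoc, sq_of_order_two hq, mul_one, sq_of_order_two hp])
    fun h => hne (by rw [eq_inv_of_mul_eq_one_left h, inv_of_order_two hq])
  refine (Nat.not_even_iff_odd.2 hK) (even_iff_two_dvd.2 ?_)
  rw [← ho, ← Subgroup.orderOf_mk _ hpq]
  exact orderOf_dvd_natCard _

/-- The stabiliser of two points has odd order. -/
theorem odd_card_pair (hH : Cfsg.IsStronglyEmbedded H) {x y : G ⧸ H} (hxy : x ≠ y) :
    Odd (Nat.card ↥(stabilizer G x ⊓ stabilizer G y)) := by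
  rw [← Nat.not_even_iff_odd]
  intro he
  obtain ⟨s, hs, hs2⟩ := exists_involution_of_even he
  exact not_involution_pair hH hxy (mem_stabilizer_iff.1 (Subgroup.mem_inf.1 hs).1)
    (mem_stabilizer_iff.1 (Subgroup.mem_inf.1 hs).2) hs2

/-- No involution fixing `x` normalises the stabiliser of `x` and another point `y`. -/
theorem not_normalize_pair (hH : Cfsg.IsStronglyEmbedded H)
    (h2 : ∃ p q : G, orderOf p = 2 ∧ orderOf q = 2 ∧ p ≠ q ∧ p * q = q * p) {x y : G ⧸ H}
    (hxy : x ≠ y) {v : G} (hv : orderOf v = 2) (hvx : v • x = x)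
    (hn : ∀ g : G, g • x = x → g • y = y → (v * g * v⁻¹) • y = y) : False := by
  refine not_normalize_transitive hH h2 (x := x) (odd_card_pair hH hxy) (v := v) (fun s hs hsx => ?_)
    fun g hg => ?_
  · obtain ⟨d, hdx, hdy, hd⟩ := exists_conj_fixing hH hxy hv hvx hs hsx
    exact ⟨d, Subgroup.mem_inf.2 ⟨mem_stabilizer_iff.2 hdx, mem_stabilizer_iff.2 hdy⟩, hd⟩
  · obtain ⟨hgx, hgy⟩ := Subgroup.mem_inf.1 hg
    rw [mem_stabilizer_iff] at hgx hgy
    refine Subgroup.mem_inf.2 ⟨mem_stabilizer_iff.2 ?_, mem_stabilizer_iff.2 (hn g hgx hgy)⟩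
    rw [mul_smul, mul_smul, inv_smul_eq_iff.2 hvx.symm, hgx, hvx]

/-- ENDPOINT, rank one: an involution `v` fixing `x` and a subgroup of odd order transitive on the
involutions at `x` never lie in a common subgroup without commuting involutions. -/
theorem rank_one_endpoint (hH : Cfsg.IsStronglyEmbedded H)
    (h2 : ∃ p q : G, orderOf p = 2 ∧ orderOf q = 2 ∧ p ≠ q ∧ p * q = q * p) {x : G ⧸ H}
    {L E : Subgroup G} (hE : Odd (Nat.card E)) (hEL : E ≤ L) {v : G} (hv : orderOf v = 2)
    (hvL : v ∈ L)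
    (hL : ∀ s ∈ L, orderOf s = 2 → s * v = v * s → s = v)
    (htrans : ∀ s : G, orderOf s = 2 → s • x = x → ∃ d ∈ E, d * v * d⁻¹ = s) : False := by
  have hiso : Cfsg.IsIsolatedInvolution (⟨v, hvL⟩ : L) := by
    refine ⟨(Subgroup.orderOf_mk v hvL).trans hv, fun g hc => Subtype.ext ?_⟩
    refine hL _ (g * ⟨v, hvL⟩ * g⁻¹ : L).2 ?_ (congrArg Subtype.val hc).symm
    rw [show ((g * ⟨v, hvL⟩ * g⁻¹ : L) : G) = MulAut.conj (g : G) v from rfl, MulEquiv.orderOf_eq,
      hv]
  set O : Subgroup L := Cfsg.pPrimeCore 2 L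
  set K : Subgroup L := O ⊔ E.subgroupOf L
  have hKodd : Odd (Nat.card K) := by
    refine Odd.of_dvd_nat ((Cfsg.Lib.ZStarApps.odd_card_pPrimeCore (G := L)).mul ?_)
      (Cfsg.Lib.Components.card_sup_dvd_mul O (E.subgroupOf L))
    rw [Nat.card_congr (Subgroup.subgroupOfEquivOfLe hEL).toEquiv]
    exact hE
  refine not_normalize_transitive hH h2 (x := x) (K := K.map L.subtype)
    (by rwa [Subgroup.card_map_of_injective L.subtype_injective]) (v := v) (fun s hs hsx => ?_) ?_
  · obtain ⟨d, hd, e⟩ := htrans s hs hsx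
    exact ⟨d, ⟨⟨d, hEL hd⟩, Subgroup.mem_sup_right hd, rfl⟩, e⟩
  · rintro _ ⟨g, hg, rfl⟩
    refine ⟨⟨v, hvL⟩ * g * ⟨v, hvL⟩⁻¹, ?_, rfl⟩
    rw [show (⟨v, hvL⟩ : L) * g * (⟨v, hvL⟩ : L)⁻¹
      = (⟨v, hvL⟩ * g * (⟨v, hvL⟩ : L)⁻¹ * g⁻¹) * g by group]
    exact K.mul_mem (Subgroup.mem_sup_left (Cfsg.Lib.ZStarApps.zstarProp hiso g)) hg

/-- If the stabiliser of an exchanged pair fixes the centre, the involutions at the centre are
exactly the exchanging ones. -/
theorem swap_of_fixing (hH : Cfsg.IsStronglyEmbedded H) {a b c : G ⧸ H} (hab : a ≠ b) {t : G}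
    (ht : orderOf t = 2) (hta : t • a = b) (htc : t • c = c)
    (hD : ∀ g : G, g • a = a → g • b = b → g • c = c) {i : G} (hi : orderOf i = 2) (hic : i • c = c) :
    i • a = b := by
  have htb : t • b = a := by rw [← hta, smul_smul, sq_of_order_two ht, one_smul]
  have hfix : ∀ v : G, orderOf v = 2 → v • a = b → v • c = c := by
    intro v hv hva
    have hvb : v • b = a := by rw [← hva, smul_smul, sq_of_order_two hv, one_smul]
    have h := hD (t * v) (by rw [mul_smul, hva, htb]) (by rw [mul_smul, hvb, hta])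
    rw [snd_eq ht (y := v), mul_smul, h, htc]
  let f : {i : G // orderOf i = 2 ∧ i • a = b} → {i : G // orderOf i = 2 ∧ i • c = c} :=
    fun v => ⟨v.1, v.2.1, hfix v.1 v.2.1 v.2.2⟩
  have hf : Function.Injective f := fun v w h => Subtype.ext (congrArg Subtype.val h :)
  have hb : Function.Bijective f := (Nat.bijective_iff_injective_and_card f).2
    ⟨hf, by rw [card_swap hH a b hab, card_fixing hH c]⟩
  obtain ⟨v, hv⟩ := hb.2 ⟨i, hi, hic⟩
  have : v.1 = i := congrArg Subtype.val hv
  exact this ▸ v.2.2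

/-- CRITERION: the stabiliser of an exchanged pair moves the centre. -/
theorem criterion (hH : Cfsg.IsStronglyEmbedded H)
    (h2 : ∃ p q : G, orderOf p = 2 ∧ orderOf q = 2 ∧ p ≠ q ∧ p * q = q * p) {a b c : G ⧸ H}
    (hab : a ≠ b) {t : G} (ht : orderOf t = 2) (hta : t • a = b) (htc : t • c = c)
    (hD : ∀ g : G, g • a = a → g • b = b → g • c = c) : False := by
  have hca : c ≠ a := fun h => hab (by rw [← hta, ← h, htc])
  have htb : t • b = a := by rw [← hta, smul_smul, sq_of_order_two ht, one_smul]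
  refine not_normalize_pair hH h2 hca ht htc fun g hgc hga => ?_
  -- `g` fixes `b`, as the conjugate of `t` by `g` also exchanges the pair
  have hgb : g • b = b := by
    have h := swap_of_fixing hH hab ht hta htc hD (i := g * t * g⁻¹)
      (by rw [show g * t * g⁻¹ = MulAut.conj g t from rfl, MulEquiv.orderOf_eq, ht])
      (by rw [mul_smul, mul_smul, inv_smul_eq_iff.2 hgc.symm, htc, hgc])
    rwa [mul_smul, mul_smul, inv_smul_eq_iff.2 hga.symm, hta] at h
  rw [mul_smul, mul_smul, inv_of_order_two ht, hta, hgb, htb]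

/-- The criterion with subgroups: the pair stabiliser is not inside the stabiliser of the centre. -/
theorem not_pair_le_centre (hH : Cfsg.IsStronglyEmbedded H)
    (h2 : ∃ p q : G, orderOf p = 2 ∧ orderOf q = 2 ∧ p ≠ q ∧ p * q = q * p) {a b c : G ⧸ H}
    (hab : a ≠ b) {t : G} (ht : orderOf t = 2) (hta : t • a = b) (htc : t • c = c) :
    ¬ (stabilizer G a ⊓ stabilizer G b ≤ stabilizer G c) :=
  fun h => criterion hH h2 hab ht hta htc fun _ ha hb =>
    mem_stabilizer_iff.1 (h (Subgroup.mem_inf.2 ⟨mem_stabilizer_iff.2 ha, mem_stabilizer_iff.2 hb⟩))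

end Cfsg.Lib.BenderSE
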