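/-
Subgroups containing involutions of several centres: rank one data, fixed point counts.
-/
import Cfsg.Agent.BenderSE.Defs
import Cfsg.Agent.BenderSE.Dihedral
import Cfsg.Agent.InvolCalc.ZStarApps
import Mathlib.GroupTheory.PGroup

set_option autoImplicit false
set_option linter.unusedSectionVars false

namespace Cfsg.Lib.BenderSE

open Subgroup MulAction Cfsg.Lib.InvolCalc

universe u v

variable {G : Type u} [Group G] [Finite G]

theorem oddCoreOf_le (N : Subgroup G) : oddCoreOf N ≤ N := map_subtype_le _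

theorem odd_card_oddCoreOf (N : Subgroup G) : Odd (Nat.card (oddCoreOf N)) := by
  rw [oddCoreOf, card_map_of_injective N.subtype_injective]
  exact Cfsg.Lib.ZStarApps.odd_card_pPrimeCore

theorem le_normalizer_oddCoreOf (N : Subgroup G) :
    N ≤ normalizer ((oddCoreOf N : Subgroup G) : Set G) := by
  have key : ∀ n ∈ N, ∀ x ∈ oddCoreOf N, n * x * n⁻¹ ∈ oddCoreOf N := by
    rintro n hn _ ⟨x, hx, rfl⟩
    exact ⟨⟨n, hn⟩ * x * ⟨n, hn⟩⁻¹,
      (inferInstance : (Cfsg.pPrimeCore 2 N).Normal).conj_mem x hx ⟨n, hn⟩, rfl⟩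
  intro n hn
  refine mem_normalizer_iff.2 fun x => ⟨fun hx => key n hn x hx, fun hx => ?_⟩
  have h := key n⁻¹ (inv_mem hn) _ hx
  rwa [show n⁻¹ * (n * x * n⁻¹) * n⁻¹⁻¹ = x by group] at h

/-- an `r`-group permuting a set: the number of fixed points is congruent to the size -/
theorem card_modEq_fixed {α : Type v} [MulAction G α] [Finite α] {r : ℕ} [Fact r.Prime]
    {Q : Subgroup G} (hQ : IsPGroup r Q) (S : Set α) (hS : ∀ g ∈ Q, ∀ x ∈ S, g • x ∈ S) :
    Nat.card S ≡ Nat.card {x : α // x ∈ S ∧ ∀ g ∈ Q, g • x = x} [MOD r] := by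
  letI : MulAction Q S :=
    { smul := fun g x => ⟨(g : G) • x.1, hS g g.2 x.1 x.2⟩
      one_smul := fun x => Subtype.ext (one_smul G x.1)
      mul_smul := fun g h x => Subtype.ext (mul_smul (g : G) (h : G) x.1) }
  refine (hQ.card_modEq_card_fixedPoints S).trans ?_
  rw [Nat.card_congr (β := {x : α // x ∈ S ∧ ∀ g ∈ Q, g • x = x})
    { toFun := fun x => ⟨x.1.1, x.1.2, fun g hg => congrArg Subtype.val (x.2 ⟨g, hg⟩)⟩
      invFun := fun x => ⟨⟨x.1, x.2.1⟩, fun g => Subtype.ext (x.2.2 g.1 g.2)⟩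
      left_inv := fun x => rfl
      right_inv := fun x => rfl }]

variable {H : Subgroup G}

/-- involutions of `N` with different centres are conjugate in `N`, with a swapper in `N` -/
theorem exists_swapper_centres (hH : Cfsg.IsStronglyEmbedded H) {N : Subgroup G} {i j : G}
    {e e' : G ⧸ H} (hi : orderOf i = 2) (hiN : i ∈ N) (hie : i • e = e) (hj : orderOf j = 2)
    (hjN : j ∈ N) (hje : j • e' = e') (hne : e ≠ e') :
    ∃ w ∈ N, orderOf w = 2 ∧ w • e = e' ∧ ∃ d ∈ N, d * i * d⁻¹ = j ∧ d • e = e' := by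
  have hodd := odd_product_centres hH hi hj hie hje hne
  obtain ⟨d, hd, hdj⟩ := conj_of_odd hi hj hodd
  have hdN : d ∈ N := by
    refine (closure_le _).2 ?_ hd
    rintro x (rfl | hx)
    · exact hiN
    · rw [Set.mem_singleton_iff] at hx; exact hx ▸ hjN
  have hde : d • e = e' := by
    refine Cfsg.Lib.StrongEmb.eq_of_fixed hH hj ?_ hje
    rw [← hdj, smul_smul, inv_mul_cancel_right, mul_smul, hie]
  rcases mem_closure_pair hi hj hd with ⟨k, rfl⟩ | ⟨k, rfl⟩
  · refine ⟨(i * j) ^ k * i, mul_mem hdN hiN, order_two_of_mul_self ?_ ?_, by rw [mul_smul, hie, hde],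
      _, hdN, hdj, hde⟩
    · rw [mul_assoc, ← mul_assoc i, flip_zpow hi hj, mul_assoc _ i i, sq_of_order_two hi, mul_one,
        ← zpow_add, add_neg_cancel, zpow_zero]
    · intro h1
      refine hne ?_
      rw [← hde]
      nth_rw 2 [← hie]
      rw [smul_smul, h1, one_smul]
  · refine ⟨i * (i * j) ^ k, hdN, order_two_of_mul_self ?_ ?_, hde, _, hdN, hdj, hde⟩
    · conv_lhs => arg 1; rw [flip_zpow hi hj k]
      rw [mul_assoc, ← mul_assoc i i, sq_of_order_two hi, one_mul, ← zpow_add, neg_add_cancel,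
        zpow_zero]
    · intro h1
      exact hne (by rw [← hde, h1, one_smul])

/-- a normal subgroup of odd order moving one centre of `N` moves all of them -/
theorem moves_centre (hH : Cfsg.IsStronglyEmbedded H) {N L : Subgroup G}
    (hNL : N ≤ normalizer (L : Set G)) {i j : G} {e c : G ⧸ H} (hi : orderOf i = 2) (hiN : i ∈ N)
    (hie : i • e = e) (hj : orderOf j = 2) (hjN : j ∈ N) (hjc : j • c = c)
    (hmove : ¬ L ≤ stabilizer G c) : ¬ L ≤ stabilizer G e := by
  intro h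
  rcases eq_or_ne e c with rfl | hne
  · exact hmove h
  obtain ⟨-, -, -, -, n, hn, -, hne'⟩ := exists_swapper_centres hH hi hiN hie hj hjN hjc hne
  refine hmove fun l hl => ?_
  have h1 : (n⁻¹ * l * n) • e = e := h ((mem_normalizer_iff''.1 (hNL hn) l).1 hl)
  rw [mul_smul, mul_smul, inv_smul_eq_iff, hne'] at h1
  exact h1

/-- RANK ONE: if a normal subgroup of odd order of `N` moves a centre, `N` has no two commuting
involutions -/
theorem eq_of_commute_of_moves (hH : Cfsg.IsStronglyEmbedded H) {N L : Subgroup G}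
    (hNL : N ≤ normalizer (L : Set G)) (hL : Odd (Nat.card L)) {j : G} {c : G ⧸ H}
    (hj : orderOf j = 2) (hjN : j ∈ N) (hjc : j • c = c) (hmove : ¬ L ≤ stabilizer G c)
    {i k : G} (hi : orderOf i = 2) (hiN : i ∈ N) (hk : orderOf k = 2) (hkN : k ∈ N)
    (hik : Commute i k) : i = k := by
  by_contra hne
  obtain ⟨e, hie⟩ := exists_centre hH hi
  have hke : k • e = e := fix_centre_of_commute hH hi hie hik.symm
  refine moves_centre hH hNL hi hiN hie hj hjN hjc hmove fun x hx => ?_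
  have hinv : i * k * i⁻¹ = k⁻¹ := by
    rw [hik.eq, mul_inv_cancel_right, inv_of_order_two hk]
  have hik1 : i * k ≠ 1 := fun h => hne (by rw [eq_inv_of_mul_eq_one_left h, inv_of_order_two hk])
  obtain ⟨z, -, hz, l, -, hl, rfl⟩ := exists_mul_eq_centre hH hL hi hie hke hinv hik1 (hNL hiN)
    (hNL hkN) (by rw [hk]; exact Nat.coprime_two_left.2 hL) hx
  rw [mem_stabilizer_iff, mul_smul, hl, fix_centre_of_commute hH hk hke hz]

/-- RANK ONE: without commuting involutions the product of two involutions lies in `O(N)` -/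
theorem mul_mem_oddCore_of_unique {N : Subgroup G}
    (huniq : ∀ {p q : G}, orderOf p = 2 → p ∈ N → orderOf q = 2 → q ∈ N → Commute p q → p = q)
    {i k : G} (hi : orderOf i = 2) (hiN : i ∈ N) (hk : orderOf k = 2) (hkN : k ∈ N) :
    i * k ∈ oddCoreOf N := by
  by_cases hik : i = k
  · rw [hik, sq_of_order_two hk]; exact one_mem _
  have hodd : Odd (orderOf (i * k)) := by
    rw [← Nat.not_even_iff_odd]
    intro he
    obtain ⟨hz, hzi, hzk⟩ := central_spec hi hk he
    have hzN : (i * k) ^ (orderOf (i * k) / 2) ∈ N := pow_mem (mul_mem hiN hkN) _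
    have e1 := huniq hz hzN hi hiN hzi
    exact hik (huniq hi hiN hk hkN (e1 ▸ hzk))
  obtain ⟨d, hd, hdk⟩ := conj_of_odd hi hk hodd
  have hdN : d ∈ N := by
    refine (closure_le _).2 ?_ hd
    rintro x (rfl | hx)
    · exact hiN
    · rw [Set.mem_singleton_iff] at hx; exact hx ▸ hkN
  have hiso : Cfsg.IsIsolatedInvolution (⟨i, hiN⟩ : N) := by
    refine ⟨(Subgroup.orderOf_mk i hiN).trans hi, fun g hg => Subtype.ext ?_⟩
    refine huniq ?_ (g * ⟨i, hiN⟩ * g⁻¹ : N).2 hi hiN ?_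
    · rw [show ((g * ⟨i, hiN⟩ * g⁻¹ : N) : G) = (g : G) * i * (g : G)⁻¹ from rfl, orderOf_conj', hi]
    · exact (congrArg Subtype.val hg.symm.eq :)
  refine ⟨⟨i, hiN⟩ * ⟨d, hdN⟩ * ⟨i, hiN⟩⁻¹ * ⟨d, hdN⟩⁻¹,
    Cfsg.Lib.ZStarApps.zstarProp hiso ⟨d, hdN⟩, ?_⟩
  show i * d * i⁻¹ * d⁻¹ = i * k
  rw [inv_of_order_two hi, ← hdk]
  group

/-- RANK ONE: the product of two involutions lies in `O(N)` -/
theorem mul_mem_oddCore (hH : Cfsg.IsStronglyEmbedded H) {N L : Subgroup G}
    (hNL : N ≤ normalizer (L : Set G)) (hL : Odd (Nat.card L)) {j : G} {c : G ⧸ H}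
    (hj : orderOf j = 2) (hjN : j ∈ N) (hjc : j • c = c) (hmove : ¬ L ≤ stabilizer G c)
    {i k : G} (hi : orderOf i = 2) (hiN : i ∈ N) (hk : orderOf k = 2) (hkN : k ∈ N) :
    i * k ∈ oddCoreOf N :=
  mul_mem_oddCore_of_unique
    (fun {p q} hp hpN hq hqN => eq_of_commute_of_moves hH hNL hL hj hjN hjc hmove (i := p) (k := q) hp hpN hq hqN)
    hi hiN hk hkN

/-- RANK ONE: `O(N)` moves every centre -/
theorem oddCore_moves (hH : Cfsg.IsStronglyEmbedded H) {N L : Subgroup G} (hLN : L ≤ N)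
    (hNL : N ≤ normalizer (L : Set G)) (hL : Odd (Nat.card L)) {c : G ⧸ H}
    (hmove : ¬ L ≤ stabilizer G c) : ¬ oddCoreOf N ≤ stabilizer G c := by
  refine fun h => hmove (le_trans ?_ h)
  intro x hx
  haveI : (L.subgroupOf N).Normal := (normal_subgroupOf_iff_le_normalizer hLN).2 hNL
  exact ⟨⟨x, hLN hx⟩, Cfsg.Lib.Components.le_pPrimeCore (N := L.subgroupOf N)
    (by rw [Nat.card_congr (subgroupOfEquivOfLe hLN).toEquiv]; exact Nat.coprime_two_right.2 hL)
    (mem_subgroupOf.2 hx), rfl⟩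

end Cfsg.Lib.BenderSE
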