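/-
A LOCAL makes the involutions with a common centre `x` commute modulo `Y_x = O(M_x)`. Then for an
odd prime `s` dividing `|M_x : Y_x| - 1` the hypothesis `FixHyp` of the fixed point argument holds,
and two-transitivity leaves no bad element (notes/bender_t1_h7.md, Corollary A2).
-/
import Cfsg.Agent.BenderSE.Defs
import Cfsg.Agent.BenderSE.Criterion
import Cfsg.Agent.BenderSE.Rank
import Cfsg.Agent.InvolCalc.ZStarApps
import Cfsg.Agent.Coprime.Generation
import Cfsg.Agent.Coprime.HalfFixed.Maximal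

set_option autoImplicit false
set_option linter.unusedSectionVars false
set_option linter.style.haveILetI false

namespace Cfsg.Lib.BenderSE

open Subgroup MulAction Cfsg.Lib.InvolCalc Cfsg.Lib.StrongEmb

universe u

variable {G : Type u} [Group G]

/-- involutions with a common centre commute modulo `Y_x` -/
def CommModCore (H : Subgroup G) : Prop :=
  ∀ (x : G ⧸ H) (u v : G), u ∈ invsAt x → v ∈ invsAt x → u * v * (u * v) ∈ invGroupCore G x

/-- pairwise commuting involutions generate a group of exponent two -/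
theorem sq_eq_one_of_mem_closure {S : Set G} (hS : ∀ u ∈ S, u * u = 1)
    (hc : ∀ u ∈ S, ∀ v ∈ S, u * v = v * u) {g : G} (hg : g ∈ closure S) : g * g = 1 := by
  have h1 : closure S ≤ centralizer (closure S : Set G) := by
    rw [centralizer_closure, closure_le]
    exact fun v hv => mem_centralizer_iff.2 fun u hu => hc u hu v hv
  induction hg using closure_induction with
  | mem z hz => exact hS z hz
  | one => exact one_mul 1
  | mul p q hp hq ihp ihq =>
    rw [show p * q * (p * q) = p * (q * p) * q by group, ← mem_centralizer_iff.1 (h1 hp) q hq |>.symm,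
      show p * (p * q) * q = p * p * (q * q) by group, ihp, ihq, one_mul]
  | inv p _ ihp => rw [← mul_inv_rev, ihp, inv_one]

/-- involutions commuting modulo `O` generate a group of exponent two modulo `O` -/
theorem sq_mem_of_mem_closure {S : Set G} {O : Subgroup G} (hSO : S ⊆ normalizer (O : Set G))
    (hS : ∀ u ∈ S, orderOf u = 2) (hc : ∀ u ∈ S, ∀ v ∈ S, u * v * (u * v) ∈ O) {g : G}
    (hg : g ∈ closure S) : g * g ∈ O := by
  set N := normalizer (O : Set G)
  let π := QuotientGroup.mk' (O.subgroupOf N)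
  set T := closure (π '' {n : N | (n : G) ∈ S})
  have hker : ∀ n : N, π n = 1 ↔ (n : G) ∈ O := fun n => by
    rw [QuotientGroup.mk'_apply, QuotientGroup.eq_one_iff, mem_subgroupOf]
  have hsq : ∀ u ∈ π '' {n : N | (n : G) ∈ S}, u * u = 1 := by
    rintro _ ⟨n, hn, rfl⟩
    rw [← map_mul, hker]
    simp only [Subgroup.coe_mul, sq_of_order_two (hS _ hn)]
    exact one_mem O
  have hT : ∀ z ∈ T, z * z = 1 := fun z hz => sq_eq_one_of_mem_closure hsq (by
    intro u hu v hv
    obtain ⟨n, hn, rfl⟩ := id hu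
    obtain ⟨m, hm, rfl⟩ := id hv
    have h := (hker (n * m * (n * m))).2 (hc _ hn _ hm)
    rw [map_mul, map_mul] at h
    calc π n * π m = (π n * π m)⁻¹ := eq_inv_of_mul_eq_one_left h
      _ = π m * π n := by
        rw [mul_inv_rev, inv_eq_of_mul_eq_one_right (hsq _ hu), inv_eq_of_mul_eq_one_right (hsq _ hv)])
    hz
  have hle : closure S ≤ (T.comap π).map N.subtype := (closure_le _).2 fun u hu =>
    ⟨⟨u, hSO hu⟩, subset_closure ⟨_, hu, rfl⟩, rfl⟩
  obtain ⟨n, hn, rfl⟩ := hle hg
  exact (hker (n * n)).1 (by rw [map_mul]; exact hT _ hn)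

/-- `invGroup G x` fixes `x` -/
theorem invGroup_le_stabilizer {α : Type*} [MulAction G α] (x : α) :
    invGroup G x ≤ stabilizer G x :=
  (closure_le _).2 fun _ hv => mem_stabilizer_iff.2 hv.2

theorem conj_mem_invsAt {α : Type*} [MulAction G α] {x : α} {v : G} (g : G) (hv : v ∈ invsAt x) :
    g * v * g⁻¹ ∈ invsAt (g • x) :=
  ⟨by rw [orderOf_conj', hv.1], by rw [mul_smul, mul_smul, inv_smul_smul, hv.2]⟩

theorem conj_mem_invGroup {α : Type*} [MulAction G α] {x : α} {w : G} (g : G)
    (hw : w ∈ invGroup G x) : g * w * g⁻¹ ∈ invGroup G (g • x) := by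
  have h : invGroup G x ≤ (invGroup G (g • x)).comap (MulAut.conj g).toMonoidHom :=
    (closure_le _).2 fun v hv => subset_closure (conj_mem_invsAt g hv)
  exact h hw

variable [Finite G]

theorem normalizer_le_normalizer_oddCoreOf (K : Subgroup G) :
    normalizer (K : Set G) ≤ normalizer (oddCoreOf K : Set G) := by
  haveI : (Cfsg.pPrimeCore 2 K).Characteristic := Cfsg.Lib.Components.pPrimeCore_characteristic
  exact Cfsg.Lib.HalfFixed.normalizer_le_map_of_characteristic K _

theorem le_oddCoreOf {K L : Subgroup G} (hLK : L ≤ K) (hn : K ≤ normalizer (L : Set G))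
    (hodd : Odd (Nat.card L)) : L ≤ oddCoreOf K := by
  haveI : (L.subgroupOf K).Normal := normal_subgroupOf_iff_le_normalizer hLK |>.2 hn
  intro l hl
  refine ⟨⟨l, hLK hl⟩, Cfsg.Lib.Components.le_pPrimeCore (N := L.subgroupOf K) ?_ hl, rfl⟩
  rw [Nat.card_congr (subgroupOfEquivOfLe hLK).toEquiv]
  exact Nat.coprime_two_right.2 hodd

/-- a group of odd order normalised by two commuting involutions at `x` fixes `x` -/
theorem le_stabilizer_of_commuting {H : Subgroup G} (hH : Cfsg.IsStronglyEmbedded H) {N : Subgroup G}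
    (hN : Odd (Nat.card N)) {p q : G} (hp : orderOf p = 2) (hq : orderOf q = 2) (hne : p ≠ q)
    (hc : p * q = q * p) {x : G ⧸ H} (hpx : p • x = x) (hqx : q • x = x)
    (hpN : p ∈ normalizer (N : Set G)) (hqN : q ∈ normalizer (N : Set G)) :
    N ≤ stabilizer G x := by
  set A : Subgroup G := closure {p, q} with hA
  have hAsq : ∀ a ∈ A, a * a = 1 := fun a ha => sq_eq_one_of_mem_closure
    (by rintro u (rfl | rfl) <;> exact sq_of_order_two (by assumption))
    (by rintro u (rfl | rfl) v (rfl | rfl) <;> first | rfl | exact hc | exact hc.symm) ha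
  have hAx : A ≤ stabilizer G x := (closure_le _).2 (by rintro u (rfl | rfl) <;> assumption)
  haveI : IsMulCommutative A := ⟨⟨fun a b => Subtype.ext <| by
    have hab := hAsq _ (mul_mem a.2 b.2)
    show (a : G) * b = b * a
    rw [eq_inv_of_mul_eq_one_left hab, mul_inv_rev, inv_eq_of_mul_eq_one_right (hAsq _ a.2),
      inv_eq_of_mul_eq_one_right (hAsq _ b.2)]⟩⟩
  have hcyc : ¬ IsCyclic A := by
    rintro ⟨g, hg⟩
    have key : ∀ a ∈ A, a = 1 ∨ a = (g : G) := by
      intro a ha
      obtain ⟨k, hk⟩ := hg ⟨a, ha⟩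
      have hk' : (g : G) ^ k = a := congrArg Subtype.val hk
      have hgg : (g : G) * g = 1 := hAsq g g.2
      rcases Int.even_or_odd k with ⟨j, rfl⟩ | ⟨j, rfl⟩
      · exact Or.inl (by rw [← hk', zpow_add, ← (Commute.refl (g : G)).mul_zpow, hgg, one_zpow])
      · exact Or.inr (by rw [← hk', zpow_add, two_mul, zpow_add, ← (Commute.refl (g : G)).mul_zpow,
          hgg, one_zpow, one_mul, zpow_one])
    exact hne (((key p (subset_closure (by simp))).resolve_left
        (fun h => by rw [h, orderOf_one] at hp; simp at hp)).trans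
      ((key q (subset_closure (by simp))).resolve_left
        (fun h => by rw [h, orderOf_one] at hq; simp at hq)).symm)
  have hcop : (Nat.card A).Coprime (Nat.card N) := by
    haveI : Fact (Nat.Prime 2) := ⟨Nat.prime_two⟩
    have hA2 : IsPGroup 2 A := fun a => ⟨1, Subtype.ext (by
      rw [pow_one, Subgroup.coe_pow, pow_two, hAsq a a.2, Subgroup.coe_one])⟩
    obtain ⟨n, hn⟩ := IsPGroup.iff_card.1 hA2
    rw [hn]
    exact (Nat.coprime_two_left.2 hN).pow_left n
  have hAN : A ≤ normalizer (N : Set G) := (closure_le _).2 (by rintro u (rfl | rfl) <;> assumption)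
  rw [← Cfsg.Lib.Coprime.centralizerJoin_eq hcyc hAN hcop]
  refine iSup₂_le fun a ha g hg => ?_
  exact mem_stabilizer_iff.2 (fix_centre_of_commute hH
    (order_two_of_mul_self (hAsq a ha.1) ha.2) (mem_stabilizer_iff.1 (hAx ha.1))
    (mem_centralizer_singleton_iff.1 (mem_inf.1 hg).2))

theorem conj_mem_invGroupCore {α : Type*} [MulAction G α] {x : α} {w : G} (g : G)
    (hw : w ∈ invGroupCore G x) : g * w * g⁻¹ ∈ invGroupCore G (g • x) := by
  let L := (invGroupCore G x).map (MulAut.conj g).toMonoidHom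
  have hle : L ≤ invGroup G (g • x) := by
    rintro _ ⟨l, hl, rfl⟩
    exact conj_mem_invGroup g (oddCoreOf_le _ hl)
  have hn : invGroup G (g • x) ≤ normalizer (L : Set G) := by
    refine (closure_le _).2 fun v hv => Cfsg.Lib.ZStarApps.mem_normalizer_of_maps ?_
    rintro _ ⟨l, hl, rfl⟩
    have hv' : g⁻¹ * v * g⁻¹⁻¹ ∈ invGroup G x :=
      inv_smul_smul g x ▸ conj_mem_invGroup g⁻¹ (subset_closure hv)
    refine ⟨_, (mem_normalizer_iff.1
      (normalizer_le_normalizer_oddCoreOf _ (le_normalizer hv')) l).1 hl, ?_⟩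
    show g * _ * g⁻¹ = v * (g * l * g⁻¹) * v⁻¹
    group
  refine le_oddCoreOf hle hn ?_ ⟨w, hw, rfl⟩
  rw [card_map_of_injective (MulAut.conj g).injective]
  exact odd_card_oddCoreOf _

theorem stabilizer_le_normalizer_invGroupCore {α : Type*} [MulAction G α] (x : α) :
    stabilizer G x ≤ normalizer (invGroupCore G x : Set G) := fun g hg =>
  Cfsg.Lib.ZStarApps.mem_normalizer_of_maps fun w hw => by
    have h := conj_mem_invGroupCore g hw
    rwa [mem_stabilizer_iff.1 hg] at h

/-- `q`, the order of `M_x / Y_x` -/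
noncomputable def coreIndex {H : Subgroup G} (x : G ⧸ H) : ℕ :=
  (Cfsg.pPrimeCore 2 (invGroup G x)).index

variable {H : Subgroup G}

theorem coreIndex_eq (x y : G ⧸ H) : coreIndex x = coreIndex y := by
  have key : ∀ x y : G ⧸ H, Nat.card (invGroup G x) ≤ Nat.card (invGroup G y) ∧
      Nat.card (invGroupCore G x) ≤ Nat.card (invGroupCore G y) := by
    intro x y
    obtain ⟨g, rfl⟩ := MulAction.exists_smul_eq G x y
    exact ⟨Nat.card_le_card_of_injective
        (fun w => ⟨g * (w : G) * g⁻¹, conj_mem_invGroup g w.2⟩)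
        fun a b h => Subtype.ext (by simpa using congrArg Subtype.val h),
      Nat.card_le_card_of_injective
        (fun w => ⟨g * (w : G) * g⁻¹, conj_mem_invGroupCore g w.2⟩)
        fun a b h => Subtype.ext (by simpa using congrArg Subtype.val h)⟩
  have hM := le_antisymm (key x y).1 (key y x).1
  have hY := le_antisymm (key x y).2 (key y x).2
  simp only [invGroupCore, oddCoreOf, card_map_of_injective (Subgroup.subtype_injective _)] at hY
  rw [← (Cfsg.pPrimeCore 2 (invGroup G x)).card_mul_index,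
    ← (Cfsg.pPrimeCore 2 (invGroup G y)).card_mul_index, ← hY] at hM
  exact Nat.eq_of_mul_eq_mul_left Nat.card_pos hM

/-- a LOCAL in which the involutions at `a` commute modulo the core gives `CommModCore`, and its
`Y_a` fixes the second point -/
theorem commModCore_of_isLocal (hS : Setting H) {K : Subgroup G} {a b : G ⧸ H} (hK : IsLocal K a b)
    (hcomm : ∀ u ∈ invsAt a, ∀ v ∈ invsAt a, u * v * (u * v) ∈ oddCoreOf K) :
    CommModCore H ∧ invGroupCore G a ≤ stabilizer G b := by
  obtain ⟨-, -, -, ⟨t, htK, ht, hta⟩, hIa⟩ := hK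
  have hMK : invGroup G a ≤ K := (closure_le _).2 fun v hv => hIa v hv.1 hv.2
  have hON : K ≤ normalizer (oddCoreOf K : Set G) :=
    le_normalizer.trans (normalizer_le_normalizer_oddCoreOf K)
  have hsq : ∀ g ∈ invGroup G a, g * g ∈ oddCoreOf K := fun g hg =>
    sq_mem_of_mem_closure (fun v hv => hON (hIa v hv.1 hv.2)) (fun v hv => hv.1) hcomm hg
  constructor
  · intro x u v hu hv
    obtain ⟨g, rfl⟩ := MulAction.exists_smul_eq G a x
    have hu' : g⁻¹ * u * g ∈ invsAt a := by
      have := conj_mem_invsAt g⁻¹ hu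
      rwa [inv_smul_smul, inv_inv] at this
    have hv' : g⁻¹ * v * g ∈ invsAt a := by
      have := conj_mem_invsAt g⁻¹ hv
      rwa [inv_smul_smul, inv_inv] at this
    have h := hcomm _ hu' _ hv'
    have hY : invGroup G a ⊓ oddCoreOf K ≤ invGroupCore G a :=
      le_oddCoreOf inf_le_left (fun m hm => Cfsg.Lib.ZStarApps.mem_normalizer_of_maps fun w hw =>
        mem_inf.2 ⟨mul_mem (mul_mem hm (mem_inf.1 hw).1) (inv_mem hm),
          (mem_normalizer_iff.1 (hON (hMK hm)) w).1 (mem_inf.1 hw).2⟩)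
        ((odd_card_oddCoreOf K).of_dvd_nat (card_dvd_of_le inf_le_right))
    have hM : g⁻¹ * u * g * (g⁻¹ * v * g) ∈ invGroup G a :=
      mul_mem (subset_closure hu') (subset_closure hv')
    have h2 := conj_mem_invGroupCore g (hY (mem_inf.2 ⟨mul_mem hM hM, h⟩))
    rwa [show g * (g⁻¹ * u * g * (g⁻¹ * v * g) * (g⁻¹ * u * g * (g⁻¹ * v * g))) * g⁻¹ =
      u * v * (u * v) by group] at h2
  · intro y hy
    have hyO : y ∈ oddCoreOf K := mem_of_sq_mem (odd_card_oddCoreOf _) hy (hsq y (oddCoreOf_le _ hy))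
    obtain ⟨p, q, hp, hq, hne, hc, hpa, hqa⟩ := exists_commuting_fixing hS.se hS.rank2 a
    have hOa : oddCoreOf K ≤ stabilizer G a := le_stabilizer_of_commuting hS.se
      (odd_card_oddCoreOf K) hp hq hne hc hpa hqa (hON (hIa p hp hpa)) (hON (hIa q hq hqa))
    have h1 : (t⁻¹ * y * t) • a = a := hOa ((mem_normalizer_iff''.1 (hON htK) y).1 hyO)
    rw [mul_smul, mul_smul, hta, inv_smul_eq_iff, hta] at h1
    exact mem_stabilizer_iff.2 h1

/-- an involution at `x` lies outside `Y_x` -/
theorem not_mem_invGroupCore {α : Type*} [MulAction G α] {x : α} {v : G} (hv : orderOf v = 2) :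
    v ∉ invGroupCore G x := fun h => by
  have h2 := (odd_card_oddCoreOf (invGroup G x)).of_dvd_nat (Subgroup.orderOf_dvd_natCard _ h)
  rw [hv] at h2
  exact absurd h2 (by decide)

theorem mk_eq_one_iff {α : Type*} [MulAction G α] {x : α} (w : invGroup G x) :
    (QuotientGroup.mk w : invGroup G x ⧸ Cfsg.pPrimeCore 2 (invGroup G x)) = 1 ↔
      (w : G) ∈ invGroupCore G x := by
  rw [QuotientGroup.eq_one_iff]
  exact (mem_map_iff_mem (subtype_injective _)).symm

theorem sq_mem_invGroupCore (hC : CommModCore H) {x : G ⧸ H} {g : G} (hg : g ∈ invGroup G x) :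
    g * g ∈ invGroupCore G x :=
  sq_mem_of_mem_closure
    (fun _ hv => normalizer_le_normalizer_oddCoreOf _ (le_normalizer (subset_closure hv)))
    (fun _ hv => hv.1) (fun u hu v hv => hC x u v hu hv) hg

/-- `q ≥ 4` is a power of two -/
theorem coreIndex_spec (hS : Setting H) (hC : CommModCore H) (x : G ⧸ H) :
    Odd (coreIndex x - 1) ∧ 3 ≤ coreIndex x - 1 := by
  set Q := invGroup G x ⧸ Cfsg.pPrimeCore 2 (invGroup G x)
  have hexp : ∀ c : Q, c * c = 1 := fun c => by
    obtain ⟨w, rfl⟩ := QuotientGroup.mk_surjective c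
    rw [← QuotientGroup.mk_mul, mk_eq_one_iff]
    exact sq_mem_invGroupCore hC w.2
  haveI : Fact (Nat.Prime 2) := ⟨Nat.prime_two⟩
  obtain ⟨n, hn⟩ := IsPGroup.iff_card.1 (fun c : Q => ⟨1, by rw [pow_one, pow_two, hexp c]⟩ :
    IsPGroup 2 Q)
  obtain ⟨p, q, hp, hq, hne, hc, hpx, hqx⟩ := exists_commuting_fixing hS.se hS.rank2 x
  let P : invGroup G x := ⟨p, subset_closure ⟨hp, hpx⟩⟩
  let P' : invGroup G x := ⟨q, subset_closure ⟨hq, hqx⟩⟩
  have hne' : (QuotientGroup.mk P : Q) ≠ QuotientGroup.mk P' := fun h => by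
    have h1 : (QuotientGroup.mk (P * P') : Q) = 1 := by rw [QuotientGroup.mk_mul, h, hexp]
    refine not_mem_invGroupCore (x := x) ?_ ((mk_eq_one_iff _).1 h1)
    refine order_two_of_mul_self ?_ fun e => hne ?_
    · show p * q * (p * q) = 1
      rw [show p * q * (p * q) = p * (q * p) * q by group, ← hc,
        show p * (p * q) * q = p * p * (q * q) by group, sq_of_order_two hp, sq_of_order_two hq,
        one_mul]
    · rw [eq_inv_of_mul_eq_one_left (show p * q = 1 from e), inv_of_order_two hq]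
  have h3 : 3 ≤ Nat.card Q := by
    have := Nat.card_le_card_of_injective
      (![1, (QuotientGroup.mk P : Q), QuotientGroup.mk P']) (fun i j h => by
        have hP : (QuotientGroup.mk P : Q) ≠ 1 := fun e =>
          not_mem_invGroupCore hp ((mk_eq_one_iff P).1 e)
        have hP' : (QuotientGroup.mk P' : Q) ≠ 1 := fun e =>
          not_mem_invGroupCore hq ((mk_eq_one_iff P').1 e)
        fin_cases i <;> fin_cases j <;> simp_all [eq_comm])
    simpa using this
  have hn2 : 2 ≤ n := by
    by_contra hlt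
    interval_cases n <;> omega
  have hcard : coreIndex x = 2 ^ n := hn
  have h4 : 2 ^ 2 ≤ 2 ^ n := Nat.pow_le_pow_right two_pos hn2
  refine ⟨?_, by omega⟩
  rw [hcard]
  exact Nat.Even.sub_odd Nat.one_le_two_pow ((Nat.even_pow' (by omega)).2 even_two) odd_one

/-- the torus count: the elements of a pair stabiliser fixing the image of an involution in
`M_x / Y_x` form a subgroup of index `q - 1` -/
theorem exists_torus_subgroup (hH : Cfsg.IsStronglyEmbedded H) (hC : CommModCore H) {x z : G ⧸ H}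
    (hxz : x ≠ z) {v : G} (hv : orderOf v = 2) (hvx : v • x = x) :
    ∃ A : Subgroup G, A ≤ stabilizer G x ⊓ stabilizer G z ∧
      (∀ g ∈ stabilizer G x ⊓ stabilizer G z, g * v * g⁻¹ * v⁻¹ ∈ invGroupCore G x → g ∈ A) ∧
      Nat.card A * (coreIndex x - 1) = Nat.card ↥(stabilizer G x ⊓ stabilizer G z) := by
  set D := stabilizer G x ⊓ stabilizer G z with hD
  set M := invGroup G x
  set Q := M ⧸ Cfsg.pPrimeCore 2 M
  have hconj : ∀ g : D, (g : G) * v * (g : G)⁻¹ ∈ invsAt x := fun g => by
    have h := conj_mem_invsAt (g : G) (show v ∈ invsAt x from ⟨hv, hvx⟩)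
    rwa [mem_stabilizer_iff.1 (mem_inf.1 g.2).1] at h
  let φ : D → {c : Q // c ≠ 1} := fun g =>
    ⟨QuotientGroup.mk ⟨_, subset_closure (hconj g)⟩,
      fun e => not_mem_invGroupCore (hconj g).1 ((mk_eq_one_iff _).1 e)⟩
  have heq : ∀ g h : D, φ g = φ h ↔
      (g : G) * v * (g : G)⁻¹ * ((h : G) * v * (h : G)⁻¹)⁻¹ ∈ invGroupCore G x := by
    intro g h
    rw [Subtype.ext_iff, ← mul_inv_eq_one]
    show (QuotientGroup.mk _ * (QuotientGroup.mk _)⁻¹ : Q) = 1 ↔ _
    rw [← QuotientGroup.mk_inv, ← QuotientGroup.mk_mul, mk_eq_one_iff]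
    rfl
  have hnorm : ∀ g : D, ∀ w : G, w ∈ invGroupCore G x ↔ (g : G) * w * (g : G)⁻¹ ∈ invGroupCore G x :=
    fun g => mem_normalizer_iff.1 (stabilizer_le_normalizer_invGroupCore x (mem_inf.1 g.2).1)
  have htr : ∀ g h k : D, φ g = φ h → φ (k * g) = φ (k * h) := by
    intro g h k e
    rw [heq] at e ⊢
    have h1 := (hnorm k _).1 e
    simp only [Subgroup.coe_mul]
    rwa [show (k : G) * g * v * ((k : G) * g)⁻¹ * ((k : G) * h * v * ((k : G) * h)⁻¹)⁻¹ =
      (k : G) * ((g : G) * v * (g : G)⁻¹ * ((h : G) * v * (h : G)⁻¹)⁻¹) * (k : G)⁻¹ by group]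
  let A' : Subgroup D :=
    { carrier := {g | φ g = φ 1}
      one_mem' := rfl
      mul_mem' := fun {g h} hg hh => by
        have e := htr h 1 g hh
        rw [mul_one] at e
        exact e.trans hg
      inv_mem' := fun {g} hg => by
        have e := htr g 1 g⁻¹ hg
        rw [inv_mul_cancel, mul_one] at e
        exact e.symm }
  have hf : ∀ g h : D, φ g = φ h ↔ g⁻¹ * h ∈ A' := by
    intro g h
    constructor
    · intro e
      have h1 := htr g h g⁻¹ e
      rw [inv_mul_cancel] at h1
      exact h1.symm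
    · intro e
      have h1 := htr (g⁻¹ * h) 1 g e
      rw [mul_inv_cancel_left, mul_one] at h1
      exact h1.symm
  have hsurj : Function.Surjective φ := by
    rintro ⟨c, hc⟩
    obtain ⟨w, rfl⟩ := QuotientGroup.mk_surjective c
    have hk : Odd (orderOf ((w : G) * w)) := (odd_card_oddCoreOf (invGroup G x)).of_dvd_nat
      (Subgroup.orderOf_dvd_natCard _ (sq_mem_invGroupCore hC w.2))
    set k := orderOf ((w : G) * w)
    set u : M := w ^ k with hu
    have hwu : (QuotientGroup.mk u : Q) = QuotientGroup.mk w := by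
      obtain ⟨j, hj⟩ := hk
      have hw2 : (QuotientGroup.mk w : Q) * QuotientGroup.mk w = 1 := by
        rw [← QuotientGroup.mk_mul, mk_eq_one_iff]
        exact sq_mem_invGroupCore hC w.2
      rw [hu, QuotientGroup.mk_pow, hj, pow_succ, pow_mul, pow_two, hw2, one_pow, one_mul]
    have hu2 : (u : G) * u = 1 := by
      rw [hu, Subgroup.coe_pow, ← (Commute.refl (w : G)).mul_pow, pow_orderOf_eq_one]
    have hu1 : (u : G) ≠ 1 := fun e => hc (by
      rw [← hwu, show u = 1 from Subtype.ext e, QuotientGroup.mk_one])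
    obtain ⟨d, hd, hdu⟩ := exists_conj_centre hH hxz hv hvx (order_two_of_mul_self hu2 hu1)
      (mem_stabilizer_iff.1 (invGroup_le_stabilizer x u.2))
    refine ⟨⟨d, hd⟩, Subtype.ext ?_⟩
    show (QuotientGroup.mk _ : Q) = QuotientGroup.mk w
    rw [← hwu]
    exact congrArg _ (Subtype.ext hdu)
  have hidx : A'.index = coreIndex x - 1 := by
    have hb : Function.Bijective (fun c : D ⧸ A' => Quotient.liftOn' c φ
        fun g h r => (hf g h).2 (QuotientGroup.leftRel_apply.1 r)) := by
      refine ⟨fun c c' => ?_, fun c => ?_⟩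
      · obtain ⟨g, rfl⟩ := QuotientGroup.mk_surjective c
        obtain ⟨h, rfl⟩ := QuotientGroup.mk_surjective c'
        exact fun e => QuotientGroup.eq.2 ((hf g h).1 e)
      · obtain ⟨g, rfl⟩ := hsurj c
        exact ⟨QuotientGroup.mk g, rfl⟩
    rw [index_eq_card, Nat.card_eq_of_bijective _ hb, coreIndex, index_eq_card]
    show Nat.card ↥({1}ᶜ : Set Q) = _
    rw [Nat.card_coe_set_eq, Set.ncard_compl, Set.ncard_singleton]
  refine ⟨A'.map D.subtype, map_subtype_le _, fun g hg hgv => ⟨⟨g, hg⟩, ?_, rfl⟩, ?_⟩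
  · refine (heq _ _).2 ?_
    simpa using hgv
  · rw [card_map_of_injective D.subtype_injective, ← hidx]
    exact A'.card_mul_index

/-- the prime `s ∣ q - 1` satisfies the hypothesis of the fixed point argument -/
theorem exists_torus_prime (hS : Setting H) (hC : CommModCore H) :
    ∃ s : ℕ, s.Prime ∧ s ≠ 2 ∧ s ∣ invCount H ∧ FixHyp H s := by
  have a : G ⧸ H := QuotientGroup.mk 1
  obtain ⟨hodd, hge⟩ := coreIndex_spec hS hC a
  obtain ⟨s, hs, hsa⟩ := Nat.exists_prime_and_dvd (show coreIndex a - 1 ≠ 1 by omega)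
  have hs2 : s ≠ 2 := fun e => Nat.not_even_iff_odd.2 hodd (even_iff_two_dvd.2 (e ▸ hsa))
  haveI : Fact s.Prime := ⟨hs⟩
  refine ⟨s, hs, hs2, ?_, ?_⟩
  · obtain ⟨t, ht, hta⟩ := exists_fixing hS.se a
    obtain ⟨b, hba⟩ : ∃ b : G ⧸ H, b ≠ a := by
      by_contra hcon
      push Not at hcon
      refine hS.se.1 (eq_top_iff.2 fun g _ => ?_)
      have h : (QuotientGroup.mk g : G ⧸ H) = QuotientGroup.mk 1 := (hcon _).trans (hcon _).symm
      simpa [QuotientGroup.eq] using h
    obtain ⟨A, hAD, hA, hcard⟩ := exists_torus_subgroup hS.se hC hba.symm ht hta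
    have hle : stabilizer G a ⊓ stabilizer G b ⊓ centralizer ({t} : Set G) ≤ A := by
      intro g hg
      refine hA g (mem_inf.1 hg).1 ?_
      rw [mem_centralizer_singleton_iff.1 (mem_inf.1 hg).2, mul_inv_cancel_right, mul_inv_cancel]
      exact one_mem _
    obtain ⟨k, hk⟩ := card_dvd_of_le hle
    refine hsa.trans (Dvd.intro_left k ?_)
    refine Nat.eq_of_mul_eq_mul_left (Nat.card_pos (α := ↥(stabilizer G a ⊓ stabilizer G b ⊓
      centralizer ({t} : Set G)))) ?_
    rw [card_centralizer_fixing hS.se hba.symm ht hta, ← mul_assoc, ← hk, hcard]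
  · intro x z P Q hxz hPD hPcard _ hQp hPQ hQx _ v hv hvx hvQ
    obtain ⟨A, -, hA, hcard⟩ := exists_torus_subgroup hS.se hC hxz hv hvx
    have hPA : P ≤ A := by
      intro g hg
      set w := g * v * g⁻¹ * v⁻¹ with hw
      have hwQ : w ∈ Q := by
        rw [hw, show g * v * g⁻¹ * v⁻¹ = g * (v * g⁻¹ * v⁻¹) by group]
        exact mul_mem (hPQ hg) ((mem_normalizer_iff.1 hvQ _).1 (inv_mem (hPQ hg)))
      have hwM : w ∈ invGroup G x := by
        have h := conj_mem_invsAt g (show v ∈ invsAt x from ⟨hv, hvx⟩)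
        rw [hQx g (hPQ hg)] at h
        exact mul_mem (subset_closure h) (inv_mem (subset_closure ⟨hv, hvx⟩))
      have hQodd : Odd (Nat.card Q) := by
        obtain ⟨n, hn⟩ := IsPGroup.iff_card.1 hQp
        rw [hn]
        exact (hs.odd_of_ne_two hs2).pow
      exact hA g (hPD hg) (mem_of_sq_mem hQodd hwQ (sq_mem_invGroupCore hC hwM))
    refine Nat.pow_succ_factorization_not_dvd Nat.card_pos.ne' hs ?_ (n :=
      Nat.card ↥(stabilizer G x ⊓ stabilizer G z))
    rw [pow_succ, ← hPcard, ← hcard]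
    exact Nat.mul_dvd_mul (card_dvd_of_le hPA) (coreIndex_eq a x ▸ hsa)

/-- in a two-transitive group, `Y_x = 1` as soon as some `Y_a` fixes a second point -/
theorem invGroupCore_eq_bot (hS : Setting H) (h2 : TwoTransitive H) {a b : G ⧸ H} (hab : a ≠ b)
    (hY : invGroupCore G a ≤ stabilizer G b) (x : G ⧸ H) : invGroupCore G x = ⊥ := by
  rw [eq_bot_iff, ← hS.core]
  intro y hy
  obtain ⟨g, rfl⟩ := MulAction.exists_smul_eq G a x
  have hy' : g⁻¹ * y * g ∈ invGroupCore G a := by
    have h := conj_mem_invGroupCore g⁻¹ hy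
    rwa [inv_smul_smul, inv_inv] at h
  have hall : ∀ c : G ⧸ H, (g⁻¹ * y * g) • c = c := by
    intro c
    rcases eq_or_ne c a with rfl | hca
    · exact invGroup_le_stabilizer c (oddCoreOf_le _ hy')
    obtain ⟨k, hka, hkb⟩ := h2 a b c hab.symm hca
    have h := hY ((mem_normalizer_iff''.1
      (stabilizer_le_normalizer_invGroupCore a (mem_stabilizer_iff.2 hka)) _).1 hy')
    rw [mem_stabilizer_iff, mul_smul, mul_smul, inv_smul_eq_iff, hkb] at h
    exact h
  intro k
  have h := hall ((g⁻¹ * k⁻¹) • (QuotientGroup.mk 1 : G ⧸ H))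
  rw [smul_smul, MulAction.Quotient.smul_mk, MulAction.Quotient.smul_mk, smul_eq_mul, smul_eq_mul,
    mul_one, mul_one, QuotientGroup.eq] at h
  rw [show k * y * k⁻¹ = ((g⁻¹ * y * g * (g⁻¹ * k⁻¹))⁻¹ * (g⁻¹ * k⁻¹))⁻¹ by group]
  exact inv_mem h

/-- involutions with a common centre then commute, and there is no bad element -/
theorem commute_and_noBad (hS : Setting H) (hC : CommModCore H)
    (hY : ∀ x : G ⧸ H, invGroupCore G x = ⊥) :
    (∀ (x : G ⧸ H) (u v : G), u ∈ invsAt x → v ∈ invsAt x → Commute u v) ∧ NoBad H := by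
  have hcomm : ∀ (x : G ⧸ H) (u v : G), u ∈ invsAt x → v ∈ invsAt x → Commute u v := by
    intro x u v hu hv
    have h := hC x u v hu hv
    rw [hY, mem_bot] at h
    show u * v = v * u
    rw [eq_inv_of_mul_eq_one_left h, mul_inv_rev, inv_of_order_two hu.1, inv_of_order_two hv.1]
  refine ⟨hcomm, ?_⟩
  rintro t y c a ⟨ht, htc, hac, hyc, hya, hy1, hinv⟩
  have hodd : Odd (orderOf y) := (odd_stabilizer_inf hS.se hac).of_dvd_nat
    (Subgroup.orderOf_dvd_natCard _ (mem_inf.2 ⟨hya, hyc⟩))
  rw [inv_of_order_two ht] at hinv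
  have hty : orderOf (t * y) = 2 := by
    refine order_two_of_mul_self ?_ fun h => ?_
    · rw [show t * y * (t * y) = (t * y * t) * y by group, hinv, inv_mul_cancel]
    · rw [eq_inv_of_mul_eq_one_right h, inv_of_order_two ht, ht] at hodd
      exact absurd hodd (by decide)
  have h := (hcomm c t (t * y) ⟨ht, htc⟩ ⟨hty, by rw [mul_smul, hyc, htc]⟩).eq
  rw [hinv, ← mul_assoc, sq_of_order_two ht, one_mul] at h
  refine hy1 ?_
  have h2 : y ^ 2 = 1 := by
    rw [pow_two]
    nth_rewrite 1 [h]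
    exact inv_mul_cancel y
  exact orderOf_eq_one_iff.1 ((Nat.dvd_prime Nat.prime_two).1 (orderOf_dvd_of_pow_eq_one h2)
    |>.resolve_right fun e => by rw [e] at hodd; exact absurd hodd (by decide))

end Cfsg.Lib.BenderSE
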