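/-
THE ASSEMBLY of the strongly embedded theorem. The one input is `CommStep`: in a simple group with a
strongly embedded `H`, two commuting involutions, two-transitivity, no bad element and
`CentreSquares H`, the involutions of `H` commute. From it: `CentreSquares` in all groups, no bad
element and two-transitivity for core-free `H`, the dichotomy of Bender (row 1220) and the odd
centraliser of an inverted element of a pair stabiliser (row 1223).
-/
import Cfsg.Agent.BenderSE.CommDescent
import Cfsg.Agent.BenderSE.Good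
import Cfsg.Agent.BenderSE.Pi
import Cfsg.Agent.Frobenius.UniqueSubgroup

set_option autoImplicit false
set_option linter.unusedSectionVars false
set_option linter.style.haveILetI false

namespace Cfsg.Lib.BenderSE

open Subgroup MulAction Cfsg.Lib.InvolCalc Cfsg.Lib.StrongEmb

universe u

/-- the remaining input of the induction -/
def CommStep : Prop :=
  ∀ (S : Type u) [Group S] [Finite S], IsSimpleGroup S →
    ∀ K : Subgroup S, Cfsg.IsStronglyEmbedded K → HasCommutingInvolutions S → TwoTransitive K →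
      NoBad K → CentreSquares K →
      ∀ i ∈ K, ∀ j ∈ K, orderOf i = 2 → orderOf j = 2 → i * j = j * i

variable {G : Type u} [Group G] [Finite G] {H : Subgroup G}

/-- in a LOCAL the involutions at its first point commute modulo the core -/
theorem sq_mem_oddCoreOf_of_isLocal (hS : Setting H) (hcs : CentreSquares H) {K : Subgroup G}
    {a b : G ⧸ H} (hK : IsLocal K a b) {u v : G} (hu : u ∈ invsAt a) (hv : v ∈ invsAt a) :
    u * v * (u * v) ∈ oddCoreOf K := by
  obtain ⟨hKtop, hab, -, ⟨t, htK, -, htab⟩, hI⟩ := hK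
  obtain ⟨p, q, hp, hq, hne, hc, hpa, hqa⟩ := exists_commuting_fixing hS.se hS.rank2 a
  have hmove : ¬ K ≤ stabilizer G a := fun h =>
    hab ((mem_stabilizer_iff.1 (h htK)).symm.trans htab)
  have h1 : u * v * (u * v) ∈ orbitFix K a :=
    hcs K hKtop ⟨p, hI p hp hpa, q, hI q hq hqa, hp, hq, hne, hc⟩ a u v (hI u hu.1 hu.2)
      (hI v hv.1 hv.2) hu.1 hv.1 hu.2 hv.2 hmove
  have hle : K ⊓ orbitFix K a ≤ oddCoreOf K := by
    refine le_oddCoreOf inf_le_left (Cfsg.Lib.Coprime.le_normalizer_inf le_normalizer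
      (le_normalizer_orbitFix K a)) ?_
    exact (odd_stabilizer_inf hS.se hab).of_dvd_nat (card_dvd_of_le (inf_le_right.trans
      (le_inf orbitFix_le_stabilizer (orbitFix_le_point htK htab))))
  have h2 : u * v ∈ K := mul_mem (hI u hu.1 hu.2) (hI v hv.1 hv.2)
  exact hle (mem_inf.2 ⟨mul_mem h2 h2, h1⟩)

/-- `CentreSquares` leaves no bad element -/
theorem noBad_of_centreSquares (hS : Setting H) (hcs : CentreSquares H) : NoBad H := by
  intro t y c a hb
  obtain ⟨K, a', b', hK⟩ := hasLocal_of_bad hS.se hS.core hcs hb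
  obtain ⟨hC, hY⟩ := commModCore_of_isLocal hS hK fun u hu v hv =>
    sq_mem_oddCoreOf_of_isLocal hS hcs hK hu hv
  obtain ⟨s, hs, hs2, -, hyp⟩ := exists_torus_prime hS hC
  haveI := Fact.mk hs
  have h2 := twoTransitive_of_exactlyTwo (exactlyTwo_of_fixHyp hS.se hs2 hyp)
  exact (commute_and_noBad hS hC (invGroupCore_eq_bot hS h2 hK.2.1 hY)).2 t y c a hb

theorem normalCore_eq_bot_of_simple [IsSimpleGroup G] (hH : Cfsg.IsStronglyEmbedded H) :
    H.normalCore = ⊥ :=
  (Subgroup.normalCore_normal H).eq_bot_or_eq_top.resolve_right fun h =>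
    hH.1 (top_unique (h ▸ normalCore_le H))

/-- THE INDUCTION -/
theorem commBelow_of_commStep (step : CommStep.{u}) (n : ℕ) : CommBelow.{u} n := by
  induction n using Nat.strong_induction_on with
  | _ n ih =>
    intro S _ _ hsimple hlt K hK h2
    haveI := hsimple
    have hcs : CentreSquares K := centreSquares_of_commBelow hK (ih _ hlt)
    have hS : Setting K := ⟨hK, normalCore_eq_bot_of_simple hK, h2⟩
    have hb := noBad_of_centreSquares hS hcs
    exact step S hsimple K hK h2 (twoTransitive_of_noBad hK h2 hb) hb hcs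

theorem centreSquares_of_commStep (step : CommStep.{u}) (hH : Cfsg.IsStronglyEmbedded H) :
    CentreSquares H :=
  centreSquares_of_commBelow hH (commBelow_of_commStep step _)

theorem noBad_of_commStep (step : CommStep.{u}) (hS : Setting H) : NoBad H :=
  noBad_of_centreSquares hS (centreSquares_of_commStep step hS.se)

theorem twoTransitive_of_commStep (step : CommStep.{u}) (hS : Setting H) : TwoTransitive H :=
  twoTransitive_of_noBad hS.se hS.rank2 (noBad_of_commStep step hS)

theorem commute_of_commStep [IsSimpleGroup G] (step : CommStep.{u})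
    (hH : Cfsg.IsStronglyEmbedded H) (h2 : HasCommutingInvolutions G) {i j : G} (hi : i ∈ H)
    (hj : j ∈ H) (hi2 : orderOf i = 2) (hj2 : orderOf j = 2) : i * j = j * i :=
  commBelow_of_commStep step (Nat.card G + 1) G inferInstance (Nat.lt_succ_self _) H hH h2
    i hi j hj hi2 hj2

/-! ### passing to the core-free quotient -/

theorem odd_normalCore (hH : Cfsg.IsStronglyEmbedded H) : Odd (Nat.card H.normalCore) := by
  obtain ⟨g, hg⟩ : ∃ g : G, g ∉ H := by
    by_contra h
    push Not at h
    exact hH.1 ((Subgroup.eq_top_iff' H).2 h)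
  refine (hH.2.2 g hg).of_dvd_nat (card_dvd_of_le (le_inf (normalCore_le H) fun x hx => ?_))
  refine ⟨g⁻¹ * x * g, ?_, ?_⟩
  · have := (Subgroup.normalCore_normal H).conj_mem x hx g⁻¹
    exact normalCore_le H (by simpa using this)
  · show g * (g⁻¹ * x * g) * g⁻¹ = x
    group

theorem mem_map_core_iff {x : G} :
    QuotientGroup.mk' H.normalCore x ∈ H.map (QuotientGroup.mk' H.normalCore) ↔ x ∈ H := by
  rw [← mem_comap, comap_map_eq_self (by rw [QuotientGroup.ker_mk']; exact normalCore_le H)]

theorem involution_quotient (hH : Cfsg.IsStronglyEmbedded H) {p : G} (hp : orderOf p = 2) :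
    orderOf (QuotientGroup.mk' H.normalCore p) = 2 := by
  refine order_two_of_mul_self (by rw [← map_mul, sq_of_order_two hp, map_one]) fun h => ?_
  have h1 := (odd_normalCore hH).of_dvd_nat
    (Subgroup.orderOf_dvd_natCard _ ((QuotientGroup.eq_one_iff p).1 h))
  rw [hp] at h1
  exact absurd h1 (by decide)

theorem setting_quotient (hH : Cfsg.IsStronglyEmbedded H) (h2 : HasCommutingInvolutions G) :
    Setting (H.map (QuotientGroup.mk' H.normalCore)) := by
  set π := QuotientGroup.mk' H.normalCore with hπ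
  have hπs : Function.Surjective π := QuotientGroup.mk'_surjective _
  refine ⟨⟨fun htop => hH.1 (eq_top_iff.2 fun x _ => mem_map_core_iff.1 (htop ▸ mem_top _)), ?_,
    fun q hq => ?_⟩, ?_, ?_⟩
  · obtain ⟨i, hi, hi2⟩ := exists_involution_of_even hH.2.1
    exact even_iff_two_dvd.2 (involution_quotient hH hi2 ▸
      Subgroup.orderOf_dvd_natCard _ (mem_map_of_mem π hi))
  · obtain ⟨g, rfl⟩ := hπs q
    have hg : g ∉ H := fun h => hq (mem_map_of_mem π h)
    refine ((hH.2.2 g hg).of_dvd_nat
      (Subgroup.card_map_dvd (H ⊓ H.map (MulAut.conj g).toMonoidHom) π)).of_dvd_nat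
      (card_dvd_of_le ?_)
    rintro _ ⟨⟨x, hx, rfl⟩, ⟨_, ⟨y, hy, rfl⟩, hxy⟩⟩
    refine mem_map_of_mem π (mem_inf.2 ⟨hx, ⟨g⁻¹ * x * g, mem_map_core_iff.1 ?_, ?_⟩⟩)
    · change π g * π y * (π g)⁻¹ = π x at hxy
      have e : π (g⁻¹ * x * g) = π y := by
        rw [map_mul, map_mul, map_inv, ← hxy]
        group
      rw [e]
      exact mem_map_of_mem π hy
    · show g * (g⁻¹ * x * g) * g⁻¹ = x
      group
  · rw [← map_comap_eq_self_of_surjective hπs (H.map π).normalCore]
    have hn : ((H.map π).normalCore.comap π).Normal := inferInstance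
    have hle : (H.map π).normalCore.comap π ≤ H.normalCore := normal_le_normalCore.2 fun x hx =>
      mem_map_core_iff.1 (normalCore_le _ (mem_comap.1 hx))
    rw [Subgroup.map_eq_bot_iff]
    exact hle.trans_eq (QuotientGroup.ker_mk' _).symm
  · obtain ⟨p, q, hp, hq, hne, hc⟩ := h2
    refine ⟨π p, π q, involution_quotient hH hp, involution_quotient hH hq, fun e => ?_,
      by rw [← map_mul, ← map_mul, hc]⟩
    have hpq : orderOf (p⁻¹ * q) = 2 := by
      rw [inv_of_order_two hp]
      refine order_two_of_mul_self ?_ fun h => hne ?_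
      · rw [show p * q * (p * q) = p * (q * p) * q by group, ← hc,
          show p * (p * q) * q = p * p * (q * q) by group, sq_of_order_two hp, sq_of_order_two hq,
          one_mul]
      · rw [eq_inv_of_mul_eq_one_left h, inv_of_order_two hq]
    have h1 := (odd_normalCore hH).of_dvd_nat
      (Subgroup.orderOf_dvd_natCard _ (QuotientGroup.eq.1 e))
    rw [hpq] at h1
    exact absurd h1 (by decide)

/-- two-transitivity in the form of row 1220 -/
theorem transitive_of_commStep (step : CommStep.{u}) (hH : Cfsg.IsStronglyEmbedded H)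
    (h2 : HasCommutingInvolutions G) (g₁ g₂ : G) (h₁ : g₁ ∉ H) (h₂ : g₂ ∉ H) :
    ∃ h ∈ H, g₂⁻¹ * (h * g₁) ∈ H := by
  set π := QuotientGroup.mk' H.normalCore
  have hne : ∀ g : G, g ∉ H → (QuotientGroup.mk (π g) : _ ⧸ H.map π) ≠ QuotientGroup.mk 1 :=
    fun g hg h => hg (by
      have h' := QuotientGroup.eq.1 h
      rw [mul_one, inv_mem_iff] at h'
      exact mem_map_core_iff.1 h')
  obtain ⟨q, hq1, hq2⟩ := twoTransitive_of_commStep step (setting_quotient hH h2)
    (QuotientGroup.mk 1) _ _ (hne g₁ h₁) (hne g₂ h₂)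
  obtain ⟨h, rfl⟩ := QuotientGroup.mk'_surjective _ q
  refine ⟨h, mem_map_core_iff.1 ?_, mem_map_core_iff.1 ?_⟩
  · rw [MulAction.Quotient.smul_mk, smul_eq_mul, mul_one, eq_comm, QuotientGroup.eq, inv_one,
      one_mul] at hq1
    exact hq1
  · rw [MulAction.Quotient.smul_mk, smul_eq_mul, eq_comm, QuotientGroup.eq] at hq2
    rw [map_mul, map_mul, map_inv]
    exact hq2

/-! ### rank one -/

theorem eq_of_commute_of_rankOne (h : ¬ HasCommutingInvolutions G) {p q : G} (hp : orderOf p = 2)
    (hq : orderOf q = 2) (hc : Commute p q) : p = q := by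
  by_contra hne
  exact h ⟨p, q, hp, hq, hne, hc⟩

theorem isCyclic_or_quaternion_of_rankOne (h : ¬ HasCommutingInvolutions G) (S : Sylow 2 G) :
    IsCyclic S ∨ ∃ m : ℕ, 1 ≤ m ∧ Nonempty ((S : Subgroup G) ≃* QuaternionGroup (2 ^ m)) := by
  haveI : Fact (Nat.Prime 2) := ⟨Nat.prime_two⟩
  have huniq : ∀ x y : S, orderOf x = 2 → orderOf y = 2 → y ∈ zpowers x := by
    intro x y hx hy
    haveI : Nontrivial S := ⟨⟨x, 1, fun e => by rw [e, orderOf_one] at hx; simp at hx⟩⟩
    haveI := S.2.center_nontrivial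
    have h2 : 2 ∣ Nat.card (center S) := by
      obtain ⟨n, hn⟩ := IsPGroup.iff_card.1 (S.2.to_subgroup (center S))
      rw [hn]
      refine dvd_pow_self 2 fun e => ?_
      rw [e, pow_zero] at hn
      exact absurd hn (Finite.one_lt_card (α := center S)).ne'
    obtain ⟨z, hz⟩ := exists_prime_orderOf_dvd_card' (G := center S) 2 h2
    have hz' : orderOf ((z : S) : G) = 2 := by rw [Subgroup.orderOf_coe, Subgroup.orderOf_coe, hz]
    have key : ∀ w : S, orderOf w = 2 → ((z : S) : G) = w := fun w hw =>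
      eq_of_commute_of_rankOne h hz' (by rw [Subgroup.orderOf_coe, hw])
        (congrArg Subtype.val (mem_center_iff.1 z.2 w).symm :)
    rw [show y = x from Subtype.ext ((key y hy).symm.trans (key x hx))]
    exact mem_zpowers x
  rcases Cfsg.Lib.UniqueSub.isCyclic_or_quaternion S.2 huniq with hc | ⟨-, n, ⟨e⟩⟩
  · exact Or.inl hc
  rcases Nat.eq_zero_or_pos n with rfl | hn
  · haveI : IsCyclic (QuaternionGroup (2 ^ 0)) := by
      rw [pow_zero]
      exact QuaternionGroup.quaternionGroup_one_isCyclic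
    exact Or.inl (isCyclic_of_surjective e.symm e.symm.surjective)
  · exact Or.inr ⟨n, hn, ⟨e⟩⟩

theorem sup_eq_top_of_rankOne (hH : Cfsg.IsStronglyEmbedded H) (h : ¬ HasCommutingInvolutions G) :
    Cfsg.oddCore G ⊔ H = ⊤ := by
  obtain ⟨t, htH, ht⟩ := exists_involution_of_even hH.2.1
  have hiso : Cfsg.IsIsolatedInvolution t :=
    ⟨ht, fun g hg => eq_of_commute_of_rankOne h (by rw [orderOf_conj', ht]) ht hg.symm⟩
  refine eq_top_iff.2 fun g _ => ?_
  set t' := g * t * g⁻¹ with ht'
  have ht'2 : orderOf t' = 2 := by rw [ht', orderOf_conj', ht]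
  have hmem : t * t' ∈ Cfsg.oddCore G := by
    have h1 := Cfsg.Lib.ZStarApps.zstarProp hiso g
    rw [show t * g * t⁻¹ * g⁻¹ = t * (g * t⁻¹ * g⁻¹) by group, inv_of_order_two ht] at h1
    exact h1
  obtain ⟨d, hd, hdt⟩ := conj_of_odd ht ht'2
    (Cfsg.Lib.ZStarApps.odd_card_pPrimeCore.of_dvd_nat (Subgroup.orderOf_dvd_natCard _ hmem))
  have htS : t ∈ Cfsg.oddCore G ⊔ H := mem_sup_right htH
  have hdS : d ∈ Cfsg.oddCore G ⊔ H := by
    refine (closure_le _).2 ?_ hd
    rintro x (rfl | hx)
    · exact htS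
    · rw [Set.mem_singleton_iff] at hx
      subst hx
      have := mul_mem (inv_mem htS) (mem_sup_left (T := H) hmem)
      rwa [inv_mul_cancel_left] at this
  have hcomm : Commute (d⁻¹ * g) t := by
    show d⁻¹ * g * t = t * (d⁻¹ * g)
    calc d⁻¹ * g * t = d⁻¹ * (g * t * g⁻¹) * g := by group
      _ = d⁻¹ * (d * t * d⁻¹) * g := by rw [← ht', hdt]
      _ = t * (d⁻¹ * g) := by group
  have hfix : t • (QuotientGroup.mk 1 : G ⧸ H) = QuotientGroup.mk 1 := by
    rw [MulAction.Quotient.smul_mk, smul_eq_mul, mul_one, eq_comm, QuotientGroup.eq, inv_one,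
      one_mul]
    exact htH
  have hH' := fix_centre_of_commute hH ht hfix hcomm
  rw [MulAction.Quotient.smul_mk, smul_eq_mul, mul_one, eq_comm, QuotientGroup.eq, inv_one,
    one_mul] at hH'
  have := mul_mem hdS (mem_sup_right (S := Cfsg.oddCore G) hH')
  rwa [mul_inv_cancel_left] at this

/-- ROW 1220 from `CommStep` -/
theorem dichotomy_of_commStep (step : CommStep.{u}) (hH : Cfsg.IsStronglyEmbedded H) :
    (∀ g₁ g₂ : G, g₁ ∉ H → g₂ ∉ H → ∃ h ∈ H, g₂⁻¹ * (h * g₁) ∈ H) ∨
      ((∀ S : Sylow 2 G, IsCyclic S ∨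
        ∃ m : ℕ, 1 ≤ m ∧ Nonempty ((S : Subgroup G) ≃* QuaternionGroup (2 ^ m))) ∧
        Cfsg.oddCore G ⊔ H = ⊤) := by
  by_cases h2 : HasCommutingInvolutions G
  · exact Or.inl (transitive_of_commStep step hH h2)
  · exact Or.inr ⟨isCyclic_or_quaternion_of_rankOne h2, sup_eq_top_of_rankOne hH h2⟩

/-- ROW 1223 from `CommStep` -/
theorem odd_centralizer_of_commStep (step : CommStep.{u}) (hH : Cfsg.IsStronglyEmbedded H)
    (hcore : H.normalCore = ⊥) (u : G) (hu : orderOf u = 2) (huH : u ∉ H) (j : G)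
    (hj : j ∈ (H ⊓ H.map (MulAut.conj u).toMonoidHom)) (hj1 : j ≠ 1)
    (hinv : u * j * u⁻¹ = j⁻¹) : Odd (Nat.card (centralizer ({j} : Set G))) := by
  rw [← Nat.not_even_iff_odd]
  intro he
  obtain ⟨c, huc⟩ := exists_centre hH hu
  by_cases h2 : HasCommutingInvolutions G
  · have hjc : j • c = c :=
      centralizer_le_of_inverted hH hu huc hj1 hinv he (mem_centralizer_singleton_iff.2 rfl)
    have hjo : j • (QuotientGroup.mk 1 : G ⧸ H) = QuotientGroup.mk 1 := by
      rw [MulAction.Quotient.smul_mk, smul_eq_mul, mul_one, eq_comm, QuotientGroup.eq, inv_one,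
        one_mul]
      exact (mem_inf.1 hj).1
    have hne : (QuotientGroup.mk 1 : G ⧸ H) ≠ c := by
      intro e
      rw [← e, MulAction.Quotient.smul_mk, smul_eq_mul, mul_one, eq_comm, QuotientGroup.eq, inv_one,
        one_mul] at huc
      exact huH huc
    exact noBad_of_commStep step ⟨hH, hcore, h2⟩ u j c _ ⟨hu, huc, hne, hjc, hjo, hj1, hinv⟩
  · have huu := sq_of_order_two hu
    have hn : u ∈ normalizer ((centralizer ({j} : Set G) : Subgroup G) : Set G) := by
      refine Cfsg.Lib.ZStarApps.mem_normalizer_of_maps fun z hz => ?_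
      have h1 : Commute (u * z * u⁻¹) (u * j * u⁻¹) :=
        (show Commute z j from mem_centralizer_singleton_iff.1 hz).map (MulAut.conj u).toMonoidHom
      rw [hinv, Commute.inv_right_iff] at h1
      exact mem_centralizer_singleton_iff.2 h1
    obtain ⟨s, hsj, hs, hsu⟩ := exists_involution_commute he huu hn
    obtain rfl := eq_of_commute_of_rankOne h2 hs hu hsu
    have h1 : s * j = j * s := mem_centralizer_singleton_iff.1 hsj
    rw [h1, mul_inv_cancel_right] at hinv
    refine hj1 (mem_bot.1 ?_)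
    refine mem_of_sq_mem (L := zpowers j) ?_ (mem_zpowers j) ?_
    · rw [Nat.card_zpowers]
      exact (hH.2.2 s huH).of_dvd_nat (Subgroup.orderOf_dvd_natCard _ hj)
    · rw [mem_bot]
      nth_rewrite 1 [hinv]
      exact inv_mul_cancel j

end Cfsg.Lib.BenderSE
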