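/-
COMM, the elementary mod `p` tool (notes/bender_A_h1.md, I2 / V4): an idempotent kernel invariant
under a group `R` semiregular on the points moved by `z`, with denominators prime to `|R|`, has
eigenfunctions for every linear character of `R`; and an idempotent whose integral multiple is
divisible by `p` vanishes.
-/
import Cfsg.Agent.Chars.Count
import Cfsg.Agent.OddChar.Dual
import Mathlib.GroupTheory.Abelianization.Finite
import Mathlib.Algebra.CharP.Algebra

set_option autoImplicit false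
set_option linter.unusedSectionVars false
set_option linter.style.haveILetI false

namespace Cfsg.Lib.BenderSE.ModP

open Subgroup

universe u v

/-- an algebraic integer divisible by every power of `q` is zero -/
theorem eq_zero_of_forall_div {x : ℂ} {q : ℕ} (hq : 2 ≤ q)
    (h : ∀ k : ℕ, IsIntegral ℤ (x / (q : ℂ) ^ k)) : x = 0 := by
  by_contra hx
  have hx0 : IsIntegral ℤ x := by simpa using h 0
  have hc : (minpoly ℤ x).coeff 0 ≠ 0 := fun e => by
    have h1 := Polynomial.X_dvd_iff.2 e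
    obtain ⟨Q, hQ⟩ := h1
    have h2 : Polynomial.aeval x Q = 0 := by
      have h3 := congrArg (Polynomial.aeval x) hQ
      rw [minpoly.aeval, map_mul, Polynomial.aeval_X] at h3
      exact (mul_eq_zero.1 h3.symm).resolve_left hx
    have hmon := minpoly.monic hx0
    rw [hQ] at hmon
    have hQm : Q.Monic := Polynomial.monic_X.of_mul_monic_left hmon
    have h4 := minpoly.min ℤ x hQm h2
    rw [hQ, Polynomial.X_mul, Polynomial.degree_mul_X] at h4
    have h5 : Q.degree < Q.degree + 1 := by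
      rw [Polynomial.degree_eq_natDegree hQm.ne_zero]; exact_mod_cast Nat.lt_succ_self _
    exact absurd h4 (not_le.2 h5)
  set P := minpoly ℤ x with hP
  set y := Polynomial.aeval x P.divX with hy
  have hyint : IsIntegral ℤ y := by
    rw [hy, Polynomial.aeval_eq_sum_range]
    exact IsIntegral.sum _ fun i _ => (hx0.pow i).smul _
  have h0 : x * y + (P.coeff 0 : ℂ) = 0 := by
    have h1 := congrArg (Polynomial.aeval x) (Polynomial.X_mul_divX_add P)
    rw [map_add, map_mul, Polynomial.aeval_X, Polynomial.aeval_C, hP, minpoly.aeval] at h1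
    simpa [hy, hP] using h1
  set N := (P.coeff 0).natAbs with hN
  have hNint : ∀ k : ℕ, q ^ k ∣ N := fun k => by
    refine Cfsg.Lib.Chars.dvd_of_isIntegral_div (by positivity) ?_
    have h2 : IsIntegral ℤ ((P.coeff 0 : ℂ) / (q : ℂ) ^ k) := by
      rw [show (P.coeff 0 : ℂ) = -(x * y) by linear_combination h0, neg_div, mul_div_right_comm]
      exact ((h k).mul hyint).neg
    push_cast
    rcases Int.natAbs_eq (P.coeff 0) with e | e
    · rw [show (N : ℂ) = (P.coeff 0 : ℂ) by rw [hN, e]; simp]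
      exact h2
    · rw [show (N : ℂ) = -(P.coeff 0 : ℂ) by rw [hN, e]; simp, neg_div]
      exact h2.neg
  have hN0 : N ≠ 0 := Int.natAbs_ne_zero.2 hc
  exact absurd (Nat.le_of_dvd (Nat.pos_of_ne_zero hN0) (hNint N)) (not_le.2 (Nat.lt_pow_self (by omega)))

/-- an idempotent matrix with denominators prime to `q`, a multiple of which is divisible by `q`,
vanishes -/
theorem eq_zero_of_idempotent {n : Type v} [Fintype n] (M : n → n → ℂ)
    (hidem : ∀ i k, ∑ j, M i j * M j k = M i k) {m q a : ℕ} (hq : 2 ≤ q) (hcop : m.Coprime q)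
    (hint : ∀ i j, IsIntegral ℤ ((m : ℂ) * M i j))
    (hdiv : ∀ i j, IsIntegral ℤ ((m : ℂ) ^ a * M i j / (q : ℂ))) (i j : n) : M i j = 0 := by
  have hq0 : (q : ℂ) ≠ 0 := by exact_mod_cast (by omega : q ≠ 0)
  have hm0 : (m : ℂ) ≠ 0 := by
    have : m ≠ 0 := fun e => by rw [e, Nat.coprime_zero_left] at hcop; omega
    exact_mod_cast this
  have hk : ∀ k : ℕ, ∀ i j, IsIntegral ℤ ((m : ℂ) ^ (a * (k + 1)) * M i j / (q : ℂ) ^ (k + 1)) := by
    intro k
    induction k with
    | zero => intro i j; simpa using hdiv i j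
    | succ k ih =>
      intro i j
      rw [show (m : ℂ) ^ (a * (k + 1 + 1)) * M i j / (q : ℂ) ^ (k + 1 + 1) =
          ∑ l, ((m : ℂ) ^ (a * (k + 1)) * M i l / (q : ℂ) ^ (k + 1)) * ((m : ℂ) ^ a * M l j / (q : ℂ)) by
        rw [← hidem i j, Finset.mul_sum, Finset.sum_div]
        refine Finset.sum_congr rfl fun l _ => ?_
        rw [mul_add, pow_add, mul_one, pow_succ (q : ℂ) (k + 1)]
        field_simp]
      exact IsIntegral.sum _ fun l _ => (ih i l).mul (hdiv l j)
  refine (mul_eq_zero.1 (eq_zero_of_forall_div (x := (m : ℂ) * M i j) hq fun k => ?_)).resolve_left hm0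
  rcases Nat.eq_zero_or_pos k with rfl | hk0
  · simpa using hint i j
  obtain ⟨k, rfl⟩ : ∃ l, k = l + 1 := ⟨k - 1, by omega⟩
  obtain ⟨u, w, huw⟩ : ∃ u w : ℤ, u * (m ^ (a * (k + 1)) : ℕ) + w * (q ^ (k + 1) : ℕ) = 1 := by
    obtain ⟨u, w, h⟩ := Int.isCoprime_iff_gcd_eq_one.2
      (show Int.gcd ((m ^ (a * (k + 1)) : ℕ) : ℤ) ((q ^ (k + 1) : ℕ) : ℤ) = 1 by
        rw [Int.gcd_natCast_natCast]; exact Nat.Coprime.pow _ _ hcop)
    exact ⟨u, w, h⟩
  have h1 : (u : ℂ) * (m : ℂ) ^ (a * (k + 1)) + (w : ℂ) * (q : ℂ) ^ (k + 1) = 1 := by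
    exact_mod_cast huw
  have e : (m : ℂ) * M i j / (q : ℂ) ^ (k + 1) =
      ((u : ℂ) * m) * ((m : ℂ) ^ (a * (k + 1)) * M i j / (q : ℂ) ^ (k + 1)) +
        (w : ℂ) * ((m : ℂ) * M i j) := by
    field_simp
    linear_combination (-(M i j)) * h1
  rw [e]
  exact (((isIntegral_algebraMap (R := ℤ) (A := ℂ) (x := u)).mul
    (isIntegral_algebraMap (R := ℤ) (A := ℂ) (x := (m : ℤ)))).mul (hk k i j)).add
    ((isIntegral_algebraMap (R := ℤ) (A := ℂ) (x := w)).mul (hint i j))

/-- the difference of `1` and a `q`-th root of unity, raised to `q`, is divisible by `q` -/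
theorem isIntegral_one_sub_pow {ζ : ℂ} {q : ℕ} (hq : q.Prime) (hodd : Odd q) (hζ : ζ ^ q = 1) :
    IsIntegral ℤ ((1 - ζ) ^ q / (q : ℂ)) := by
  have hζi : IsIntegral ℤ ζ := Cfsg.Lib.Chars.isIntegral_of_pow_eq_one hq.pos hζ
  obtain ⟨r, hr⟩ := exists_add_pow_prime_eq hq (1 : integralClosure ℤ ℂ)
    (⟨-ζ, hζi.neg⟩ : integralClosure ℤ ℂ)
  have h1 := congrArg (fun z : integralClosure ℤ ℂ => (z : ℂ)) hr
  simp only [AddMemClass.coe_add, SubmonoidClass.coe_pow, MulMemClass.coe_mul, OneMemClass.coe_one,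
    one_pow, SubringClass.coe_natCast] at h1
  rw [hodd.neg_pow, hζ, ← sub_eq_add_neg] at h1
  have hq0 : (q : ℂ) ≠ 0 := by exact_mod_cast hq.ne_zero
  rw [h1, show (1 + -1 + (q : ℂ) * 1 * -ζ * (r : ℂ)) / (q : ℂ) = -ζ * (r : ℂ) by field_simp; ring]
  exact hζi.neg.mul r.2

/-- The data: a kernel on `Ω`, idempotent, with denominators dividing a power of `m`, invariant under
`R` and `z`; `R` is semiregular on the points moved by `z`. -/
structure Data {X : Type u} [Group X] {Ω : Type v} [MulAction X Ω] [Fintype Ω] (R : Subgroup X) (z : X)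
    (K : Ω → Ω → ℂ) (m : ℕ) : Prop where
  zsq : z * z = 1
  comm : ∀ r ∈ R, r * z = z * r
  semi : ∀ ω : Ω, z • ω ≠ ω → ∀ r ∈ R, r • ω = ω ∨ r • ω = z • ω → r = 1
  invR : ∀ r ∈ R, ∀ ω ω', K (r • ω) (r • ω') = K ω ω'
  invZ : ∀ ω ω', K (z • ω) (z • ω') = K ω ω'
  idem : ∀ ω ω'', ∑ ω', K ω ω' * K ω' ω'' = K ω ω''
  int : ∀ ω ω', IsIntegral ℤ ((m : ℂ) * K ω ω')

/-- `f` is a `φ`-eigenfunction of `N`, odd under `z`, and fixed by the kernel -/
def Eigen {X : Type u} [Group X] {Ω : Type v} [MulAction X Ω] [Fintype Ω] (N : Subgroup X) (z : X)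
    (K : Ω → Ω → ℂ) (φ : N →* ℂˣ) (f : Ω → ℂ) : Prop :=
  (∀ (r : N) (ω : Ω), f ((r : X) • ω) = (φ r : ℂ) * f ω) ∧ (∀ ω, f (z • ω) = - f ω) ∧
    ∀ ω, ∑ ω', K ω ω' * f ω' = f ω

variable {X : Type u} [Group X] {Ω : Type v} [MulAction X Ω] [Fintype Ω] {R N : Subgroup X} {z : X}
  {K : Ω → Ω → ℂ} {m : ℕ}

open Classical in
/-- the basic eigenfunction at `c` -/
noncomputable def basicFun [Finite X] (z : X) (φ : N →* ℂˣ) (c : Ω) : Ω → ℂ :=
  letI := Fintype.ofFinite N
  fun ω => ∑ r : N, (φ r : ℂ) * ((if ω = (r : X) • c then 1 else 0) - (if ω = (r : X) • (z • c) then 1 else 0))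

/-- the kernel on basic eigenfunctions -/
noncomputable def block [Finite X] (z : X) (K : Ω → Ω → ℂ) (φ : N →* ℂˣ) (c c' : Ω) : ℂ :=
  letI := Fintype.ofFinite N
  ∑ r : N, (φ r : ℂ) * (K c ((r : X) • c') - K c ((r : X) • (z • c')))

theorem sum_kernel_basicFun [Finite X] (φ : N →* ℂˣ) (c c' : Ω) :
    ∑ ω, K c ω * basicFun z φ c' ω = block z K φ c c' := by
  classical
  letI := Fintype.ofFinite N
  simp only [basicFun, block, Finset.mul_sum]
  rw [Finset.sum_comm]
  refine Finset.sum_congr rfl fun r _ => ?_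
  simp only [mul_sub, mul_ite, mul_one, mul_zero, Finset.sum_sub_distrib, Finset.sum_ite_eq',
    Finset.mem_univ, if_true]
  ring

/-- a choice of one point in each pair of orbits moved by `z` -/
theorem exists_reps (h : Data R z K m) (hN : N ≤ R) :
    ∃ C : Finset Ω, (∀ c ∈ C, z • c ≠ c) ∧
      (∀ ω, z • ω ≠ ω → ∃ c ∈ C, ∃ r : N, ω = (r : X) • c ∨ ω = (r : X) • (z • c)) ∧
      (∀ c ∈ C, ∀ c' ∈ C, ∀ r : N, c = (r : X) • c' ∨ c = (r : X) • (z • c') → c = c') := by
  classical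
  have hz : ∀ (r : N) (ω : Ω), (r : X) • (z • ω) = z • ((r : X) • ω) := fun r ω => by
    rw [smul_smul, smul_smul, h.comm r (hN r.2)]
  have hz2 : ∀ ω : Ω, z • (z • ω) = ω := fun ω => by rw [smul_smul, h.zsq, one_smul]
  let s : Setoid Ω :=
    { r := fun ω ω' => ∃ r : N, ω = (r : X) • ω' ∨ ω = (r : X) • (z • ω')
      iseqv :=
        { refl := fun ω => ⟨1, Or.inl (by simp)⟩
          symm := by
            rintro ω ω' ⟨r, hr | hr⟩
            · exact ⟨r⁻¹, Or.inl (by rw [hr, Subgroup.coe_inv, inv_smul_smul])⟩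
            · exact ⟨r⁻¹, Or.inr (by rw [hz r⁻¹ ω, hr, Subgroup.coe_inv, inv_smul_smul, hz2])⟩
          trans := by
            rintro ω ω' ω'' ⟨r, hr | hr⟩ ⟨r', hr' | hr'⟩
            · exact ⟨r * r', Or.inl (by rw [hr, hr', Subgroup.coe_mul, mul_smul])⟩
            · exact ⟨r * r', Or.inr (by rw [hr, hr', Subgroup.coe_mul, mul_smul])⟩
            · exact ⟨r * r', Or.inr (by rw [hr, hr', ← hz r', Subgroup.coe_mul, mul_smul])⟩
            · exact ⟨r * r', Or.inl (by rw [hr, hr', ← hz r', hz2, Subgroup.coe_mul, mul_smul])⟩ } }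
  have hout : ∀ ω, ∃ r : N, ω = (r : X) • (Quotient.mk s ω).out ∨
      ω = (r : X) • (z • (Quotient.mk s ω).out) := fun ω =>
    Quotient.exact (Quotient.out_eq (Quotient.mk s ω)).symm
  have hmoved : ∀ ω, z • ω ≠ ω → z • (Quotient.mk s ω).out ≠ (Quotient.mk s ω).out := by
    intro ω hω e
    obtain ⟨r, hr | hr⟩ := hout ω
    · exact hω ((congrArg (z • ·) hr).trans (((hz r _).symm.trans (congrArg ((r : X) • ·) e)).trans hr.symm))
    · rw [e] at hr
      exact hω ((congrArg (z • ·) hr).trans (((hz r _).symm.trans (congrArg ((r : X) • ·) e)).trans hr.symm))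
  refine ⟨(Finset.univ.filter fun ω : Ω => z • ω ≠ ω).image fun ω => (Quotient.mk s ω).out, ?_, ?_, ?_⟩
  · intro c hc
    obtain ⟨ω, hω, rfl⟩ := Finset.mem_image.1 hc
    exact hmoved ω (Finset.mem_filter.1 hω).2
  · intro ω hω
    exact ⟨_, Finset.mem_image.2 ⟨ω, by simp [hω], rfl⟩, hout ω⟩
  · intro c hc c' hc' r hr
    obtain ⟨ω, -, rfl⟩ := Finset.mem_image.1 hc
    obtain ⟨ω', -, rfl⟩ := Finset.mem_image.1 hc'
    have : Quotient.mk s (Quotient.mk s ω).out = Quotient.mk s (Quotient.mk s ω').out :=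
      Quotient.sound ⟨r, hr⟩
    rw [Quotient.out_eq, Quotient.out_eq] at this
    rw [this]

/-- an odd eigenfunction is the combination of the basic ones -/
theorem expand [Finite X] (h : Data R z K m) (hN : N ≤ R) {C : Finset Ω}
    (hC1 : ∀ c ∈ C, z • c ≠ c)
    (hC2 : ∀ ω, z • ω ≠ ω → ∃ c ∈ C, ∃ r : N, ω = (r : X) • c ∨ ω = (r : X) • (z • c))
    (hC3 : ∀ c ∈ C, ∀ c' ∈ C, ∀ r : N, c = (r : X) • c' ∨ c = (r : X) • (z • c') → c = c')
    {φ : N →* ℂˣ} {f : Ω → ℂ} (hφ : ∀ (r : N) (ω : Ω), f ((r : X) • ω) = (φ r : ℂ) * f ω)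
    (hz : ∀ ω, f (z • ω) = - f ω) (ω : Ω) : ∑ c ∈ C, f c * basicFun z φ c ω = f ω := by
  classical
  letI := Fintype.ofFinite N
  have hzc : ∀ (r : N) (c : Ω), (r : X) • (z • c) = z • ((r : X) • c) := fun r c => by
    rw [smul_smul, smul_smul, h.comm r (hN r.2)]
  by_cases hω : z • ω = ω
  · have h0 : f ω = 0 := by
      have h1 := hz ω
      rw [hω] at h1
      linear_combination (1 / 2 : ℂ) * h1
    rw [h0]
    refine Finset.sum_eq_zero fun c hc => ?_
    simp only [basicFun]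
    rw [Finset.sum_eq_zero fun r _ => ?_, mul_zero]
    have h1 : ω ≠ (r : X) • c := fun e => hC1 c hc (by
      apply smul_left_cancel (r : X); rw [hzc, ← e, hω])
    have h2 : ω ≠ (r : X) • (z • c) := fun e => h1 (by
      rw [← hω, e, hzc, smul_smul, h.zsq, one_smul])
    rw [if_neg h1, if_neg h2, sub_self, mul_zero]
  obtain ⟨c, hc, r, hr⟩ := hC2 ω hω
  have huniq : ∀ c' ∈ C, ∀ r' : N, ω = (r' : X) • c' ∨ ω = (r' : X) • (z • c') →
      c' = c ∧ r' = r := by
    intro c' hc' r' hr'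
    have hcc : c' = c := by
      refine hC3 c' hc' c hc (r'⁻¹ * r) ?_
      rw [Subgroup.coe_mul, Subgroup.coe_inv, mul_smul, mul_smul, eq_inv_smul_iff, eq_inv_smul_iff]
      rcases hr with hr | hr <;> rcases hr' with hr' | hr'
      · left; rw [← hr', hr]
      · right; rw [hzc r, ← hr, hr', ← hzc r', smul_smul z z, h.zsq, one_smul]
      · right; rw [← hr', hr]
      · left
        apply smul_left_cancel z
        rw [← hzc r, ← hzc r', ← hr, ← hr']
    refine ⟨hcc, ?_⟩
    subst hcc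
    refine (inv_mul_eq_one.1 (Subtype.ext (h.semi c' (hC1 c' hc) _ (hN (r'⁻¹ * r).2) ?_))).symm.symm
    rw [Subgroup.coe_mul, Subgroup.coe_inv, mul_smul, inv_smul_eq_iff, inv_smul_eq_iff]
    rcases hr with hr | hr <;> rcases hr' with hr' | hr'
    · left; rw [← hr', hr]
    · right; rw [← hr', hr]
    · right
      rw [hzc r', ← hr', hr, hzc r, smul_smul z z, h.zsq, one_smul]
    · left
      apply smul_left_cancel z
      rw [← hzc r, ← hzc r', ← hr, ← hr']
  have hsplit : ∀ r₁ : N, ω = (r₁ : X) • c → ω = (r₁ : X) • (z • c) → False := fun r₁ e1 e2 =>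
    hC1 c hc (smul_left_cancel (r₁ : X) (e2.symm.trans e1))
  rw [Finset.sum_eq_single_of_mem c hc]
  · simp only [basicFun]
    rw [Finset.sum_eq_single_of_mem r (Finset.mem_univ r)]
    · rcases hr with hr | hr
      · rw [if_pos hr, if_neg (hsplit r hr), sub_zero, mul_one, hr, hφ, mul_comm]
      · rw [if_neg fun e => hsplit r e hr, if_pos hr, hr, hφ, hz]
        ring
    · intro r' _ hr'
      rw [if_neg fun e => hr' (huniq c hc r' (Or.inl e)).2,
        if_neg fun e => hr' (huniq c hc r' (Or.inr e)).2, sub_self, mul_zero]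
  · intro c' hc' hne
    simp only [basicFun]
    rw [Finset.sum_eq_zero fun r' _ => ?_, mul_zero]
    rw [if_neg fun e => hne (huniq c' hc' r' (Or.inl e)).1,
      if_neg fun e => hne (huniq c' hc' r' (Or.inr e)).1, sub_self, mul_zero]

theorem basicFun_smul [Finite X] (φ : N →* ℂˣ) (c ω : Ω) (s : N) :
    basicFun z φ c ((s : X) • ω) = (φ s : ℂ) * basicFun z φ c ω := by
  classical
  letI := Fintype.ofFinite N
  simp only [basicFun, Finset.mul_sum]
  refine (Fintype.sum_equiv (Equiv.mulLeft s) _ _ fun r => ?_).symm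
  simp only [Equiv.coe_mulLeft, map_mul, Units.val_mul, Subgroup.coe_mul, mul_smul, smul_left_cancel_iff]
  ring

theorem basicFun_z [Finite X] (h : Data R z K m) (hN : N ≤ R) (φ : N →* ℂˣ) (c ω : Ω) :
    basicFun z φ c (z • ω) = - basicFun z φ c ω := by
  classical
  letI := Fintype.ofFinite N
  simp only [basicFun, ← Finset.sum_neg_distrib]
  refine Finset.sum_congr rfl fun r _ => ?_
  have hzc : (r : X) • (z • c) = z • ((r : X) • c) := by
    rw [smul_smul, smul_smul, h.comm r (hN r.2)]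
  have e1 : (z • ω = (r : X) • c) ↔ ω = (r : X) • (z • c) := by
    rw [hzc]
    constructor
    · intro e; rw [← e, smul_smul, h.zsq, one_smul]
    · intro e; rw [e, smul_smul, h.zsq, one_smul]
  have e2 : (z • ω = (r : X) • (z • c)) ↔ ω = (r : X) • c := by
    rw [hzc, smul_left_cancel_iff]
  rw [if_congr e1 rfl rfl, if_congr e2 rfl rfl]
  ring

/-- the kernel applied to an odd eigenfunction gives an eigenfunction fixed by the kernel -/
theorem eigen_apply (h : Data R z K m) (hN : N ≤ R) {φ : N →* ℂˣ} {f : Ω → ℂ}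
    (hφ : ∀ (r : N) (ω : Ω), f ((r : X) • ω) = (φ r : ℂ) * f ω) (hz : ∀ ω, f (z • ω) = - f ω) :
    Eigen N z K φ fun ω => ∑ ω', K ω ω' * f ω' := by
  refine ⟨fun r ω => ?_, fun ω => ?_, fun ω => ?_⟩
  · rw [Finset.mul_sum]
    refine (Fintype.sum_equiv (MulAction.toPerm (r : X)) _ _ fun ω' => ?_).symm
    simp only [MulAction.toPerm_apply, h.invR r (hN r.2), hφ]
    ring
  · rw [← Finset.sum_neg_distrib]
    refine (Fintype.sum_equiv (MulAction.toPerm z) _ _ fun ω' => ?_).symm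
    simp only [MulAction.toPerm_apply, h.invZ, hz]
    ring
  · simp only [Finset.mul_sum]
    rw [Finset.sum_comm]
    refine Finset.sum_congr rfl fun ω'' _ => ?_
    simp only [← mul_assoc, ← Finset.sum_mul, h.idem]

/-- the criterion: no eigenfunction if and only if all blocks vanish -/
theorem exists_eigen_iff [Finite X] (h : Data R z K m) (hN : N ≤ R) (φ : N →* ℂˣ) :
    (∃ f, f ≠ 0 ∧ Eigen N z K φ f) ↔ ∃ c c', block z K φ c c' ≠ 0 := by
  classical
  constructor
  · rintro ⟨f, hf0, hφ, hz, hK⟩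
    by_contra hall
    push Not at hall
    obtain ⟨C, hC1, hC2, hC3⟩ := exists_reps h hN
    refine hf0 (funext fun c => ?_)
    rw [← hK c, Finset.sum_congr rfl fun ω _ => by rw [← expand h hN hC1 hC2 hC3 hφ hz ω],
      Finset.sum_congr rfl fun ω _ => by rw [Finset.mul_sum]]
    rw [Finset.sum_comm]
    refine Finset.sum_eq_zero fun c' _ => ?_
    rw [Finset.sum_congr rfl fun ω _ => by rw [mul_left_comm], ← Finset.mul_sum, sum_kernel_basicFun,
      hall, mul_zero]
  · rintro ⟨c, c', hne⟩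
    refine ⟨fun ω => ∑ ω', K ω ω' * basicFun z φ c' ω', fun e => hne ?_,
      eigen_apply h hN (fun r ω => basicFun_smul φ c' ω r) (basicFun_z h hN φ c')⟩
    rw [← sum_kernel_basicFun]
    exact congrFun e c

/-- the blocks on a system of representatives form an idempotent matrix -/
theorem block_idem [Finite X] (h : Data R z K m) (hN : N ≤ R) {C : Finset Ω}
    (hC1 : ∀ c ∈ C, z • c ≠ c)
    (hC2 : ∀ ω, z • ω ≠ ω → ∃ c ∈ C, ∃ r : N, ω = (r : X) • c ∨ ω = (r : X) • (z • c))
    (hC3 : ∀ c ∈ C, ∀ c' ∈ C, ∀ r : N, c = (r : X) • c' ∨ c = (r : X) • (z • c') → c = c')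
    (φ : N →* ℂˣ) (c c'' : Ω) :
    ∑ c' ∈ C, block z K φ c c' * block z K φ c' c'' = block z K φ c c'' := by
  classical
  obtain ⟨hg, hgz, hgK⟩ := eigen_apply h hN (fun r ω => basicFun_smul φ c'' ω r) (basicFun_z h hN φ c'')
  set g : Ω → ℂ := fun ω => ∑ ω', K ω ω' * basicFun z φ c'' ω' with hgdef
  have h1 : ∀ ω, g ω = block z K φ ω c'' := fun ω => sum_kernel_basicFun φ ω c''
  have e2 : g c = ∑ ω, K c ω * ∑ c' ∈ C, g c' * basicFun z φ c' ω :=
    (hgK c).symm.trans (Finset.sum_congr rfl fun ω _ => by rw [expand h hN hC1 hC2 hC3 hg hgz ω])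
  rw [← h1 c, e2]
  simp only [Finset.mul_sum]
  rw [Finset.sum_comm]
  refine Finset.sum_congr rfl fun c' _ => ?_
  rw [← sum_kernel_basicFun φ c c', ← h1 c', Finset.sum_mul]
  exact Finset.sum_congr rfl fun ω _ => by ring

/-- integrality of the blocks -/
theorem isIntegral_block [Finite X] (h : Data R z K m) (φ : N →* ℂˣ) (c c' : Ω) :
    IsIntegral ℤ ((m : ℂ) * block z K φ c c') := by
  letI := Fintype.ofFinite N
  rw [block, Finset.mul_sum]
  refine IsIntegral.sum _ fun r _ => ?_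
  rw [mul_left_comm, mul_sub]
  refine IsIntegral.mul ?_ ((h.int _ _).sub (h.int _ _))
  refine Cfsg.Lib.Chars.isIntegral_of_pow_eq_one (m := Nat.card N) Nat.card_pos ?_
  rw [← Units.val_pow_eq_pow_val, ← map_pow, pow_card_eq_one', map_one, Units.val_one]

/-- one step: from an index `q` normal subgroup to the group, `q` prime to `m` -/
theorem exists_eigen_step [Finite X] (h : Data R z K m) (hN : N ≤ R) {M : Subgroup N} [M.Normal]
    {q : ℕ} (hq : q.Prime) (hodd : Odd q) (hcard : Nat.card (N ⧸ M) = q) (hqm : m.Coprime q)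
    (φ : N →* ℂˣ)
    (hM : ∃ f, f ≠ 0 ∧ Eigen (M.map N.subtype) z K
      (φ.comp (Subgroup.inclusion (map_subtype_le M))) f) :
    ∃ f, f ≠ 0 ∧ Eigen N z K φ f := by
  classical
  haveI := Fact.mk hq
  letI := Fintype.ofFinite N
  obtain ⟨f, hf0, hfM, hfz, hfK⟩ := hM
  haveI : IsCyclic (N ⧸ M) := isCyclic_of_prime_card hcard
  have hab : ∀ x y : N ⧸ M, x * y = y * x := fun x y => (IsCyclic.commGroup (α := N ⧸ M)).mul_comm x y
  -- one of the twists of `φ` has an eigenfunction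
  obtain ⟨η, F, hF0, hF⟩ : ∃ (η : N ⧸ M →* ℂˣ) (F : Ω → ℂ), F ≠ 0 ∧
      Eigen N z K (φ * η.comp (QuotientGroup.mk' M)) F := by
    let ψ : (N ⧸ M →* ℂˣ) → (N →* ℂˣ) := fun η => φ * η.comp (QuotientGroup.mk' M)
    let F : (N ⧸ M →* ℂˣ) → Ω → ℂ := fun η ω => ∑ x : N, ((ψ η x)⁻¹ : ℂˣ) * f ((x : X) • ω)
    have hFz : ∀ η ω, F η (z • ω) = - F η ω := fun η ω => by
      simp only [F, ← Finset.sum_neg_distrib]
      refine Finset.sum_congr rfl fun x _ => ?_
      rw [smul_smul, h.comm x (hN x.2), mul_smul, hfz]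
      ring
    have hFφ : ∀ η (r : N) ω, F η ((r : X) • ω) = (ψ η r : ℂ) * F η ω := fun η r ω => by
      simp only [F, Finset.mul_sum]
      refine Fintype.sum_equiv (Equiv.mulRight r) _ _ fun x => ?_
      simp only [Equiv.coe_mulRight, map_mul, mul_inv, Units.val_mul, Subgroup.coe_mul, mul_smul]
      linear_combination (-((((ψ η) x)⁻¹ : ℂˣ) : ℂ) * f ((x : X) • (r : X) • ω)) * Units.mul_inv (ψ η r)
    have hFK : ∀ η ω, ∑ ω', K ω ω' * F η ω' = F η ω := fun η ω => by
      simp only [F, Finset.mul_sum]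
      rw [Finset.sum_comm]
      refine Finset.sum_congr rfl fun x _ => ?_
      conv_rhs => rw [← hfK ((x : X) • ω), Finset.mul_sum]
      refine Fintype.sum_equiv (MulAction.toPerm (x : X)) _ _ fun ω' => ?_
      simp only [MulAction.toPerm_apply, h.invR x (hN x.2)]
      ring
    haveI : Finite (N ⧸ M →* ℂˣ) := Nat.finite_of_card_ne_zero (by
      rw [Cfsg.Lib.Dual.card_hom hab]; exact Nat.card_pos.ne')
    letI := Fintype.ofFinite (N ⧸ M →* ℂˣ)
    by_contra hall
    push Not at hall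
    have hzero : ∀ η, F η = 0 := fun η => by
      by_contra hne
      exact hall η (F η) hne ⟨hFφ η, hFz η, hFK η⟩
    refine hf0 (funext fun ω => ?_)
    have hη : ∀ x : N, (x : N) ∉ M → (∑ η : N ⧸ M →* ℂˣ, (((η (QuotientGroup.mk' M x))⁻¹ : ℂˣ) : ℂ)) = 0 := by
      intro x hx
      obtain ⟨η₀, hη₀⟩ := Cfsg.Lib.Dual.exists_hom_ne_one hab
        (a := QuotientGroup.mk' M x) (fun e => hx ((QuotientGroup.eq_one_iff x).1 e))
      set S := ∑ η : N ⧸ M →* ℂˣ, (((η (QuotientGroup.mk' M x))⁻¹ : ℂˣ) : ℂ) with hS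
      have h1 : ((η₀ (QuotientGroup.mk' M x))⁻¹ : ℂˣ) * S = S := by
        rw [hS, Finset.mul_sum]
        refine Fintype.sum_equiv (Equiv.mulLeft η₀) _ _ fun η => ?_
        simp only [Equiv.coe_mulLeft, MonoidHom.mul_apply, mul_inv, Units.val_mul]
      have h2 : (((η₀ (QuotientGroup.mk' M x))⁻¹ : ℂˣ) : ℂ) - 1 ≠ 0 := fun e => hη₀ (by
        rw [← inv_eq_one]; exact Units.ext (sub_eq_zero.1 e))
      exact (mul_eq_zero.1 (show ((((η₀ (QuotientGroup.mk' M x))⁻¹ : ℂˣ) : ℂ) - 1) * S = 0 by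
        rw [sub_mul, h1, one_mul, sub_self])).resolve_left h2
    have hsum : (∑ η : N ⧸ M →* ℂˣ, F η ω) =
        (Nat.card (N ⧸ M →* ℂˣ) : ℂ) * (Nat.card M : ℂ) * f ω := by
      simp only [F, ψ]
      rw [Finset.sum_comm]
      have e : ∀ x : N, (∑ η : N ⧸ M →* ℂˣ,
          ((((φ * η.comp (QuotientGroup.mk' M)) x)⁻¹ : ℂˣ) : ℂ) * f ((x : X) • ω)) =
          if x ∈ M then (Nat.card (N ⧸ M →* ℂˣ) : ℂ) * f ω else 0 := by
        intro x
        split_ifs with hx
        · have hx' : QuotientGroup.mk' M x = 1 := (QuotientGroup.eq_one_iff x).2 hx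
          simp only [MonoidHom.mul_apply, MonoidHom.comp_apply, hx', map_one, mul_one]
          rw [Finset.sum_const, Finset.card_univ, nsmul_eq_mul, ← Nat.card_eq_fintype_card]
          have hfx := hfM ⟨(x : X), ⟨x, hx, rfl⟩⟩ ω
          simp only [MonoidHom.comp_apply] at hfx
          rw [hfx, show Subgroup.inclusion (map_subtype_le M) ⟨(x : X), ⟨x, hx, rfl⟩⟩ = x from rfl,
            ← mul_assoc ((((φ x)⁻¹ : ℂˣ) : ℂ)), Units.inv_mul, one_mul]
        · simp only [MonoidHom.mul_apply, MonoidHom.comp_apply, mul_inv, Units.val_mul]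
          rw [← Finset.sum_mul, ← Finset.mul_sum, hη x hx, mul_zero, zero_mul]
      rw [Finset.sum_congr rfl fun x _ => e x, ← Finset.sum_filter, Finset.sum_const, nsmul_eq_mul,
        show (Finset.univ.filter fun x : N => x ∈ M).card = Nat.card M by
          rw [← Fintype.card_subtype, Nat.card_eq_fintype_card]]
      ring
    rw [Finset.sum_eq_zero fun η _ => congrFun (hzero η) ω] at hsum
    have hne : (Nat.card (N ⧸ M →* ℂˣ) : ℂ) * (Nat.card M : ℂ) ≠ 0 :=
      mul_ne_zero (by exact_mod_cast Nat.card_pos.ne') (by exact_mod_cast Nat.card_pos.ne')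
    exact (mul_eq_zero.1 hsum.symm).resolve_left hne
  -- all twists are congruent
  rw [exists_eigen_iff h hN]
  by_contra hall
  push Not at hall
  obtain ⟨c₀, c₁, hne⟩ := (exists_eigen_iff h hN _).1 ⟨F, hF0, hF⟩
  set ψ := φ * η.comp (QuotientGroup.mk' M)
  obtain ⟨g, hg⟩ := QuotientGroup.mk'_surjective M (Classical.choose (IsCyclic.exists_generator (α := N ⧸ M)))
  have hgen : ∀ x : N ⧸ M, x ∈ Subgroup.zpowers (QuotientGroup.mk' M g) := by
    rw [hg]; exact Classical.choose_spec (IsCyclic.exists_generator (α := N ⧸ M))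
  set ζ : ℂ := (η (QuotientGroup.mk' M g) : ℂ)
  have hζ : ζ ^ q = 1 := by
    rw [← Units.val_pow_eq_pow_val, ← map_pow, ← hcard, pow_card_eq_one', map_one, Units.val_one]
  obtain ⟨C, hC1, hC2, hC3⟩ := exists_reps h hN
  have hY : ∀ c c', ∃ Y : ℂ, IsIntegral ℤ Y ∧ (m : ℂ) * block z K ψ c c' = (1 - ζ) * Y := by
    intro c c'
    have hpow : ∀ x : N, ∃ k : ℕ, (η (QuotientGroup.mk' M x) : ℂ) = ζ ^ k := fun x => by
      obtain ⟨k, hk⟩ := mem_powers_iff_mem_zpowers.2 (hgen (QuotientGroup.mk' M x))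
      exact ⟨k, by rw [← Units.val_pow_eq_pow_val, ← map_pow]; exact congrArg _ (congrArg η hk.symm)⟩
    choose k hk using hpow
    let d : N → ℂ := fun r => (φ r : ℂ) * ((m : ℂ) * K c ((r : X) • c') - (m : ℂ) * K c ((r : X) • (z • c')))
    refine ⟨-∑ r : N, (∑ i ∈ Finset.range (k r), ζ ^ i) * d r, ?_, ?_⟩
    · refine (IsIntegral.sum _ fun r _ => IsIntegral.mul (IsIntegral.sum _ fun i _ => ?_) ?_).neg
      · exact (Cfsg.Lib.Chars.isIntegral_of_pow_eq_one hq.pos hζ).pow i
      · refine IsIntegral.mul ?_ ((h.int _ _).sub (h.int _ _))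
        refine Cfsg.Lib.Chars.isIntegral_of_pow_eq_one (m := Nat.card N) Nat.card_pos ?_
        rw [← Units.val_pow_eq_pow_val, ← map_pow, pow_card_eq_one', map_one, Units.val_one]
    have h0 : ∑ r : N, d r = 0 := by
      rw [Finset.sum_congr rfl fun r _ => show d r = (m : ℂ) * ((φ r : ℂ) *
          (K c ((r : X) • c') - K c ((r : X) • (z • c')))) by simp only [d]; ring, ← Finset.mul_sum]
      rw [show (∑ r : N, (φ r : ℂ) * (K c ((r : X) • c') - K c ((r : X) • (z • c')))) = block z K φ c c'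
        from rfl, hall, mul_zero]
    rw [mul_neg, Finset.mul_sum, ← Finset.sum_neg_distrib]
    have e : ∀ r : N, (m : ℂ) * ((ψ r : ℂ) * (K c ((r : X) • c') - K c ((r : X) • (z • c')))) =
        -((1 - ζ) * ((∑ i ∈ Finset.range (k r), ζ ^ i) * d r)) + d r := by
      intro r
      rw [← mul_assoc (1 - ζ), mul_neg_geom_sum, ← hk r]
      simp only [ψ, d, MonoidHom.mul_apply, MonoidHom.comp_apply, Units.val_mul]
      ring
    rw [block, Finset.mul_sum, Finset.sum_congr rfl fun r _ => e r, Finset.sum_add_distrib, h0, add_zero]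
  choose Y hYi hYe using hY
  have hdiv : ∀ i j : C, IsIntegral ℤ ((m : ℂ) ^ q * block z K ψ i j / (q : ℂ)) := by
    have hk : ∀ n : ℕ, ∀ i j : C, ∃ W : ℂ, IsIntegral ℤ W ∧
        (m : ℂ) ^ (n + 1) * block z K ψ i j = (1 - ζ) ^ (n + 1) * W := by
      intro n
      induction n with
      | zero => intro i j; exact ⟨Y i j, hYi _ _, by simpa using hYe i j⟩
      | succ n ih =>
        intro i j
        choose W hWi hWe using fun l => ih i l
        refine ⟨∑ l : C, W l * Y l j, IsIntegral.sum _ fun l _ => (hWi l).mul (hYi _ _), ?_⟩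
        rw [← block_idem h hN hC1 hC2 hC3 ψ i j, ← Finset.sum_coe_sort C, Finset.mul_sum, Finset.mul_sum]
        refine Finset.sum_congr rfl fun l _ => ?_
        linear_combination ((m : ℂ) * block z K ψ l j) * hWe l + ((1 - ζ) ^ (n + 1) * W l) * hYe l j
    intro i j
    obtain ⟨W, hWi, hW⟩ := hk (q - 1) i j
    rw [Nat.sub_add_cancel hq.pos] at hW
    rw [hW, mul_div_right_comm]
    exact (isIntegral_one_sub_pow hq hodd hζ).mul hWi
  have hMzero : ∀ i j : C, block z K ψ i j = 0 :=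
    eq_zero_of_idempotent (fun i j : C => block z K ψ i j)
      (fun i k => by
        rw [Finset.sum_coe_sort C (fun l => block z K ψ i l * block z K ψ l k)]
        exact block_idem h hN hC1 hC2 hC3 ψ i k)
      hq.two_le hqm (fun i j => isIntegral_block h ψ _ _) hdiv
  -- so the eigenfunction vanishes
  obtain ⟨hFφ, hFz, hFK⟩ := hF
  refine hF0 (funext fun ω => ?_)
  have hC0 : ∀ c ∈ C, F c = 0 := fun c hc => by
    rw [← hFK c, Finset.sum_congr rfl fun ω _ => by rw [← expand h hN hC1 hC2 hC3 hFφ hFz ω]]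
    simp only [Finset.mul_sum]
    rw [Finset.sum_comm]
    refine Finset.sum_eq_zero fun c' hc' => ?_
    rw [Finset.sum_congr rfl fun ω _ => by rw [mul_left_comm], ← Finset.mul_sum, sum_kernel_basicFun,
      hMzero ⟨c, hc⟩ ⟨c', hc'⟩, mul_zero]
  rw [← expand h hN hC1 hC2 hC3 hFφ hFz ω]
  exact Finset.sum_eq_zero fun c hc => by rw [hC0 c hc, zero_mul]

/-- EIGENFUNCTIONS: if some odd function is fixed by the kernel and `|R|` is prime to `m`, every
linear character of a soluble `R` has one -/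
theorem exists_eigen [Finite X] (h : Data R z K m) (hodd : Odd (Nat.card R))
    (hcop : m.Coprime (Nat.card R)) (hne : ∃ f : Ω → ℂ, f ≠ 0 ∧ (∀ ω, f (z • ω) = - f ω) ∧
      ∀ ω, ∑ ω', K ω ω' * f ω' = f ω) :
    ∀ {N : Subgroup X}, N ≤ R → Group.IsSolvable N → ∀ φ : N →* ℂˣ, ∃ f, f ≠ 0 ∧ Eigen N z K φ f := by
  classical
  suffices key : ∀ n, ∀ N : Subgroup X, Nat.card N = n → N ≤ R → Group.IsSolvable N → ∀ φ : N →* ℂˣ,
      ∃ f, f ≠ 0 ∧ Eigen N z K φ f from fun {N} hN hs φ => key _ N rfl hN hs φ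
  intro n
  induction n using Nat.strong_induction_on with
  | _ n ih =>
    intro N hn hN hs φ
    by_cases hN1 : N = ⊥
    · obtain ⟨f, hf0, hfz, hfK⟩ := hne
      refine ⟨f, hf0, fun r ω => ?_, hfz, hfK⟩
      have hr : r = 1 := Subtype.ext (by
        have h1 := r.2; simp only [hN1, Subgroup.mem_bot] at h1; simpa using h1)
      subst hr
      simp
    -- a normal subgroup of prime index
    haveI := hs
    haveI : Nontrivial N := (nontrivial_iff_ne_bot N).2 hN1
    obtain ⟨M, q, hq, hMn, hcard⟩ : ∃ (M : Subgroup N) (q : ℕ), q.Prime ∧ M.Normal ∧ Nat.card (N ⧸ M) = q := by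
      obtain ⟨M, hM, hmax⟩ := (Set.toFinite {M : Subgroup N | _root_.commutator N ≤ M ∧ M ≠ ⊤}).exists_maximal
        ⟨_root_.commutator N, le_rfl, (Group.IsSolvable.commutator_lt_top_of_nontrivial N).ne⟩
      haveI hMn : M.Normal := Subgroup.Normal.of_commutator_le N hM.1
      have hidx : M.index ≠ 1 := fun e => hM.2 (index_eq_one.1 e)
      obtain ⟨q, hq, hqd⟩ := Nat.exists_prime_and_dvd hidx
      haveI := Fact.mk hq
      obtain ⟨x, hx⟩ := exists_prime_orderOf_dvd_card' (G := N ⧸ M) q (by rwa [← index_eq_card])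
      refine ⟨M, q, hq, hMn, ?_⟩
      have htop : (zpowers x).comap (QuotientGroup.mk' M) = ⊤ := by
        by_contra hne
        have hle : M ≤ (zpowers x).comap (QuotientGroup.mk' M) := fun y hy => by
          rw [mem_comap, show QuotientGroup.mk' M y = 1 from (QuotientGroup.eq_one_iff y).2 hy]
          exact one_mem _
        have heq := le_antisymm hle (hmax ⟨hM.1.trans hle, hne⟩ hle)
        obtain ⟨y, hy⟩ := QuotientGroup.mk'_surjective M x
        have hyM : y ∈ M := by rw [heq, mem_comap, hy]; exact mem_zpowers x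
        rw [← hy, show QuotientGroup.mk' M y = 1 from (QuotientGroup.eq_one_iff y).2 hyM, orderOf_one] at hx
        exact hq.ne_one hx.symm
      have hz : zpowers x = ⊤ := (eq_top_iff' _).2 fun w => by
        obtain ⟨y, rfl⟩ := QuotientGroup.mk'_surjective M w
        exact mem_comap.1 (htop ▸ mem_top y)
      rw [← hx, ← Nat.card_zpowers, hz, Subgroup.card_top]
    haveI := hMn
    have hqN : q ∣ Nat.card N := hcard ▸ Subgroup.card_quotient_dvd_card M
    have hlt : Nat.card (M.map N.subtype) < n := by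
      rw [card_map_of_injective N.subtype_injective, ← hn, ← index_mul_card M, index_eq_card, hcard]
      exact lt_mul_of_one_lt_left Nat.card_pos hq.one_lt
    exact exists_eigen_step h hN hq ((hodd.of_dvd_nat (card_dvd_of_le hN)).of_dvd_nat hqN) hcard
      (hcop.coprime_dvd_right (hqN.trans (card_dvd_of_le hN))) φ
      (ih _ hlt (M.map N.subtype) rfl ((map_subtype_le M).trans hN)
        (Group.isSolvable_of_isSolvable_injective (Subgroup.inclusion_injective (map_subtype_le M))) _)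

/-- MOD P: if each block of `φ` is divisible by a prime `p` not dividing `m`, there is a contradiction -/
theorem false_of_divisible [Finite X] (h : Data R z K m) (hodd : Odd (Nat.card R))
    (hcop : m.Coprime (Nat.card R)) (hs : Group.IsSolvable R) (hne : ∃ f : Ω → ℂ, f ≠ 0 ∧
      (∀ ω, f (z • ω) = - f ω) ∧ ∀ ω, ∑ ω', K ω ω' * f ω' = f ω)
    {p : ℕ} (hp : p.Prime) (hpm : m.Coprime p) (φ : R →* ℂˣ)
    (hdiv : ∀ c c', z • c' ≠ c' → IsIntegral ℤ ((m : ℂ) * block z K φ c c' / (p : ℂ))) : False := by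
  classical
  obtain ⟨f, hf0, hfφ, hfz, hfK⟩ := exists_eigen h hodd hcop hne le_rfl hs φ
  obtain ⟨C, hC1, hC2, hC3⟩ := exists_reps h (le_refl R)
  have hzero : ∀ i j : C, block z K φ i j = 0 :=
    eq_zero_of_idempotent (fun i j : C => block z K φ i j)
      (fun i k => by
        rw [Finset.sum_coe_sort C (fun l => block z K φ i l * block z K φ l k)]
        exact block_idem h le_rfl hC1 hC2 hC3 φ i k)
      hp.two_le hpm (a := 1) (fun i j => isIntegral_block h φ _ _)
      (fun i j => by simpa using hdiv i j (hC1 j j.2))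
  refine hf0 (funext fun ω => ?_)
  have hC0 : ∀ c ∈ C, f c = 0 := fun c hc => by
    rw [← hfK c, Finset.sum_congr rfl fun ω _ => by rw [← expand h le_rfl hC1 hC2 hC3 hfφ hfz ω]]
    simp only [Finset.mul_sum]
    rw [Finset.sum_comm]
    refine Finset.sum_eq_zero fun c' hc' => ?_
    rw [Finset.sum_congr rfl fun ω _ => by rw [mul_left_comm], ← Finset.mul_sum, sum_kernel_basicFun,
      hzero ⟨c, hc⟩ ⟨c', hc'⟩, mul_zero]
  rw [← expand h le_rfl hC1 hC2 hC3 hfφ hfz ω]
  exact Finset.sum_eq_zero fun c hc => by rw [hC0 c hc, zero_mul]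

end Cfsg.Lib.BenderSE.ModP
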