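import Cfsg.Agent.BenderSE.IsometryBlocks
import Cfsg.Agent.Chars.IrrTools

/-!
# Orbit counts from the blocks

The rank is the number of blocks.  If every orbit is a block by itself the point stabiliser has the orbits of `R`;
if all non-trivial orbits are joined the action is doubly transitive.
-/

set_option autoImplicit false
set_option linter.unusedSectionVars false
set_option linter.style.haveILetI false

namespace Cfsg.Lib.BenderSE.Isometry

open scoped ComplexConjugate
open Cfsg.Lib.Chars

universe u v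

/-- The norm of a permutation character is the number of orbits on pairs. -/
theorem inner_permChar_self {G : Type u} [Group G] [Fintype G] (Ω : Type v) [MulAction G Ω] [Finite Ω] :
    Cfsg.classInner (permChar G Ω) (permChar G Ω) =
      (Nat.card (MulAction.orbitRel.Quotient G (Ω × Ω)) : ℂ) := by
  rw [← classInner_permChar_one, classInner_def, classInner_def]
  refine congrArg _ (Finset.sum_congr rfl fun g _ => ?_)
  simp only [permChar, map_one, mul_one, Complex.conj_natCast]
  rw [← Nat.cast_mul, ← Nat.card_prod]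
  congr 1
  exact Nat.card_congr
    { toFun := fun p => ⟨(p.1.1, p.2.1), Prod.ext p.1.2 p.2.2⟩
      invFun := fun w => (⟨w.1.1, congrArg Prod.fst w.2⟩, ⟨w.1.2, congrArg Prod.snd w.2⟩)
      left_inv := fun _ => rfl
      right_inv := fun _ => rfl }

variable {X : Type u} [Group X] {Ω : Type v} [MulAction X Ω] {A B R : Subgroup X} {o : Ω}

namespace Setting

variable (h : Setting A B R o) [Fintype X] [Fintype B] [Fintype A] [Fintype R] [Finite Ω]

include h

open scoped Classical in
/-- The rank is the number of blocks. -/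
theorem rank_eq [Fintype (A →* ℂˣ)] :
    Nat.card (MulAction.orbitRel.Quotient X (Ω × Ω)) = (Finset.univ.image h.blk).card := by
  have e : ∀ χ : Cfsg.IrrCharacter X, h.mult χ * conj (h.mult χ) =
      if χ ∈ Finset.univ.image h.blk then 1 else 0 := by
    intro χ
    split_ifs with hχ
    · obtain ⟨mu, -, rfl⟩ := Finset.mem_image.1 hχ
      simp [h.mult_blk]
    · have e0 : h.mult χ = 0 := by
        by_contra h0
        obtain ⟨mu, rfl⟩ := h.exists_eq_blk h0
        exact hχ (Finset.mem_image.2 ⟨mu, Finset.mem_univ _, rfl⟩)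
      simp [e0]
  apply Nat.cast_injective (R := ℂ)
  rw [← inner_permChar_self]
  conv_lhs => rw [classFunction_expand (isClassFunction_isChar (isCharacter_permChar (G := X) Ω))]
  rw [classInner_self_decomp]
  refine (Finset.sum_congr rfl fun χ _ => e χ).trans ?_
  rw [Finset.sum_boole]
  simp

/-- The block of a character with no other orbit in it restricts to the character of the orbit. -/
theorem res_blk_eq {lam : A →* ℂˣ} (hs : ∀ mu, h.blk mu = h.blk lam → h.Rel lam mu) :
    h.res (h.blk lam : X → ℂ) = h.psi lam := by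
  classical
  have := Fintype.ofFinite (A →* ℂˣ)
  set f := h.res (h.blk lam : X → ℂ)
  have hf : Cfsg.IsCharacter B f := h.isCharacter_res _
  have hd : Cfsg.IsCharacter B (f - h.psi lam) := by
    refine isCharacter_of_coeff (fun a b => ?_) fun η => ?_
    · simp only [Pi.sub_apply, isClassFunction_isChar hf a b, h.isClassFunction_psi lam a b]
    · obtain ⟨k, hk⟩ := IsCharacter.exists_mult hf η.2
      rw [classInner_sub_left, classInner_irrChar (h.isIrr_psi lam) η.2, hk]
      split_ifs with e
      · refine ⟨0, ?_⟩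
        rw [← hk, ← e, h.inner_blk_psi]; simp
      · exact ⟨k, by simp⟩
  have h1 : (f - h.psi lam) 1 = 0 := by
    have e1 := Cfsg.Lib.Dual.expand h.comm (fun a : A => f ⟨a, h.aB a.2⟩) 1
    have e2 := Cfsg.Lib.Dual.expand h.comm (fun a : A => h.psi lam ⟨a, h.aB a.2⟩) 1
    have e3 : ∀ mu : A →* ℂˣ, Cfsg.classInner (fun a : A => f ⟨a, h.aB a.2⟩) (Cfsg.Lib.Dual.ev mu) =
        Cfsg.classInner (fun a : A => h.psi lam ⟨a, h.aB a.2⟩) (Cfsg.Lib.Dual.ev mu) := by
      intro mu
      show h.mA f h.aB mu = h.mA (h.psi lam) h.aB mu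
      rw [h.mA_res (by rw [h.mult_blk]; simp), h.mA_psi]
      exact if_congr ⟨fun e => hs mu e.symm, fun e => h.blk_eq_of_rel e⟩ rfl rfl
    rw [Pi.sub_apply, sub_eq_zero, show (1 : B) = ⟨((1 : A) : X), h.aB (1 : A).2⟩ from Subtype.ext (by simp),
      e1, e2]
    exact Finset.sum_congr rfl fun mu _ => by rw [e3]
  exact sub_eq_zero.1 (eq_zero_of_apply_one hd h1)

open scoped Classical in
/-- If every orbit is a block, `B` and `X` have equally many orbits on pairs. -/
theorem rank_B_eq [Fintype (A →* ℂˣ)] (hs : ∀ lam mu, h.blk lam = h.blk mu → h.Rel lam mu) :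
    Nat.card (MulAction.orbitRel.Quotient B (Ω × Ω)) = (Finset.univ.image h.blk).card := by
  have e : ∀ χ : Cfsg.IrrCharacter X, h.mult χ * Cfsg.classInner (h.res (χ : X → ℂ)) h.permB =
      if χ ∈ Finset.univ.image h.blk then 1 else 0 := by
    intro χ
    split_ifs with hχ
    · obtain ⟨mu, -, rfl⟩ := Finset.mem_image.1 hχ
      rw [h.res_blk_eq fun nu e => hs mu nu e.symm, ← classInner_conj_symm, h.inner_permB_psi, h.mult_blk]
      simp
    · have e0 : h.mult χ = 0 := by
        by_contra h0
        obtain ⟨mu, rfl⟩ := h.exists_eq_blk h0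
        exact hχ (Finset.mem_image.2 ⟨mu, Finset.mem_univ _, rfl⟩)
      simp [e0]
  apply Nat.cast_injective (R := ℂ)
  rw [← inner_permChar_self (G := B) Ω]
  show Cfsg.classInner h.permB h.permB = _
  rw [← h.sum_mult_inner, Finset.sum_congr rfl fun χ _ => e χ, Finset.sum_boole]
  simp

/-- All orbits separate: the stabiliser of the point has the orbits of `R`. -/
theorem orbit_eq_of_separate (hs : ∀ lam mu, h.blk lam = h.blk mu → h.Rel lam mu) {x : X}
    (hx : x • o = o) (ω : Ω) : ∃ r ∈ R, r • ω = x • ω := by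
  classical
  have := Fintype.ofFinite (A →* ℂˣ)
  let q : MulAction.orbitRel.Quotient B (Ω × Ω) → MulAction.orbitRel.Quotient X (Ω × Ω) :=
    Quotient.map' id fun a b hab => by
      obtain ⟨g, hg⟩ := MulAction.orbitRel_apply.1 hab
      exact MulAction.orbitRel_apply.2 ⟨(g : X), hg⟩
  have hsur : Function.Surjective q := by
    intro z
    induction z using Quotient.inductionOn' with
    | h a => exact ⟨Quotient.mk'' a, rfl⟩
  have hbij : Function.Bijective q :=
    (Nat.bijective_iff_surjective_and_card q).2 ⟨hsur, by rw [h.rank_eq, h.rank_B_eq hs]⟩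
  have he : (Quotient.mk'' (o, x • ω) : MulAction.orbitRel.Quotient B (Ω × Ω)) = Quotient.mk'' (o, ω) := by
    apply hbij.1
    exact Quotient.sound' (MulAction.orbitRel_apply.2 ⟨x, Prod.ext hx rfl⟩)
  obtain ⟨b, hb⟩ := MulAction.orbitRel_apply.1 (Quotient.exact' he)
  exact ⟨b, (h.smul_eq_self_iff b).1 (congrArg Prod.fst hb), congrArg Prod.snd hb⟩

/-- All non-trivial orbits joined: the action is doubly transitive. -/
theorem two_transitive_of_joined
    (hj : ∀ lam mu : A →* ℂˣ, lam ≠ 1 → mu ≠ 1 → h.blk lam = h.blk mu) {ω ω' : Ω} (hω : ω ≠ o)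
    (hω' : ω' ≠ o) : ∃ x : X, x • o = o ∧ x • ω = ω' := by
  classical
  have := Fintype.ofFinite (A →* ℂˣ)
  have := Fintype.ofFinite (MulAction.orbitRel.Quotient X (Ω × Ω))
  have hc : (Finset.univ.image h.blk).card ≤ 2 := by
    by_cases hA : ∃ lam : A →* ℂˣ, lam ≠ 1
    · obtain ⟨lam, hl⟩ := hA
      refine le_trans (Finset.card_le_card (t := {h.blk 1, h.blk lam}) ?_) (Finset.card_le_two)
      intro χ hχ
      obtain ⟨mu, -, rfl⟩ := Finset.mem_image.1 hχ
      by_cases e : mu = 1
      · simp [e]
      · simp [hj mu lam e hl]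
    · push Not at hA
      refine le_trans (Finset.card_le_card (t := {h.blk 1}) ?_) (by simp)
      intro χ hχ
      obtain ⟨mu, -, rfl⟩ := Finset.mem_image.1 hχ
      simp [hA mu]
  rw [← h.rank_eq, Nat.card_eq_fintype_card] at hc
  let c : Ω → MulAction.orbitRel.Quotient X (Ω × Ω) := fun w => Quotient.mk'' (o, w)
  have hsep : ∀ w, w ≠ o → c w ≠ c o := by
    intro w hw e
    obtain ⟨g, hg⟩ := MulAction.orbitRel_apply.1 (Quotient.exact' e)
    exact hw ((congrArg Prod.snd hg).symm.trans (congrArg Prod.fst hg))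
  have he : c ω' = c ω := by
    by_contra hne
    have h3 : ({c o, c ω, c ω'} : Finset _).card = 3 := by
      rw [Finset.card_insert_of_notMem, Finset.card_insert_of_notMem, Finset.card_singleton]
      · simpa using Ne.symm hne
      · simp [(hsep ω hω).symm, (hsep ω' hω').symm]
    have := Finset.card_le_univ ({c o, c ω, c ω'} : Finset (MulAction.orbitRel.Quotient X (Ω × Ω)))
    omega
  obtain ⟨g, hg⟩ := MulAction.orbitRel_apply.1 (Quotient.exact' he)
  exact ⟨g, congrArg Prod.fst hg, congrArg Prod.snd hg⟩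

/-- `R` fixed-point-free on `A`: double transitivity, or the stabiliser has the orbits of `R`. -/
theorem frobenius_dichotomy (hfree : ∀ lam : A →* ℂˣ, lam ≠ 1 → h.Free lam) :
    (∀ ω ω' : Ω, ω ≠ o → ω' ≠ o → ∃ x : X, x • o = o ∧ x • ω = ω') ∨
      (∀ (x : X), x • o = o → ∀ ω : Ω, ∃ r ∈ R, r • ω = x • ω) := by
  by_cases hj : ∀ lam mu : A →* ℂˣ, lam ≠ 1 → mu ≠ 1 → h.blk lam = h.blk mu
  · exact Or.inl fun ω ω' hω hω' => h.two_transitive_of_joined hj hω hω'
  · push Not at hj
    obtain ⟨l₁, l₂, n1, n2, hsep⟩ := hj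
    refine Or.inr fun x hx ω => h.orbit_eq_of_separate (fun lam mu e => ?_) hx ω
    by_cases hl : lam = 1
    · by_cases hm : mu = 1
      · rw [hl, hm]; exact h.rel_refl 1
      · exact h.rel_symm (h.rel_of_free_separate (hfree _ n1) (hfree _ n2) hsep (hfree _ hm) e)
    · exact h.rel_of_free_separate (hfree _ n1) (hfree _ n2) hsep (hfree _ hl) e.symm

/-- If `R` is fixed-point-free on `A` every non-trivial character has trivial stabiliser. -/
theorem free_of_fpf (hf : ∀ r : R, r ≠ 1 → ∀ a : A, h.cj (h.ofR r) a = a → a = 1) {lam : A →* ℂˣ}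
    (hl : lam ≠ 1) : h.Free lam := by
  intro r hr
  by_contra hr1
  apply hl
  let φ : A →* A :=
    { toFun := fun a => h.cj (h.ofR r⁻¹) a * a⁻¹
      map_one' := by rw [map_one, inv_one, mul_one]
      map_mul' := fun a b => by
        rw [map_mul, mul_inv_rev, h.comm b⁻¹ a⁻¹, mul_assoc, mul_assoc,
          ← mul_assoc (h.cj (h.ofR r⁻¹) b), h.comm (h.cj (h.ofR r⁻¹) b) a⁻¹, mul_assoc] }
  have hinj : Function.Injective φ := by
    rw [injective_iff_map_eq_one]
    intro a ha
    exact hf r⁻¹ (inv_ne_one.2 hr1) a (mul_inv_eq_one.1 ha)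
  refine MonoidHom.ext fun a => ?_
  obtain ⟨c, rfl⟩ := Finite.surjective_of_injective hinj a
  show lam (h.cj (h.ofR r⁻¹) c * c⁻¹) = 1
  rw [map_mul, map_inv, mul_inv_eq_one]
  exact DFunLike.congr_fun hr c

end Setting

end Cfsg.Lib.BenderSE.Isometry
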