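/-
COMM, the kernel of a set of constituents of the permutation character (notes/bender_comm.md section 3,
trace lemma and mod `p` lemma).
-/
import Cfsg.Agent.BenderSE.IsometryRank
import Cfsg.Agent.BenderSE.CommModP
import Cfsg.Agent.Chars.Sums
import Cfsg.Agent.Chars.FreeOrbit
import Mathlib.LinearAlgebra.Matrix.ToLin
import Mathlib.LinearAlgebra.Trace

set_option autoImplicit false
set_option linter.unusedSectionVars false
set_option linter.style.haveILetI false

namespace Cfsg.Lib.BenderSE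

open scoped ComplexConjugate
open Cfsg.Lib.Chars

universe u v

/-- generalised orthogonality of irreducible characters -/
theorem sum_conj_mul_translate {X : Type u} [Group X] [Fintype X] [DecidableEq (Cfsg.IrrCharacter X)]
    (χ ψ : Cfsg.IrrCharacter X) (x : X) :
    ∑ g : X, conj ((χ : X → ℂ) g) * (ψ : X → ℂ) (g * x) =
      if ψ = χ then (Nat.card X : ℂ) / (χ : X → ℂ) 1 * (χ : X → ℂ) x else 0 := by
  classical
  have hX : (Nat.card X : ℂ) ≠ 0 := by exact_mod_cast Nat.card_pos.ne'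
  have hi := classInner_irrCharacter ψ χ
  obtain ⟨⟨n, ρ, hρ, hρe⟩⟩ := (⟨ψ.2⟩ : Nonempty (Cfsg.IsIrrCharacter X (ψ : X → ℂ)))
  have h := sum_smul_rep_trace ρ (f := fun a => conj ((χ : X → ℂ) a))
    (fun a b => by simp only [isClassFunction_irr χ a b]) x
  have e1 : ρ.character = (ψ : X → ℂ) := by first | exact hρe | exact hρe.symm
  rw [e1] at h
  rw [h, Finset.sum_congr rfl fun g _ => mul_comm (conj ((χ : X → ℂ) g)) ((ψ : X → ℂ) g)]
  rw [classInner_def, inv_mul_eq_iff_eq_mul₀ hX] at hi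
  rw [hi, ← ρ.char_one, e1]
  split_ifs with e
  · subst e; ring
  · simp

/-- an idempotent matrix of trace zero is zero -/
theorem eq_zero_of_trace_eq_zero {n : Type v} [Fintype n] [DecidableEq n] (M : Matrix n n ℂ)
    (hM : M * M = M) (ht : ∑ i, M i i = 0) : M = 0 := by
  have hid : IsIdempotentElem (Matrix.toLin' M) := by
    show Matrix.toLin' M ∘ₗ Matrix.toLin' M = Matrix.toLin' M
    rw [← Matrix.toLin'_mul, hM]
  have hp := LinearMap.IsIdempotentElem.isProj_range _ hid
  have h2 := hp.trace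
  rw [Matrix.trace_toLin'_eq] at h2
  have h3 : Module.finrank ℂ (LinearMap.range (Matrix.toLin' M)) = 0 := by
    have e : (Module.finrank ℂ (LinearMap.range (Matrix.toLin' M)) : ℂ) = 0 := h2.symm.trans ht
    exact_mod_cast e
  have h4 : Matrix.toLin' M = 0 := LinearMap.range_eq_bot.1 (Submodule.finrank_eq_zero.1 h3)
  exact Matrix.toLin'.injective (by rw [h4, map_zero])

namespace Isometry

variable {X : Type u} [Group X] {Ω : Type v} [MulAction X Ω] {A B R : Subgroup X} {o : Ω}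

namespace Setting

variable (h : Setting A B R o) [Fintype X] [Fintype B] [Fintype A] [Fintype R] [Fintype Ω]

include h

open Classical in
/-- the kernel of the projection onto a set of constituents -/
noncomputable def ker (_ : Setting A B R o) (S : Finset (Cfsg.IrrCharacter X)) (ω ω' : Ω) : ℂ :=
  (Nat.card X : ℂ)⁻¹ * ∑ χ ∈ S, (χ : X → ℂ) 1 *
    ∑ g : X, if g • ω' = ω then conj ((χ : X → ℂ) g) else 0

theorem ker_smul (S : Finset (Cfsg.IrrCharacter X)) (x : X) (ω ω' : Ω) :
    h.ker S (x • ω) (x • ω') = h.ker S ω ω' := by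
  classical
  simp only [ker]
  congr 1
  refine Finset.sum_congr rfl fun χ _ => ?_
  congr 1
  refine (Fintype.sum_equiv (MulAut.conj x).toEquiv _ _ fun g => ?_).symm
  simp only [MulEquiv.toEquiv_eq_coe, MulEquiv.coe_toEquiv, MulAut.conj_apply]
  rw [isClassFunction_irr χ g x]
  refine if_congr ?_ rfl rfl
  rw [mul_smul, mul_smul, inv_smul_smul, smul_left_cancel_iff]

theorem trace_ker {S : Finset (Cfsg.IrrCharacter X)} (hS : ∀ χ ∈ S, h.mult χ = 1) (x : X) :
    ∑ ω, h.ker S (x • ω) ω = ∑ χ ∈ S, (χ : X → ℂ) x⁻¹ := by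
  classical
  have hX : (Nat.card X : ℂ) ≠ 0 := by exact_mod_cast Nat.card_pos.ne'
  simp only [ker]
  rw [← Finset.mul_sum, Finset.sum_comm, Finset.mul_sum]
  refine Finset.sum_congr rfl fun χ hχ => ?_
  rw [← Finset.mul_sum, Finset.sum_comm]
  have e : ∀ g : X, (∑ ω : Ω, if g • ω = x • ω then conj ((χ : X → ℂ) g) else 0) =
      conj ((χ : X → ℂ) g) * permChar X Ω (g * x⁻¹) := by
    intro g
    rw [← Finset.sum_filter, Finset.sum_const, nsmul_eq_mul, mul_comm]
    congr 1
    unfold permChar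
    norm_cast
    rw [← Fintype.card_subtype, ← Nat.card_eq_fintype_card]
    refine Nat.card_congr
      { toFun := fun w => ⟨x • w.1, by
          show (g * x⁻¹) • x • w.1 = x • w.1
          rw [smul_smul, inv_mul_cancel_right, w.2]⟩
        invFun := fun w => ⟨x⁻¹ • w.1, by rw [← mul_smul g, smul_inv_smul]; exact w.2⟩
        left_inv := fun w => Subtype.ext (inv_smul_smul x w.1)
        right_inv := fun w => Subtype.ext (smul_inv_smul x w.1) }
  rw [Finset.sum_congr rfl fun g _ => e g]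
  have e2 : ∀ g : X, permChar X Ω (g * x⁻¹) =
      ∑ ψ : Cfsg.IrrCharacter X, h.mult ψ * (ψ : X → ℂ) (g * x⁻¹) := fun g =>
    classFunction_expand_apply (isClassFunction_isChar (isCharacter_permChar Ω)) _
  simp only [e2, Finset.mul_sum]
  rw [Finset.sum_comm, Finset.sum_congr rfl fun ψ _ => by
    rw [← Finset.mul_sum, ← Finset.mul_sum, Finset.sum_congr rfl fun g _ =>
      mul_left_comm (conj ((χ : X → ℂ) g)) (h.mult ψ) ((ψ : X → ℂ) (g * x⁻¹)), ← Finset.mul_sum,
      sum_conj_mul_translate χ ψ x⁻¹]]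
  rw [Finset.sum_eq_single χ (fun ψ _ hne => by rw [if_neg hne]; ring) (by simp), if_pos rfl, hS χ hχ]
  field_simp [IsIrrCharacter.apply_one_ne_zero χ.2]

variable [Fintype (A →* ℂˣ)]

open Classical in
/-- the weights of a set of constituents -/
noncomputable def weights (S : Finset (Cfsg.IrrCharacter X)) : Finset (A →* ℂˣ) :=
  Finset.univ.filter fun mu => h.blk mu ∈ S

theorem ker_fourier {S : Finset (Cfsg.IrrCharacter X)} (hS : ∀ χ ∈ S, h.mult χ = 1) (a b : A) :
    h.ker S ((a : X) • o) ((b : X) • o) =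
      (Nat.card A : ℂ)⁻¹ * ∑ mu ∈ h.weights S, (mu (a⁻¹ * b) : ℂ) := by
  classical
  have hA : (Nat.card A : ℂ) ≠ 0 := by exact_mod_cast Nat.card_pos.ne'
  set c : A := b⁻¹ * a
  have h1 : h.ker S ((a : X) • o) ((b : X) • o) = h.ker S ((c : X) • o) o := by
    rw [← h.ker_smul S (b : X) ((c : X) • o) o, smul_smul, ← Subgroup.coe_mul, mul_inv_cancel_left]
  have h2 : ∑ ω, h.ker S ((c : X) • ω) ω = (Nat.card A : ℂ) * h.ker S ((c : X) • o) o := by
    have hb : Function.Bijective fun d : A => (d : X) • o := by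
      refine ⟨fun d d' e => (h.reg ((d : X) • o)).unique rfl e.symm, fun w => ?_⟩
      obtain ⟨d, hd⟩ := (h.reg w).exists
      exact ⟨d, hd⟩
    rw [← Fintype.sum_bijective _ hb _ _ fun _ => rfl, Finset.sum_congr rfl fun d _ => by
      rw [smul_smul, ← Subgroup.coe_mul, h.comm c d, Subgroup.coe_mul, mul_smul, h.ker_smul],
      Finset.sum_const, Finset.card_univ, nsmul_eq_mul, ← Nat.card_eq_fintype_card]
  rw [h1, ← mul_right_inj' hA, ← h2, h.trace_ker hS, mul_inv_cancel_left₀ hA]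
  have h3 : ∀ χ ∈ S, (χ : X → ℂ) ((c : X)⁻¹) =
      ∑ mu : A →* ℂˣ, if χ = h.blk mu then (mu (a⁻¹ * b) : ℂ) else 0 := by
    intro χ hχ
    have e := Cfsg.Lib.Dual.expand h.comm (fun d : A => h.res (χ : X → ℂ) ⟨d, h.aB d.2⟩) c⁻¹
    rw [show (χ : X → ℂ) ((c : X)⁻¹) = h.res (χ : X → ℂ) ⟨((c⁻¹ : A) : X), h.aB (c⁻¹ : A).2⟩ by
      simp [res], e]
    refine Finset.sum_congr rfl fun mu _ => ?_
    rw [show Cfsg.classInner (fun d : A => h.res (χ : X → ℂ) ⟨d, h.aB d.2⟩) (Cfsg.Lib.Dual.ev mu) =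
      (if χ = h.blk mu then 1 else 0) from h.mA_res (by rw [hS χ hχ]; exact one_ne_zero) mu]
    split_ifs with e1
    · rw [one_mul]; simp [Cfsg.Lib.Dual.ev, c, mul_inv_rev]
    · rw [zero_mul]
  rw [Finset.sum_congr rfl h3, Finset.sum_comm, weights, Finset.sum_filter]
  exact Finset.sum_congr rfl fun mu _ => by rw [Finset.sum_ite_eq' S (h.blk mu) (fun _ => _)]

theorem ker_idem {S : Finset (Cfsg.IrrCharacter X)} (hS : ∀ χ ∈ S, h.mult χ = 1) (ω ω'' : Ω) :
    ∑ ω', h.ker S ω ω' * h.ker S ω' ω'' = h.ker S ω ω'' := by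
  classical
  have hA : (Nat.card A : ℂ) ≠ 0 := by exact_mod_cast Nat.card_pos.ne'
  obtain ⟨a, rfl⟩ := (h.reg ω).exists
  obtain ⟨d, rfl⟩ := (h.reg ω'').exists
  have hb : Function.Bijective fun b : A => (b : X) • o := by
    refine ⟨fun b b' e => (h.reg ((b : X) • o)).unique rfl e.symm, fun w => ?_⟩
    obtain ⟨b, hb⟩ := (h.reg w).exists
    exact ⟨b, hb⟩
  rw [← Fintype.sum_bijective _ hb _ _ fun _ => rfl]
  simp only [h.ker_fourier hS, map_mul, map_inv, Units.val_mul]
  have hstep : ∀ mu nu : A →* ℂˣ,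
      ∑ b : A, (((mu a)⁻¹ : ℂˣ) : ℂ) * (mu b : ℂ) * ((((nu b)⁻¹ : ℂˣ) : ℂ) * (nu d : ℂ)) =
        if mu = nu then (Nat.card A : ℂ) * ((((mu a)⁻¹ : ℂˣ) : ℂ) * (mu d : ℂ)) else 0 := by
    intro mu nu
    have e := Cfsg.Lib.Dual.classInner_ev mu nu
    rw [classInner_def, inv_mul_eq_iff_eq_mul₀ hA] at e
    rw [Finset.sum_congr rfl fun b _ => show _ = (((mu a)⁻¹ : ℂˣ) : ℂ) * (nu d : ℂ) *
      (Cfsg.Lib.Dual.ev mu b * conj (Cfsg.Lib.Dual.ev nu b)) from ?_, ← Finset.mul_sum, e]
    · split_ifs with e1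
      · subst e1; ring
      · simp
    · have hc : conj ((nu b : ℂˣ) : ℂ) = (((nu b)⁻¹ : ℂˣ) : ℂ) := by
        rw [← map_inv]
        exact (IsCharacter.conj_inv (isCharacter_of_irr (Cfsg.Lib.Dual.isIrr_ev nu)) b).symm
      simp only [Cfsg.Lib.Dual.ev, hc]
      ring
  calc ∑ b : A, (Nat.card A : ℂ)⁻¹ * (∑ mu ∈ h.weights S, (((mu a)⁻¹ : ℂˣ) : ℂ) * (mu b : ℂ)) *
        ((Nat.card A : ℂ)⁻¹ * ∑ nu ∈ h.weights S, (((nu b)⁻¹ : ℂˣ) : ℂ) * (nu d : ℂ))
      = (Nat.card A : ℂ)⁻¹ * (Nat.card A : ℂ)⁻¹ * ∑ mu ∈ h.weights S, ∑ nu ∈ h.weights S,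
          ∑ b : A, (((mu a)⁻¹ : ℂˣ) : ℂ) * (mu b : ℂ) * ((((nu b)⁻¹ : ℂˣ) : ℂ) * (nu d : ℂ)) := by
        rw [Finset.sum_congr rfl fun b _ => by rw [mul_mul_mul_comm, Finset.sum_mul_sum],
          ← Finset.mul_sum, Finset.sum_comm]
        exact congrArg _ (Finset.sum_congr rfl fun mu _ => Finset.sum_comm)
    _ = _ := by
        simp only [hstep, Finset.sum_ite_eq]
        rw [Finset.sum_congr rfl fun mu hmu => by rw [if_pos hmu], ← Finset.mul_sum]
        field_simp


/-- the kernel has denominators dividing `|A|` -/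
theorem isIntegral_ker {S : Finset (Cfsg.IrrCharacter X)} (hS : ∀ χ ∈ S, h.mult χ = 1) (ω ω' : Ω) :
    IsIntegral ℤ ((Nat.card A : ℂ) * h.ker S ω ω') := by
  obtain ⟨a, rfl⟩ := (h.reg ω).exists
  obtain ⟨b, rfl⟩ := (h.reg ω').exists
  rw [h.ker_fourier hS, mul_inv_cancel_left₀ (by exact_mod_cast Nat.card_pos.ne')]
  refine IsIntegral.sum _ fun mu _ => Cfsg.Lib.Chars.isIntegral_of_pow_eq_one (m := Nat.card A)
    Nat.card_pos ?_
  rw [← Units.val_pow_eq_pow_val, ← map_pow, pow_card_eq_one', map_one, Units.val_one]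

/-- weights invariant under the characters trivial on `A'` shrink the denominators to `|A'|` -/
theorem isIntegral_ker_of_invariant {S : Finset (Cfsg.IrrCharacter X)}
    (hS : ∀ χ ∈ S, h.mult χ = 1) (A' : Subgroup A)
    (hinv : ∀ mu nu : A →* ℂˣ, (∀ a ∈ A', nu a = mu a) → h.blk mu ∈ S → h.blk nu ∈ S) (ω ω' : Ω) :
    IsIntegral ℤ ((Nat.card A' : ℂ) * h.ker S ω ω') := by
  classical
  obtain ⟨a, rfl⟩ := (h.reg ω).exists
  obtain ⟨b, rfl⟩ := (h.reg ω').exists
  rw [h.ker_fourier hS]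
  haveI : A'.Normal := ⟨fun x hx g => by rw [h.comm g x, mul_inv_cancel_right]; exact hx⟩
  have hq : ∀ x y : A ⧸ A', x * y = y * x := fun x y =>
    QuotientGroup.induction_on x fun x => QuotientGroup.induction_on y fun y => by
      rw [← QuotientGroup.mk_mul, ← QuotientGroup.mk_mul, h.comm]
  set c := a⁻¹ * b
  have hW : ∀ eta : A ⧸ A' →* ℂˣ, ∀ mu, mu ∈ h.weights S →
      mu * eta.comp (QuotientGroup.mk' A') ∈ h.weights S := by
    intro eta mu hmu
    simp only [weights, Finset.mem_filter, Finset.mem_univ, true_and] at hmu ⊢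
    refine hinv mu _ (fun d hd => ?_) hmu
    rw [MonoidHom.mul_apply, MonoidHom.comp_apply,
      show QuotientGroup.mk' A' d = 1 from (QuotientGroup.eq_one_iff d).2 hd, map_one, mul_one]
  by_cases hc : c ∈ A'
  swap
  · obtain ⟨eta, heta⟩ := Cfsg.Lib.Dual.exists_hom_ne_one hq
      (a := QuotientGroup.mk' A' c) (fun e => hc ((QuotientGroup.eq_one_iff c).1 e))
    set eta' := eta.comp (QuotientGroup.mk' A')
    have hinv' : ∀ mu, mu ∈ h.weights S → mu * eta'⁻¹ ∈ h.weights S := fun mu hmu => by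
      have := hW eta⁻¹ mu hmu
      rwa [show eta⁻¹.comp (QuotientGroup.mk' A') = eta'⁻¹ from rfl] at this
    have h1 : (eta (QuotientGroup.mk' A' c) : ℂ) * ∑ mu ∈ h.weights S, (mu c : ℂ) =
        ∑ mu ∈ h.weights S, (mu c : ℂ) := by
      rw [Finset.mul_sum]
      refine Finset.sum_nbij' (· * eta') (· * eta'⁻¹) (fun mu hmu => hW eta mu hmu) hinv'
        (fun mu _ => mul_inv_cancel_right mu eta') (fun mu _ => inv_mul_cancel_right mu eta') fun mu _ => ?_
      simp [eta', mul_comm]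
    have h2 : ((eta (QuotientGroup.mk' A' c) : ℂ) - 1) * ∑ mu ∈ h.weights S, (mu c : ℂ) = 0 := by
      rw [sub_mul, h1, one_mul, sub_self]
    rw [(mul_eq_zero.1 h2).resolve_left fun e => heta (Units.ext (sub_eq_zero.1 e))]
    simp [isIntegral_zero]
  -- the fibres of restriction to `A'`
  haveI : Finite (A ⧸ A' →* ℂˣ) := Nat.finite_of_card_ne_zero (by
    rw [Cfsg.Lib.Dual.card_hom hq]; exact Nat.card_pos.ne')
  let res : (A →* ℂˣ) → (A' →* ℂˣ) := fun mu => mu.comp A'.subtype
  have hfib : ∀ nu ∈ (h.weights S).image res,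
      ((h.weights S).filter fun mu => res mu = nu).card = Nat.card (A ⧸ A' →* ℂˣ) := by
    intro nu hnu
    obtain ⟨mu₀, hmu₀, rfl⟩ := Finset.mem_image.1 hnu
    rw [← Fintype.card_coe, ← Nat.card_eq_fintype_card]
    refine (Nat.card_congr (Equiv.ofBijective (fun eta : A ⧸ A' →* ℂˣ =>
      (⟨mu₀ * eta.comp (QuotientGroup.mk' A'), Finset.mem_filter.2 ⟨hW eta mu₀ hmu₀,
        MonoidHom.ext fun d => by
          show mu₀ d * eta (QuotientGroup.mk' A' d) = mu₀ d
          rw [show QuotientGroup.mk' A' (d : A) = 1 from (QuotientGroup.eq_one_iff _).2 d.2, map_one,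
            mul_one]⟩⟩ : {mu // mu ∈ (h.weights S).filter fun mu => res mu = res mu₀})) ⟨?_, ?_⟩)).symm
    · intro e e' he
      have := congrArg Subtype.val he
      simp only [mul_right_inj] at this
      exact (MonoidHom.cancel_right (QuotientGroup.mk'_surjective A')).1 this
    · rintro ⟨mu, hmu⟩
      have hres : ∀ d ∈ A', (mu₀⁻¹ * mu) d = 1 := fun d hd => by
        have := DFunLike.congr_fun (Finset.mem_filter.1 hmu).2 ⟨d, hd⟩
        simp only [res, MonoidHom.comp_apply, Subgroup.coe_subtype] at this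
        simp [this]
      refine ⟨QuotientGroup.lift A' (mu₀⁻¹ * mu) fun d hd => MonoidHom.mem_ker.2 (hres d hd),
        Subtype.ext (MonoidHom.ext fun d => ?_)⟩
      simp
  have hmap : ∀ mu ∈ h.weights S, (mu c : ℂ) = (res mu ⟨c, hc⟩ : ℂ) := fun mu _ => rfl
  rw [Finset.sum_congr rfl hmap, Finset.sum_comp (fun nu : A' →* ℂˣ => (nu ⟨c, hc⟩ : ℂ)) res,
    Finset.sum_congr rfl fun nu hnu => by rw [hfib nu hnu], ← Finset.smul_sum,
    nsmul_eq_mul, Cfsg.Lib.Dual.card_hom hq]
  have hcard : (Nat.card A : ℂ) = (Nat.card (A ⧸ A') : ℂ) * (Nat.card A' : ℂ) := by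
    exact_mod_cast Subgroup.card_eq_card_quotient_mul_card_subgroup A'
  rw [hcard]
  have h4 : (Nat.card (A ⧸ A') : ℂ) ≠ 0 := by exact_mod_cast Nat.card_pos.ne'
  have h5 : (Nat.card A' : ℂ) ≠ 0 := by exact_mod_cast Nat.card_pos.ne'
  field_simp
  refine IsIntegral.sum _ fun nu _ => Cfsg.Lib.Chars.isIntegral_of_pow_eq_one (m := Nat.card A')
    Nat.card_pos ?_
  rw [← Units.val_pow_eq_pow_val, ← map_pow, pow_card_eq_one', map_one, Units.val_one]

/-- the data of `ModP` for the kernel -/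
theorem data_ker {S : Finset (Cfsg.IrrCharacter X)} (hS : ∀ χ ∈ S, h.mult χ = 1) {z : X}
    (hzz : z * z = 1) (hcomm : ∀ r ∈ R, r * z = z * r)
    (hsemi : ∀ ω : Ω, z • ω ≠ ω → ∀ r ∈ R, r • ω = ω ∨ r • ω = z • ω → r = 1) {m : ℕ}
    (hint : ∀ ω ω', IsIntegral ℤ ((m : ℂ) * h.ker S ω ω')) : ModP.Data R z (h.ker S) m :=
  ⟨hzz, hcomm, hsemi, fun r _ ω ω' => h.ker_smul S r ω ω', fun ω ω' => h.ker_smul S z ω ω',
    h.ker_idem hS, hint⟩

/-- an odd function fixed by the kernel, unless `z` is in the kernel of every member -/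
theorem exists_odd {S : Finset (Cfsg.IrrCharacter X)} (hS : ∀ χ ∈ S, h.mult χ = 1) {z : X}
    (hzz : z * z = 1) (hne : ∃ χ ∈ S, (χ : X → ℂ) z ≠ (χ : X → ℂ) 1) :
    ∃ f : Ω → ℂ, f ≠ 0 ∧ (∀ ω, f (z • ω) = - f ω) ∧ ∀ ω, ∑ ω', h.ker S ω ω' * f ω' = f ω := by
  classical
  by_contra hall
  push Not at hall
  have hinv : ∀ ω ω₀, h.ker S (z • ω) ω₀ = h.ker S ω ω₀ := by
    intro ω ω₀
    by_contra hne'
    obtain ⟨ω₁, hω₁⟩ := hall (fun w => h.ker S w ω₀ - h.ker S (z • w) ω₀)
      (fun e => hne' ((sub_eq_zero.1 (congrFun e ω)).symm))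
      (fun w => by
        show h.ker S (z • w) ω₀ - h.ker S (z • z • w) ω₀ = -(h.ker S w ω₀ - h.ker S (z • w) ω₀)
        rw [smul_smul, hzz, one_smul]; ring)
    refine hω₁ ?_
    simp only [mul_sub, Finset.sum_sub_distrib, h.ker_idem hS]
    congr 1
    rw [← h.ker_idem hS (z • ω₁) ω₀]
    refine Fintype.sum_equiv (MulAction.toPerm z) _ _ fun w => ?_
    simp only [MulAction.toPerm_apply, h.ker_smul]
  have h1 : ∑ χ ∈ S, (χ : X → ℂ) z⁻¹ = ∑ χ ∈ S, (χ : X → ℂ) (1 : X)⁻¹ := by
    rw [← h.trace_ker hS, ← h.trace_ker hS]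
    exact Finset.sum_congr rfl fun ω _ => by rw [hinv, one_smul]
  rw [inv_one, show z⁻¹ = z from inv_eq_of_mul_eq_one_right hzz] at h1
  obtain ⟨χ, hχ, hne'⟩ := hne
  have hc : ∀ ψ : Cfsg.IrrCharacter X, ((ψ : X → ℂ) z).re ≤ ((ψ : X → ℂ) 1).re := fun ψ =>
    (Complex.re_le_norm _).trans (IsCharacter.norm_le (isCharacter_of_irr ψ.2) z)
  have h3 : ((χ : X → ℂ) z).re = ((χ : X → ℂ) 1).re := by
    have h4 := congrArg Complex.re h1
    rw [Complex.re_sum, Complex.re_sum] at h4
    exact ((Finset.sum_eq_sum_iff_of_le fun ψ _ => hc ψ).1 h4 χ hχ)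
  have h5 : ((χ : X → ℂ) z).im = 0 := by
    rw [← Complex.conj_eq_iff_im, ← IsCharacter.conj_inv (isCharacter_of_irr χ.2) z,
      inv_eq_of_mul_eq_one_right hzz]
  have h6 : ((χ : X → ℂ) 1).im = 0 := by
    rw [← Complex.conj_eq_iff_im, ← IsCharacter.conj_inv (isCharacter_of_irr χ.2) 1, inv_one]
  exact hne' (Complex.ext h3 (h5.trans h6.symm))

open Classical in
/-- the trace attached to `φ` -/
noncomputable def eigenTrace (_ : Setting A B R o) (S : Finset (Cfsg.IrrCharacter X)) (z : X)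
    (φ : R →* ℂˣ) : ℂ :=
  ∑ χ ∈ S, ∑ r : R, (φ r : ℂ) * ((χ : X → ℂ) (r : X) - (χ : X → ℂ) ((r : X) * z))

/-- eigenfunctions exist exactly when the trace is non-zero -/
theorem exists_eigen_iff_trace {S : Finset (Cfsg.IrrCharacter X)} (hS : ∀ χ ∈ S, h.mult χ = 1)
    {z : X} (hzz : z * z = 1) (hcomm : ∀ r ∈ R, r * z = z * r)
    (hsemi : ∀ ω : Ω, z • ω ≠ ω → ∀ r ∈ R, r • ω = ω ∨ r • ω = z • ω → r = 1) (φ : R →* ℂˣ) :
    (∃ f, f ≠ 0 ∧ ModP.Eigen R z (h.ker S) φ f) ↔ h.eigenTrace S z φ ≠ 0 := by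
  classical
  have hd := h.data_ker hS hzz hcomm hsemi (m := Nat.card A) (h.isIntegral_ker hS)
  obtain ⟨C, hC1, hC2, hC3⟩ := ModP.exists_reps hd le_rfl
  -- the trace of the block matrix
  let D : R → Ω → ℂ := fun r ω => h.ker S ω ((r : X) • ω) - h.ker S ω ((r : X) • (z • ω))
  have hconj : ∀ (s r : R) (ω : Ω), D r ((s : X) • ω) = D (s⁻¹ * r * s) ω := by
    intro s r ω
    simp only [D]
    rw [← h.ker_smul S ((s : X)⁻¹), ← h.ker_smul S ((s : X)⁻¹) ((s : X) • ω) ((r : X) • (z • ((s : X) • ω)))]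
    simp only [Subgroup.coe_mul, Subgroup.coe_inv, mul_smul, inv_smul_smul]
    rw [smul_smul z (s : X), ← hcomm s s.2, mul_smul]
  have hz' : ∀ (r : R) (ω : Ω), D r (z • ω) = D r ω := by
    intro r ω
    simp only [D]
    have e : (r : X) • z • ω = z • (r : X) • ω := by rw [smul_smul, smul_smul, hcomm r r.2]
    rw [smul_smul z z, hzz, one_smul, e]
    congr 1
    · rw [← h.ker_smul S z ω ((r : X) • ω)]
    · rw [← h.ker_smul S z ω (z • (r : X) • ω), smul_smul z z, hzz, one_smul]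
  let F : Ω → ℂ := fun ω => ∑ r : R, (φ r : ℂ) * D r ω
  have hF : ∀ (s : R) (ω : Ω), F ((s : X) • ω) = F ω := by
    intro s ω
    refine Fintype.sum_equiv (MulAut.conj s⁻¹).toEquiv _ _ fun r => ?_
    simp only [MulEquiv.toEquiv_eq_coe, MulEquiv.coe_toEquiv, MulAut.conj_apply, inv_inv]
    rw [hconj, map_mul, map_mul, map_inv, mul_comm (φ s)⁻¹, inv_mul_cancel_right]
  have hFz : ∀ ω, F (z • ω) = F ω := fun ω => Finset.sum_congr rfl fun r _ => by rw [hz']
  have hsum : h.eigenTrace S z φ = ∑ ω, F ω := by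
    show ∑ χ ∈ S, ∑ r : R, _ = _
    simp only [F]
    rw [Finset.sum_comm (t := (Finset.univ : Finset R)), Finset.sum_comm (t := (Finset.univ : Finset R))
      (s := (Finset.univ : Finset Ω))]
    refine Finset.sum_congr rfl fun r _ => ?_
    rw [← Finset.mul_sum, ← Finset.mul_sum]
    congr 1
    simp only [D, Finset.sum_sub_distrib]
    congr 1
    · rw [← (Fintype.sum_equiv (MulAction.toPerm ((r : X)⁻¹))
          (fun ω => h.ker S ((r : X)⁻¹ • ω) ω) (fun ω => h.ker S ω ((r : X) • ω))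
          fun ω => by simp only [MulAction.toPerm_apply, smul_inv_smul]),
        h.trace_ker hS, inv_inv]
    · rw [← (Fintype.sum_equiv (MulAction.toPerm (((r : X) * z)⁻¹))
          (fun ω => h.ker S (((r : X) * z)⁻¹ • ω) ω) (fun ω => h.ker S ω ((r : X) • z • ω))
          fun ω => by simp only [MulAction.toPerm_apply, smul_smul (r : X) z, smul_inv_smul]),
        h.trace_ker hS, inv_inv]
  have hblock : ∀ c, F c = ModP.block z (h.ker S) φ c c := fun c => by
    simp only [F, D, ModP.block]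
    exact Finset.sum_congr (by ext; simp) fun r _ => rfl
  have htrace : h.eigenTrace S z φ =
      (2 * Nat.card R : ℂ) * ∑ c ∈ C, ModP.block z (h.ker S) φ c c := by
    rw [hsum, Finset.mul_sum]
    have h0 : ∀ ω, z • ω = ω → F ω = 0 := fun ω hω => Finset.sum_eq_zero fun r _ => by
      simp only [D, hω, sub_self, mul_zero]
    rw [← Finset.sum_filter_of_ne (p := fun ω => z • ω ≠ ω) (fun ω _ hne hω => hne (h0 ω hω))]
    have hsig : ∑ q ∈ C ×ˢ (Finset.univ : Finset (R × Bool)), F q.1 =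
        ∑ ω ∈ Finset.univ.filter (fun ω => z • ω ≠ ω), F ω := by
      refine Finset.sum_bij (fun q _ => if q.2.2 then (q.2.1 : X) • (z • q.1) else (q.2.1 : X) • q.1)
        ?_ ?_ ?_ ?_
      · rintro ⟨c, r, b⟩ hq
        have hc := hC1 c (Finset.mem_product.1 hq).1
        have e : ∀ w : Ω, z • ((r : X) • w) = (r : X) • (z • w) := fun w => by
          rw [smul_smul, smul_smul, hcomm r r.2]
        simp only [Finset.mem_filter, Finset.mem_univ, true_and]
        cases b
        · intro h1; exact hc (smul_left_cancel (r : X) ((e c).symm.trans h1))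
        · intro h1
          have h2 := smul_left_cancel (r : X) ((e _).symm.trans h1)
          rw [smul_smul, hzz, one_smul] at h2
          exact hc h2.symm
      · rintro ⟨c, r, b⟩ hq ⟨c', r', b'⟩ hq' he
        have hc := (Finset.mem_product.1 hq).1
        have hc' := (Finset.mem_product.1 hq').1
        have e : ∀ (s : R) (w : Ω), z • ((s : X) • w) = (s : X) • (z • w) := fun s w => by
          rw [smul_smul, smul_smul, hcomm s s.2]
        have key : ∀ (r r' : R) (b b' : Bool) (c c' : Ω), c ∈ C → c' ∈ C →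
            (if b then (r : X) • (z • c) else (r : X) • c) = (if b' then (r' : X) • (z • c') else (r' : X) • c') →
            c = c' ∧ r = r' ∧ b = b' := by
          intro r r' b b' c c' hc hc' he
          have h1 : c = ((r⁻¹ * r' : R) : X) • c' ∨ c = ((r⁻¹ * r' : R) : X) • (z • c') := by
            rw [Subgroup.coe_mul, Subgroup.coe_inv, mul_smul, mul_smul, eq_inv_smul_iff, eq_inv_smul_iff]
            cases b <;> cases b' <;> simp only [Bool.false_eq_true, if_false, if_true] at he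
            · exact Or.inl he
            · exact Or.inr he
            · right; rw [← e r', ← he, e, smul_smul z z, hzz, one_smul]
            · left
              apply smul_left_cancel z
              rw [e, e, he]
          obtain rfl := hC3 c hc c' hc' _ h1
          have h2 := hsemi c (hC1 c hc) _ (r⁻¹ * r').2 (h1.imp Eq.symm fun h3 => by
            apply smul_left_cancel z
            rw [smul_smul z z, hzz, one_smul, e]
            exact h3.symm)
          have hrr : r = r' := inv_mul_eq_one.1 (Subtype.ext h2)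
          subst hrr
          refine ⟨rfl, rfl, ?_⟩
          cases b <;> cases b' <;> simp only [Bool.false_eq_true, if_false, if_true] at he <;>
            first | rfl | exact absurd (smul_left_cancel (r : X) he).symm (hC1 c hc) |
              exact absurd (smul_left_cancel (r : X) he) (hC1 c hc)
        obtain ⟨h1, h2, h3⟩ := key r r' b b' c c' hc hc' he
        rw [h1, h2, h3]
      · intro ω hω
        obtain ⟨c, hc, r, hr⟩ := hC2 ω (Finset.mem_filter.1 hω).2
        rcases hr with hr | hr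
        · exact ⟨(c, r, false), Finset.mem_product.2 ⟨hc, Finset.mem_univ _⟩, by simp [hr]⟩
        · exact ⟨(c, r, true), Finset.mem_product.2 ⟨hc, Finset.mem_univ _⟩, by simp [hr]⟩
      · rintro ⟨c, r, b⟩ _
        cases b
        · simp [hF]
        · simp [hF, hFz]
    rw [← hsig, Finset.sum_product]
    refine Finset.sum_congr rfl fun c _ => ?_
    rw [show (∑ y : R × Bool, F (c, y).1) = ∑ _y : R × Bool, F c from rfl, Finset.sum_const,
      Finset.card_univ, Fintype.card_prod, Fintype.card_bool, nsmul_eq_mul,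
      hblock, Nat.cast_mul, Nat.cast_two, Nat.card_eq_fintype_card]
    ring
  rw [ModP.exists_eigen_iff hd le_rfl]
  constructor
  · rintro ⟨c, c', hne⟩ h0
    rw [htrace, mul_eq_zero] at h0
    have h0' := h0.resolve_left (mul_ne_zero two_ne_zero (by exact_mod_cast Nat.card_pos.ne'))
    let M : Matrix C C ℂ := fun i j => ModP.block z (h.ker S) φ i j
    have hM : M = 0 := eq_zero_of_trace_eq_zero M (by
      ext i k
      rw [Matrix.mul_apply]
      show ∑ j : C, ModP.block z (h.ker S) φ i j * ModP.block z (h.ker S) φ j k = _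
      rw [Finset.sum_coe_sort C (fun l => ModP.block z (h.ker S) φ i l * ModP.block z (h.ker S) φ l k)]
      exact ModP.block_idem hd le_rfl hC1 hC2 hC3 φ i k) (by
      show ∑ i : C, ModP.block z (h.ker S) φ i i = 0
      rw [Finset.sum_coe_sort C (fun l => ModP.block z (h.ker S) φ l l)]
      exact h0')
    apply hne
    -- every block is determined by those on representatives
    obtain ⟨hg, hgz, hgK⟩ := ModP.eigen_apply hd le_rfl (fun r ω => ModP.basicFun_smul φ c' ω r)
      (ModP.basicFun_z hd le_rfl φ c')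
    set g : Ω → ℂ := fun ω => ∑ ω', h.ker S ω ω' * ModP.basicFun z φ c' ω' with hgdef
    have e1 : ∀ ω, g ω = ModP.block z (h.ker S) φ ω c' := fun ω => ModP.sum_kernel_basicFun φ ω c'
    have hlin : ∀ ω, g ω = ∑ d ∈ C, g d * ModP.block z (h.ker S) φ ω d := fun ω => by
      conv_lhs => rw [← hgK ω]
      rw [Finset.sum_congr rfl fun w _ => by
        rw [← ModP.expand hd le_rfl hC1 hC2 hC3 hg hgz w, Finset.mul_sum], Finset.sum_comm]
      refine Finset.sum_congr rfl fun d _ => ?_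
      rw [← ModP.sum_kernel_basicFun φ ω d, Finset.mul_sum]
      exact Finset.sum_congr rfl fun w _ => by ring
    have hzero : ∀ d ∈ C, g d = 0 := fun d hd' => by
      rw [hlin d]
      refine Finset.sum_eq_zero fun d' hd'' => ?_
      rw [show ModP.block z (h.ker S) φ d d' = M ⟨d, hd'⟩ ⟨d', hd''⟩ from rfl, hM]
      simp
    rw [← e1 c, hlin c]
    exact Finset.sum_eq_zero fun d hd' => by rw [hzero d hd', zero_mul]
  · intro hne
    by_contra hall
    push Not at hall
    exact hne (by rw [htrace, Finset.sum_eq_zero fun c _ => hall c c, mul_zero])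

end Setting

end Isometry

end Cfsg.Lib.BenderSE
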