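import Cfsg.Agent.BenderSE.IsometryBlocks
import Cfsg.Agent.Chars.Sums
import Cfsg.Agent.Chars.IrrTools

/-!
# Functions invariant under the point stabiliser

Their Fourier transforms are constant on the blocks, and over a free orbit which is a block by itself
the character of the orbit is invariant under the point stabiliser.  So if the characters with
nontrivial stabiliser are trivial on `τ`, an invariant set on which the orbits of `R` are moved by
an element of the point stabiliser is invariant under the translation `τ` (notes/bender_comm.md).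
-/

set_option autoImplicit false
set_option linter.unusedSectionVars false
set_option linter.style.haveILetI false

namespace Cfsg.Lib.BenderSE.Isometry

open scoped ComplexConjugate
open Cfsg.Lib.Chars MulAction

universe u v

theorem conj_hom {A : Type u} [Group A] [Finite A] (mu : A →* ℂˣ) (a : A) :
    conj (mu a : ℂ) = (mu a⁻¹ : ℂ) :=
  (IsCharacter.conj_inv (isCharacter_linear mu) a).symm

/-- if the Fourier transform vanishes off the characters trivial on `τ`, translation by `τ`
fixes the function -/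
theorem apply_mul_eq_of_hat {A : Type u} [Group A] [Finite A] [Fintype A]
    (hA : ∀ a b : A, a * b = b * a) (F : A → ℂ) (τ : A)
    (hF : ∀ mu : A →* ℂˣ, ∑ a : A, F a * (mu a : ℂ) = 0 ∨ mu τ = 1) (b : A) : F (τ * b) = F b := by
  classical
  haveI : Finite (A →* ℂˣ) := Nat.finite_of_card_ne_zero (by
    rw [Cfsg.Lib.Dual.card_hom hA]; exact Nat.card_pos.ne')
  haveI := Fintype.ofFinite (A →* ℂˣ)
  rw [Cfsg.Lib.Dual.expand hA F (τ * b), Cfsg.Lib.Dual.expand hA F b]
  refine Finset.sum_congr rfl fun mu _ => ?_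
  rcases hF mu⁻¹ with h0 | h1
  · have e : Cfsg.classInner F (Cfsg.Lib.Dual.ev mu) = 0 := by
      have e1 : ∀ a : A, conj (Cfsg.Lib.Dual.ev mu a) = ((mu⁻¹ : A →* ℂˣ) a : ℂ) := fun a => by
        show conj (mu a : ℂ) = _
        rw [conj_hom, MonoidHom.inv_apply, map_inv]
      rw [classInner_def]
      simp only [e1, h0, mul_zero]
    rw [e, zero_mul, zero_mul]
  · congr 1
    rw [MonoidHom.inv_apply, inv_eq_one] at h1
    simp [Cfsg.Lib.Dual.ev, map_mul, h1]

variable {X : Type u} [Group X] {Ω : Type v} [MulAction X Ω] {A B R : Subgroup X} {o : Ω}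

namespace Setting

variable (h : Setting A B R o) [Fintype X] [Fintype B] [Fintype A] [Fintype R] [Finite Ω]

include h

/-- `X = A X_o` -/
theorem exists_mul_stab (x : X) : ∃ a : A, ∃ s : stabilizer X o, x = (a : X) * s := by
  obtain ⟨a, ha⟩ := (h.reg (x • o)).exists
  refine ⟨a, ⟨(a : X)⁻¹ * x, ?_⟩, by simp⟩
  rw [mem_stabilizer_iff, mul_smul, ← ha, inv_smul_smul]

theorem card_eq_mul : Nat.card X = Nat.card A * Nat.card (stabilizer X o) := by
  rw [← Nat.card_prod]
  refine (Nat.card_congr (Equiv.ofBijective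
    (fun p : A × stabilizer X o => (p.1 : X) * p.2) ⟨?_, fun x => ?_⟩)).symm
  · rintro ⟨a, s⟩ ⟨b, t⟩ e
    have e0 : (a : X) * s = b * t := e
    have e1 : (a : X) • o = (b : X) • o := by
      have e2 := congrArg (fun x : X => x • o) e0
      simpa [mul_smul, mem_stabilizer_iff.1 s.2, mem_stabilizer_iff.1 t.2] using e2
    have hab : a = b := (h.reg _).unique e1 rfl
    subst hab
    exact Prod.ext rfl (Subtype.ext (mul_left_cancel e0))
  · obtain ⟨a, s, rfl⟩ := h.exists_mul_stab x
    exact ⟨(a, s), rfl⟩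

/-- the multiplicity is the average over the point stabiliser -/
theorem sum_stab [Fintype (stabilizer X o)] (χ : Cfsg.IrrCharacter X) :
    ∑ s : stabilizer X o, (χ : X → ℂ) s = (Nat.card (stabilizer X o) : ℂ) * conj (h.mult χ) := by
  classical
  haveI := Fintype.ofFinite Ω
  have hA : (Nat.card A : ℂ) ≠ 0 := by exact_mod_cast Nat.card_pos.ne'
  have hS : (Nat.card (stabilizer X o) : ℂ) ≠ 0 := by exact_mod_cast Nat.card_pos.ne'
  have hcl := isClassFunction_irr χ
  have key : ∑ g : X, permChar X Ω g * conj ((χ : X → ℂ) g) =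
      (Nat.card A : ℂ) * ∑ s : stabilizer X o, conj ((χ : X → ℂ) s) := by
    have e1 : ∀ g : X, permChar X Ω g = ∑ ω : Ω, if g • ω = ω then (1 : ℂ) else 0 := by
      intro g
      rw [Finset.sum_boole]
      unfold permChar
      congr 1
      rw [← Fintype.card_subtype, ← Nat.card_eq_fintype_card]
      rfl
    simp only [e1, Finset.sum_mul, ite_mul, one_mul, zero_mul]
    rw [Finset.sum_comm]
    have e2 : ∀ ω : Ω, (∑ g : X, if g • ω = ω then conj ((χ : X → ℂ) g) else 0) =
        ∑ s : stabilizer X o, conj ((χ : X → ℂ) s) := by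
      intro ω
      obtain ⟨a, rfl⟩ := (h.reg ω).exists
      rw [← (MulAut.conj (a : X)).toEquiv.sum_comp]
      have e3 : ∀ g : X, ((MulAut.conj (a : X)).toEquiv g) • ((a : X) • o) = (a : X) • o ↔ g • o = o := by
        intro g
        show ((a : X) * g * (a : X)⁻¹) • ((a : X) • o) = _ ↔ _
        rw [← mul_smul, inv_mul_cancel_right, mul_smul, smul_left_cancel_iff]
      simp only [e3]
      rw [← Finset.sum_filter]
      rw [Finset.sum_subtype (p := fun g => g ∈ stabilizer X o) (F := ‹Fintype (stabilizer X o)›) _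
        (fun g => by simp)]
      exact Finset.sum_congr rfl fun s _ => congrArg conj (hcl (s : X) (a : X))
    rw [Finset.sum_congr rfl fun ω _ => e2 ω, Finset.sum_const, Finset.card_univ, nsmul_eq_mul]
    congr 2
    rw [← Nat.card_eq_fintype_card]
    exact (Nat.card_congr (Equiv.ofBijective (fun a : A => (a : X) • o)
      ⟨fun a b e => (h.reg _).unique e rfl, fun ω => (h.reg ω).exists⟩)).symm
  have hm : h.mult χ = (Nat.card (stabilizer X o) : ℂ)⁻¹ *
      ∑ s : stabilizer X o, conj ((χ : X → ℂ) s) := by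
    rw [mult, classInner_def, key, h.card_eq_mul, Nat.cast_mul]
    field_simp
  rw [hm, map_mul, map_inv₀, Complex.conj_natCast, map_sum, mul_inv_cancel_left₀ hS]
  exact Finset.sum_congr rfl fun s _ => (Complex.conj_conj _).symm

/-- a constituent kills the idempotents of the characters outside its block -/
theorem sum_conj_mul_eq_zero {χ : Cfsg.IrrCharacter X} (hχ : h.mult χ ≠ 0) {mu : A →* ℂˣ}
    (hne : χ ≠ h.blk mu) (g : X) :
    ∑ a : A, conj (mu a : ℂ) * (χ : X → ℂ) (a * g) = 0 := by
  classical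
  have h0 : ∑ a : A, (χ : X → ℂ) (a : X) * conj (mu a : ℂ) = 0 := by
    have e := h.mA_res hχ mu
    rw [if_neg hne, mA, classInner_def, mul_eq_zero] at e
    exact e.resolve_left (inv_ne_zero (by exact_mod_cast Nat.card_pos.ne'))
  set u : X → ℂ := fun g => ∑ a : A, conj (mu a : ℂ) * (χ : X → ℂ) (a * g) with hu
  have hmu : ∀ a b : A, conj (mu (a * b) : ℂ) * (mu b : ℂ) = conj (mu a : ℂ) := fun a b => by
    rw [conj_hom, conj_hom, ← Units.val_mul, ← map_mul, mul_inv_rev, h.comm b⁻¹ a⁻¹,
      inv_mul_cancel_right]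
  have hinner : ∀ a b : A, ∑ g : X, (χ : X → ℂ) (a * g) * conj ((χ : X → ℂ) (b * g)) =
      (Nat.card X : ℂ) * (χ : X → ℂ) ((a : X) * (b : X)⁻¹) / (χ : X → ℂ) 1 := by
    intro a b
    rw [← sum_irr_mul_inv_mul χ.2]
    refine Fintype.sum_equiv (Equiv.mulLeft (a : X)) _ _ fun g => ?_
    show _ = (χ : X → ℂ) (a * g) * (χ : X → ℂ) (((a : X) * g)⁻¹ * ((a : X) * (b : X)⁻¹))
    rw [← IsCharacter.conj_inv (isCharacter_of_irr χ.2)]
    congr 2
    group
  have hzero : ∑ g : X, u g * conj (u g) = 0 := by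
    have e1 : ∀ g : X, u g * conj (u g) = ∑ a : A, ∑ b : A,
        (conj (mu a : ℂ) * (mu b : ℂ)) * ((χ : X → ℂ) (a * g) * conj ((χ : X → ℂ) (b * g))) := by
      intro g
      simp only [hu, map_sum, map_mul, Complex.conj_conj]
      rw [Finset.sum_mul_sum]
      exact Finset.sum_congr rfl fun a _ => Finset.sum_congr rfl fun b _ => by ring
    rw [Finset.sum_congr rfl fun g _ => e1 g, Finset.sum_comm,
      Finset.sum_congr rfl fun a _ => Finset.sum_comm, Finset.sum_comm]
    refine Finset.sum_eq_zero fun b _ => ?_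
    simp only [← Finset.mul_sum, hinner]
    rw [← Equiv.sum_comp (Equiv.mulRight b)]
    have e2 : ∀ a : A, conj (mu (a * b) : ℂ) * (mu b : ℂ) *
        ((Nat.card X : ℂ) * (χ : X → ℂ) (((a * b : A) : X) * (b : X)⁻¹) / (χ : X → ℂ) 1) =
        (Nat.card X : ℂ) / (χ : X → ℂ) 1 * ((χ : X → ℂ) (a : X) * conj (mu a : ℂ)) := fun a => by
      rw [hmu, Subgroup.coe_mul, mul_inv_cancel_right]
      ring
    simp only [Equiv.coe_mulRight, e2]
    rw [← Finset.mul_sum, h0, mul_zero]
  have h2 : ∑ g : X, Complex.normSq (u g) = 0 := by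
    have : ((∑ g : X, Complex.normSq (u g) : ℝ) : ℂ) = 0 := by
      push_cast
      simpa [Complex.mul_conj] using hzero
    exact_mod_cast this
  exact Complex.normSq_eq_zero.1
    ((Finset.sum_eq_zero_iff_of_nonneg fun g _ => Complex.normSq_nonneg _).1 h2 g (Finset.mem_univ g))

/-- the Fourier transform of an invariant function is constant on a block -/
theorem hat_eq_of_blk {F : Ω → ℂ} (hF : ∀ s : X, s • o = o → ∀ ω, F (s • ω) = F ω)
    {lam mu : A →* ℂˣ} (e : h.blk lam = h.blk mu) :
    ∑ a : A, F ((a : X) • o) * (lam a : ℂ) = ∑ a : A, F ((a : X) • o) * (mu a : ℂ) := by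
  classical
  haveI := Fintype.ofFinite (stabilizer X o)
  set χ := h.blk lam with hχ
  have hmult : h.mult χ = 1 := h.mult_blk lam
  obtain ⟨n, ρ, hirr, hρ⟩ := χ.2
  haveI := hirr
  set ρs : Representation ℂ (stabilizer X o) (Fin n → ℂ) := ρ.comp (stabilizer X o).subtype with hρs
  haveI : Invertible (Nat.card (stabilizer X o) : ℂ) :=
    invertibleOfNonzero (by exact_mod_cast Nat.card_pos.ne')
  have hdim : Module.finrank ℂ ρs.invariants = 1 := by
    have e1 := Representation.card_inv_mul_sum_char_eq_finrank ρs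
    have e2 : ∑ s : stabilizer X o, ρs.character s = ∑ s : stabilizer X o, (χ : X → ℂ) s :=
      Finset.sum_congr rfl fun s _ => congrFun hρ (s : X)
    rw [e2, h.sum_stab, hmult, map_one, mul_one,
      inv_mul_cancel₀ (by exact_mod_cast Nat.card_pos.ne')] at e1
    exact_mod_cast e1.symm
  obtain ⟨⟨w, hw⟩, hw0, hspan⟩ := finrank_eq_one_iff'.1 hdim
  have hwfix : ∀ s : X, s • o = o → ρ s w = w := fun s hs => hw ⟨s, mem_stabilizer_iff.2 hs⟩
  -- the translates of the fixed vector span
  let S : Subrepresentation ρ :=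
    { toSubmodule := Submodule.span ℂ (Set.range fun a : A => ρ (a : X) w)
      apply_mem_toSubmodule := fun g v hv => by
        have : Submodule.span ℂ (Set.range fun a : A => ρ (a : X) w) ≤
            (Submodule.span ℂ (Set.range fun a : A => ρ (a : X) w)).comap (ρ g) := by
          rw [Submodule.span_le]
          rintro _ ⟨a, rfl⟩
          obtain ⟨b, s, hbs⟩ := h.exists_mul_stab (g * a)
          apply Submodule.subset_span
          refine ⟨b, ?_⟩
          show ρ (b : X) w = ρ g (ρ (a : X) w)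
          rw [← Module.End.mul_apply, ← map_mul, hbs, map_mul, Module.End.mul_apply,
            hwfix _ (mem_stabilizer_iff.1 s.2)]
        exact this hv }
  have hS : S = ⊤ := (IsSimpleOrder.eq_bot_or_eq_top S).resolve_left fun h0 => hw0 (by
    have h1 : w ∈ S.toSubmodule := Submodule.subset_span ⟨1, by simp⟩
    rw [h0] at h1
    exact Subtype.ext ((Submodule.mem_bot ℂ).1 h1))
  set T : (Fin n → ℂ) →ₗ[ℂ] (Fin n → ℂ) := ∑ a : A, F ((a : X) • o) • ρ (a : X) with hT
  -- `T w` is fixed
  have hTw : T w ∈ ρs.invariants := by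
    intro s
    have hs : (s : X) • o = o := mem_stabilizer_iff.1 s.2
    show ρ (s : X) (T w) = T w
    simp only [hT, LinearMap.sum_apply, LinearMap.smul_apply, map_sum, map_smul]
    choose σ hσ using fun a : A => h.exists_mul_stab ((s : X) * a)
    choose s' hs' using hσ
    have hσo : ∀ a : A, (σ a : X) • o = (s : X) • (a : X) • o := fun a => by
      rw [smul_smul, hs' a, mul_smul, mem_stabilizer_iff.1 (s' a).2]
    have hinj : Function.Injective σ := fun a b e => by
      have e1 := hσo a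
      rw [e, hσo b] at e1
      exact ((h.reg _).unique (smul_left_cancel _ e1) rfl).symm
    refine Fintype.sum_bijective σ (Finite.injective_iff_bijective.1 hinj) _ _ fun a => ?_
    rw [hσo a, hF _ hs]
    congr 1
    rw [← Module.End.mul_apply, ← map_mul, hs' a, map_mul, Module.End.mul_apply,
      hwfix _ (mem_stabilizer_iff.1 (s' a).2)]
  obtain ⟨c, hc⟩ := hspan ⟨T w, hTw⟩
  have hc' : c • w = T w := congrArg Subtype.val hc
  have hTc : T = c • LinearMap.id := by
    refine LinearMap.ext_on (s := Set.range fun a : A => ρ (a : X) w) ?_ ?_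
    · exact congrArg Subrepresentation.toSubmodule hS
    · rintro _ ⟨b, rfl⟩
      show T (ρ (b : X) w) = c • ρ (b : X) w
      rw [← map_smul, hc']
      simp only [hT, LinearMap.sum_apply, LinearMap.smul_apply, map_sum, map_smul]
      refine Finset.sum_congr rfl fun a _ => ?_
      rw [← Module.End.mul_apply, ← map_mul, ← Module.End.mul_apply, ← map_mul, ← Subgroup.coe_mul,
        ← Subgroup.coe_mul, h.comm]
  have htr : ∀ b : A, ∑ a : A, F ((a : X) • o) * (χ : X → ℂ) ((a : X) * b) = c * (χ : X → ℂ) (b : X) := by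
    intro b
    have e1 := congrArg (fun L => LinearMap.trace ℂ (Fin n → ℂ) (L * ρ (b : X))) hTc
    simp only [hT, Finset.sum_mul, map_sum, smul_mul_assoc, map_smul, smul_eq_mul, ← map_mul ρ] at e1
    rw [show (LinearMap.id : (Fin n → ℂ) →ₗ[ℂ] (Fin n → ℂ)) * ρ (b : X) = ρ (b : X) from one_mul _] at e1
    rw [← hρ]
    exact e1
  have key : ∀ nu : A →* ℂˣ, h.blk nu = χ → ∑ a : A, F ((a : X) • o) * (nu a : ℂ) = c := by
    intro nu hnu
    have hA : (Nat.card A : ℂ) ≠ 0 := by exact_mod_cast Nat.card_pos.ne'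
    have hm : ∑ b : A, (χ : X → ℂ) (b : X) * conj (nu b : ℂ) = Nat.card A := by
      have e1 := h.mA_res (χ := χ) (by rw [hmult]; exact one_ne_zero) nu
      rw [if_pos hnu.symm, mA, classInner_def, inv_mul_eq_iff_eq_mul₀ hA, mul_one] at e1
      exact e1
    have e2 : ∀ a : A, ∑ b : A, (χ : X → ℂ) ((a : X) * b) * conj (nu b : ℂ) =
        (nu a : ℂ) * Nat.card A := by
      intro a
      rw [← hm, Finset.mul_sum]
      refine Fintype.sum_equiv (Equiv.mulLeft a) _ _ fun b => ?_
      show _ = (nu a : ℂ) * ((χ : X → ℂ) ((a * b : A) : X) * conj (nu (a * b) : ℂ))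
      rw [conj_hom, conj_hom, mul_left_comm, ← Units.val_mul, ← map_mul, mul_inv_rev,
        h.comm b⁻¹ a⁻¹, mul_inv_cancel_left, Subgroup.coe_mul]
    refine mul_right_cancel₀ hA ?_
    calc (∑ a : A, F ((a : X) • o) * (nu a : ℂ)) * Nat.card A
        = ∑ b : A, (∑ a : A, F ((a : X) • o) * (χ : X → ℂ) ((a : X) * b)) * conj (nu b : ℂ) := by
          simp only [Finset.sum_mul]
          rw [Finset.sum_comm]
          refine Finset.sum_congr rfl fun a _ => ?_
          rw [mul_assoc, ← e2 a, Finset.mul_sum]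
          exact Finset.sum_congr rfl fun b _ => (mul_assoc _ _ _).symm
      _ = c * Nat.card A := by
          simp only [htr, mul_assoc]
          rw [← Finset.mul_sum, hm]
  rw [key lam rfl, key mu e.symm]

/-- the character of an orbit which is a block is invariant under the point stabiliser -/
theorem psi_eq_of_smul {lam : A →* ℂˣ} (hs : ∀ mu, h.blk mu = h.blk lam → h.Rel lam mu)
    {x : X} (hx : x • o = o) {a b : A} (hab : x • ((a : X) • o) = (b : X) • o) :
    h.psi lam (h.ofA a) = h.psi lam (h.ofA b) := by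
  classical
  haveI : Finite (A →* ℂˣ) := Nat.finite_of_card_ne_zero (by
    rw [Cfsg.Lib.Dual.card_hom h.comm]; exact Nat.card_pos.ne')
  haveI := Fintype.ofFinite (A →* ℂˣ)
  haveI := Fintype.ofFinite (stabilizer X o)
  set χ := h.blk lam with hχ
  have hmult : h.mult χ = 1 := h.mult_blk lam
  let f : A → ℂ := fun a => ∑ s : stabilizer X o, (χ : X → ℂ) ((a : X) * s)
  -- invariance
  have hinv : ∀ x : X, x • o = o → ∀ a b : A, x • ((a : X) • o) = (b : X) • o → f a = f b := by
    intro x hx a b hab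
    let xs : stabilizer X o := ⟨x, mem_stabilizer_iff.2 hx⟩
    have ht : (b : X)⁻¹ * (x * a) ∈ stabilizer X o := by
      rw [mem_stabilizer_iff, mul_smul, mul_smul, hab, inv_smul_smul]
    let ts : stabilizer X o := ⟨_, ht⟩
    refine Fintype.sum_equiv ((Equiv.mulLeft ts).trans (Equiv.mulRight xs⁻¹)) _ _ fun s => ?_
    show _ = (χ : X → ℂ) ((b : X) * (((b : X)⁻¹ * (x * a)) * s * x⁻¹))
    rw [show (b : X) * (((b : X)⁻¹ * (x * a)) * s * x⁻¹) = x * ((a : X) * s) * x⁻¹ by group]
    exact (isClassFunction_irr χ _ _).symm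
  have hR : ∀ r : R, ∀ a : A, f (h.cj (h.ofR r) a) = f a := by
    intro r a
    refine (hinv (r : X) (h.fixR r r.2) a (h.cj (h.ofR r) a) ?_).symm
    show (r : X) • ((a : X) • o) = ((r : X) * a * (r : X)⁻¹) • o
    rw [mul_smul, mul_smul, inv_smul_eq_iff.2 (h.fixR r r.2).symm]
  have hcoef : ∀ mu : A →* ℂˣ, Cfsg.classInner f (Cfsg.Lib.Dual.ev mu) =
      Cfsg.classInner f (Cfsg.Lib.Dual.ev lam) *
        Cfsg.classInner (fun a : A => h.psi lam ⟨a, h.aB a.2⟩) (Cfsg.Lib.Dual.ev mu) := by
    intro mu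
    have e : Cfsg.classInner (fun a : A => h.psi lam ⟨a, h.aB a.2⟩) (Cfsg.Lib.Dual.ev mu) =
        if h.Rel lam mu then 1 else 0 := h.mA_psi lam mu
    rw [e]
    split_ifs with hrel
    · obtain ⟨r, rfl⟩ := hrel
      rw [mul_one, classInner_def, classInner_def]
      congr 1
      refine Fintype.sum_bijective (h.cj (h.ofR r⁻¹)) ?_ _ _ fun a => ?_
      · exact Function.bijective_iff_has_inverse.2 ⟨h.cj (h.ofR r),
          fun a => Subtype.ext (by simp [cj_val, ofR, mul_assoc]),
          fun a => Subtype.ext (by simp [cj_val, ofR, mul_assoc])⟩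
      · show f a * conj ((h.rot r lam) a : ℂ) = f (h.cj (h.ofR r⁻¹) a) * conj (lam (h.cj (h.ofR r⁻¹) a) : ℂ)
        rw [hR, h.rot_apply]
    · rw [mul_zero]
      have hne : χ ≠ h.blk mu := fun e => hrel (hs mu e.symm)
      rw [classInner_def]
      refine mul_eq_zero_of_right _ ?_
      show ∑ a : A, (∑ s : stabilizer X o, (χ : X → ℂ) ((a : X) * s)) * conj (mu a : ℂ) = 0
      simp only [Finset.sum_mul]
      rw [Finset.sum_comm]
      refine Finset.sum_eq_zero fun s _ => ?_
      rw [← h.sum_conj_mul_eq_zero (χ := χ) (by rw [hmult]; exact one_ne_zero) hne (s : X)]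
      exact Finset.sum_congr rfl fun a _ => mul_comm _ _
  have hf : ∀ a : A, f a = Cfsg.classInner f (Cfsg.Lib.Dual.ev lam) * h.psi lam (h.ofA a) := by
    intro a
    have e1 := Cfsg.Lib.Dual.expand h.comm f a
    have e2 := Cfsg.Lib.Dual.expand h.comm (fun a : A => h.psi lam ⟨a, h.aB a.2⟩) a
    rw [e1, show h.psi lam (h.ofA a) = h.psi lam ⟨a, h.aB a.2⟩ from rfl, e2, Finset.mul_sum]
    exact Finset.sum_congr rfl fun mu _ => by rw [hcoef mu, mul_assoc]
  have hc : Cfsg.classInner f (Cfsg.Lib.Dual.ev lam) ≠ 0 := by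
    intro h0
    have e1 := hf 1
    rw [h0, zero_mul] at e1
    have e2 : f 1 = ∑ s : stabilizer X o, (χ : X → ℂ) s := by simp [f]
    rw [e2, h.sum_stab, hmult, map_one, mul_one] at e1
    exact Nat.card_pos.ne' (by exact_mod_cast e1)
  have e := hinv x hx a b hab
  rw [hf, hf] at e
  exact mul_left_cancel₀ hc e

/-- the character of a free orbit on `A` is a sum over `R` -/
theorem psi_ofA_free {lam : A →* ℂˣ} (hl : h.Free lam) (a : A) :
    h.psi lam (h.ofA a) = ∑ r : R, (lam (h.cj (h.ofR r) a) : ℂ) := by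
  classical
  have hs : Nat.card (h.stab lam) = 1 := by
    rw [Subgroup.card_eq_one]
    exact (Subgroup.eq_bot_iff_forall _).2 fun r hr => hl r hr
  have e : h.ofA a = h.ofA a * h.ofR 1 := Subtype.ext (by simp [ofA, ofR])
  rw [e, h.psi_apply, hs, Nat.cast_one, inv_one, one_mul]
  simp only [h.rot_one, if_true]
  refine Fintype.sum_equiv (Equiv.inv R) _ _ fun r => ?_
  rw [h.rot_apply]
  rfl

/-- PERIODICITY -/
theorem periodic_of_nonfree {τ : A}
    (hτ : ∀ lam : A →* ℂˣ, ¬ h.Free lam → lam τ = 1) {N : Set Ω}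
    (hN : ∀ s : X, s • o = o → ∀ ω ∈ N, s • ω ∈ N) (ho : o ∉ N) (hτN : (τ : X) • o ∉ N)
    (hτ1 : τ ≠ 1) {v : X} (hv : v • o = o)
    (hmove : ∀ ω ∈ N, ∀ r ∈ R, r • ω ≠ v • ω) {a : A} (ha : (a : X) • o ∈ N) :
    ((τ * a : A) : X) • o ∈ N := by
  classical
  by_cases hsep : ∃ l₁ l₂ : A →* ℂˣ, h.Free l₁ ∧ h.Free l₂ ∧ h.blk l₁ ≠ h.blk l₂
  · obtain ⟨l₁, l₂, h1, h2, hne⟩ := hsep
    obtain ⟨a', ha'⟩ := (h.reg (v • (a : X) • o)).exists
    let F : A → ℂ := fun b => (∑ r : R, if h.cj (h.ofR r) a = b then (1 : ℂ) else 0) -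
      ∑ r : R, if h.cj (h.ofR r) a' = b then (1 : ℂ) else 0
    have hFhat : ∀ mu : A →* ℂˣ, ∑ b : A, F b * (mu b : ℂ) =
        (∑ r : R, (mu (h.cj (h.ofR r) a) : ℂ)) - ∑ r : R, (mu (h.cj (h.ofR r) a') : ℂ) := by
      intro mu
      simp only [F, sub_mul, Finset.sum_mul, ite_mul, one_mul, zero_mul, Finset.sum_sub_distrib]
      congr 1 <;>
      · rw [Finset.sum_comm]
        exact Finset.sum_congr rfl fun r _ => by rw [Finset.sum_ite_eq]; simp
    have hper := apply_mul_eq_of_hat h.comm F τ fun mu => by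
      by_cases hmu : h.Free mu
      · refine Or.inl ?_
        rw [hFhat, sub_eq_zero, ← h.psi_ofA_free hmu, ← h.psi_ofA_free hmu]
        exact h.psi_eq_of_smul (fun nu e => h.rel_of_free_separate h1 h2 hne hmu e) hv ha'.symm
      · exact Or.inr (hτ mu hmu)
    have hcj : ∀ (r : R) (b : A), (h.cj (h.ofR r) b : X) • o = (r : X) • (b : X) • o := by
      intro r b
      show ((r : X) * b * (r : X)⁻¹) • o = _
      rw [mul_smul, mul_smul, inv_smul_eq_iff.2 (h.fixR r r.2).symm]
    have hFa : F a ≠ 0 := by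
      have e0 : (∑ r : R, if h.cj (h.ofR r) a' = a then (1 : ℂ) else 0) = 0 := by
        refine Finset.sum_eq_zero fun r _ => if_neg fun e => ?_
        have e1 := hcj r a'
        rw [e, ha'] at e1
        refine hmove _ ha ((r : X)⁻¹) (R.inv_mem r.2) ?_
        rw [inv_smul_eq_iff]
        exact e1
      simp only [F, e0, sub_zero]
      rw [Finset.sum_boole]
      refine Nat.cast_ne_zero.2 (Finset.card_ne_zero.2 ⟨1, ?_⟩)
      simp only [Finset.mem_filter, Finset.mem_univ, true_and]
      exact Subtype.ext (by simp [cj_val, ofR])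
    rw [← hper a] at hFa
    by_cases hex : ∃ r : R, h.cj (h.ofR r) a = τ * a
    · obtain ⟨r, hr⟩ := hex
      rw [← hr, hcj]
      exact hN _ (h.fixR r r.2) _ ha
    · push Not at hex
      obtain ⟨r, -, hr⟩ : ∃ r ∈ (Finset.univ : Finset R), (if h.cj (h.ofR r) a' = τ * a then (1 : ℂ) else 0) ≠ 0 := by
        refine Finset.exists_ne_zero_of_sum_ne_zero fun e => hFa ?_
        simp only [F, e, sub_zero]
        exact Finset.sum_eq_zero fun r _ => if_neg (hex r)
      rw [← (not_not.1 fun e => hr (if_neg e)), hcj, ha']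
      exact hN _ (h.fixR r r.2) _ (hN _ hv _ ha)
  · push Not at hsep
    let I : Ω → ℂ := fun ω => if ω ∈ N then 1 else 0
    have hI : ∀ s : X, s • o = o → ∀ ω, I (s • ω) = I ω := by
      intro s hs ω
      refine if_congr ⟨fun hω => ?_, hN s hs ω⟩ rfl rfl
      simpa using hN s⁻¹ (inv_smul_eq_iff.2 hs.symm) _ hω
    obtain ⟨c, hc⟩ : ∃ c : ℂ, ∀ mu : A →* ℂˣ, h.Free mu → ∑ b : A, I ((b : X) • o) * (mu b : ℂ) = c := by
      by_cases hf : ∃ l, h.Free l
      · obtain ⟨l, hl⟩ := hf
        exact ⟨_, fun mu hmu => h.hat_eq_of_blk hI (hsep mu l hmu hl)⟩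
      · exact ⟨0, fun mu hmu => absurd ⟨mu, hmu⟩ hf⟩
    let F : A → ℂ := fun b => I ((b : X) • o) - if b = 1 then c else 0
    have hper := apply_mul_eq_of_hat h.comm F τ fun mu => by
      by_cases hmu : h.Free mu
      · refine Or.inl ?_
        simp only [F, sub_mul, Finset.sum_sub_distrib, hc mu hmu, ite_mul, zero_mul,
          Finset.sum_ite_eq', Finset.mem_univ, if_true, map_one, Units.val_one, mul_one, sub_self]
      · exact Or.inr (hτ mu hmu)
    have h0 : c = 0 := by
      have e := hper 1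
      simp only [F, I, mul_one, hτ1, if_false, if_true, sub_zero, OneMemClass.coe_one, one_smul, ho,
        hτN, zero_sub] at e
      exact neg_eq_zero.1 e.symm
    have e := hper a
    simp only [F, I, h0, ha, if_true, ite_self, sub_zero] at e
    by_contra hne
    rw [if_neg hne] at e
    exact zero_ne_one e

end Setting

end Cfsg.Lib.BenderSE.Isometry
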