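/-
COMM, the coprime case (notes/bender_comm.md section 3): at most one constituent of the permutation
character has the central involution outside its kernel.
-/
import Cfsg.Agent.BenderSE.CommKernel
import Cfsg.Agent.BenderSE.IsometryPeriodic

set_option autoImplicit false
set_option linter.unusedSectionVars false
set_option linter.style.haveILetI false

namespace Cfsg.Lib.BenderSE

open scoped ComplexConjugate
open Cfsg.Lib.Chars

universe u v

namespace Isometry

variable {X : Type u} [Group X] {Ω : Type v} [MulAction X Ω] {A B R : Subgroup X} {o : Ω}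

namespace Setting

variable (h : Setting A B R o) [Fintype X] [Fintype B] [Fintype A] [Fintype R] [Fintype Ω]

include h

/-- `A` is `A'` times elements centralised by `R` -/
structure Split (h : Setting A B R o) (A' : Subgroup A) : Prop where
  inv : ∀ r : R, ∀ a ∈ A', h.cj (h.ofR r) a ∈ A'
  split : ∀ a : A, ∃ a₀ : A, ∃ a' ∈ A', a = a₀ * a' ∧ ∀ r : R, h.cj (h.ofR r) a₀ = a₀

/-- two constituents joined by weights with the same restriction to `A'` -/
def Step (h : Setting A B R o) (A' : Subgroup A) (χ ψ : Cfsg.IrrCharacter X) : Prop :=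
  ∃ mu nu : A →* ℂˣ, h.blk mu = χ ∧ h.blk nu = ψ ∧ ∀ a ∈ A', nu a = mu a

variable {A' : Subgroup A}

theorem mem_stab_iff (hs : h.Split A') (mu : A →* ℂˣ) (r : R) :
    r ∈ h.stab mu ↔ ∀ a ∈ A', mu (h.cj (h.ofR r) a) = mu a := by
  have e : ∀ a : A, h.rot r⁻¹ mu a = mu (h.cj (h.ofR r) a) := fun a => by
    rw [h.rot_apply, inv_inv]
  rw [← inv_mem_iff, h.mem_stab]
  refine ⟨fun h1 a _ => by rw [← e, h1], fun h1 => MonoidHom.ext fun a => ?_⟩
  obtain ⟨a₀, a', ha', rfl, h0⟩ := hs.split a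
  rw [e, map_mul, map_mul, h0, h1 a' ha', map_mul]

theorem stab_eq_of_res (hs : h.Split A') {mu nu : A →* ℂˣ} (e : ∀ a ∈ A', nu a = mu a) :
    h.stab mu = h.stab nu := by
  refine Subgroup.ext fun r => ?_
  rw [h.mem_stab_iff hs, h.mem_stab_iff hs]
  exact forall₂_congr fun a ha => by rw [e a ha, e _ (hs.inv r a ha)]

theorem sameType_of_stab {mu nu : A →* ℂˣ} (e : h.stab mu = h.stab nu) : h.SameType mu nu := by
  intro r
  rw [h.psi_ofR, h.psi_ofR, e]
  congr 2
  refine Nat.card_congr (Equiv.subtypeEquivRight fun r₀ => ?_)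
  rw [h.rot_fix_conj, h.rot_fix_conj, ← h.mem_stab, ← h.mem_stab, e]

theorem ind_eq_zero {f : B → ℂ} (hf : h.VanR f) {x : X}
    (hx : ∀ g : X, g * x * g⁻¹ ∉ offR B R) : Cfsg.indFun B f x = 0 := by
  rw [indFun_apply]
  refine mul_eq_zero_of_right _ (Finset.sum_eq_zero fun g _ => ?_)
  by_cases hm : g⁻¹ * x * g ∈ B
  · rw [extendByZero_mem f hm]
    exact h.eq_zero_of_not_offR hf (fun hoff => hx g⁻¹ (by simpa using hoff))
  · exact extendByZero_not_mem _ hm

/-- joined constituents agree on elements outside the support of the isometry -/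
theorem step_apply (hs : h.Split A') {χ ψ : Cfsg.IrrCharacter X} (hst : h.Step A' χ ψ) {x : X}
    (hx : ∀ g : X, g * x * g⁻¹ ∉ offR B R) : (χ : X → ℂ) x = (ψ : X → ℂ) x := by
  obtain ⟨mu, nu, rfl, rfl, e⟩ := hst
  by_cases hne : h.blk mu = h.blk nu
  · rw [hne]
  have hT := h.sameType_of_stab (h.stab_eq_of_res hs e)
  have h1 := congrFun (h.ind_diff hT hne) x
  have hv := h.vanR_sub (h.isClassFunction_psi mu) (h.isClassFunction_psi nu) hT
  rw [h.ind_eq_zero hv hx, Pi.sub_apply] at h1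
  exact (sub_eq_zero.1 h1.symm)

theorem eqvGen_apply (hs : h.Split A') {χ ψ : Cfsg.IrrCharacter X}
    (hst : Relation.EqvGen (h.Step A') χ ψ) {x : X}
    (hx : ∀ g : X, g * x * g⁻¹ ∉ offR B R) : (χ : X → ℂ) x = (ψ : X → ℂ) x := by
  induction hst with
  | rel _ _ e => exact h.step_apply hs e hx
  | refl _ => rfl
  | symm _ _ _ ih => exact ih.symm
  | trans _ _ _ _ _ ih1 ih2 => exact ih1.trans ih2

theorem eqvGen_mult (χ ψ : Cfsg.IrrCharacter X)
    (hst : Relation.EqvGen (h.Step A') χ ψ) : h.mult χ = 1 ↔ h.mult ψ = 1 := by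
  induction hst with
  | rel _ _ e =>
    obtain ⟨mu, nu, rfl, rfl, -⟩ := e
    simp [h.mult_blk]
  | refl _ => rfl
  | symm _ _ _ ih => exact ih.symm
  | trans _ _ _ _ _ ih1 ih2 => exact ih1.trans ih2

/-- TRACE LEMMA: a constituent with `z` outside the kernel has a nonzero trace for each `φ` -/
theorem eigenTrace_ne_zero [Fintype (A →* ℂˣ)] (hs : h.Split A')
    (hcop : (Nat.card A').Coprime (Nat.card R)) (hodd : Odd (Nat.card R))
    (hsol : Group.IsSolvable R) {z : X} (hzz : z * z = 1) (hcomm : ∀ r ∈ R, r * z = z * r)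
    (hsemi : ∀ ω : Ω, z • ω ≠ ω → ∀ r ∈ R, r • ω = ω ∨ r • ω = z • ω → r = 1)
    (hvan : ∀ g : X, ∀ r ∈ R, g * r * g⁻¹ ∉ offR B R ∧ g * (r * z) * g⁻¹ ∉ offR B R)
    {χ : Cfsg.IrrCharacter X} (hχ : h.mult χ = 1) (hz : (χ : X → ℂ) z ≠ (χ : X → ℂ) 1)
    (φ : R →* ℂˣ) : h.eigenTrace {χ} z φ ≠ 0 := by
  classical
  set S : Finset (Cfsg.IrrCharacter X) :=
    Finset.univ.filter fun ψ => Relation.EqvGen (h.Step A') χ ψ with hSdef
  have hmem : ∀ ψ, ψ ∈ S ↔ Relation.EqvGen (h.Step A') χ ψ := fun ψ => by simp [hSdef]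
  have hS : ∀ ψ ∈ S, h.mult ψ = 1 := fun ψ hψ => (h.eqvGen_mult χ ψ ((hmem ψ).1 hψ)).1 hχ
  have hinv : ∀ mu nu : A →* ℂˣ, (∀ a ∈ A', nu a = mu a) → h.blk mu ∈ S → h.blk nu ∈ S := by
    intro mu nu e hmu
    exact (hmem _).2 ((((hmem _).1 hmu)).trans _ _ _ (Relation.EqvGen.rel _ _ ⟨mu, nu, rfl, rfl, e⟩))
  have hd := h.data_ker hS hzz hcomm hsemi (m := Nat.card A')
    (h.isIntegral_ker_of_invariant hS A' hinv)
  obtain ⟨f, hf0, hf⟩ := ModP.exists_eigen hd hodd hcop
    (h.exists_odd hS hzz ⟨χ, (hmem χ).2 (Relation.EqvGen.refl χ), hz⟩) le_rfl hsol φ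
  have h1 := (h.exists_eigen_iff_trace hS hzz hcomm hsemi φ).1 ⟨f, hf0, hf⟩
  intro h0
  apply h1
  have e : ∀ ψ ∈ S, (∑ r : R, (φ r : ℂ) * ((ψ : X → ℂ) (r : X) - (ψ : X → ℂ) ((r : X) * z))) = 0 := by
    intro ψ hψ
    rw [eigenTrace, Finset.sum_singleton] at h0
    refine Eq.trans (Finset.sum_congr rfl fun r _ => ?_) h0
    rw [h.eqvGen_apply hs ((hmem ψ).1 hψ) (fun g => (hvan g r r.2).1),
      h.eqvGen_apply hs ((hmem ψ).1 hψ) (fun g => (hvan g r r.2).2)]
  rw [eigenTrace]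
  exact Finset.sum_eq_zero e

/-- the transform of a function on the points -/
noncomputable def hat (_ : Setting A B R o) (f : Ω → ℂ) (mu : A →* ℂˣ) : ℂ :=
  ∑ a : A, (mu a : ℂ) * f ((a : X) • o)

theorem apply_of_fixed [Fintype (A →* ℂˣ)] {S : Finset (Cfsg.IrrCharacter X)}
    (hS : ∀ χ ∈ S, h.mult χ = 1) {f : Ω → ℂ}
    (hf : ∀ ω, ∑ ω', h.ker S ω ω' * f ω' = f ω) (b : A) :
    f ((b : X) • o) = (Nat.card A : ℂ)⁻¹ * ∑ mu ∈ h.weights S, (mu b⁻¹ : ℂ) * h.hat f mu := by
  classical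
  have hb : Function.Bijective fun a : A => (a : X) • o :=
    ⟨fun a a' e => (h.reg ((a : X) • o)).unique rfl e.symm,
      fun w => (h.reg w).exists.imp fun _ ha => ha⟩
  rw [← hf ((b : X) • o), ← Fintype.sum_bijective _ hb _ _ fun _ => rfl]
  simp only [h.ker_fourier hS, hat, map_mul, Units.val_mul, Finset.mul_sum, Finset.sum_mul]
  rw [Finset.sum_comm]
  exact Finset.sum_congr rfl fun mu _ => Finset.sum_congr rfl fun a _ => by ring

theorem hat_eq_of_rel {f : Ω → ℂ} (hinv : ∀ r ∈ R, ∀ ω, f (r • ω) = f ω) {mu nu : A →* ℂˣ}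
    (e : h.Rel mu nu) : h.hat f nu = h.hat f mu := by
  obtain ⟨r, rfl⟩ := e
  refine Fintype.sum_bijective (h.cj (h.ofR r⁻¹)) ?_ _ _ fun a => ?_
  · exact Function.bijective_iff_has_inverse.2 ⟨h.cj (h.ofR r),
      fun a => Subtype.ext (by simp [cj_val, ofR, mul_assoc]),
      fun a => Subtype.ext (by simp [cj_val, ofR, mul_assoc])⟩
  · rw [h.rot_apply]
    congr 1
    show f ((a : X) • o) = f ((((r⁻¹ : R) : X) * a * (((r⁻¹ : R) : X))⁻¹) • o)
    rw [mul_smul, mul_smul, inv_smul_eq_iff.2 (h.fixR _ (r⁻¹ : R).2).symm,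
      hinv _ (r⁻¹ : R).2]

/-- a constituent which is one orbit of weights has `z` in its kernel, given the trace lemma -/
theorem eigenTrace_eq_zero_of_rel [Fintype (A →* ℂˣ)] {z : X} (hzz : z * z = 1)
    (hcomm : ∀ r ∈ R, r * z = z * r)
    (hsemi : ∀ ω : Ω, z • ω ≠ ω → ∀ r ∈ R, r • ω = ω ∨ r • ω = z • ω → r = 1) (hzo : z • o = o)
    {lam : A →* ℂˣ} (hs : ∀ mu, h.blk mu = h.blk lam → h.Rel lam mu) :
    h.eigenTrace {h.blk lam} z 1 = 0 := by
  classical
  have hS : ∀ χ ∈ ({h.blk lam} : Finset (Cfsg.IrrCharacter X)), h.mult χ = 1 := fun χ hχ => by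
    rw [Finset.mem_singleton.1 hχ, h.mult_blk]
  by_contra hne
  obtain ⟨f, hf0, hfR, hfz, hfK⟩ := (h.exists_eigen_iff_trace hS hzz hcomm hsemi 1).2 hne
  have hinv : ∀ r ∈ R, ∀ ω, f (r • ω) = f ω := fun r hr ω => by
    have := hfR ⟨r, hr⟩ ω
    simpa using this
  have hform : ∀ ω : Ω, f ω = h.hat f lam * h.ker {h.blk lam} ω o := by
    intro ω
    obtain ⟨b, rfl⟩ := (h.reg ω).exists
    have e : h.ker {h.blk lam} ((b : X) • o) o =
        (Nat.card A : ℂ)⁻¹ * ∑ mu ∈ h.weights {h.blk lam}, (mu b⁻¹ : ℂ) := by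
      have e1 := h.ker_fourier hS b 1
      rw [OneMemClass.coe_one, one_smul, mul_one] at e1
      exact e1
    rw [h.apply_of_fixed hS hfK, e, mul_left_comm, ← mul_assoc, Finset.mul_sum, Finset.mul_sum]
    refine Finset.sum_congr rfl fun mu hmu => ?_
    simp only [weights, Finset.mem_filter, Finset.mem_singleton] at hmu
    rw [h.hat_eq_of_rel hinv (hs mu hmu.2)]
    ring
  refine hf0 (funext fun ω => ?_)
  have h1 := hfz ω
  have h2 := hform (z • ω)
  have h3 : h.ker {h.blk lam} (z • ω) o = h.ker {h.blk lam} ω o := by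
    have e := h.ker_smul {h.blk lam} z ω o
    rwa [hzo] at e
  rw [h3, ← hform, h1] at h2
  show f ω = 0
  linear_combination (-1 / 2 : ℂ) * h2

/-- MOD `p` LEMMA: if `p`, prime to `|A'|`, divides the stabiliser of each weight of a constituent,
its trace for the trivial character vanishes -/
theorem eigenTrace_eq_zero_of_dvd [Fintype (A →* ℂˣ)] (hs : h.Split A') {p : ℕ} (hp : p.Prime)
    (hpA : (Nat.card A').Coprime p) {z : X} (hzz : z * z = 1)
    (hcomm : ∀ r ∈ R, r * z = z * r)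
    (hsemi : ∀ ω : Ω, z • ω ≠ ω → ∀ r ∈ R, r • ω = ω ∨ r • ω = z • ω → r = 1)
    {χ : Cfsg.IrrCharacter X} (hχ : h.mult χ = 1)
    (hdvd : ∀ mu, h.blk mu = χ → p ∣ Nat.card (h.stab mu)) :
    h.eigenTrace {χ} z 1 = 0 := by
  classical
  haveI := Fact.mk hp
  have hS : ∀ ψ ∈ ({χ} : Finset (Cfsg.IrrCharacter X)), h.mult ψ = 1 := fun ψ hψ => by
    rw [Finset.mem_singleton.1 hψ, hχ]
  by_contra hne
  have hex := (h.exists_eigen_iff_trace hS hzz hcomm hsemi 1).2 hne
  have hd := h.data_ker hS hzz hcomm hsemi (m := Nat.card A) (h.isIntegral_ker hS)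
  obtain ⟨c, c', hb⟩ := (ModP.exists_eigen_iff hd le_rfl 1).1 hex
  haveI : Finite (A' →* ℂˣ) := Nat.finite_of_card_ne_zero (by
    rw [Cfsg.Lib.Dual.card_hom fun a b : A' => Subtype.ext (h.comm (a : A) (b : A))]; exact Nat.card_pos.ne')
  haveI := Fintype.ofFinite (A' →* ℂˣ)
  set m := Nat.card A' with hm
  have hm0 : (m : ℂ) ≠ 0 := by rw [hm]; exact_mod_cast Nat.card_pos.ne'
  have hp0 : (p : ℂ) ≠ 0 := by exact_mod_cast hp.ne_zero
  -- one step of divisibility
  have key : ∀ f : Ω → ℂ, (∀ r ∈ R, ∀ ω, f (r • ω) = f ω) → (∀ ω, f (z • ω) = - f ω) →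
      (∀ ω, ∑ ω', h.ker {χ} ω ω' * f ω' = f ω) → (∀ ω, IsIntegral ℤ (f ω)) →
      ∀ ω, IsIntegral ℤ ((m : ℂ) * f ω / (p : ℂ)) := by
    intro f hinv hfz hfK hint ω
    obtain ⟨x, rfl⟩ := (h.reg ω).exists
    obtain ⟨a₀, b₀, hb₀, rfl, ha₀⟩ := hs.split x
    let g : A' → ℂ := fun b => f (((a₀ * (b : A) : A) : X) • o)
    have hg : ∀ nu : A' →* ℂˣ, ∃ y : ℂ, IsIntegral ℤ y ∧
        ∑ b : A', (nu b : ℂ) * g b = (p : ℂ) * y := by
      intro nu
      by_cases hex : ∃ mu : A →* ℂˣ, h.blk mu = χ ∧ mu.comp A'.subtype = nu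
      · obtain ⟨mu, hmu, rfl⟩ := hex
        obtain ⟨⟨k, hk⟩, hko⟩ := exists_prime_orderOf_dvd_card' (G := h.stab mu) p (hdvd mu hmu)
        rw [Subgroup.orderOf_mk] at hko
        let P := Subgroup.zpowers k
        haveI : Fintype P := Fintype.ofFinite P
        have hPk : P ≤ h.stab mu := Subgroup.zpowers_le.2 hk
        have hPc : Nat.card P = p := by rw [Nat.card_zpowers, hko]
        let act : P → A' → A' := fun r b =>
          ⟨h.cj (h.ofR (r : R)) (b : A), hs.inv _ _ b.2⟩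
        have hcj : ∀ (r : R) (b : A), ((h.cj (h.ofR r) b : A) : X) • o = (r : X) • ((b : X) • o) := by
          intro r b
          show ((r : X) * b * (r : X)⁻¹) • o = _
          rw [mul_smul, mul_smul, inv_smul_eq_iff.2 (h.fixR r r.2).symm]
        have hterm : ∀ (r : P) (b : A'),
            (mu (act r b : A) : ℂ) * g (act r b) = (mu (b : A) : ℂ) * g b := by
          intro r b
          have e1 : mu (h.cj (h.ofR (r : R)) (b : A)) = mu b := (h.mem_stab_iff hs mu _).1 (hPk r.2) _ b.2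
          show (mu (h.cj (h.ofR (r : R)) (b : A)) : ℂ) *
            f (((a₀ * h.cj (h.ofR (r : R)) (b : A) : A) : X) • o) = _
          rw [e1]
          congr 1
          conv_lhs => rw [← ha₀ (r : R), ← map_mul, hcj]
          exact hinv _ (r : R).2 _
        obtain ⟨y, hy, hsum⟩ := exists_sum_eq_fixed_add act
          (fun b => Subtype.ext (Subtype.ext (by simp [act, cj_val, ofR])))
          (fun r r' b => Subtype.ext (Subtype.ext (by simp [act, cj_val, ofR, mul_assoc])))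
          (fun b : A' => (mu (b : A) : ℂ) * g b) hterm
          (fun b => IsIntegral.mul (Cfsg.Lib.Chars.isIntegral_of_pow_eq_one (m := Nat.card A)
            Nat.card_pos (by
              rw [← Units.val_pow_eq_pow_val, ← map_pow, pow_card_eq_one', map_one, Units.val_one]))
            (hint _))
          Finset.univ (fun _ _ _ => Finset.mem_univ _) (fun b _ => by
            by_cases hall : ∀ r : P, act r b = b
            · exact Or.inl hall
            refine Or.inr fun r hr => ?_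
            by_contra hr1
            refine hall fun r' => ?_
            have hgen : Subgroup.zpowers r = ⊤ := zpowers_eq_top_of_prime_card hPc hr1
            let T : Subgroup P :=
              { carrier := {s | act s b = b}
                one_mem' := Subtype.ext (Subtype.ext (by simp [act, cj_val, ofR]))
                mul_mem' := fun {s t} hs ht => by
                  show act (s * t) b = b
                  rw [show act (s * t) b = act s (act t b) from
                    Subtype.ext (Subtype.ext (by simp [act, cj_val, ofR, mul_assoc])), ht, hs]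
                inv_mem' := fun {s} hs => by
                  show act s⁻¹ b = b
                  conv_lhs => rw [← show act s b = b from hs]
                  exact Subtype.ext (Subtype.ext (by simp [act, cj_val, ofR, mul_assoc])) }
            exact (Subgroup.zpowers_le.2 (show r ∈ T from hr)) (hgen ▸ Subgroup.mem_top r'))
        refine ⟨y, hy, hsum.trans ?_⟩
        rw [hPc, Finset.sum_eq_zero fun b hb => ?_, zero_add]
        have hbk : act ⟨k, Subgroup.mem_zpowers k⟩ b = b := (Finset.mem_filter.1 hb).2 _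
        have hk1 : k ≠ 1 := fun e => hp.ne_one (by rw [← hko, e, orderOf_one])
        set w : Ω := ((a₀ * (b : A) : A) : X) • o
        have hkw : (k : X) • w = w := by
          rw [← hcj, map_mul, ha₀]
          exact congrArg (fun t : A => ((a₀ * t : A) : X) • o) (congrArg Subtype.val hbk)
        have hzw : z • w = w := by
          by_contra hne
          exact hk1 (Subtype.ext (hsemi w hne _ k.2 (Or.inl hkw)))
        have h1 := hfz w
        rw [hzw] at h1
        show (mu (b : A) : ℂ) * f w = 0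
        rw [show f w = 0 by linear_combination (1 / 2 : ℂ) * h1, mul_zero]
      · refine ⟨0, isIntegral_zero, ?_⟩
        rw [mul_zero]
        have e : ∀ b : A', g b = (Nat.card A : ℂ)⁻¹ * ∑ mu ∈ h.weights {χ},
            (mu a₀⁻¹ : ℂ) * ((mu.comp A'.subtype) b⁻¹ : ℂ) * h.hat f mu := by
          intro b
          show f _ = _
          rw [h.apply_of_fixed hS hfK, mul_inv_rev, h.comm (b : A)⁻¹ a₀⁻¹]
          simp [map_mul]
        rw [Finset.sum_congr rfl fun b _ => by
          rw [e b, mul_left_comm, Finset.mul_sum], ← Finset.mul_sum, Finset.sum_comm]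
        refine mul_eq_zero_of_right _ (Finset.sum_eq_zero fun mu hmu => ?_)
        simp only [weights, Finset.mem_filter, Finset.mem_singleton] at hmu
        have hne' : nu * (mu.comp A'.subtype)⁻¹ ≠ 1 := fun e1 =>
          hex ⟨mu, hmu.2, (mul_inv_eq_one.1 e1).symm⟩
        have h1 : ∑ b : A', ((nu * (mu.comp A'.subtype)⁻¹) b : ℂ) = 0 := by
          have e2 := Cfsg.Lib.Dual.classInner_ev (nu * (mu.comp A'.subtype)⁻¹) 1
          rw [if_neg hne', classInner_def, mul_eq_zero] at e2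
          have e3 := e2.resolve_left (inv_ne_zero hm0)
          simpa [Cfsg.Lib.Dual.ev] using e3
        rw [Finset.sum_congr rfl fun b _ => show (nu b : ℂ) *
            ((mu a₀⁻¹ : ℂ) * ((mu.comp A'.subtype) b⁻¹ : ℂ) * h.hat f mu) =
          (mu a₀⁻¹ : ℂ) * h.hat f mu * ((nu * (mu.comp A'.subtype)⁻¹) b : ℂ) by
            simp only [MonoidHom.mul_apply, MonoidHom.inv_apply, map_inv, Units.val_mul]; ring,
          ← Finset.mul_sum, h1, mul_zero]
    choose y hy hye using hg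
    have hexp := Cfsg.Lib.Dual.expand (fun a b : A' => Subtype.ext (h.comm (a : A) (b : A))) g ⟨b₀, hb₀⟩
    have e : (m : ℂ) * f (((a₀ * b₀ : A) : X) • o) / (p : ℂ) =
        ∑ nu : A' →* ℂˣ, y nu⁻¹ * (nu ⟨b₀, hb₀⟩ : ℂ) := by
      rw [show f (((a₀ * b₀ : A) : X) • o) = g ⟨b₀, hb₀⟩ from rfl, hexp, Finset.mul_sum, Finset.sum_div]
      refine Finset.sum_congr rfl fun nu _ => ?_
      have e1 : Cfsg.classInner g (Cfsg.Lib.Dual.ev nu) = (m : ℂ)⁻¹ * ((p : ℂ) * y nu⁻¹) := by
        rw [classInner_def, ← hye, ← hm]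
        refine congrArg _ (Finset.sum_congr rfl fun b _ => ?_)
        show g b * conj (nu b : ℂ) = _
        rw [conj_hom, mul_comm, MonoidHom.inv_apply, map_inv]
      rw [e1]
      simp only [Cfsg.Lib.Dual.ev]
      field_simp
    rw [e]
    exact IsIntegral.sum _ fun nu _ => (hy _).mul (Cfsg.Lib.Chars.isIntegral_of_pow_eq_one
      (m := m) Nat.card_pos (by
        rw [← Units.val_pow_eq_pow_val, ← map_pow, hm, pow_card_eq_one', map_one, Units.val_one]))
  -- an integral eigenfunction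
  obtain ⟨hbR, hbz, hbK⟩ := ModP.eigen_apply hd le_rfl (fun r ω => ModP.basicFun_smul (1 : R →* ℂˣ) c' ω r)
    (ModP.basicFun_z hd le_rfl (1 : R →* ℂˣ) c')
  set F : Ω → ℂ := fun ω => (Nat.card A : ℂ) *
    ∑ ω', h.ker {χ} ω ω' * ModP.basicFun z (1 : R →* ℂˣ) c' ω' with hFdef
  have hFint : ∀ ω, IsIntegral ℤ (F ω) := fun ω => by
    show IsIntegral ℤ (_ * _)
    rw [ModP.sum_kernel_basicFun]
    exact ModP.isIntegral_block hd 1 ω c'
  have hscale : ∀ k : ℕ, ∀ ω, IsIntegral ℤ ((m : ℂ) ^ k * F ω / (p : ℂ) ^ k) := by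
    intro k
    induction k with
    | zero => intro ω; simpa using hFint ω
    | succ k ih =>
      intro ω
      have h2 := key (fun w => (m : ℂ) ^ k * F w / (p : ℂ) ^ k)
        (fun r hr w => by
          have := hbR ⟨r, hr⟩ w
          simp only [MonoidHom.one_apply, Units.val_one, one_mul] at this
          simp only [hFdef, this])
        (fun w => by simp only [hFdef, hbz]; ring)
        (fun w => by
          simp only [hFdef]
          conv_rhs => rw [show (∑ ω', h.ker {χ} w ω' * ModP.basicFun z (1 : R →* ℂˣ) c' ω') =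
            ∑ ω', h.ker {χ} w ω' * ∑ ω'', h.ker {χ} ω' ω'' * ModP.basicFun z (1 : R →* ℂˣ) c' ω''
            from (hbK w).symm]
          rw [Finset.mul_sum, Finset.mul_sum, Finset.sum_div]
          exact Finset.sum_congr rfl fun _ _ => by ring) ih ω
      convert h2 using 1
      rw [pow_succ, pow_succ]
      field_simp
  have hF0 : F c = 0 := by
    refine ModP.eq_zero_of_forall_div hp.two_le fun k => ?_
    obtain ⟨u, w, huw⟩ : ∃ u w : ℤ, u * (m ^ k : ℕ) + w * (p ^ k : ℕ) = 1 := by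
      obtain ⟨u, w, h1⟩ := Int.isCoprime_iff_gcd_eq_one.2
        (show Int.gcd ((m ^ k : ℕ) : ℤ) ((p ^ k : ℕ) : ℤ) = 1 by
          rw [Int.gcd_natCast_natCast]; exact Nat.Coprime.pow _ _ hpA)
      exact ⟨u, w, h1⟩
    have h1 : (u : ℂ) * (m : ℂ) ^ k + (w : ℂ) * (p : ℂ) ^ k = 1 := by exact_mod_cast huw
    have e : F c / (p : ℂ) ^ k = (u : ℂ) * ((m : ℂ) ^ k * F c / (p : ℂ) ^ k) + (w : ℂ) * F c := by
      field_simp
      linear_combination (-(F c)) * h1
    rw [e]
    exact ((isIntegral_algebraMap (R := ℤ) (A := ℂ) (x := u)).mul (hscale k c)).add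
      ((isIntegral_algebraMap (R := ℤ) (A := ℂ) (x := w)).mul (hFint c))
  refine hb ?_
  have e : F c = (Nat.card A : ℂ) * ModP.block z (h.ker {χ}) (1 : R →* ℂˣ) c c' := by
    simp only [hFdef, ModP.sum_kernel_basicFun]
  rw [hF0] at e
  exact (mul_eq_zero.1 e.symm).resolve_left (by exact_mod_cast Nat.card_pos.ne')

/-- COPRIME CASE: at most one constituent has `z` outside its kernel -/
theorem exists_one_constituent (hs : h.Split A') (hcop : (Nat.card A').Coprime (Nat.card R))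
    (hodd : Odd (Nat.card R)) (hsol : Group.IsSolvable R) {p : ℕ} (hp : p.Prime)
    (hpA : (Nat.card A').Coprime p)
    (hstab : ∀ mu : A →* ℂˣ, ¬ h.Free mu → p ∣ Nat.card (h.stab mu))
    {z : X} (hzz : z * z = 1) (hzo : z • o = o) (hcomm : ∀ r ∈ R, r * z = z * r)
    (hsemi : ∀ ω : Ω, z • ω ≠ ω → ∀ r ∈ R, r • ω = ω ∨ r • ω = z • ω → r = 1)
    (hvan : ∀ g : X, ∀ r ∈ R, g * r * g⁻¹ ∉ offR B R ∧ g * (r * z) * g⁻¹ ∉ offR B R) :
    ∃ χ₀ : Cfsg.IrrCharacter X, h.mult χ₀ = 1 ∧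
      ∀ χ : Cfsg.IrrCharacter X, χ ≠ χ₀ → h.mult χ ≠ 0 → (χ : X → ℂ) z = (χ : X → ℂ) 1 := by
  classical
  haveI : Finite (A →* ℂˣ) := Nat.finite_of_card_ne_zero (by
    rw [Cfsg.Lib.Dual.card_hom h.comm]; exact Nat.card_pos.ne')
  haveI := Fintype.ofFinite (A →* ℂˣ)
  have hfree : ∀ χ : Cfsg.IrrCharacter X, h.mult χ ≠ 0 → (χ : X → ℂ) z ≠ (χ : X → ℂ) 1 →
      ∃ lam : A →* ℂˣ, h.Free lam ∧ h.blk lam = χ := by
    intro χ hχ hz
    by_contra hno
    push Not at hno
    obtain ⟨mu, rfl⟩ := h.exists_eq_blk hχ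
    exact h.eigenTrace_ne_zero hs hcop hodd hsol hzz hcomm hsemi hvan (h.mult_blk mu) hz 1
      (h.eigenTrace_eq_zero_of_dvd hs hp hpA hzz hcomm hsemi (h.mult_blk mu)
        fun nu e => hstab nu fun hf => hno nu hf e)
  by_cases hex : ∃ χ : Cfsg.IrrCharacter X, h.mult χ ≠ 0 ∧ (χ : X → ℂ) z ≠ (χ : X → ℂ) 1
  · obtain ⟨χ₀, hχ₀, hz₀⟩ := hex
    obtain ⟨l₀, hl₀, rfl⟩ := hfree χ₀ hχ₀ hz₀
    refine ⟨_, h.mult_blk l₀, fun χ hne hχ => ?_⟩
    by_contra hz
    obtain ⟨l, hl, rfl⟩ := hfree χ hχ hz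
    exact h.eigenTrace_ne_zero hs hcop hodd hsol hzz hcomm hsemi hvan (h.mult_blk l) hz 1
      (h.eigenTrace_eq_zero_of_rel hzz hcomm hsemi hzo
        fun mu e => h.rel_of_free_separate hl hl₀ hne hl e)
  · push Not at hex
    exact ⟨h.blk 1, h.mult_blk 1, fun χ _ hχ => hex χ hχ⟩

end Setting

end Isometry

end Cfsg.Lib.BenderSE
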