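/-
THEOREM A: under HYP every Sylow `r`-subgroup of every pair stabiliser fixes exactly the pair, and
then the group is doubly transitive.
-/
import Cfsg.Agent.BenderSE.Rank
import Cfsg.Agent.BenderSE.Criterion

set_option autoImplicit false
set_option linter.unusedSectionVars false

namespace Cfsg.Lib.BenderSE

open Subgroup MulAction Cfsg.Lib.InvolCalc

universe u v

variable {G : Type u} [Group G] [Finite G] {H : Subgroup G} {r : ℕ}

/-- `P` is a Sylow `r`-subgroup of `G_x ∩ G_z` -/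
def IsPairSylow (r : ℕ) (P : Subgroup G) (x z : G ⧸ H) : Prop :=
  P ≤ stabilizer G x ⊓ stabilizer G z ∧
    Nat.card P = r ^ (Nat.card ↥(stabilizer G x ⊓ stabilizer G z)).factorization r

/-- `P` fixes at least three points -/
def HasThree (H : Subgroup G) (P : Subgroup G) : Prop :=
  ∃ u ∈ fixOf (α := G ⧸ H) P, ∃ v ∈ fixOf (α := G ⧸ H) P, ∃ w ∈ fixOf (α := G ⧸ H) P,
    u ≠ v ∧ u ≠ w ∧ v ≠ w

theorem IsPairSylow.left {P : Subgroup G} {x z : G ⧸ H} (h : IsPairSylow r P x z) :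
    x ∈ fixOf (α := G ⧸ H) P :=
  fun _ hg => (mem_inf.1 (h.1 hg)).1

theorem IsPairSylow.right {P : Subgroup G} {x z : G ⧸ H} (h : IsPairSylow r P x z) :
    z ∈ fixOf (α := G ⧸ H) P :=
  fun _ hg => (mem_inf.1 (h.1 hg)).2

theorem le_pair_of_fixed {Q : Subgroup G} {x z : G ⧸ H} (hx : x ∈ fixOf (α := G ⧸ H) Q)
    (hz : z ∈ fixOf (α := G ⧸ H) Q) : Q ≤ stabilizer G x ⊓ stabilizer G z :=
  fun g hg => mem_inf.2 ⟨hx g hg, hz g hg⟩

theorem exists_pairSylow_ge [Fact r.Prime] {Q : Subgroup G} (hQ : IsPGroup r Q) {x z : G ⧸ H}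
    (hQle : Q ≤ stabilizer G x ⊓ stabilizer G z) :
    ∃ P : Subgroup G, IsPGroup r P ∧ IsPairSylow r P x z ∧ Q ≤ P := by
  set D := stabilizer G x ⊓ stabilizer G z with hD
  obtain ⟨S, hS⟩ := (hQ.of_equiv (subgroupOfEquivOfLe hQle).symm).exists_le_sylow
  refine ⟨(S : Subgroup D).map D.subtype, S.2.map _, ⟨map_subtype_le _, ?_⟩, ?_⟩
  · rw [card_map_of_injective D.subtype_injective, Sylow.card_eq_multiplicity]
  · have h := Subgroup.map_mono (f := D.subtype) hS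
    rwa [map_subgroupOf_eq_of_le hQle] at h

/-- normalisers grow in `r`-groups -/
theorem lt_inf_normalizer [Fact r.Prime] {Q P : Subgroup G} (hP : IsPGroup r P) (hQP : Q < P) :
    Q < P ⊓ normalizer (Q : Set G) := by
  refine lt_of_le_of_ne (le_inf hQP.le le_normalizer) fun he => ?_
  haveI := hP.isNilpotent
  have hlt : Q.subgroupOf P < ⊤ := lt_top_iff_ne_top.2 fun h =>
    hQP.ne (le_antisymm hQP.le (subgroupOf_eq_top.1 h))
  obtain ⟨x, hxn, hxQ⟩ := SetLike.exists_of_lt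
    (Group.normalizerCondition_of_isNilpotent (G := P) _ hlt)
  rw [← subgroupOf_normalizer_eq hQP.le] at hxn
  exact hxQ (mem_subgroupOf.2 (he ▸ mem_inf.2 ⟨x.2, hxn⟩ : (x : G) ∈ Q))

theorem fixOf_smul {Q : Subgroup G} {g : G} (hg : g ∈ normalizer (Q : Set G)) {y : G ⧸ H}
    (hy : y ∈ fixOf (α := G ⧸ H) Q) : g • y ∈ fixOf (α := G ⧸ H) Q := by
  intro q hq
  have h := hy _ ((mem_normalizer_iff''.1 hg q).1 hq)
  rwa [mul_smul, mul_smul, inv_smul_eq_iff] at h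

theorem two_le_prime [Fact r.Prime] : 2 ≤ r := (Fact.out : r.Prime).two_le

/-- Gleason's lemma at a point: if every point of an invariant set is the only fixed point there of
some `r`-subgroup, the group is transitive on the set. -/
theorem gleason [Fact r.Prime] {α : Type v} [MulAction G α] [Finite α] (N : Subgroup G) (S : Set α)
    (hS : ∀ g ∈ N, ∀ x ∈ S, g • x ∈ S)
    (hR : ∀ w ∈ S, ∃ R : Subgroup G, R ≤ N ∧ IsPGroup r R ∧
      ∀ y ∈ S, ((∀ g ∈ R, g • y = y) ↔ y = w)) :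
    ∀ w ∈ S, ∀ w' ∈ S, ∃ g ∈ N, g • w = w' := by
  intro w hw w' hw'
  by_contra hne
  push Not at hne
  set O : Set α := {y | ∃ g ∈ N, g • w = y} with hO
  have hOS : O ⊆ S := by rintro _ ⟨g, hg, rfl⟩; exact hS g hg w hw
  have hON : ∀ R : Subgroup G, R ≤ N → ∀ g ∈ R, ∀ y ∈ O, g • y ∈ O := by
    rintro R hR g hg _ ⟨k, hk, rfl⟩
    exact ⟨g * k, mul_mem (hR hg) hk, mul_smul _ _ _⟩
  obtain ⟨R, hRN, hRp, hRfix⟩ := hR w hw
  obtain ⟨R', hR'N, hR'p, hR'fix⟩ := hR w' hw'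
  have h1 := card_modEq_fixed hRp O (hON R hRN)
  have h2 := card_modEq_fixed hR'p O (hON R' hR'N)
  have e1 : Nat.card {y : α // y ∈ O ∧ ∀ g ∈ R, g • y = y} = 1 := by
    refine Nat.card_eq_one_iff_unique.2 ⟨⟨fun p q => Subtype.ext ?_⟩,
      ⟨⟨w, ⟨1, one_mem N, one_smul _ _⟩, (hRfix w hw).2 rfl⟩⟩⟩
    rw [(hRfix _ (hOS p.2.1)).1 p.2.2, (hRfix _ (hOS q.2.1)).1 q.2.2]
  have e2 : Nat.card {y : α // y ∈ O ∧ ∀ g ∈ R', g • y = y} = 0 := by
    refine Finite.card_eq_zero_iff.2 ⟨fun p => ?_⟩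
    obtain ⟨g, hg, hgy⟩ := p.2.1
    exact hne g hg (hgy.trans ((hR'fix _ (hOS p.2.1)).1 p.2.2))
  rw [e1] at h1
  rw [e2] at h2
  have h3 : 1 ≡ 0 [MOD r] := h1.symm.trans h2
  have := Nat.le_of_dvd one_pos (Nat.modEq_zero_iff_dvd.1 h3)
  have := two_le_prime (r := r)
  omega

theorem IsPairSylow.isPGroup [Fact r.Prime] {P : Subgroup G} {x z : G ⧸ H}
    (h : IsPairSylow r P x z) : IsPGroup r P := IsPGroup.of_card h.2

/-- an element swapping two points has an odd power which is a swapping involution -/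
theorem exists_involution_swap (hH : Cfsg.IsStronglyEmbedded H) {u w : G ⧸ H} (huw : u ≠ w) {n : G}
    (hnu : n • u = w) (hnw : n • w = u) :
    ∃ k : ℕ, orderOf (n ^ k) = 2 ∧ (n ^ k) • u = w := by
  have hn2 : n * n ∈ stabilizer G u ⊓ stabilizer G w := mem_inf.2
    ⟨by rw [mem_stabilizer_iff, mul_smul, hnu, hnw], by rw [mem_stabilizer_iff, mul_smul, hnw, hnu]⟩
  obtain ⟨j, hj⟩ := (odd_stabilizer_inf hH huw).of_dvd_nat (Subgroup.orderOf_dvd_natCard _ hn2)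
  have hk2 : n ^ orderOf (n * n) * n ^ orderOf (n * n) = 1 := by
    rw [← pow_add, ← two_mul, pow_mul, sq, pow_orderOf_eq_one]
  have hku : n ^ orderOf (n * n) • u = w := by
    rw [hj, pow_succ', pow_mul, sq, mul_smul,
      mem_stabilizer_iff.1 (pow_mem (mem_inf.1 hn2).1 j), hnu]
  refine ⟨_, order_two_of_mul_self hk2 fun h1 => huw ?_, hku⟩
  rw [h1, one_smul] at hku
  exact hku

/-- At a point `x` fixed by an `r`-group `Q` maximal with at least three fixed points, all of whose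
pairs have larger Sylow subgroups: `N(Q)` contains an involution with centre `x`. -/
theorem exists_involution_at (hH : Cfsg.IsStronglyEmbedded H) [Fact r.Prime] {Q : Subgroup G}
    (hQ : IsPGroup r Q) {x : G ⧸ H} (hxQ : x ∈ fixOf (α := G ⧸ H) Q) (hQ3 : HasThree H Q)
    (hQmax : ∀ R : Subgroup G, IsPGroup r R → Q < R → x ∈ fixOf (α := G ⧸ H) R → ¬ HasThree H R)
    (hpair : ∀ (u w : G ⧸ H) (P' : Subgroup G), u ∈ fixOf (α := G ⧸ H) Q →
      w ∈ fixOf (α := G ⧸ H) Q → u ≠ w → IsPairSylow r P' u w → Q ≤ P' → Q ≠ P') :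
    ∃ v : G, orderOf v = 2 ∧ v • x = x ∧ v ∈ normalizer (Q : Set G) := by
  set N := normalizer (Q : Set G) with hN
  -- an `r`-subgroup of `N` above `Q` for each pair of `F`
  have hR : ∀ u ∈ fixOf (α := G ⧸ H) Q, ∀ w ∈ fixOf (α := G ⧸ H) Q, u ≠ w →
      ∃ R : Subgroup G, IsPGroup r R ∧ Q < R ∧ R ≤ N ∧ u ∈ fixOf (α := G ⧸ H) R ∧
        w ∈ fixOf (α := G ⧸ H) R := by
    intro u hu w hw huw
    obtain ⟨P', hP'p, hP', hQP'⟩ := exists_pairSylow_ge hQ (le_pair_of_fixed hu hw)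
    have hne : Q ≠ P' := hpair u w P' hu hw huw hP' hQP'
    exact ⟨P' ⊓ N, hP'p.to_le inf_le_left, lt_inf_normalizer hP'p (lt_of_le_of_ne hQP' hne),
      inf_le_right, fun g hg => hP'.left g (mem_inf.1 hg).1, fun g hg => hP'.right g (mem_inf.1 hg).1⟩
  -- transitivity away from `x`
  have htrx : ∀ w ∈ fixOf (α := G ⧸ H) Q, w ≠ x → ∀ w' ∈ fixOf (α := G ⧸ H) Q, w' ≠ x →
      ∃ g ∈ N, g • x = x ∧ g • w = w' := by
    intro w hw hwx w' hw' hw'x
    obtain ⟨g, hg, e⟩ := gleason (r := r) (N ⊓ stabilizer G x)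
      {y | y ∈ fixOf (α := G ⧸ H) Q ∧ y ≠ x}
      (fun g hg y hy => ⟨fixOf_smul (mem_inf.1 hg).1 hy.1, fun e => hy.2
        ((smul_left_cancel g (e.trans (mem_stabilizer_iff.1 (mem_inf.1 hg).2).symm)))⟩)
      (fun w hw => by
        obtain ⟨R, hRp, hQR, hRN, hxR, hwR⟩ := hR x hxQ w hw.1 (Ne.symm hw.2)
        refine ⟨R, le_inf hRN hxR, hRp, fun y hy => ⟨fun hyR => ?_, fun e => e ▸ hwR⟩⟩
        by_contra hyw
        exact hQmax R hRp hQR hxR ⟨x, hxR, w, hwR, y, hyR, Ne.symm hw.2, Ne.symm hy.2, Ne.symm hyw⟩)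
      w ⟨hw, hwx⟩ w' ⟨hw', hw'x⟩
    exact ⟨g, (mem_inf.1 hg).1, (mem_inf.1 hg).2, e⟩
  obtain ⟨u₁, hu₁, u₂, hu₂, hu₁x, hu₂x, hu₁₂⟩ : ∃ u ∈ fixOf (α := G ⧸ H) Q,
      ∃ w ∈ fixOf (α := G ⧸ H) Q, u ≠ x ∧ w ≠ x ∧ u ≠ w := by
    obtain ⟨p, hp, q, hq, s, hs, hpq, hps, hqs⟩ := hQ3
    by_cases h1 : p = x
    · subst h1; exact ⟨q, hq, s, hs, Ne.symm hpq, Ne.symm hps, hqs⟩
    by_cases h2 : q = x
    · subst h2; exact ⟨p, hp, s, hs, hpq, Ne.symm hqs, hps⟩
    exact ⟨p, hp, q, hq, h1, h2, hpq⟩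
  -- `N` moves `x`
  obtain ⟨n₀, hn₀, hn₀x⟩ : ∃ n ∈ N, n • x ≠ x := by
    by_contra h
    push Not at h
    obtain ⟨R, hRp, hQR, hRN, h1, h2⟩ := hR u₁ hu₁ u₂ hu₂ hu₁₂
    exact hQmax R hRp hQR (fun g hg => h g (hRN hg))
      ⟨x, fun g hg => h g (hRN hg), u₁, h1, u₂, h2, Ne.symm hu₁x, Ne.symm hu₂x, hu₁₂⟩
  have hto : ∀ y ∈ fixOf (α := G ⧸ H) Q, ∃ g ∈ N, g • x = y := by
    intro y hy
    by_cases h : y = x
    · exact ⟨1, one_mem _, by rw [one_smul, h]⟩
    obtain ⟨g, hg, -, hgy⟩ := htrx _ (fixOf_smul hn₀ hxQ) hn₀x y hy h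
    exact ⟨g * n₀, mul_mem hg hn₀, by rw [mul_smul, hgy]⟩
  have h2t : ∀ u ∈ fixOf (α := G ⧸ H) Q, ∀ w ∈ fixOf (α := G ⧸ H) Q, u ≠ w →
      ∀ u' ∈ fixOf (α := G ⧸ H) Q, ∀ w' ∈ fixOf (α := G ⧸ H) Q, u' ≠ w' →
      ∃ g ∈ N, g • u = u' ∧ g • w = w' := by
    intro u hu w hw huw u' hu' w' hw' huw'
    obtain ⟨g₁, hg₁, e₁⟩ := hto u hu
    obtain ⟨g₂, hg₂, e₂⟩ := hto u' hu'
    have i₁ : g₁⁻¹ • u = x := by rw [inv_smul_eq_iff, e₁]
    have i₂ : g₂⁻¹ • u' = x := by rw [inv_smul_eq_iff, e₂]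
    obtain ⟨g, hg, hgx, hgw⟩ := htrx _ (fixOf_smul (inv_mem hg₁) hw)
      (fun e => huw (smul_left_cancel g₁⁻¹ (i₁.trans e.symm))) _ (fixOf_smul (inv_mem hg₂) hw')
      (fun e => huw' (smul_left_cancel g₂⁻¹ (i₂.trans e.symm)))
    refine ⟨g₂ * g * g₁⁻¹, mul_mem (mul_mem hg₂ hg) (inv_mem hg₁), ?_, ?_⟩
    · rw [mul_smul, mul_smul, i₁, hgx, e₂]
    · rw [mul_smul, mul_smul, hgw, smul_inv_smul]
  have hswap : ∀ u ∈ fixOf (α := G ⧸ H) Q, ∀ w ∈ fixOf (α := G ⧸ H) Q, u ≠ w →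
      ∃ i ∈ N, orderOf i = 2 ∧ i • u = w := by
    intro u hu w hw huw
    obtain ⟨g, hg, h1, h2⟩ := h2t u hu w hw huw w hw u hu (Ne.symm huw)
    obtain ⟨k, hk, hku⟩ := exists_involution_swap hH huw h1 h2
    exact ⟨g ^ k, pow_mem hg k, hk, hku⟩
  by_contra hno
  -- no centre in `F`
  have hnoc : ∀ i ∈ N, orderOf i = 2 → ∀ d : G ⧸ H, i • d = d → d ∉ fixOf (α := G ⧸ H) Q := by
    intro i hi hio d hid hd
    obtain ⟨g, hg, hgd⟩ := hto d hd
    refine hno ⟨g⁻¹ * i * g⁻¹⁻¹, by rw [orderOf_conj', hio], ?_,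
      mul_mem (mul_mem (inv_mem hg) hi) (inv_mem (inv_mem hg))⟩
    rw [inv_inv, mul_smul, mul_smul, hgd, hid, inv_smul_eq_iff, hgd]
  obtain ⟨i, hiN, hio, hix⟩ := hswap x hxQ u₁ hu₁ (Ne.symm hu₁x)
  obtain ⟨d, hid⟩ := exists_centre hH hio
  have hQodd : Odd (Nat.card Q) := (odd_stabilizer_inf hH (Ne.symm hu₁x)).of_dvd_nat
    (card_dvd_of_le (le_pair_of_fixed hxQ hu₁))
  have hmove : ¬ Q ≤ stabilizer G d := fun h => hnoc i hiN hio d hid fun g hg => h hg
  set O := oddCoreOf N with hO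
  have hON : O ≤ N := oddCoreOf_le N
  have hNO : N ≤ normalizer (O : Set G) := le_normalizer_oddCoreOf N
  -- `O` fixes `x`
  have hOx : O ≤ stabilizer G x := by
    by_contra h
    obtain ⟨g, hg, hgx⟩ := SetLike.not_le_iff_exists.1 h
    haveI : Fact (Nat.Prime 2) := ⟨Nat.prime_two⟩
    have hFO : fixOf (α := G ⧸ H) Q = orbit O x := by
      ext y
      constructor
      · intro hy
        by_cases hyx : y = x
        · rw [hyx]; exact mem_orbit_self x
        obtain ⟨n, hn, hnx, hny⟩ := htrx _ (fixOf_smul (hON hg) hxQ) hgx y hy hyx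
        refine ⟨⟨n * g * n⁻¹, (mem_normalizer_iff.1 (hNO hn) g).1 hg⟩, ?_⟩
        show (n * g * n⁻¹) • x = y
        rw [mul_smul, mul_smul, inv_smul_eq_iff.2 hnx.symm, hny]
      · rintro ⟨o, rfl⟩
        exact fixOf_smul (hON o.2) hxQ
    have hodd : Odd (Nat.card (fixOf (α := G ⧸ H) Q)) := by
      refine (odd_card_oddCoreOf N).of_dvd_nat ?_
      rw [hFO, Nat.card_congr (orbitEquivQuotientStabilizer O x)]
      exact Subgroup.card_quotient_dvd_card _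
    have hp : IsPGroup 2 (zpowers i) := IsPGroup.of_card (n := 1) (by rw [Nat.card_zpowers, hio, pow_one])
    have h1 := card_modEq_fixed hp (fixOf (α := G ⧸ H) Q)
      (fun g hg y hy => fixOf_smul (zpowers_le.2 hiN hg) hy)
    have e0 : Nat.card {y : G ⧸ H // y ∈ fixOf (α := G ⧸ H) Q ∧ ∀ g ∈ zpowers i, g • y = y} = 0 :=
      Finite.card_eq_zero_iff.2 ⟨fun p => hnoc i hiN hio d hid
        (Cfsg.Lib.StrongEmb.eq_of_fixed hH hio (p.2.2 i (mem_zpowers i)) hid ▸ p.2.1)⟩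
    rw [e0] at h1
    exact hodd.not_two_dvd_nat (Nat.modEq_zero_iff_dvd.1 h1)
  -- two swappers at `x` agree
  obtain ⟨k, hkN, hko, hkx⟩ := hswap x hxQ u₂ hu₂ (Ne.symm hu₂x)
  have hik : (i * k) • x = x :=
    hOx (mul_mem_oddCore hH (N := N) le_rfl hQodd hio hiN hid hmove hio hiN hko hkN)
  rw [mul_smul, hkx] at hik
  exact hu₁₂ (by rw [← hix]; nth_rw 1 [← hik]; rw [smul_smul, sq_of_order_two hio, one_smul])

/-- LEMMA A1 -/
theorem not_hasThree_of_gt (hH : Cfsg.IsStronglyEmbedded H) [Fact r.Prime] (hyp : FixHyp H r)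
    {P : Subgroup G} (h3 : HasThree H P)
    (hmax : ∀ (a b : G ⧸ H) (P' : Subgroup G), a ≠ b → IsPairSylow r P' a b → HasThree H P' →
      Nat.card P' ≤ Nat.card P)
    {x z : G ⧸ H} (hxz : x ≠ z) (hP : IsPairSylow r P x z) {Q : Subgroup G} (hQ : IsPGroup r Q)
    (hPQ : P < Q) (hxQ : x ∈ fixOf (α := G ⧸ H) Q) : ¬ HasThree H Q := by
  classical
  intro hQ3
  let S : ℕ → Prop := fun n => ∃ Q : Subgroup G, IsPGroup r Q ∧ P < Q ∧ x ∈ fixOf (α := G ⧸ H) Q ∧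
    HasThree H Q ∧ Nat.card Q = n
  obtain ⟨Q, hQ, hPQ, hxQ, hQ3, hQn⟩ := Nat.findGreatest_spec (n := Nat.card G)
    (Subgroup.card_le_card_group _) (show S _ from ⟨Q, hQ, hPQ, hxQ, hQ3, rfl⟩)
  have hQmax : ∀ R : Subgroup G, IsPGroup r R → Q < R → x ∈ fixOf (α := G ⧸ H) R →
      ¬ HasThree H R := by
    intro R hR hQR hxR hR3
    have h1 : Nat.card R ≤ Nat.card Q := hQn ▸ Nat.le_findGreatest (Subgroup.card_le_card_group _)
      (show S _ from ⟨R, hR, hPQ.trans hQR, hxR, hR3, rfl⟩)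
    exact hQR.ne (Subgroup.eq_of_le_of_card_ge hQR.le h1)
  have hcard : Nat.card P < Nat.card Q :=
    lt_of_not_ge fun hle => hPQ.ne (Subgroup.eq_of_le_of_card_ge hPQ.le hle)
  have hP3x : ∃ w ∈ fixOf (α := G ⧸ H) P, w ≠ x ∧ w ≠ z := by
    obtain ⟨p, hp, q, hq, s, hs, hpq, hps, hqs⟩ := h3
    by_contra h
    push Not at h
    by_cases h1 : p = x
    · exact hqs ((h q hq (fun e => hpq (h1.trans e.symm))).trans
        (h s hs (fun e => hps (h1.trans e.symm))).symm)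
    by_cases h2 : q = x
    · exact hps ((h p hp h1).trans (h s hs (fun e => hqs (h2.trans e.symm))).symm)
    exact hpq ((h p hp h1).trans (h q hq h2).symm)
  obtain ⟨v, hv, hvx, hvN⟩ := exists_involution_at hH hQ hxQ hQ3 hQmax fun u w P' _ _ huw hP' hQP' e =>
    absurd (hmax u w P' huw hP' (e ▸ hQ3)) (not_le.2 (e ▸ hcard))
  obtain ⟨u₁, hu₁, u₂, hu₂, hu₁x, hu₂x, hu₁₂⟩ : ∃ u ∈ fixOf (α := G ⧸ H) Q,
      ∃ w ∈ fixOf (α := G ⧸ H) Q, u ≠ x ∧ w ≠ x ∧ u ≠ w := by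
    obtain ⟨p, hp, q, hq, s, hs, hpq, hps, hqs⟩ := hQ3
    by_cases h1 : p = x
    · subst h1; exact ⟨q, hq, s, hs, Ne.symm hpq, Ne.symm hps, hqs⟩
    by_cases h2 : q = x
    · subst h2; exact ⟨p, hp, s, hs, hpq, Ne.symm hqs, hps⟩
    exact ⟨p, hp, q, hq, h1, h2, hpq⟩
  exact hyp x z P Q hxz hP.1 hP.2 hP3x hQ hPQ.le hxQ ⟨u₁, hu₁, u₂, hu₂, hu₁x, hu₂x, hu₁₂⟩ v hv hvx hvN

/-- THEOREM A -/
theorem exactlyTwo_of_fixHyp (hH : Cfsg.IsStronglyEmbedded H) [Fact r.Prime] (hr : r ≠ 2)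
    (hyp : FixHyp H r) : ExactlyTwo H r := by
  classical
  intro a₀ d₀ P₀ ha₀ _ hP₀ hP₀c
  have hPS₀ : IsPairSylow r P₀ a₀ d₀ := ⟨hP₀, hP₀c⟩
  by_contra hne
  have h3₀ : HasThree H P₀ := by
    by_contra h
    refine hne (Set.Subset.antisymm (fun y hy => ?_) ?_)
    · by_contra hy'
      simp only [Set.mem_insert_iff, Set.mem_singleton_iff, not_or] at hy'
      exact h ⟨a₀, hPS₀.left, d₀, hPS₀.right, y, hy, ha₀, Ne.symm hy'.1, Ne.symm hy'.2⟩
    · rintro y (rfl | hy)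
      · exact hPS₀.left
      · rw [Set.mem_singleton_iff] at hy; exact hy ▸ hPS₀.right
  let S : ℕ → Prop := fun n => ∃ (a b : G ⧸ H) (P : Subgroup G), a ≠ b ∧ IsPairSylow r P a b ∧
    HasThree H P ∧ Nat.card P = n
  obtain ⟨a, x, P, hax, hP, h3, hPn⟩ := Nat.findGreatest_spec (n := Nat.card G)
    (Subgroup.card_le_card_group _) (show S _ from ⟨a₀, d₀, P₀, ha₀, hPS₀, h3₀, rfl⟩)
  have hmax : ∀ (a b : G ⧸ H) (P' : Subgroup G), a ≠ b → IsPairSylow r P' a b → HasThree H P' →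
      Nat.card P' ≤ Nat.card P := fun a b P' hab hP' h' => hPn ▸
    Nat.le_findGreatest (Subgroup.card_le_card_group _) (show S _ from ⟨a, b, P', hab, hP', h', rfl⟩)
  have hPp := hP.isPGroup
  obtain ⟨v, hv, hva⟩ := exists_swapper hH hax
  obtain ⟨t, -, ht, hta, htP⟩ :=
    exists_swapper_normalizing hH (K := ⊤) hax hv hva (mem_top v) le_top hP.1 hP.2
  obtain ⟨c, htc⟩ := exists_centre hH ht
  have hca : c ≠ a := fun e => hax (by rw [← hta, ← e, htc])
  have hcx : c ≠ x := fun e => hax (by rw [← smul_swap ht hta, ← e, htc])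
  -- `P` moves `c`
  have hmove : ¬ P ≤ stabilizer G c := by
    intro hc
    refine hyp c a P P hca (le_inf hc fun g hg => hP.left g hg) ?_ ⟨x, hP.right, Ne.symm hcx, Ne.symm hax⟩
      hPp le_rfl (fun g hg => hc hg)
      ⟨a, hP.left, x, hP.right, Ne.symm hca, Ne.symm hcx, hax⟩ t ht htc htP
    rw [← card_stabilizer_centre hH ht htc (Ne.symm hca), hta]
    exact hP.2
  have hcP : c ∉ fixOf (α := G ⧸ H) P := fun h => hmove fun g hg => h g hg
  set N := normalizer (P : Set G) with hN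
  have hPodd : Odd (Nat.card P) := (odd_stabilizer_inf hH hax).of_dvd_nat (card_dvd_of_le hP.1)
  have hprod : ∀ i k : G, orderOf i = 2 → i ∈ N → orderOf k = 2 → k ∈ N → i * k ∈ oddCoreOf N :=
    fun i k hi hiN hk hkN => mul_mem_oddCore hH (N := N) le_rfl hPodd ht htP htc hmove hi hiN hk hkN
  set O := oddCoreOf N with hO
  have hON : O ≤ N := oddCoreOf_le N
  have hNO : N ≤ normalizer (O : Set G) := le_normalizer_oddCoreOf N
  have hOinv : ∀ n ∈ N, ∀ o ∈ O, n * o * n⁻¹ ∈ O := fun n hn o ho =>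
    (mem_normalizer_iff.1 (hNO hn) o).1 ho
  let orb : G ⧸ H → Set (G ⧸ H) := fun z => {y | ∃ o ∈ O, o • z = y}
  have horb_self : ∀ z, z ∈ orb z := fun z => ⟨1, one_mem O, one_smul _ _⟩
  -- `t` moves every orbit in `Φ`
  have hfpf : ∀ z ∈ fixOf (α := G ⧸ H) P, t • z ∉ orb z := by
    rintro z hz ⟨o, ho, hoz⟩
    haveI : Fact (Nat.Prime 2) := ⟨Nat.prime_two⟩
    have hcl : ∀ g ∈ zpowers t, ∀ y ∈ orb z, g • y ∈ orb z := by
      have key : ∀ y ∈ orb z, t • y ∈ orb z := by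
        rintro _ ⟨o', ho', rfl⟩
        refine ⟨t * o' * t⁻¹ * o, mul_mem (hOinv t htP o' ho') ho, ?_⟩
        rw [mul_smul, hoz, ← mul_smul, inv_mul_cancel_right, mul_smul]
      intro g hg y hy
      obtain ⟨k, rfl⟩ := mem_powers_iff_mem_zpowers.2 hg
      show t ^ k • y ∈ orb z
      induction k with
      | zero => rwa [pow_zero, one_smul]
      | succ k ihk => rw [pow_succ', mul_smul]; exact key _ (ihk (pow_mem (mem_zpowers t) k))
    have hp : IsPGroup 2 (zpowers t) := IsPGroup.of_card (n := 1) (by rw [Nat.card_zpowers, ht, pow_one])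
    have h1 := card_modEq_fixed hp (orb z) hcl
    have hodd : Odd (Nat.card (orb z)) := by
      refine (odd_card_oddCoreOf N).of_dvd_nat ?_
      have e : orb z = orbit O z := by
        ext y
        exact ⟨fun ⟨o, ho, h⟩ => ⟨⟨o, ho⟩, h⟩, fun ⟨o, h⟩ => ⟨o.1, o.2, h⟩⟩
      rw [e, Nat.card_congr (orbitEquivQuotientStabilizer O z)]
      exact Subgroup.card_quotient_dvd_card _
    have e0 : Nat.card {y : G ⧸ H // y ∈ orb z ∧ ∀ g ∈ zpowers t, g • y = y} = 0 := by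
      refine Finite.card_eq_zero_iff.2 ⟨fun p => ?_⟩
      obtain ⟨o', ho', e⟩ := p.2.1
      refine hcP ?_
      rw [← Cfsg.Lib.StrongEmb.eq_of_fixed hH ht (p.2.2 t (mem_zpowers t)) htc, ← e]
      exact fixOf_smul (hON ho') hz
    rw [e0] at h1
    exact hodd.not_two_dvd_nat (Nat.modEq_zero_iff_dvd.1 h1)
  have hdisj : ∀ y ∈ orb a, y ∉ orb (t • a) := by
    rintro _ ⟨o, ho, rfl⟩ ⟨o', ho', e⟩
    exact hfpf a hP.left ⟨o'⁻¹ * o, mul_mem (inv_mem ho') ho, by rw [mul_smul, inv_smul_eq_iff, e]⟩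
  -- every other fixed point is in the orbit of `t • a`
  have hall : ∀ b ∈ fixOf (α := G ⧸ H) P, b ≠ a → b ∈ orb (t • a) := by
    intro b hb hba
    obtain ⟨P', hP'p, hP', hPP'⟩ := exists_pairSylow_ge hPp (le_pair_of_fixed hP.left hb)
    rcases eq_or_lt_of_le hPP' with he | hlt
    · obtain ⟨u, hu, hua⟩ := exists_swapper hH (Ne.symm hba)
      obtain ⟨s, -, hs, hsa, hsP⟩ := exists_swapper_normalizing hH (K := ⊤) (Ne.symm hba) hu hua
        (mem_top u) le_top (he ▸ hP'.1) (he ▸ hP'.2)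
      refine ⟨s * t, hprod s t hs hsP ht htP, ?_⟩
      rw [mul_smul, smul_smul t t a, sq_of_order_two ht, one_smul, hsa]
    set R₂ := P' ⊓ N with hR₂
    have hR₂gt : P < R₂ := lt_inf_normalizer hP'p hlt
    have hR₂p : IsPGroup r R₂ := hP'p.to_le inf_le_left
    have hR₂a : a ∈ fixOf (α := G ⧸ H) R₂ := fun g hg => hP'.left g (mem_inf.1 hg).1
    have hR₂b : b ∈ fixOf (α := G ⧸ H) R₂ := fun g hg => hP'.right g (mem_inf.1 hg).1
    have honly : ∀ y ∈ fixOf (α := G ⧸ H) R₂, y = a ∨ y = b := by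
      intro y hy
      by_contra h
      push Not at h
      exact not_hasThree_of_gt hH hyp h3 hmax hax hP hR₂p hR₂gt hR₂a
        ⟨a, hR₂a, b, hR₂b, y, hy, Ne.symm hba, Ne.symm h.1, Ne.symm h.2⟩
    have hcl1 : ∀ g ∈ R₂, ∀ y ∈ orb a, g • y ∈ orb a := by
      rintro g hg _ ⟨o, ho, rfl⟩
      refine ⟨g * o * g⁻¹, hOinv g (mem_inf.1 hg).2 o ho, ?_⟩
      rw [mul_smul, inv_smul_eq_iff.2 (hR₂a g hg).symm, mul_smul]
    have hcl2 : ∀ g ∈ R₂, ∀ y ∈ orb (t • a), g • y ∈ orb (t • a) := by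
      rintro g hg _ ⟨o, ho, rfl⟩
      have hgN : g ∈ N := (mem_inf.1 hg).2
      refine ⟨g * o * g⁻¹ * (g * t * g⁻¹ * t), mul_mem (hOinv g hgN o ho)
        (hprod _ t (by rw [orderOf_conj', ht]) (mul_mem (mul_mem hgN htP) (inv_mem hgN)) ht htP), ?_⟩
      rw [← mul_smul, show g * o * g⁻¹ * (g * t * g⁻¹ * t) * t = g * o * t * g⁻¹ * (t * t) by group,
        sq_of_order_two ht, mul_one, mul_smul, inv_smul_eq_iff.2 (hR₂a g hg).symm, mul_smul, mul_smul]
    have hsize : Nat.card (orb a) = Nat.card (orb (t • a)) := by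
      refine Nat.card_congr ⟨fun y => ⟨t • y.1, ?_⟩, fun y => ⟨t • y.1, ?_⟩,
        fun y => Subtype.ext (smul_swap ht rfl), fun y => Subtype.ext (smul_swap ht rfl)⟩
      · obtain ⟨o, ho, e⟩ := y.2
        exact ⟨t * o * t⁻¹, hOinv t htP o ho, by rw [← e, ← mul_smul, inv_mul_cancel_right, mul_smul]⟩
      · obtain ⟨o, ho, e⟩ := y.2
        refine ⟨t * o * t⁻¹, hOinv t htP o ho, ?_⟩
        rw [← e, inv_of_order_two ht, mul_smul, mul_smul]
    have h1 := card_modEq_fixed hR₂p (orb a) hcl1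
    have h2 := card_modEq_fixed hR₂p (orb (t • a)) hcl2
    by_contra hb2
    have e2 : Nat.card {y : G ⧸ H // y ∈ orb (t • a) ∧ ∀ g ∈ R₂, g • y = y} = 0 := by
      refine Finite.card_eq_zero_iff.2 ⟨fun p => ?_⟩
      rcases honly _ p.2.2 with e | e
      · have h := p.2.1
        rw [e] at h
        exact hdisj a (horb_self a) h
      · have h := p.2.1
        rw [e] at h
        exact hb2 h
    have e1 : Nat.card {y : G ⧸ H // y ∈ orb a ∧ ∀ g ∈ R₂, g • y = y} ≠ 0 := by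
      haveI : Nonempty {y : G ⧸ H // y ∈ orb a ∧ ∀ g ∈ R₂, g • y = y} :=
        ⟨⟨a, horb_self a, hR₂a⟩⟩
      exact Nat.card_pos.ne'
    have e1' : Nat.card {y : G ⧸ H // y ∈ orb a ∧ ∀ g ∈ R₂, g • y = y} ≤ 2 := by
      refine le_trans (Nat.card_le_card_of_injective
        (fun p => (if p.1 = a then (0 : Fin 2) else 1)) ?_) (le_of_eq (Nat.card_fin 2))
      intro p q h
      refine Subtype.ext ?_
      rcases honly _ p.2.2 with ep | ep <;> rcases honly _ q.2.2 with eq | eq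
      · rw [ep, eq]
      · simp [ep, eq, hba] at h
      · simp [ep, eq, hba] at h
      · rw [ep, eq]
    rw [hsize] at h1
    have h3' := h1.symm.trans h2
    rw [e2] at h3'
    have hdvd := Nat.modEq_zero_iff_dvd.1 h3'
    have := Nat.le_of_dvd (Nat.pos_of_ne_zero e1) hdvd
    have := two_le_prime (r := r)
    omega
  have hOa : ∀ o ∈ O, o • a = a := by
    intro o ho
    by_contra h
    exact hdisj (o • a) ⟨o, ho, rfl⟩ (hall _ (fixOf_smul (hON ho) hP.left) h)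
  have hone : ∀ b ∈ fixOf (α := G ⧸ H) P, b ≠ a → b = t • a := by
    intro b hb hba
    obtain ⟨o, ho, e⟩ := hall b hb hba
    have h := hOa _ (hOinv t htP o ho)
    rw [inv_of_order_two ht, mul_smul, mul_smul, e] at h
    exact (smul_swap ht h).symm
  obtain ⟨p, hp, q, hq, s, hs, hpq, hps, hqs⟩ := h3
  by_cases h1 : p = a
  · exact hqs ((hone q hq (fun e => hpq (h1.trans e.symm))).trans
      (hone s hs (fun e => hps (h1.trans e.symm))).symm)
  by_cases h2 : q = a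
  · exact hps ((hone p hp h1).trans (hone s hs (fun e => hqs (h2.trans e.symm))).symm)
  exact hpq ((hone p hp h1).trans (hone q hq h2).symm)

/-- exactly two fixed points make `G` doubly transitive -/
theorem twoTransitive_of_exactlyTwo [Fact r.Prime] (h : ExactlyTwo H r) : TwoTransitive H := by
  intro a b b' hb hb'
  set A := stabilizer G a with hA
  have key : ∀ z : G ⧸ H, z ≠ a → ∃ S : Sylow r A,
      fixOf (α := G ⧸ H) ((S : Subgroup A).map A.subtype) = {a, z} := by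
    intro z hz
    obtain ⟨P, hPp, hP, -⟩ := exists_pairSylow_ge (r := r) (Q := (⊥ : Subgroup G))
      (IsPGroup.of_bot) (x := a) (z := z) bot_le
    have hfix := h a z P (Ne.symm hz) hPp hP.1 hP.2
    have hPA : P ≤ A := hP.1.trans inf_le_left
    obtain ⟨S, hS⟩ := (hPp.of_equiv (subgroupOfEquivOfLe hPA).symm).exists_le_sylow
    refine ⟨S, ?_⟩
    set T := (S : Subgroup A).map A.subtype with hT
    have hPT : P ≤ T := by
      have h := Subgroup.map_mono (f := A.subtype) hS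
      rwa [map_subgroupOf_eq_of_le hPA] at h
    suffices he : P = T by rw [← he, hfix]
    by_contra hne
    have hlt := lt_inf_normalizer (r := r) (S.2.map _) (lt_of_le_of_ne hPT hne)
    set R := T ⊓ normalizer (P : Set G)
    have hRz : R ≤ stabilizer G a ⊓ stabilizer G z := by
      intro g hg
      have hga : g • a = a := mem_stabilizer_iff.1 (map_subtype_le _ (mem_inf.1 hg).1)
      refine mem_inf.2 ⟨hga, ?_⟩
      have h1 : g • z ∈ fixOf (α := G ⧸ H) P := fixOf_smul (mem_inf.1 hg).2 hP.right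
      rw [hfix] at h1
      rcases h1 with h1 | h1
      · exact absurd (smul_left_cancel g (h1.trans hga.symm)) hz
      · exact Set.mem_singleton_iff.1 h1
    obtain ⟨k, hk⟩ := IsPGroup.iff_card.1 ((S.2.map A.subtype).to_le (inf_le_left : R ≤ T))
    refine absurd (Subgroup.eq_of_le_of_card_ge hlt.le ?_) hlt.ne
    rw [hP.2, hk]
    exact Nat.pow_le_pow_right (Fact.out : r.Prime).pos
      (((Fact.out : r.Prime).pow_dvd_iff_le_factorization Nat.card_pos.ne').1 (hk ▸ card_dvd_of_le hRz))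
  obtain ⟨S, hS⟩ := key b hb
  obtain ⟨S', hS'⟩ := key b' hb'
  obtain ⟨g, hg⟩ := MulAction.exists_smul_eq A S S'
  refine ⟨g, g.2, ?_⟩
  have h1 : (g : G) • b ∈ fixOf (α := G ⧸ H) ((S' : Subgroup A).map A.subtype) := by
    intro q hq
    rw [← hg, Cfsg.Lib.Coprime.map_subtype_smul, Cfsg.Lib.Coprime.mem_conjMap] at hq
    have hbS : b ∈ fixOf (α := G ⧸ H) ((S : Subgroup A).map A.subtype) := by rw [hS]; exact Or.inr rfl
    have h := hbS _ hq
    rwa [mul_smul, mul_smul, inv_smul_eq_iff] at h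
  rw [hS'] at h1
  rcases h1 with h1 | h1
  · exact absurd (smul_left_cancel (g : G) (h1.trans (mem_stabilizer_iff.1 g.2).symm)) hb
  · exact Set.mem_singleton_iff.1 h1

/-- HYP holds for a prime dividing `m` without bad elements -/
theorem fixHyp_of_noBad (hH : Cfsg.IsStronglyEmbedded H) [Fact r.Prime] (hm : r ∣ invCount H)
    (hbad : ¬ IsBadPrime H r) : FixHyp H r := by
  intro x z P Q hxz hP hPc _ hQ hPQ hxQ h2 v hv hvx hvQ
  obtain ⟨u, hu, w, -, hux, -, -⟩ := h2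
  have hQodd : Odd (Nat.card Q) := (odd_stabilizer_inf hH (Ne.symm hux)).of_dvd_nat
    (card_dvd_of_le (le_pair_of_fixed hxQ hu))
  -- `v` centralises `Q`
  have hQC : Q ≤ centralizer ({v} : Set G) := by
    refine le_of_inverted hQodd (sq_of_order_two hv) hvQ
      (fun g _ hg => mem_centralizer_singleton_iff.2 hg) fun g hg hinv => ?_
    by_cases hg1 : g = 1
    · rw [hg1]; exact one_mem _
    obtain ⟨k, hk⟩ := IsPGroup.iff_card.1 hQ
    exact absurd ⟨v, g, x, u, ⟨hv, hvx, hux, hxQ g hg, hu g hg, hg1, hinv⟩,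
      hQ.to_le (zpowers_le.2 hg)⟩ hbad
  set D := stabilizer G x ⊓ stabilizer G z with hD
  have h1 := card_centralizer_fixing hH hxz hv hvx
  rw [← hD] at h1
  have h2 : r ^ (Nat.card D).factorization r ∣ Nat.card ↥(D ⊓ centralizer ({v} : Set G)) := by
    rw [← hPc]
    exact card_dvd_of_le (le_inf hP (hPQ.trans hQC))
  rw [(Fact.out : r.Prime).pow_dvd_iff_le_factorization Nat.card_pos.ne', ← h1,
    Nat.factorization_mul Nat.card_pos.ne' (invCount_pos hH).ne', Finsupp.add_apply] at h2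
  have h3 := (Fact.out : r.Prime).factorization_pos_of_dvd (invCount_pos hH).ne' hm
  omega

/-- two distinct cosets exist -/
theorem exists_ne_coset (hH : Cfsg.IsStronglyEmbedded H) : ∃ a b : G ⧸ H, a ≠ b := by
  obtain ⟨g, hg⟩ : ∃ g : G, g ∉ H := by
    by_contra h
    push Not at h
    exact hH.1 ((Subgroup.eq_top_iff' H).2 h)
  refine ⟨QuotientGroup.mk 1, QuotientGroup.mk g, fun h => hg ?_⟩
  simpa using QuotientGroup.eq.1 h

/-- `m` is odd -/
theorem odd_invCount (hH : Cfsg.IsStronglyEmbedded H) : Odd (invCount H) := by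
  obtain ⟨a, b, hab⟩ := exists_ne_coset hH
  obtain ⟨v, hv, hva⟩ := exists_swapper hH hab
  exact (odd_stabilizer_inf hH hab).of_dvd_nat
    ⟨_, ((card_centralizer_swapper hH hab hv hva).symm.trans (mul_comm _ _))⟩

/-- `m` has an odd prime divisor in rank at least two -/
theorem exists_prime_dvd_invCount (hH : Cfsg.IsStronglyEmbedded H) (h2 : HasCommutingInvolutions G) :
    ∃ r : ℕ, r.Prime ∧ r ≠ 2 ∧ r ∣ invCount H := by
  obtain ⟨a, -⟩ := exists_ne_coset hH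
  obtain ⟨p, q, hp, hq, hne, -, hpa, hqa⟩ := exists_commuting_fixing hH h2 a
  have h1 : 1 < invCount H := by
    rw [invCount, ← Cfsg.Lib.StrongEmb.card_fixing hH a]
    exact Finite.one_lt_card_iff_nontrivial.2
      ⟨⟨⟨p, hp, hpa⟩, ⟨q, hq, hqa⟩, fun h => hne (congrArg Subtype.val h)⟩⟩
  obtain ⟨r, hr, hrd⟩ := Nat.exists_prime_and_dvd h1.ne'
  refine ⟨r, hr, fun h => ?_, hrd⟩
  subst h
  exact (odd_invCount hH).not_two_dvd_nat hrd

/-- COROLLARY: no bad element gives exactly two fixed points for every prime divisor of `m`, and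
double transitivity -/
theorem exactlyTwo_of_noBad (hH : Cfsg.IsStronglyEmbedded H) (hb : NoBad H) {r : ℕ} [Fact r.Prime]
    (hr : r ∣ invCount H) : ExactlyTwo H r := by
  refine exactlyTwo_of_fixHyp hH (fun h => ?_)
    (fixHyp_of_noBad hH hr fun ⟨t, y, c, a, h, _⟩ => hb t y c a h)
  subst h
  exact (odd_invCount hH).not_two_dvd_nat hr

theorem twoTransitive_of_noBad (hH : Cfsg.IsStronglyEmbedded H) (h2 : HasCommutingInvolutions G)
    (hb : NoBad H) : TwoTransitive H := by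
  obtain ⟨r, hr, -, hrd⟩ := exists_prime_dvd_invCount hH h2
  haveI := Fact.mk hr
  exact twoTransitive_of_exactlyTwo (exactlyTwo_of_noBad hH hb hrd)

end Cfsg.Lib.BenderSE
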