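/-
COMM, first facts (notes/bender_secA_lead.md): C1, C2 and involutions centralising fixed-point rich
`r`-groups. Setting: no bad element, `CentreSquares`.
-/
import Cfsg.Agent.BenderSE.Good
import Cfsg.Agent.BenderSE.TorusLocal
import Cfsg.Agent.BenderSE.Block
import Cfsg.Agent.Quadratic.BaerSuzuki

set_option autoImplicit false
set_option linter.unusedSectionVars false

namespace Cfsg.Lib.BenderSE

open Subgroup MulAction Cfsg.Lib.InvolCalc

universe u

variable {G : Type u} [Group G] [Finite G] {H : Subgroup G} {r : ℕ}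

/-- involutions with a common centre commute -/
def CommAt (H : Subgroup G) : Prop :=
  ∀ (c : G ⧸ H) (i j : G), orderOf i = 2 → orderOf j = 2 → i • c = c → j • c = c → Commute i j

/-- without bad elements an involution at `c` centralises the odd groups it normalises fixing `c`
and another point -/
theorem centralizes_of_noBad (hH : Cfsg.IsStronglyEmbedded H) (hb : NoBad H) {v : G} {c a : G ⧸ H}
    (hv : orderOf v = 2) (hvc : v • c = c) (hac : a ≠ c) {X : Subgroup G}
    (hvX : v ∈ normalizer (X : Set G)) (hc : c ∈ fixOf (α := G ⧸ H) X)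
    (ha : a ∈ fixOf (α := G ⧸ H) X) : X ≤ centralizer ({v} : Set G) := by
  have hX : Odd (Nat.card X) :=
    (odd_stabilizer_inf hH hac.symm).of_dvd_nat (card_dvd_of_le (le_pair_of_fixed hc ha))
  refine le_of_inverted hX (sq_of_order_two hv) hvX
    (fun g _ hg => mem_centralizer_singleton_iff.2 hg) fun g hg hinv => ?_
  by_cases hg1 : g = 1
  · rw [hg1]; exact one_mem _
  exact absurd ⟨hv, hvc, hac, hc g hg, ha g hg, hg1, hinv⟩ (hb v g c a)

/-- a conjugate of a centralised subgroup is centralised by the conjugate involution -/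
theorem conj_centralizes {R : Subgroup G} {v g : G}
    (h : ∀ x ∈ R, Commute x v) : ∀ x ∈ R.map (MulAut.conj g).toMonoidHom, Commute x (g * v * g⁻¹) := by
  rintro _ ⟨x, hx, rfl⟩
  exact (h x hx).map (MulAut.conj g).toMonoidHom

/-- for a prime not dividing `m` an `r`-group fixing two points is centralised by an involution
centred at either -/
theorem exists_centralizing_of_not_dvd (hH : Cfsg.IsStronglyEmbedded H) [Fact r.Prime]
    {R : Subgroup G} (hR : IsPGroup r R) {x y : G ⧸ H} (hxR : x ∈ fixOf (α := G ⧸ H) R)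
    (hyR : y ∈ fixOf (α := G ⧸ H) R) (hyx : y ≠ x) (hm : ¬ r ∣ invCount H) :
    ∃ v : G, orderOf v = 2 ∧ v • x = x ∧ ∀ g ∈ R, Commute g v := by
  classical
  obtain ⟨P, hPp, hP, hRP⟩ := exists_pairSylow_ge hR (le_pair_of_fixed hxR hyR)
  obtain ⟨w, hw, hwx⟩ := exists_fixing hH x
  set D := stabilizer G x ⊓ stabilizer G y with hD
  set C := D ⊓ centralizer ({w} : Set G) with hC
  have hcard := card_centralizer_fixing hH (Ne.symm hyx) hw hwx
  rw [← hD, ← hC] at hcard
  have hfac : (Nat.card C).factorization r = (Nat.card D).factorization r := by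
    rw [← hcard, Nat.factorization_mul Nat.card_pos.ne' (invCount_pos hH).ne', Finsupp.add_apply,
      Nat.factorization_eq_zero_of_not_dvd hm, add_zero]
  obtain ⟨S⟩ : Nonempty (Sylow r C) := inferInstance
  set U := (S : Subgroup C).map C.subtype with hU
  have hUD : U ≤ D := (map_subtype_le _).trans inf_le_left
  let P' : Sylow r D := Sylow.ofCard (P.subgroupOf D)
    (by rw [Nat.card_congr (subgroupOfEquivOfLe hP.1).toEquiv, hP.2])
  let U' : Sylow r D := Sylow.ofCard (U.subgroupOf D)
    (by rw [Nat.card_congr (subgroupOfEquivOfLe hUD).toEquiv, hU, card_map_of_injective C.subtype_injective,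
      Sylow.card_eq_multiplicity, hfac])
  obtain ⟨d, hd⟩ := MulAction.exists_smul_eq D U' P'
  have hd' : Cfsg.Lib.Coprime.conjMap (d : G) U = P := by
    have h := congrArg (fun T : Sylow r D => (T : Subgroup D).map D.subtype) hd
    simp only [Cfsg.Lib.Coprime.map_subtype_smul] at h
    rwa [show (U' : Subgroup D).map D.subtype = U from map_subgroupOf_eq_of_le hUD,
      show (P' : Subgroup D).map D.subtype = P from map_subgroupOf_eq_of_le hP.1] at h
  refine ⟨(d : G) * w * (d : G)⁻¹, by rw [orderOf_conj', hw], ?_, fun g hg => ?_⟩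
  · have hdx : (d : G) • x = x := (mem_inf.1 d.2).1
    rw [mul_smul, mul_smul, inv_smul_eq_iff.2 hdx.symm, hwx, hdx]
  · exact conj_centralizes (R := U)
      (fun z hz => mem_centralizer_singleton_iff.1 (mem_inf.1 (map_subtype_le _ hz)).2)
      g (hd'.ge (hRP hg))

/-- an `r`-group with three fixed points is centralised by involutions centred at each of them -/
theorem exists_centralizing_at (hH : Cfsg.IsStronglyEmbedded H) (hb : NoBad H) [Fact r.Prime]
    {R : Subgroup G} (hR : IsPGroup r R) {x : G ⧸ H} (hxR : x ∈ fixOf (α := G ⧸ H) R)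
    (h3 : HasThree H R) : ∃ v : G, orderOf v = 2 ∧ v • x = x ∧ ∀ g ∈ R, Commute g v := by
  classical
  obtain ⟨y, hyR, hyx⟩ : ∃ y ∈ fixOf (α := G ⧸ H) R, y ≠ x := by
    obtain ⟨p, hp, q, hq, s, -, hpq, -, -⟩ := h3
    by_cases h1 : p = x
    · exact ⟨q, hq, fun e => hpq (h1.trans e.symm)⟩
    · exact ⟨p, hp, h1⟩
  by_cases hm : r ∣ invCount H
  · let S : ℕ → Prop := fun n => ∃ Q : Subgroup G, IsPGroup r Q ∧ R ≤ Q ∧ x ∈ fixOf (α := G ⧸ H) Q ∧
      HasThree H Q ∧ Nat.card Q = n
    obtain ⟨Q, hQ, hRQ, hxQ, hQ3, hQn⟩ := Nat.findGreatest_spec (n := Nat.card G)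
      (Subgroup.card_le_card_group _) (show S _ from ⟨R, hR, le_rfl, hxR, h3, rfl⟩)
    have hQmax : ∀ T : Subgroup G, IsPGroup r T → Q < T → x ∈ fixOf (α := G ⧸ H) T → ¬ HasThree H T := by
      intro T hT hQT hxT hT3
      have h1 : Nat.card T ≤ Nat.card Q := hQn ▸ Nat.le_findGreatest (Subgroup.card_le_card_group _)
        (show S _ from ⟨T, hT, hRQ.trans hQT.le, hxT, hT3, rfl⟩)
      exact hQT.ne (Subgroup.eq_of_le_of_card_ge hQT.le h1)
    obtain ⟨v, hv, hvx, hvQ⟩ := exists_involution_at hH hQ hxQ hQ3 hQmax fun u w P' _ _ huw hP' _ e => by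
      have hfix := exactlyTwo_of_noBad hH hb hm u w P' huw hP'.isPGroup hP'.1 hP'.2
      obtain ⟨p, hp, q, hq, s, hs, hpq, hps, hqs⟩ := e ▸ hQ3
      rw [hfix] at hp hq hs
      simp only [Set.mem_insert_iff, Set.mem_singleton_iff] at hp hq hs
      rcases hp with rfl | rfl <;> rcases hq with rfl | rfl <;> rcases hs with rfl | rfl <;>
        first
          | exact hpq rfl
          | exact hps rfl
          | exact hqs rfl
    obtain ⟨a, ha, hax⟩ : ∃ a ∈ fixOf (α := G ⧸ H) Q, a ≠ x := by
      obtain ⟨p, hp, q, hq, s, -, hpq, -, -⟩ := hQ3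
      by_cases h1 : p = x
      · exact ⟨q, hq, fun e => hpq (h1.trans e.symm)⟩
      · exact ⟨p, hp, h1⟩
    exact ⟨v, hv, hvx, fun g hg => mem_centralizer_singleton_iff.1
      (centralizes_of_noBad hH hb hv hvx hax hvQ hxQ ha (hRQ hg))⟩
  exact exists_centralizing_of_not_dvd hH hR hxR hyR hyx hm

/-- an element of prime power order fixing `c`, `a` and commuting with an involution at `c`
commutes with one at `a` -/
theorem exists_centralizing_other (hH : Cfsg.IsStronglyEmbedded H) (hb : NoBad H) [Fact r.Prime]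
    {R : Subgroup G} (hR : IsPGroup r R) {c a : G ⧸ H} (hac : a ≠ c)
    (hc : c ∈ fixOf (α := G ⧸ H) R) (ha : a ∈ fixOf (α := G ⧸ H) R) {v : G} (hv : orderOf v = 2)
    (hvc : v • c = c) (hcomm : ∀ g ∈ R, Commute g v) :
    HasThree H R ∧ ∃ w : G, orderOf w = 2 ∧ w • a = a ∧ ∀ g ∈ R, Commute g w := by
  have hva : v • a ∈ fixOf (α := G ⧸ H) R := fun g hg => by
    rw [smul_smul, (hcomm g hg).eq, mul_smul, ha g hg]
  have h3 : HasThree H R := ⟨c, hc, a, ha, v • a, hva, Ne.symm hac,
    fun e => hac (by rw [← smul_swap hv e.symm, hvc]),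
    fun e => hac (Cfsg.Lib.StrongEmb.eq_of_fixed hH hv e.symm hvc)⟩
  exact ⟨h3, exists_centralizing_at hH hb hR ha h3⟩

/-- C2: two involutions at `c` centralising a nontrivial element fixing `c` and another point
commute -/
theorem commute_of_centralized (hH : Cfsg.IsStronglyEmbedded H) (hcore : H.normalCore = ⊥) (hb : NoBad H)
    (hcs : CentreSquares H) {c a : G ⧸ H} (hac : a ≠ c) {x : G} (hx1 : x ≠ 1) (hxc : x • c = c)
    (hxa : x • a = a) {i j : G} (hi : orderOf i = 2) (hj : orderOf j = 2) (hic : i • c = c)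
    (hjc : j • c = c) (hxi : Commute x i) (hxj : Commute x j) : Commute i j := by
  -- reduce to prime order
  obtain ⟨r, hr, hrx⟩ := Nat.exists_prime_and_dvd (fun h => hx1 (orderOf_eq_one_iff.1 h))
  haveI := Fact.mk hr
  set y := x ^ (orderOf x / r) with hy
  have hyo : orderOf y = r := orderOf_pow_orderOf_div (orderOf_pos x).ne' hrx
  have hyi : Commute y i := hxi.pow_left _
  have hyj : Commute y j := hxj.pow_left _
  have hypow : ∀ g ∈ zpowers y, g • c = c ∧ g • a = a ∧ Commute g i := by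
    rintro _ ⟨k, rfl⟩
    refine ⟨?_, ?_, hyi.zpow_left k⟩
    · exact mem_stabilizer_iff.1 (zpow_mem (pow_mem (mem_stabilizer_iff.2 hxc) _) k)
    · exact mem_stabilizer_iff.1 (zpow_mem (pow_mem (mem_stabilizer_iff.2 hxa) _) k)
  have hyp : IsPGroup r (zpowers y) := IsPGroup.of_card (n := 1) (by rw [Nat.card_zpowers, hyo, pow_one])
  obtain ⟨-, w, hw, hwa, hwy⟩ := exists_centralizing_other hH hb hyp hac
    (fun g hg => (hypow g hg).1) (fun g hg => (hypow g hg).2.1) hi hic (fun g hg => (hypow g hg).2.2)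
  set N := centralizer ({y} : Set G) with hN
  have hiN : i ∈ N := mem_centralizer_singleton_iff.2 hyi.symm.eq
  have hjN : j ∈ N := mem_centralizer_singleton_iff.2 hyj.symm.eq
  have hwN : w ∈ N := mem_centralizer_singleton_iff.2 (hwy y (mem_zpowers y)).symm.eq
  by_contra hij
  have hz : ∀ z : G, i * z * i⁻¹ = z⁻¹ → z • c = c → z • a = a → z = 1 := fun z h1 h2 h3 => by
    by_contra hz1
    exact hb i z c a ⟨hi, hic, hac, h2, h3, hz1, h1⟩
  have hinv : i * (i * j) * i⁻¹ = (i * j)⁻¹ := flip_mul hi hj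
  have hijc : (i * j) • c = c := by rw [mul_smul, hjc, hic]
  have hne1 : i * j * (i * j) ≠ 1 := by
    intro h
    refine hij ?_
    have h1 := eq_inv_of_mul_eq_one_left h
    rw [mul_inv_rev, inv_of_order_two hi, inv_of_order_two hj] at h1
    exact h1
  by_cases hpair : ∃ u ∈ N, ∃ u' ∈ N, orderOf u = 2 ∧ orderOf u' = 2 ∧ u ≠ u' ∧ Commute u u'
  · have hNtop : N ≠ ⊤ := by
      intro htop
      refine proper_normalizer (Y := zpowers y) hcore ?_ (fun g hg => (hypow g hg).2.1) ?_
      · rw [Ne, zpowers_eq_bot]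
        intro h1
        rw [h1, orderOf_one] at hyo
        exact hr.ne_one hyo.symm
      · rw [eq_top_iff, ← htop]
        intro g hg
        have hg' : Commute g y := mem_centralizer_singleton_iff.1 hg
        refine mem_normalizer_iff.2 fun q => ⟨?_, ?_⟩
        · rintro ⟨k, rfl⟩
          show g * y ^ k * g⁻¹ ∈ zpowers y
          rw [(hg'.zpow_right k).eq, mul_inv_cancel_right]
          exact ⟨k, rfl⟩
        · rintro ⟨k, hk⟩
          refine ⟨k, ?_⟩
          show y ^ k = q
          have h := congrArg (fun v => g⁻¹ * v * g) (show y ^ k = g * q * g⁻¹ from hk)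
          simp only [mul_assoc, inv_mul_cancel_left, inv_mul_cancel, mul_one] at h
          rw [← h, ← (hg'.zpow_right k).eq, inv_mul_cancel_left]
    have hmove : ¬ N ≤ stabilizer G c := fun h =>
      hac (Cfsg.Lib.StrongEmb.eq_of_fixed hH hw hwa (mem_stabilizer_iff.1 (h hwN)))
    obtain ⟨d, hdN, -, hda, -⟩ := exists_swapper_centres hH hi hiN hic hw hwN hwa (Ne.symm hac)
    have hF := hcs N hNtop hpair c i j hiN hjN hi hj hic hjc hmove
    refine hne1 (hz _ ?_ (mem_stabilizer_iff.1 (orbitFix_le_stabilizer hF))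
      (mem_stabilizer_iff.1 (orbitFix_le_point hdN hda hF)))
    rw [show i * (i * j * (i * j)) * i⁻¹ = (i * (i * j) * i⁻¹) * (i * (i * j) * i⁻¹) by group, hinv]
    group
  push Not at hpair
  have hO : i * j ∈ oddCoreOf N := mul_mem_oddCore_of_unique
    (fun {p q} hp hpN hq hqN hpq => by_contra fun hne => hpair p hpN q hqN hp hq hne hpq)
    hi hiN hj hjN
  have hij1 : i * j ≠ 1 := fun h => hne1 (by rw [h, one_mul])
  by_cases hOc : oddCoreOf N ≤ stabilizer G c
  · refine hij1 (hz _ hinv hijc ?_)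
    by_contra hne
    exact moves_centre hH (le_normalizer_oddCoreOf N) hi hiN hic hw hwN hwa
      (fun h => hne (mem_stabilizer_iff.1 (h hO))) hOc
  obtain ⟨b, -⟩ := exists_centreBlock_centre hH (oddCoreOf_le N) (le_normalizer_oddCoreOf N)
    (odd_card_oddCoreOf N) hi hiN hic hOc
  obtain ⟨m, hm, hmc⟩ := SetLike.not_le_iff_exists.1 b.moves
  refine hij1 ?_
  by_contra hne
  exact hb i (i * j) c (m • c) ⟨hi, hic, hmc, hijc, b.fixed _ (mul_mem hiN hjN) hijc
    ((odd_card_oddCoreOf N).of_dvd_nat (Subgroup.orderOf_dvd_natCard _ hO)) hinv m hm, hne, hinv⟩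

/-- a nontrivial normal 2-subgroup of a point stabiliser makes involutions at the point commute -/
theorem commute_of_two_core (hH : Cfsg.IsStronglyEmbedded H) {c : G ⧸ H} {N : Subgroup G}
    (hNc : N ≤ stabilizer G c) (hcN : stabilizer G c ≤ normalizer (N : Set G)) (hN : IsPGroup 2 N)
    (hne : N ≠ ⊥) {i j : G} (hi : orderOf i = 2) (hj : orderOf j = 2) (hic : i • c = c)
    (hjc : j • c = c) : Commute i j := by
  haveI : Fact (Nat.Prime 2) := ⟨Nat.prime_two⟩
  haveI : Nontrivial N := (nontrivial_iff_ne_bot N).2 hne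
  haveI := hN.center_nontrivial
  obtain ⟨k, hk, hkc⟩ := (hN.to_subgroup (center N)).nontrivial_iff_card.mp inferInstance
  obtain ⟨⟨⟨z, hzN⟩, hzc⟩, hzo⟩ := exists_prime_orderOf_dvd_card' (G := center N) 2
    (hkc ▸ dvd_pow_self 2 (by omega))
  rw [Subgroup.orderOf_mk, Subgroup.orderOf_mk] at hzo
  have hzcomm : ∀ n ∈ N, Commute z n := fun n hn =>
    (congrArg Subtype.val (mem_center_iff.1 hzc ⟨n, hn⟩) :).symm
  -- every involution at `c` is central in `N`
  have key : ∀ s : G, orderOf s = 2 → s • c = c → s ∈ N ∧ ∀ n ∈ N, Commute s n := by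
    intro s hs hsc
    obtain ⟨g, hg⟩ : ∃ g : G, g • c ≠ c := by
      by_contra h
      push Not at h
      exact hH.1 ((Subgroup.eq_top_iff' H).2 fun g => by
        obtain ⟨g₀, rfl⟩ := QuotientGroup.mk_surjective c
        have h1 := h (g₀ * g * g₀⁻¹)
        rw [MulAction.Quotient.smul_mk, smul_eq_mul, QuotientGroup.eq] at h1
        simpa [mul_assoc] using h1)
    obtain ⟨d, hd, hds⟩ := exists_conj_centre hH (Ne.symm hg) hzo (mem_stabilizer_iff.1 (hNc hzN)) hs hsc
    have hdc : d ∈ stabilizer G c := (mem_inf.1 hd).1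
    rw [← hds]
    refine ⟨(mem_normalizer_iff.1 (hcN hdc) z).1 hzN, fun n hn => ?_⟩
    have h := (hzcomm _ ((mem_normalizer_iff''.1 (hcN hdc) n).1 hn)).map (MulAut.conj d).toMonoidHom
    simpa [MulAut.conj_apply, mul_assoc] using h
  exact (key i hi hic).2 j (key j hj hjc).1

/-- C1: if no odd element at `c` is inverted by an involution at `c`, these involutions commute -/
theorem commute_of_no_inverted (hH : Cfsg.IsStronglyEmbedded H) {c : G ⧸ H}
    (hreal : ∀ v y : G, orderOf v = 2 → v • c = c → y • c = c → Odd (orderOf y) →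
      v * y * v⁻¹ = y⁻¹ → y = 1)
    {i j : G} (hi : orderOf i = 2) (hj : orderOf j = 2) (hic : i • c = c) (hjc : j • c = c) :
    Commute i j := by
  haveI : Fact (Nat.Prime 2) := ⟨Nat.prime_two⟩
  set S := stabilizer G c with hS
  set i' : S := ⟨i, mem_stabilizer_iff.2 hic⟩ with hi'
  have hi2 : orderOf i' = 2 := by rw [hi', Subgroup.orderOf_mk, hi]
  obtain ⟨N, hNn, hNp, hiN⟩ := Cfsg.Lib.BaerSuzuki.baer_suzuki (p := 2) (zpowers i') fun g => by
    set k := g * i' * g⁻¹ with hk
    have hk2 : orderOf k = 2 := by rw [hk, orderOf_conj', hi2]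
    have hle : zpowers i' ⊔ (zpowers i').map (MulAut.conj g).toMonoidHom ≤ closure ({i', k} : Set S) := by
      refine sup_le (zpowers_le.2 (subset_closure (by simp))) ?_
      rw [MonoidHom.map_zpowers, zpowers_le]
      exact subset_closure (by simp [hk])
    refine IsPGroup.to_le ?_ hle
    by_cases hik : i' = k
    · rw [← hik, Set.pair_eq_singleton, ← zpowers_eq_closure]
      exact IsPGroup.of_card (n := 1) (by rw [Nat.card_zpowers, hi2, pow_one])
    obtain ⟨e⟩ := exists_dihedral_equiv hi2 hk2 hik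
    obtain ⟨n, m, hm, hnm⟩ := Nat.exists_eq_pow_mul_and_not_dvd (orderOf_pos (i' * k)).ne' 2
      (by norm_num)
    have hm1 : m = 1 := by
      set z := (i' * k) ^ 2 ^ n with hz
      have hzo : orderOf z = m := by
        rw [hz, orderOf_pow' _ (pow_ne_zero n two_ne_zero), hnm, Nat.gcd_mul_right_left,
          Nat.mul_div_cancel_left _ (by positivity)]
      have hzinv : i' * z * i'⁻¹ = z⁻¹ := by rw [hz, ← conj_pow, flip_mul hi2 hk2, inv_pow]
      have hz1 := hreal i (z : G) hi hic (mem_stabilizer_iff.1 z.2)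
        (by rw [Subgroup.orderOf_coe, hzo]; exact Nat.odd_iff.2 (by omega))
        (congrArg Subtype.val hzinv :)
      rw [show z = 1 from Subtype.ext hz1, orderOf_one] at hzo
      exact hzo.symm
    refine (IsPGroup.of_card (n := n + 1) ?_).of_equiv e.symm
    rw [DihedralGroup.nat_card, hnm, hm1, mul_one, pow_succ, mul_comm]
  refine commute_of_two_core hH (N := N.map S.subtype) (map_subtype_le _) ?_ (hNp.map _) ?_ hi hj hic hjc
  · intro g hg
    refine mem_normalizer_of_maps_to ?_
    rintro _ ⟨q, hq, rfl⟩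
    exact ⟨⟨g, hg⟩ * q * ⟨g, hg⟩⁻¹, hNn.conj_mem q hq _, rfl⟩
  · intro hbot
    have h1 : (i' : G) ∈ N.map S.subtype := mem_map_of_mem _ (hiN (mem_zpowers i'))
    rw [hbot, mem_bot] at h1
    exact ne_one_of_order_two hi h1

end Cfsg.Lib.BenderSE
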