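/-
COMM, the endgame: only one constituent of the permutation character on the involutions at `c` is
nontrivial on the group they generate (notes/bender_A_h1.md, V2).
-/
import Cfsg.Agent.BenderSE.CommBasic
import Cfsg.Agent.Chars.Perm
import Cfsg.Agent.Chars.Construct
import Cfsg.Agent.Chars.IrrTools

set_option autoImplicit false
set_option linter.unusedSectionVars false
set_option linter.style.haveILetI false

namespace Cfsg.Lib.BenderSE

open Subgroup MulAction Cfsg.Lib.InvolCalc
open scoped ComplexConjugate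
open Cfsg.Lib.Chars

universe u v w

section Counting

variable {X : Type u} [Group X] {Ω : Type v} [MulAction X Ω] [Finite Ω]
  {Y : Type w} [MulAction X Y] [Finite Y]

/-- the product of two permutation characters counts the orbits on pairs -/
theorem inner_permChar_pair [Fintype X] :
    Cfsg.classInner (permChar X Ω) (permChar X Y) =
      (Nat.card (MulAction.orbitRel.Quotient X (Ω × Y)) : ℂ) := by
  rw [← classInner_permChar_one, classInner_def, classInner_def]
  refine congrArg _ (Finset.sum_congr rfl fun g _ => ?_)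
  simp only [permChar, map_one, mul_one, Complex.conj_natCast]
  rw [← Nat.cast_mul, ← Nat.card_prod]
  congr 1
  exact Nat.card_congr
    { toFun := fun p => ⟨(p.1.1, p.2.1), Prod.ext p.1.2 p.2.2⟩
      invFun := fun w => (⟨w.1.1, congrArg Prod.fst w.2⟩, ⟨w.1.2, congrArg Prod.snd w.2⟩)
      left_inv := fun _ => rfl
      right_inv := fun _ => rfl }

/-- averaging the fixed points over `M` gives the fixed points on the `M`-orbits -/
theorem card_pairs_fixed (M : Subgroup X) (p : Ω → Y) (hsurj : Function.Surjective p)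
    (heq : ∀ (g : X) (w : Ω), p (g • w) = g • p w)
    (hfib : ∀ w w' : Ω, p w = p w' ↔ ∃ m ∈ M, m • w = w') (g : X) :
    Nat.card {q : M × Ω // g • (q.1 : X) • q.2 = q.2} =
      Nat.card M * Nat.card {y : Y // g • y = y} := by
  classical
  have hMp : ∀ (m : M) (w : Ω), p ((m : X) • w) = p w := fun m w =>
    ((hfib w ((m : X) • w)).2 ⟨m, m.2, rfl⟩).symm
  choose r hr using hsurj
  have hj : ∀ w : Ω, g • p w = p w → ∃ m : M, (m : X) • r (p w) = g⁻¹ • w := fun w hw => by
    have h1 : p (r (p w)) = p (g⁻¹ • w) := by rw [hr, heq, eq_inv_smul_iff, hw]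
    obtain ⟨m, hm, hmw⟩ := (hfib _ _).1 h1
    exact ⟨⟨m, hm⟩, hmw⟩
  let j : Ω → M := fun w => if hw : g • p w = p w then (hj w hw).choose else 1
  have hjs : ∀ w, g • p w = p w → (j w : X) • r (p w) = g⁻¹ • w := fun w hw => by
    simp only [j, dif_pos hw]; exact (hj w hw).choose_spec
  have hpair : ∀ q : {q : M × Ω // g • (q.1 : X) • q.2 = q.2}, g • p q.1.2 = p q.1.2 := fun q => by
    conv_rhs => rw [← q.2, heq, hMp]
  rw [← Nat.card_prod]
  symm
  refine Nat.card_congr
    { toFun := fun ky => ⟨(j ((ky.1 : X) • r ky.2.1) * ky.1⁻¹, (ky.1 : X) • r ky.2.1), ?_⟩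
      invFun := fun q => (q.1.1⁻¹ * j q.1.2, ⟨p q.1.2, hpair q⟩)
      left_inv := ?_
      right_inv := ?_ }
  · obtain ⟨k, y, hy⟩ := ky
    have hp : p ((k : X) • r y) = y := by rw [hMp, hr]
    have h1 := hjs ((k : X) • r y) (by rw [hp, hy])
    rw [hp] at h1
    show g • ((j ((k : X) • r y) * k⁻¹ : M) : X) • (k : X) • r y = (k : X) • r y
    rw [smul_smul ((j ((k : X) • r y) * k⁻¹ : M) : X), Subgroup.coe_mul, Subgroup.coe_inv,
      inv_mul_cancel_right, h1, smul_inv_smul]
  · rintro ⟨k, y, hy⟩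
    refine Prod.ext ?_ (Subtype.ext ?_)
    · show (j ((k : X) • r y) * k⁻¹)⁻¹ * j ((k : X) • r y) = k
      group
    · show p ((k : X) • r y) = y
      rw [hMp, hr]
  · rintro ⟨⟨m, w⟩, hq⟩
    have hw := hjs w (hpair ⟨(m, w), hq⟩)
    have h2 : ((m⁻¹ * j w : M) : X) • r (p w) = w := by
      rw [Subgroup.coe_mul, Subgroup.coe_inv, mul_smul, hw, inv_smul_eq_iff, inv_smul_eq_iff]
      exact hq.symm
    refine Subtype.ext (Prod.ext ?_ h2)
    show j (((m⁻¹ * j w : M) : X) • r (p w)) * (m⁻¹ * j w)⁻¹ = m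
    rw [h2]
    group

/-- a function invariant under `M` sees only the orbits of `M` -/
theorem inner_permChar_of_invariant [Fintype X] (M : Subgroup X) (p : Ω → Y)
    (hsurj : Function.Surjective p) (heq : ∀ (g : X) (w : Ω), p (g • w) = g • p w)
    (hfib : ∀ w w' : Ω, p w = p w' ↔ ∃ m ∈ M, m • w = w') {f : X → ℂ}
    (hf : ∀ g : X, ∀ m ∈ M, f (g * m) = f g) :
    Cfsg.classInner (permChar X Ω) f = Cfsg.classInner (permChar X Y) f := by
  classical
  haveI := Fintype.ofFinite M
  have hM : (Nat.card M : ℂ) ≠ 0 := by exact_mod_cast Nat.card_pos.ne'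
  have hsum : ∀ g : X, ∑ m : M, permChar X Ω (g * m) = (Nat.card M : ℂ) * permChar X Y g := fun g => by
    simp only [permChar]
    rw [← Nat.cast_sum, ← Nat.card_sigma, ← Nat.cast_mul]
    congr 1
    refine Eq.trans ?_ (card_pairs_fixed M p hsurj heq hfib g)
    exact Nat.card_congr
      { toFun := fun q => ⟨(q.1, q.2.1), (mul_smul g ((q.1 : M) : X) q.2.1).symm.trans q.2.2⟩
        invFun := fun q => ⟨q.1.1, q.1.2, (mul_smul g ((q.1.1 : M) : X) q.1.2).trans q.2⟩
        left_inv := fun _ => rfl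
        right_inv := fun _ => rfl }
  rw [classInner_def, classInner_def]
  refine congrArg _ (mul_left_cancel₀ hM ?_)
  symm
  rw [Finset.mul_sum, Finset.sum_congr rfl fun g _ => by
    rw [← mul_assoc, ← hsum g, Finset.sum_mul]]
  rw [Finset.sum_comm]
  have h1 : ∀ m : M, ∑ g : X, permChar X Ω (g * m) * conj (f g) =
      ∑ g : X, permChar X Ω g * conj (f g) := fun m => by
    refine Fintype.sum_equiv (Equiv.mulRight (m : X)) _ _ fun g => ?_
    show _ = permChar X Ω (g * m) * conj (f (g * m))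
    rw [hf g m m.2]
  rw [Finset.sum_congr rfl fun m _ => h1 m, Finset.sum_const, Finset.card_univ, nsmul_eq_mul,
    ← Nat.card_eq_fintype_card]

/-- if all constituents but one simple one are trivial on `M`, the point stabiliser is transitive on
each `M`-orbit, the point omitted -/
theorem exists_smul_of_one_constituent [Fintype X] [IsPretransitive X Ω] (M : Subgroup X)
    (p : Ω → Y) (hsurj : Function.Surjective p) (heq : ∀ (g : X) (w : Ω), p (g • w) = g • p w)
    (hfib : ∀ w w' : Ω, p w = p w' ↔ ∃ m ∈ M, m • w = w') (χ₀ : Cfsg.IrrCharacter X)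
    (h₀ : Cfsg.classInner (permChar X Ω) (χ₀ : X → ℂ) = 1)
    (hker : ∀ χ : Cfsg.IrrCharacter X, χ ≠ χ₀ → Cfsg.classInner (permChar X Ω) (χ : X → ℂ) ≠ 0 →
      ∀ g : X, ∀ m ∈ M, (χ : X → ℂ) (g * m) = (χ : X → ℂ) g)
    {o w w' : Ω} (hw : w ≠ o) (hw' : w' ≠ o) (hww : p w = p w') :
    ∃ x : X, x • o = o ∧ x • w = w' := by
  classical
  let n : Cfsg.IrrCharacter X → ℕ := fun χ =>
    (IsCharacter.exists_mult (isCharacter_permChar (G := X) Ω) χ.2).choose
  have hn : ∀ χ : Cfsg.IrrCharacter X, Cfsg.classInner (permChar X Ω) (χ : X → ℂ) = n χ := fun χ =>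
    (IsCharacter.exists_mult (isCharacter_permChar (G := X) Ω) χ.2).choose_spec
  let k : Cfsg.IrrCharacter X → ℕ := fun χ =>
    (IsCharacter.exists_mult (isCharacter_permChar (G := X) Y) χ.2).choose
  have hk : ∀ χ : Cfsg.IrrCharacter X, Cfsg.classInner (permChar X Y) (χ : X → ℂ) = k χ := fun χ =>
    (IsCharacter.exists_mult (isCharacter_permChar (G := X) Y) χ.2).choose_spec
  have e1 : Nat.card (MulAction.orbitRel.Quotient X (Ω × Ω)) = ∑ χ, n χ * n χ := by
    apply Nat.cast_injective (R := ℂ)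
    rw [← inner_permChar_pair]
    conv_lhs => rw [classFunction_expand (isClassFunction_isChar (isCharacter_permChar (G := X) Ω))]
    rw [classInner_self_decomp, Nat.cast_sum]
    refine Finset.sum_congr rfl fun χ _ => ?_
    simp [hn]
  have e2 : Nat.card (MulAction.orbitRel.Quotient X (Ω × Y)) = ∑ χ, n χ * k χ := by
    apply Nat.cast_injective (R := ℂ)
    rw [← inner_permChar_pair]
    conv_lhs =>
      arg 1
      rw [classFunction_expand (isClassFunction_isChar (isCharacter_permChar (G := X) Ω))]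
    rw [classInner_sum_left, Nat.cast_sum]
    refine Finset.sum_congr rfl fun χ _ => ?_
    rw [classInner_smul_left, hn, ← classInner_conj_symm, hk]
    simp
  have hle : Nat.card (MulAction.orbitRel.Quotient X (Ω × Ω)) ≤
      Nat.card (MulAction.orbitRel.Quotient X (Ω × Y)) + 1 := by
    rw [e1, e2, ← Finset.add_sum_erase _ _ (Finset.mem_univ χ₀),
      ← Finset.add_sum_erase _ (fun χ => n χ * k χ) (Finset.mem_univ χ₀)]
    have hn₀ : n χ₀ = 1 := by exact_mod_cast (hn χ₀).symm.trans h₀
    have e3 : ∀ χ ∈ Finset.univ.erase χ₀, n χ * n χ = n χ * k χ := by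
      intro χ hχ
      by_cases h0 : n χ = 0
      · rw [h0, zero_mul, zero_mul]
      · have h1 : (n χ : ℂ) = k χ := by
          rw [← hn, ← hk]
          exact inner_permChar_of_invariant M p hsurj heq hfib
            (hker χ (Finset.mem_erase.1 hχ).1 (by rw [hn]; exact_mod_cast h0))
        rw [show k χ = n χ by exact_mod_cast h1.symm]
    rw [Finset.sum_congr rfl e3, hn₀]
    omega
  by_cases hfibre : ∀ z, p z = p o → z = o
  · refine ⟨1, one_smul _ _, ?_⟩
    obtain ⟨g, hg⟩ := exists_smul_eq X w o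
    have h1 : g • w' = o := hfibre _ (by rw [heq, ← hww, ← heq, hg])
    rw [one_smul]
    exact smul_left_cancel g (hg.trans h1.symm)
  push Not at hfibre
  obtain ⟨z, hz, hzo⟩ := hfibre
  haveI := Fintype.ofFinite (MulAction.orbitRel.Quotient X (Ω × Ω))
  let d : MulAction.orbitRel.Quotient X (Ω × Ω) := Quotient.mk'' (o, o)
  let q : {e : MulAction.orbitRel.Quotient X (Ω × Ω) // e ≠ d} →
      MulAction.orbitRel.Quotient X (Ω × Y) := fun e =>
    Quotient.map' (fun a : Ω × Ω => ((a.1, p a.2) : Ω × Y)) (fun a b hab => by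
      obtain ⟨g, hg⟩ := MulAction.orbitRel_apply.1 hab
      have hg' : g • b = a := hg
      refine MulAction.orbitRel_apply.2 ⟨g, Prod.ext (congrArg Prod.fst hg' :) ?_⟩
      show g • p b.2 = p a.2
      rw [← heq]
      exact congrArg p (congrArg Prod.snd hg' :)) e.1
  have hne : ∀ z : Ω, z ≠ o → (Quotient.mk'' (o, z) : MulAction.orbitRel.Quotient X (Ω × Ω)) ≠ d := by
    intro z hz e
    obtain ⟨g, hg⟩ := MulAction.orbitRel_apply.1 (Quotient.exact' e)
    exact hz ((congrArg Prod.snd hg).symm.trans (congrArg Prod.fst hg))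
  have hqs : Function.Surjective q := by
    intro e
    induction e using Quotient.inductionOn' with
    | h a =>
      obtain ⟨a1, a2⟩ := a
      obtain ⟨g, hg⟩ := exists_smul_eq X a1 o
      obtain ⟨b, hb⟩ := hsurj (g • a2)
      have hb' : ∃ b, b ≠ o ∧ p b = g • a2 := by
        by_cases hbo : b = o
        · exact ⟨z, hzo, by rw [hz, ← hbo, hb]⟩
        · exact ⟨b, hbo, hb⟩
      obtain ⟨b, hbo, hb⟩ := hb'
      refine ⟨⟨Quotient.mk'' (o, b), hne b hbo⟩, Quotient.sound' (MulAction.orbitRel_apply.2 ⟨g, ?_⟩)⟩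
      exact Prod.ext hg hb.symm
  have hcard : Nat.card {e : MulAction.orbitRel.Quotient X (Ω × Ω) // e ≠ d} ≤
      Nat.card (MulAction.orbitRel.Quotient X (Ω × Y)) := by
    rw [Nat.card_eq_fintype_card, Fintype.card_subtype_compl (fun e => e = d),
      Fintype.card_subtype_eq, ← Nat.card_eq_fintype_card]
    omega
  have hqb : Function.Bijective q := (Nat.bijective_iff_surjective_and_card q).2
    ⟨hqs, le_antisymm hcard (Nat.card_le_card_of_surjective q hqs)⟩
  have h1 : (⟨Quotient.mk'' (o, w), hne w hw⟩ : {e // e ≠ d}) = ⟨Quotient.mk'' (o, w'), hne w' hw'⟩ := by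
    apply hqb.1
    exact Quotient.sound' (MulAction.orbitRel_apply.2 ⟨1, (one_smul X ((o, p w') : Ω × Y)).trans (Prod.ext rfl hww.symm)⟩)
  obtain ⟨x, hx⟩ := MulAction.orbitRel_apply.1 (Quotient.exact' (congrArg Subtype.val h1).symm)
  exact ⟨x, congrArg Prod.fst hx, congrArg Prod.snd hx⟩

end Counting

variable {G : Type u} [Group G] [Finite G] {H : Subgroup G}

/-- the four group step: if the stabiliser of each involution `v` at `c` is transitive on each class
of `M ∋ v`, `v` omitted, then the involutions at `c` commute -/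
theorem commute_of_transitive_classes (hH : Cfsg.IsStronglyEmbedded H) (h2 : HasCommutingInvolutions G)
    {c a : G ⧸ H} (hac : a ≠ c) {M : Subgroup G}
    (hMn : stabilizer G c ≤ normalizer (M : Set G))
    (hI : ∀ i : G, orderOf i = 2 → i • c = c → i ∈ M) (hMc : M ≤ stabilizer G c) {v : G}
    (hv : orderOf v = 2) (hvc : v • c = c)
    (htr : ∀ i j : G, orderOf i = 2 → i • c = c → orderOf j = 2 → j • c = c → i ≠ v → j ≠ v →
      (∃ m ∈ M, m * i * m⁻¹ = j) → ∃ x : G, Commute x v ∧ x * i * x⁻¹ = j)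
    {i j : G} (hi : orderOf i = 2) (hj : orderOf j = 2) (hic : i • c = c) (hjc : j • c = c) :
    Commute i j := by
  have hMconj : ∀ m ∈ M, ∀ x : G, orderOf x = 2 → x • c = c →
      orderOf (m * x * m⁻¹) = 2 ∧ (m * x * m⁻¹) • c = c := by
    intro m hm x hx hxc
    have hmc : m • c = c := mem_stabilizer_iff.1 (hMc hm)
    exact ⟨by rw [orderOf_conj', hx], by
      rw [mul_smul, mul_smul, inv_smul_eq_iff.2 hmc.symm, hxc, hmc]⟩
  -- one commuting conjugate other than `v` gives all of them
  have hall : ∀ u m : G, orderOf u = 2 → u • c = c → u ≠ v → Commute v u → m ∈ M →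
      Commute v (m * u * m⁻¹) := by
    intro u m hu huc huv hvu hm
    obtain ⟨h1, h1'⟩ := hMconj m hm u hu huc
    by_cases he : m * u * m⁻¹ = v
    · rw [he]
    obtain ⟨x, hxv, hxu⟩ := htr u _ hu huc h1 h1' huv he ⟨m, hm, rfl⟩
    have h3 := hvu.map (MulAut.conj x).toMonoidHom
    simp only [MulEquiv.coe_toMonoidHom, MulAut.conj_apply] at h3
    rwa [show x * v * x⁻¹ = v by rw [hxv.eq, mul_inv_cancel_right], hxu] at h3
  have hclass : ∀ m ∈ M, Commute v (m * v * m⁻¹) := by
    by_cases hin : ∃ u, orderOf u = 2 ∧ u • c = c ∧ u ≠ v ∧ Commute v u ∧ ∃ n ∈ M, n * v * n⁻¹ = u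
    · obtain ⟨u, hu, huc, huv, hvu, n, hn, hnu⟩ := hin
      intro m hm
      have h1 := hall u (m * n⁻¹) hu huc huv hvu (mul_mem hm (inv_mem hn))
      rwa [← hnu, show m * n⁻¹ * (n * v * n⁻¹) * (m * n⁻¹)⁻¹ = m * v * m⁻¹ by group] at h1
    -- a partner outside the class
    obtain ⟨p, q, hp, hq, hpq, hc, hpc, hqc⟩ := exists_commuting_fixing hH h2 c
    obtain ⟨d, hd, hdp⟩ := exists_conj_centre hH hac.symm hp hpc hv hvc
    have hdc : d • c = c := mem_stabilizer_iff.1 (mem_inf.1 hd).1
    set u := d * q * d⁻¹ with hu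
    have huo : orderOf u = 2 := by rw [hu, orderOf_conj', hq]
    have huc : u • c = c := by rw [hu, mul_smul, mul_smul, inv_smul_eq_iff.2 hdc.symm, hqc, hdc]
    have huv : u ≠ v := fun e => hpq (by
      rw [← hdp, hu] at e
      exact (mul_left_cancel (mul_right_cancel e)).symm)
    have hvu : Commute v u := by
      rw [← hdp, hu]
      exact (show Commute p q from hc).map (MulAut.conj d).toMonoidHom
    set w := v * u with hw
    have hwne : w ≠ 1 := fun e => huv (by
      rw [hw] at e; rw [eq_inv_of_mul_eq_one_right e, inv_of_order_two hv])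
    have hwo : orderOf w = 2 := order_two_of_mul_self (by
      rw [hw, mul_assoc, ← mul_assoc u, ← hvu.eq, mul_assoc, sq_of_order_two huo, mul_one,
        sq_of_order_two hv]) hwne
    have hwc : w • c = c := by rw [hw, mul_smul, huc, hvc]
    have hwv : w ≠ v := fun e => by
      have h1 : u = 1 := by
        rw [hw] at e
        exact mul_eq_left.1 e
      rw [h1, orderOf_one] at huo
      exact absurd huo (by norm_num)
    have hvw : Commute v w := by rw [hw]; exact (Commute.refl v).mul_right hvu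
    intro m hm
    have h1 : ∀ x, orderOf x = 2 → x • c = c → x ≠ v → Commute v x → Commute (m * v * m⁻¹) x := by
      intro x hx hxc hxv hvx
      have h3 := (hall x m⁻¹ hx hxc hxv hvx (inv_mem hm)).map (MulAut.conj m).toMonoidHom
      simp only [MulEquiv.coe_toMonoidHom, MulAut.conj_apply] at h3
      rwa [show m * (m⁻¹ * x * m⁻¹⁻¹) * m⁻¹ = x by group] at h3
    have h3 := (h1 w hwo hwc hwv hvw).mul_right (h1 u huo huc huv hvu)
    rw [show w * u = v by rw [hw, mul_assoc, sq_of_order_two huo, mul_one]] at h3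
    exact h3.symm
  -- hence no involution at `c` inverts an odd element of `G_c`
  refine commute_of_no_inverted hH (c := c) ?_ hi hj hic hjc
  intro w y hw hwc hyc hyodd hinv
  obtain ⟨d, hd, hdw⟩ := exists_conj_centre hH hac.symm hv hvc hw hwc
  have hdc : d ∈ stabilizer G c := (mem_inf.1 hd).1
  have hy2M : y * y ∈ M := by
    have h1 : y * w * y⁻¹ ∈ M :=
      (mem_normalizer_iff.1 (hMn (mem_stabilizer_iff.2 hyc)) w).1 (hI w hw hwc)
    rw [show y * y = y * w * y⁻¹ * w by
      rw [← hinv, show y * w * (w * y * w⁻¹) * w = y * (w * w) * y by group, sq_of_order_two hw,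
        mul_one]]
    exact mul_mem h1 (hI w hw hwc)
  obtain ⟨k, hk⟩ := hyodd
  have hyM : y ∈ M := by
    have h1 : y = (y * y) ^ (k + 1) := by
      rw [← sq, ← pow_mul, show 2 * (k + 1) = orderOf y + 1 by omega, pow_succ, pow_orderOf_eq_one,
        one_mul]
    rw [h1]
    exact pow_mem hy2M _
  have h1 : d⁻¹ * y * d ∈ M := (mem_normalizer_iff''.1 (hMn hdc) y).1 hyM
  have h3 := (hclass _ h1).map (MulAut.conj d).toMonoidHom
  simp only [MulEquiv.coe_toMonoidHom, MulAut.conj_apply] at h3
  rw [hdw, show d * (d⁻¹ * y * d * v * (d⁻¹ * y * d)⁻¹) * d⁻¹ = y * (d * v * d⁻¹) * y⁻¹ by group,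
    hdw] at h3
  have hy4 : (y * y) * (y * y) = 1 := by
    have h4 : y * w * y⁻¹ * w = y * y := by
      rw [← hinv, show y * w * (w * y * w⁻¹) * w = y * (w * w) * y by group, sq_of_order_two hw,
        mul_one]
    rw [← h4]
    calc y * w * y⁻¹ * w * (y * w * y⁻¹ * w) = y * w * y⁻¹ * (w * (y * w * y⁻¹)) * w := by group
      _ = y * w * y⁻¹ * ((y * w * y⁻¹) * w) * w := by rw [h3.eq]
      _ = y * (w * w) * y⁻¹ * (w * w) := by group
      _ = 1 := by rw [sq_of_order_two hw]; group
  rw [← orderOf_eq_one_iff]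
  refine Nat.eq_one_of_dvd_coprimes (a := orderOf y) (b := 4) ?_ dvd_rfl (orderOf_dvd_of_pow_eq_one ?_)
  · rw [show (4 : ℕ) = 2 ^ 2 from rfl]
    exact (Nat.Coprime.pow_left 2 (Nat.coprime_two_left.2 ⟨k, hk⟩)).symm
  · rw [show y ^ 4 = y * y * (y * y) by rw [pow_succ, pow_succ, pow_two]; group]
    exact hy4

end Cfsg.Lib.BenderSE
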