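/-
The transfer lemma T (notes/bender_secA_lead.md).
-/
import Cfsg.Agent.BenderSE.CommBasic
import Mathlib.GroupTheory.Transfer

set_option autoImplicit false
set_option linter.unusedSectionVars false
set_option linter.style.haveILetI false

namespace Cfsg.Lib.BenderSE

open Subgroup MulAction Cfsg.Lib.InvolCalc
open scoped commutatorElement

universe u

variable {G : Type u} [Group G] [Finite G] {H : Subgroup G}

/-- the transfer of a fusion invariant map is the power by the index -/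
theorem transfer_eq_pow_of_fusion {K : Type u} [Group K] [Finite K] {D : Subgroup K} {A : Type u}
    [CommGroup A] (φ : D →* A)
    (hfus : ∀ (d : D) (h : K) (hd : h * d * h⁻¹ ∈ D), φ ⟨_, hd⟩ = φ d) (g : D) :
    MonoidHom.transfer φ (g : K) = φ g ^ D.index := by
  classical
  letI := D.fintypeQuotientOfFiniteIndex
  rw [MonoidHom.transfer_eq_prod_quotient_orbitRel_zpowers_quot, index_eq_sum_minimalPeriod D (g : K),
    ← Finset.prod_pow_eq_pow_sum]
  refine Finset.prod_congr rfl fun q _ => ?_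
  rw [← map_pow]
  have hmem : (q.out.out)⁻¹ * ((g ^ Function.minimalPeriod ((g : K) • ·) q.out : D) : K) *
      (q.out.out)⁻¹⁻¹ ∈ D := by
    rw [inv_inv, Subgroup.coe_pow]
    exact QuotientGroup.out_conj_pow_minimalPeriod_mem D (g : K) q.out
  refine Eq.trans (congrArg φ (Subtype.ext ?_)) (hfus (g ^ Function.minimalPeriod ((g : K) • ·) q.out) _ hmem)
  simp only [inv_inv, Subgroup.coe_pow]

/-- for every prime divisor `q` of `n` some power `n'`, prime to `q`, has a `q`-power complement -/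
theorem exists_primary_exponent {n q : ℕ} (hn : 0 < n) (hq : q.Prime) :
    ∃ k e : ℕ, ¬ q ∣ k ∧ n = q ^ e * k := by
  obtain ⟨e, k, hk, h⟩ := Nat.exists_eq_pow_mul_and_not_dvd hn.ne' q hq.ne_one
  exact ⟨k, e, hk, h⟩

/-- an element with all primary powers trivial is trivial -/
theorem eq_one_of_primary {A : Type u} [Group A] {z : A} {n : ℕ} (hn : 0 < n) (hz : z ^ n = 1)
    (h : ∀ q k : ℕ, q.Prime → ¬ q ∣ k → (∃ e, n = q ^ e * k) → z ^ k = 1) : z = 1 := by
  rw [← orderOf_eq_one_iff]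
  by_contra hne
  obtain ⟨q, hq, hqz⟩ := Nat.exists_prime_and_dvd hne
  obtain ⟨k, e, hk, hn'⟩ := exists_primary_exponent hn hq
  exact hk (hqz.trans (orderOf_dvd_of_pow_eq_one (h q k hq hk ⟨e, hn'⟩)))

/-- the number of points other than `c` is prime to every prime dividing `m` -/
theorem not_dvd_card_others (hH : Cfsg.IsStronglyEmbedded H) (hb : NoBad H) {q : ℕ} [Fact q.Prime]
    (hq : q ∣ invCount H) (c : G ⧸ H) : ¬ q ∣ Nat.card {b : G ⧸ H // b ≠ c} := by
  intro hdvd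
  obtain ⟨a, hac⟩ : ∃ a : G ⧸ H, a ≠ c := by
    by_contra h
    push Not at h
    obtain ⟨a, b, hab⟩ := exists_ne_coset hH
    exact hab ((h a).trans (h b).symm)
  obtain ⟨P, hPp, hP, -⟩ := exists_pairSylow_ge (IsPGroup.of_bot (p := q) (G := G)) (x := c) (z := a) bot_le
  have hfix := exactlyTwo_of_noBad hH hb hq c a P (Ne.symm hac) hPp hP.1 hP.2
  have h1 := card_modEq_fixed hPp {b : G ⧸ H | b ≠ c}
    (fun g hg b hbc e => hbc (smul_left_cancel g (e.trans (hP.left g hg).symm)))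
  have h2 : Nat.card {b : G ⧸ H // b ∈ ({b : G ⧸ H | b ≠ c} : Set (G ⧸ H)) ∧ ∀ g ∈ P, g • b = b} = 1 := by
    refine Nat.card_eq_one_iff_unique.2 ⟨⟨fun p p' => Subtype.ext ?_⟩, ⟨⟨a, hac, hP.right⟩⟩⟩
    have key : ∀ b : G ⧸ H, b ≠ c → (∀ g ∈ P, g • b = b) → b = a := fun b hbc hb => by
      have h : b ∈ fixOf (α := G ⧸ H) P := hb
      rw [hfix] at h
      rcases h with h | h
      · exact absurd h hbc
      · exact Set.mem_singleton_iff.1 h
    rw [key _ p.2.1 p.2.2, key _ p'.2.1 p'.2.2]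
  rw [h2] at h1
  have h3 : Nat.card ({b : G ⧸ H | b ≠ c} : Set (G ⧸ H)) ≡ 0 [MOD q] := Nat.modEq_zero_iff_dvd.2 hdvd
  have := Nat.le_of_dvd one_pos (Nat.modEq_zero_iff_dvd.1 (h1.symm.trans h3))
  have := (Fact.out : q.Prime).two_le
  omega

/-- transfer into an abelian group whose primes divide `m` -/
theorem exists_normal_of_transfer_hom (hH : Cfsg.IsStronglyEmbedded H) (hb : NoBad H) {c a : G ⧸ H}
    (hac : a ≠ c) {K : Subgroup G} {v : G} (hv : orderOf v = 2) (hvc : v • c = c)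
    (hKc : K ≤ stabilizer G c) (hCK : centralizer ({v} : Set G) ≤ K)
    (htr : ∀ b : G ⧸ H, b ≠ c → ∃ k ∈ K, k • a = b) {A : Type u} [CommGroup A] [Finite A]
    (D' : Subgroup K) (hD' : D' = (stabilizer G a).comap K.subtype) (φ : D' →* A)
    (hA : ∀ (x : A) (q : ℕ), q.Prime → q ∣ orderOf x → q ∣ invCount H)
    (hinv : ∀ (d : D') (i : G), orderOf i = 2 → i • c = c →
      Commute ((d : K) : G) i → φ d = 1) :
    ∃ K₁ : Subgroup G, K₁ ≤ K ∧ K ≤ normalizer (K₁ : Set G) ∧ centralizer ({v} : Set G) ≤ K₁ ∧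
      K₁ ⊓ stabilizer G a = (φ.ker.map D'.subtype).map K.subtype := by
  classical
  have hDa : ∀ x : K, x ∈ D' ↔ (x : G) • a = a := fun x => by subst hD'; exact Iff.rfl
  have hqpow : ∀ (x : A) (q e : ℕ), q.Prime → ¬ q ∣ invCount H → x ^ q ^ e = 1 → x = 1 := by
    intro x q e hq hqm hx
    rw [← orderOf_eq_one_iff]
    obtain ⟨i, -, hi⟩ := (Nat.dvd_prime_pow hq).1 (orderOf_dvd_of_pow_eq_one hx)
    rcases Nat.eq_zero_or_pos i with rfl | hi'
    · rw [hi, pow_zero]
    · exact absurd (hA x q hq (hi ▸ dvd_pow_self q hi'.ne')) hqm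
  -- fusion
  have hfus : ∀ (d : D') (h : K) (hd : h * (d : K) * h⁻¹ ∈ D'), φ ⟨_, hd⟩ = φ d := by
    intro d h hd
    rw [← mul_inv_eq_one]
    have hpow : ∀ k : ℕ, (φ ⟨_, hd⟩ * (φ d)⁻¹) ^ k =
        φ (⟨_, hd⟩ ^ k) * (φ (d ^ k))⁻¹ := fun k => by rw [mul_pow, inv_pow, map_pow, map_pow]
    have hconj : ∀ k : ℕ, (((⟨_, hd⟩ : D') ^ k : D') : K) = h * ((d ^ k : D') : K) * h⁻¹ := fun k => by
      push_cast
      rw [conj_pow]
    refine eq_one_of_primary (n := orderOf d) (orderOf_pos d) ?_ fun q k hq hqk ⟨e, he⟩ => ?_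
    · rw [hpow]
      have h1 : (⟨_, hd⟩ : D') ^ orderOf d = 1 := Subtype.ext (by
        rw [hconj, pow_orderOf_eq_one]; simp)
      rw [h1, pow_orderOf_eq_one, map_one, one_mul, inv_one]
    rw [hpow]
    set p := d ^ k with hp
    set p' := (⟨_, hd⟩ : D') ^ k with hp'
    have hpq : p ^ q ^ e = 1 := by rw [hp, ← pow_mul, mul_comm, ← he, pow_orderOf_eq_one]
    have hp'q : p' ^ q ^ e = 1 := by
      refine Subtype.ext ?_
      rw [hp', Subgroup.coe_pow, hconj k, conj_pow, ← hp, ← Subgroup.coe_pow, hpq]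
      simp
    haveI := Fact.mk hq
    by_cases hqm : q ∣ invCount H
    swap
    · rw [hqpow (φ p) q e hq hqm (by rw [← map_pow, hpq, map_one]),
        hqpow (φ p') q e hq hqm (by rw [← map_pow, hp'q, map_one]), one_mul, inv_one]
    have hp'p : ((p' : K) : G) = (h : G) * ((p : K) : G) * (h : G)⁻¹ := by
      rw [hp', hconj k]; rfl
    have hpa : ((p : K) : G) • a = a := (hDa _).1 p.2
    have hpc : ((p : K) : G) • c = c := mem_stabilizer_iff.1 (hKc (p : K).2)
    have hhc : (h : G) • c = c := mem_stabilizer_iff.1 (hKc h.2)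
    set b := (h : G)⁻¹ • a with hbdef
    have hpb : ((p : K) : G) • b = b := by
      have h1 : ((p' : K) : G) • a = a := (hDa _).1 p'.2
      rw [hp'p, mul_smul, mul_smul] at h1
      rw [hbdef, eq_inv_smul_iff]
      exact h1
    by_cases hba : b = a
    · have hha : (h : G) • a = a := by
        conv_lhs => rw [← hba, hbdef, smul_inv_smul]
      have e1 : p' = (⟨h, (hDa h).2 hha⟩ : D') * p * (⟨h, (hDa h).2 hha⟩ : D')⁻¹ := by
        apply Subtype.ext
        apply Subtype.ext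
        rw [hp'p]
        rfl
      rw [e1, map_mul, map_mul, map_inv, mul_comm (φ ⟨h, _⟩), mul_inv_cancel_right, mul_inv_cancel]
    -- three fixed points: both lie in `D₁`
    have hbc : b ≠ c := fun e => hac (by
      have e' : (h : G) • b = (h : G) • c := congrArg _ e
      rwa [hbdef, smul_inv_smul, hhc] at e')
    set R := zpowers ((p : K) : G) with hR
    have hRp : IsPGroup q R := IsPGroup.of_card_dvd_pow (n := e) (by
      rw [hR, Nat.card_zpowers, Subgroup.orderOf_coe, Subgroup.orderOf_coe]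
      exact orderOf_dvd_of_pow_eq_one hpq)
    have hRfix : ∀ y : G ⧸ H, ((p : K) : G) • y = y → y ∈ fixOf (α := G ⧸ H) R := fun y hy g hg => by
      obtain ⟨k, rfl⟩ := hg
      exact mem_stabilizer_iff.1 (zpow_mem (mem_stabilizer_iff.2 hy) k)
    obtain ⟨i, hi, hic, hiR⟩ := exists_centralizing_at hH hb hRp (hRfix c hpc)
      ⟨c, hRfix c hpc, a, hRfix a hpa, b, hRfix b hpb, Ne.symm hac, Ne.symm hbc, Ne.symm hba⟩
    have hpi : Commute ((p : K) : G) i := hiR _ (mem_zpowers _)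
    have e1 : φ p = 1 := hinv p i hi hic hpi
    have e2 : φ p' = 1 := by
      refine hinv p' ((h : G) * i * (h : G)⁻¹) (by rw [orderOf_conj', hi]) ?_ ?_
      · rw [mul_smul, mul_smul, inv_smul_eq_iff.2 hhc.symm, hic, hhc]
      · rw [hp'p]
        exact hpi.map (MulAut.conj (h : G)).toMonoidHom
    rw [e1, e2, one_mul, inv_one]
  obtain ⟨V, hVD⟩ : ∃ V : K →* A, ∀ d : D', V (d : K) = φ d ^ D'.index :=
    ⟨MonoidHom.transfer φ, fun d => transfer_eq_pow_of_fusion φ hfus d⟩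
  -- the index is the number of other points
  have hindex : D'.index = Nat.card {b : G ⧸ H // b ≠ c} := by
    have horb : orbit K a = {b : G ⧸ H | b ≠ c} := by
      ext b
      constructor
      · rintro ⟨k, rfl⟩ e
        refine hac (smul_left_cancel (k : G) ?_)
        exact (show (k : G) • a = c from e).trans (mem_stabilizer_iff.1 (hKc k.2)).symm
      · intro hbc
        obtain ⟨k, hk, hkb⟩ := htr b hbc
        exact ⟨⟨k, hk⟩, hkb⟩
    have h1 : Nat.card (orbit K a) = Nat.card {b : G ⧸ H // b ≠ c} := by rw [horb]; rfl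
    rw [← h1, Nat.card_congr (orbitEquivQuotientStabilizer K a), index_eq_card]
    congr 2
  set K₁ := V.ker.map K.subtype with hK₁
  refine ⟨K₁, map_subtype_le _, ?_, ?_, ?_⟩
  · intro g hg
    refine mem_normalizer_of_maps_to ?_
    rintro _ ⟨x, hx, rfl⟩
    exact ⟨⟨g, hg⟩ * x * ⟨g, hg⟩⁻¹, (MonoidHom.normal_ker V).conj_mem x hx _, rfl⟩
  · intro x hx
    refine ⟨⟨x, hCK hx⟩, ?_, rfl⟩
    refine MonoidHom.mem_ker.2 (eq_one_of_primary (n := orderOf (⟨x, hCK hx⟩ : K)) (orderOf_pos _) ?_ ?_)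
    · rw [← map_pow, pow_orderOf_eq_one, map_one]
    intro q k hq hqk ⟨e, he⟩
    rw [← map_pow]
    set z := (⟨x, hCK hx⟩ : K) ^ k with hz
    have hzq : z ^ q ^ e = 1 := by rw [hz, ← pow_mul, mul_comm, ← he, pow_orderOf_eq_one]
    haveI := Fact.mk hq
    by_cases hqm : q ∣ invCount H
    swap
    · exact hqpow _ q e hq hqm (by rw [← map_pow, hzq, map_one])
    have hzc : (z : G) • c = c := mem_stabilizer_iff.1 (hKc z.2)
    have hzv : Commute (z : G) v := by
      rw [hz]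
      push_cast
      exact Commute.pow_left (mem_centralizer_singleton_iff.1 hx) k
    -- `z` fixes another point
    have hRp : IsPGroup q (zpowers (z : G)) := IsPGroup.of_card_dvd_pow (n := e) (by
      rw [Nat.card_zpowers, Subgroup.orderOf_coe]
      exact orderOf_dvd_of_pow_eq_one hzq)
    have hzfix : ∀ y : G ⧸ H, (z : G) • y = y → ∀ g ∈ zpowers (z : G), g • y = y := fun y hy g hg => by
      obtain ⟨i, rfl⟩ := hg
      exact mem_stabilizer_iff.1 (zpow_mem (mem_stabilizer_iff.2 hy) i)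
    have h1 := card_modEq_fixed hRp {b : G ⧸ H | b ≠ c}
      (fun g hg b hbc e => hbc (smul_left_cancel g (e.trans (hzfix c hzc g hg).symm)))
    obtain ⟨⟨b, hbc, hb'⟩⟩ : Nonempty {b : G ⧸ H // b ∈ ({b : G ⧸ H | b ≠ c} : Set (G ⧸ H)) ∧
        ∀ g ∈ zpowers (z : G), g • b = b} := by
      by_contra hne
      rw [not_nonempty_iff] at hne
      rw [Nat.card_eq_zero.2 (Or.inl hne)] at h1
      change Nat.card {b : G ⧸ H // b ≠ c} ≡ 0 [MOD q] at h1
      exact not_dvd_card_others hH hb hqm c (Nat.modEq_zero_iff_dvd.1 h1)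
    obtain ⟨k₀, hk₀, hk₀b⟩ := htr b hbc
    have hd : (⟨k₀, hk₀⟩ : K)⁻¹ * z * ⟨k₀, hk₀⟩ ∈ D' := by
      rw [hD', mem_comap, mem_stabilizer_iff]
      show (k₀⁻¹ * (z : G) * k₀) • a = a
      rw [mul_smul, mul_smul, hk₀b, hb' _ (mem_zpowers _), inv_smul_eq_iff, hk₀b]
    have hV0 : V ((⟨k₀, hk₀⟩ : K)⁻¹ * z * ⟨k₀, hk₀⟩) = V z := by
      rw [map_mul, map_mul, map_inv, mul_comm (V ⟨k₀, hk₀⟩)⁻¹, inv_mul_cancel_right]
    rw [← hV0, hVD ⟨_, hd⟩, hinv ⟨_, hd⟩ (k₀⁻¹ * v * k₀⁻¹⁻¹) (by rw [orderOf_conj', hv]) ?_ ?_, one_pow]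
    · have hkc : k₀ • c = c := mem_stabilizer_iff.1 (hKc hk₀)
      rw [inv_inv, mul_smul, mul_smul, hkc, hvc, inv_smul_eq_iff, hkc]
    · have h2 := hzv.map (MulAut.conj k₀⁻¹).toMonoidHom
      simpa [MulAut.conj_apply] using h2
  · apply le_antisymm
    · rintro g ⟨hg, hga⟩
      obtain ⟨x, hx, rfl⟩ := hg
      have hxD : x ∈ D' := (hDa x).2 hga
      have h1 : φ ⟨x, hxD⟩ ^ D'.index = 1 := by rw [← hVD]; exact hx
      refine mem_map_of_mem _ ⟨⟨x, hxD⟩, MonoidHom.mem_ker.2 ?_, rfl⟩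
      rw [← orderOf_eq_one_iff]
      by_contra hne
      obtain ⟨q, hq, hqd⟩ := Nat.exists_prime_and_dvd hne
      haveI := Fact.mk hq
      exact not_dvd_card_others hH hb (hA _ q hq hqd) c
        (hindex ▸ hqd.trans (orderOf_dvd_of_pow_eq_one h1))
    · rintro _ ⟨x, ⟨d, hd, rfl⟩, rfl⟩
      refine mem_inf.2 ⟨⟨(d : K), MonoidHom.mem_ker.2 ?_, rfl⟩, (hDa _).1 d.2⟩
      rw [hVD, MonoidHom.mem_ker.1 hd, one_pow]

/-- TRANSFER LEMMA T: `K ≤ G_c` transitive on the other points and containing `C(v)`, `D₁` normal in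
`K ∩ G_a` with abelian quotient of order composed of prime divisors of `m`, containing every element
of `K ∩ G_a` commuting with an involution at `c`: then `K` has a normal `K₁ ⊇ C(v)` with
`K₁ ∩ G_a = D₁`. -/
theorem exists_normal_of_transfer (hH : Cfsg.IsStronglyEmbedded H) (hb : NoBad H) {c a : G ⧸ H}
    (hac : a ≠ c) {K D₁ : Subgroup G} {v : G} (hv : orderOf v = 2) (hvc : v • c = c)
    (hKc : K ≤ stabilizer G c) (hCK : centralizer ({v} : Set G) ≤ K)
    (htr : ∀ b : G ⧸ H, b ≠ c → ∃ k ∈ K, k • a = b)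
    (hD₁ : D₁ ≤ K ⊓ stabilizer G a) (hcomm : ⁅K ⊓ stabilizer G a, K ⊓ stabilizer G a⁆ ≤ D₁)
    (hprimes : ∀ q : ℕ, q.Prime → q ∣ D₁.relIndex (K ⊓ stabilizer G a) → q ∣ invCount H)
    (hinv : ∀ x ∈ K ⊓ stabilizer G a, ∀ i : G, orderOf i = 2 → i • c = c → Commute x i → x ∈ D₁) :
    ∃ K₁ : Subgroup G, K₁ ≤ K ∧ K ≤ normalizer (K₁ : Set G) ∧ centralizer ({v} : Set G) ≤ K₁ ∧
      K₁ ⊓ stabilizer G a = D₁ := by
  classical
  set D' : Subgroup K := (stabilizer G a).comap K.subtype with hD'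
  set D₁' : Subgroup D' := D₁.comap (K.subtype.comp D'.subtype) with hD₁'
  have hmem : ∀ d : D', ((d : K) : G) ∈ K ⊓ stabilizer G a := fun d => mem_inf.2 ⟨(d : K).2, d.2⟩
  have hmem₁ : ∀ d : D', d ∈ D₁' ↔ ((d : K) : G) ∈ D₁ := fun d => Iff.rfl
  have hle : commutator D' ≤ D₁' := by
    rw [commutator_def, commutator_le]
    intro p _ q _
    rw [hmem₁]
    exact hcomm (commutator_mem_commutator (hmem p) (hmem q))
  haveI hnormal : D₁'.Normal := Subgroup.Normal.of_commutator_le (D') hle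
  letI : CommGroup (D' ⧸ D₁') :=
    { (inferInstance : Group (D' ⧸ D₁')) with
      mul_comm := fun x y => by
        induction x using QuotientGroup.induction_on with
        | H p =>
        induction y using QuotientGroup.induction_on with
        | H q =>
        rw [← QuotientGroup.mk_mul, ← QuotientGroup.mk_mul, QuotientGroup.eq]
        refine hle ?_
        rw [show (p * q)⁻¹ * (q * p) = ⁅q⁻¹, p⁻¹⁆ by rw [commutatorElement_def]; group]
        exact commutator_mem_commutator (mem_top _) (mem_top _) }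
  have hidx : D₁.relIndex (K ⊓ stabilizer G a) = Nat.card (D' ⧸ D₁') := by
    rw [← index_eq_card, hD₁', show (K ⊓ stabilizer G a) = D'.map K.subtype by
      rw [hD', map_comap_eq, range_subtype], ← relIndex_comap, relIndex, subgroupOf, comap_comap]
  obtain ⟨K₁, h1, h2, h3, h4⟩ := exists_normal_of_transfer_hom hH hb hac hv hvc hKc hCK htr
    D' hD' (QuotientGroup.mk' D₁') (fun x q hq hqx => hprimes q hq (hidx ▸ hqx.trans (orderOf_dvd_natCard x)))
    (fun d i hi hic hdi => (QuotientGroup.eq_one_iff d).2 ((hmem₁ d).2 (hinv _ (hmem d) i hi hic hdi)))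
  refine ⟨K₁, h1, h2, h3, h4.trans ?_⟩
  rw [QuotientGroup.ker_mk', map_map, hD₁', map_comap_eq, inf_eq_right]
  intro x hx
  obtain ⟨hxK, hxa⟩ := mem_inf.1 (hD₁ hx)
  exact ⟨⟨⟨x, hxK⟩, hxa⟩, rfl⟩

end Cfsg.Lib.BenderSE
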