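/-
A solvable Hall subgroup `E` controlling the fusion of its elements of prime power order in every
normal subgroup `L` with `L E = ⊤` has a normal complement (iterated focal subgroup theorem).
-/
import Cfsg.Agent.Transfer.Basic
import Mathlib.GroupTheory.Focal
import Mathlib.GroupTheory.Solvable

set_option autoImplicit false
set_option linter.unusedSectionVars false
set_option linter.style.haveILetI false

namespace Cfsg.Lib.BenderSE

open Subgroup
open scoped commutatorElement Pointwise

universe u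

variable {L : Type u} [Group L]

/-- the subgroup generated by the commutators and the elements of order prime to `r` -/
def abResidual (r : ℕ) (L : Type u) [Group L] : Subgroup L :=
  _root_.commutator L ⊔ closure {x : L | (orderOf x).Coprime r}

theorem abResidual_characteristic (r : ℕ) : (abResidual r L).Characteristic := by
  refine characteristic_iff_map_le.2 fun φ => ?_
  rw [abResidual, Subgroup.map_sup]
  refine sup_le_sup (characteristic_iff_map_le.1 inferInstance φ) ?_
  rw [MonoidHom.map_closure]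
  refine closure_mono ?_
  rintro _ ⟨x, hx, rfl⟩
  show (orderOf (φ x)).Coprime r
  rwa [MulEquiv.orderOf_eq]

variable [Finite L]

/-- an `r`-element of the residual lies in the commutator subgroup -/
theorem mem_commutator_of_mem_abResidual {r : ℕ} [Fact r.Prime] {x : L} (hx : x ∈ abResidual r L)
    {k : ℕ} (hk : orderOf x = r ^ k) : x ∈ _root_.commutator L := by
  have key : ∀ y ∈ abResidual r L, ∃ n : ℕ, n.Coprime r ∧ Abelianization.of y ^ n = 1 := by
    intro y hy
    rw [abResidual, mem_sup_of_normal_left] at hy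
    obtain ⟨c, hc, d, hd, rfl⟩ := hy
    have hd' : ∃ n : ℕ, n.Coprime r ∧ Abelianization.of d ^ n = 1 := by
      induction hd using closure_induction with
      | mem z hz => exact ⟨orderOf z, hz, by rw [← map_pow, pow_orderOf_eq_one, map_one]⟩
      | one => exact ⟨1, Nat.coprime_one_left r, by rw [map_one, one_pow]⟩
      | mul p q _ _ hp hq =>
        obtain ⟨n, hn, hpn⟩ := hp
        obtain ⟨m, hm, hqm⟩ := hq
        exact ⟨n * m, hn.mul_left hm, by
          rw [map_mul, mul_pow, pow_mul, hpn, one_pow, one_mul, mul_comm, pow_mul, hqm, one_pow]⟩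
      | inv p _ hp =>
        obtain ⟨n, hn, hpn⟩ := hp
        exact ⟨n, hn, by rw [map_inv, inv_pow, hpn, inv_one]⟩
    obtain ⟨n, hn, hdn⟩ := hd'
    refine ⟨n, hn, ?_⟩
    rw [map_mul, show Abelianization.of c = 1 from (QuotientGroup.eq_one_iff c).2 hc, one_mul, hdn]
  obtain ⟨n, hn, hxn⟩ := key x hx
  have h1 : orderOf (Abelianization.of x) ∣ n := orderOf_dvd_of_pow_eq_one hxn
  have h2 : orderOf (Abelianization.of x) ∣ r ^ k := hk ▸ orderOf_map_dvd _ x
  exact (QuotientGroup.eq_one_iff x).1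
    (orderOf_eq_one_iff.1 (Nat.eq_one_of_dvd_coprimes (hn.pow_right k) h1 h2))

/-- a Sylow subgroup covers the quotient by the residual -/
theorem abResidual_sup_sylow {r : ℕ} [Fact r.Prime] (P : Sylow r L) :
    abResidual r L ⊔ (P : Subgroup L) = ⊤ := by
  refine eq_top_iff.2 fun g _ => ?_
  obtain ⟨a, b, -, -, hab, ⟨k, hk⟩, hcop⟩ := Cfsg.Lib.Transfer.exists_pPart r g
  have hb : b ∈ abResidual r L := mem_sup_right (subset_closure hcop)
  obtain ⟨Q, hQ⟩ := (IsPGroup.of_card (p := r) ((Nat.card_zpowers a).trans hk)).exists_le_sylow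
  obtain ⟨h, hh⟩ := MulAction.exists_smul_eq L P Q
  have ha := hQ (mem_zpowers a)
  rw [← hh] at ha
  obtain ⟨s, hs, hsa⟩ : ∃ s ∈ (P : Subgroup L), h * s * h⁻¹ = a := by
    obtain ⟨s, hs, hsa⟩ := ha
    exact ⟨s, hs, hsa⟩
  rw [← hab, ← hsa, show h * s * h⁻¹ = ⁅h, s⁆ * s by rw [commutatorElement_def]; group]
  exact mul_mem (mul_mem (mem_sup_left (mem_sup_left (commutator_mem_commutator (mem_top h) (mem_top s))))
    (mem_sup_right hs)) (mem_sup_left hb)

/-- one step of the descent -/
theorem exists_focal_descent (E : Subgroup L) (hE : (Nat.card E).Coprime E.index) (hne : E ≠ ⊥)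
    [Group.IsSolvable E]
    (hfus : ∀ x ∈ E, IsPrimePow (orderOf x) → ∀ g : L, g * x * g⁻¹ ∈ E →
      ∃ d ∈ E, d * x * d⁻¹ = g * x * g⁻¹) :
    ∃ L₁ : Subgroup L, L₁.Characteristic ∧ L₁ ≠ ⊤ ∧ L₁ ⊔ E = ⊤ := by
  haveI : Nontrivial E := (nontrivial_iff_ne_bot E).2 hne
  have hidx : (_root_.commutator E).index ≠ 1 := fun h =>
    (Group.IsSolvable.commutator_lt_top_of_nontrivial E).ne (index_eq_one.1 h)
  obtain ⟨r, hr, hrd⟩ := Nat.exists_prime_and_dvd hidx
  haveI := Fact.mk hr
  obtain ⟨PE⟩ : Nonempty (Sylow r E) := inferInstance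
  set P₀ := (PE : Subgroup E).map E.subtype with hP₀
  have hrE : r ∣ Nat.card E := hrd.trans (_root_.commutator E).index_dvd_card
  have hnr : ¬ r ∣ E.index := fun h => hr.ne_one (Nat.eq_one_of_dvd_coprimes hE hrE h)
  let P : Sylow r L := Sylow.ofCard P₀ (by
    rw [hP₀, card_map_of_injective E.subtype_injective, Sylow.card_eq_multiplicity, ← E.card_mul_index,
      Nat.factorization_mul Nat.card_pos.ne' FiniteIndex.index_ne_zero, Finsupp.add_apply,
      Nat.factorization_eq_zero_of_not_dvd hnr, add_zero])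
  have hPP₀ : (P : Subgroup L) = P₀ := Sylow.coe_ofCard _ _
  refine ⟨abResidual r L, abResidual_characteristic r, fun htop => ?_, eq_top_iff.2 ?_⟩
  · -- otherwise the Sylow subgroup lies in the commutator subgroup of `E`
    have hfoc : (P : Subgroup L).focalSubgroup ≤ (_root_.commutator E).map E.subtype := by
      rw [focalSubgroup_def, closure_le]
      rintro _ ⟨hmem, x, hx, w, rfl⟩
      rw [hPP₀] at hx hmem
      have hxE : x ∈ E := map_subtype_le _ hx
      by_cases hx1 : x = 1
      · rw [hx1, commutatorElement_one_left]; exact one_mem _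
      have hpp : IsPrimePow (orderOf x⁻¹) := by
        rw [orderOf_inv]
        obtain ⟨k, hk⟩ := IsPGroup.iff_orderOf.1 (PE.isPGroup'.map E.subtype) ⟨x, hx⟩
        rw [← Subgroup.orderOf_coe] at hk
        refine ⟨r, k, hr.prime, Nat.pos_of_ne_zero fun h0 => hx1 ?_, hk.symm⟩
        rw [h0, pow_zero] at hk
        exact orderOf_eq_one_iff.1 hk
      have hw : w * x⁻¹ * w⁻¹ ∈ E := by
        rw [show w * x⁻¹ * w⁻¹ = x⁻¹ * ⁅x, w⁆ by rw [commutatorElement_def]; group]
        exact mul_mem (inv_mem hxE) (map_subtype_le _ hmem)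
      obtain ⟨d, hd, hdx⟩ := hfus x⁻¹ (inv_mem hxE) hpp w hw
      refine ⟨⁅(⟨x, hxE⟩ : E), ⟨d, hd⟩⁆, commutator_mem_commutator (mem_top _) (mem_top _), ?_⟩
      rw [map_commutatorElement]
      show ⁅x, d⁆ = ⁅x, w⁆
      rw [commutatorElement_def, commutatorElement_def,
        show x * d * x⁻¹ * d⁻¹ = x * (d * x⁻¹ * d⁻¹) by group,
        show x * w * x⁻¹ * w⁻¹ = x * (w * x⁻¹ * w⁻¹) by group, hdx]
    have hPcomm : (P : Subgroup L) ≤ _root_.commutator L := by
      intro x hx
      obtain ⟨k, hk⟩ := IsPGroup.iff_orderOf.1 P.isPGroup' ⟨x, hx⟩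
      exact mem_commutator_of_mem_abResidual (htop ▸ mem_top x) (by rw [← hk, ← Subgroup.orderOf_coe])
    have hPE : (PE : Subgroup E) ≤ _root_.commutator E := by
      intro x hx
      have h1 : (x : L) ∈ (P : Subgroup L).focalSubgroup := by
        rw [← commutator_inf_eq_focalSubgroup P]
        have hxP : (x : L) ∈ (P : Subgroup L) := hPP₀ ▸ ⟨x, hx, rfl⟩
        exact mem_inf.2 ⟨hPcomm hxP, hxP⟩
      obtain ⟨y, hy, hyx⟩ := hfoc h1
      exact E.subtype_injective hyx ▸ hy
    exact PE.not_dvd_index (hrd.trans (index_dvd_of_le hPE))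
  · rw [← abResidual_sup_sylow P, hPP₀]
    exact sup_le_sup_left (map_subtype_le _) _

variable {X : Type u} [Group X] [Finite X]

/-- BRAUER-SUZUKI for solvable Hall subgroups, relative form: a normal complement exists if `E`
controls the fusion of its elements of prime power order in every normal `L` with `L E = ⊤`. -/
theorem exists_complement_of_control (E : Subgroup X) (hE : (Nat.card E).Coprime E.index)
    [Group.IsSolvable E]
    (hfus : ∀ N : Subgroup X, N.Normal → N ⊔ E = ⊤ → ∀ x ∈ E ⊓ N, IsPrimePow (orderOf x) →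
      ∀ g ∈ N, g * x * g⁻¹ ∈ E → ∃ d ∈ E ⊓ N, d * x * d⁻¹ = g * x * g⁻¹) :
    ∃ Q : Subgroup X, Q.Normal ∧ Q ⊓ E = ⊥ ∧ Q ⊔ E = ⊤ ∧ Nat.card Q = E.index ∧
      ∀ x : X, (orderOf x).Coprime (Nat.card E) → x ∈ Q := by
  obtain ⟨N, ⟨hNn, hNE⟩, hNmin⟩ := WellFounded.has_min (wellFounded_lt (α := Subgroup X))
    {N | N.Normal ∧ N ⊔ E = ⊤} ⟨⊤, inferInstance, top_sup_eq _⟩
  haveI := hNn
  have hNidx : Nat.card ↥(E ⊓ N) * N.index = Nat.card E := by
    have h1 : N.relIndex E = N.index := by
      rw [← relIndex_sup_left E N, hNE, relIndex_top_right]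
    rw [← h1, ← inf_relIndex_right, inf_comm N E, ← relIndex_bot_left (E ⊓ N),
      relIndex_mul_relIndex _ _ _ bot_le inf_le_left, relIndex_bot_left]
  have hcardN : Nat.card N = Nat.card ↥(E ⊓ N) * E.index := by
    refine Nat.eq_of_mul_eq_mul_right (Nat.pos_of_ne_zero (FiniteIndex.index_ne_zero (H := N))) ?_
    rw [N.card_mul_index, mul_right_comm, hNidx, E.card_mul_index]
  by_cases hbot : E ⊓ N = ⊥
  · have hcardQ : Nat.card N = E.index := by rw [hcardN, hbot, card_bot, one_mul]
    refine ⟨N, hNn, by rw [inf_comm, hbot], hNE, hcardQ, fun x hx => ?_⟩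
    have h1 : orderOf (x : X ⧸ N) ∣ Nat.card E := by
      refine (_root_.orderOf_dvd_natCard _).trans ?_
      rw [← index_eq_card, ← hNidx, hbot, card_bot, one_mul]
    exact (QuotientGroup.eq_one_iff x).1 (orderOf_eq_one_iff.1
      (Nat.eq_one_of_dvd_coprimes hx (orderOf_map_dvd (QuotientGroup.mk' N) x) h1))
  exfalso
  set EN := E.subgroupOf N with hEN
  have hcardEN : Nat.card EN = Nat.card ↥(E ⊓ N) := by
    rw [hEN, ← inf_subgroupOf_right, Nat.card_congr (subgroupOfEquivOfLe inf_le_right).toEquiv]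
  have hENidx : EN.index = E.index := by
    refine Nat.eq_of_mul_eq_mul_left (Nat.card_pos (α := EN)) ?_
    rw [EN.card_mul_index, hcardEN, hcardN]
  haveI : Group.IsSolvable EN :=
    Group.isSolvable_of_isSolvable_injective
      (f := (N.subtype.subgroupComap E : EN →* E)) fun a b h =>
        Subtype.ext (Subtype.ext (congrArg (fun z : E => (z : X)) h))
  obtain ⟨L₁, hL₁, hL₁top, hL₁E⟩ := exists_focal_descent EN
    (by rw [hcardEN, hENidx]; exact hE.coprime_dvd_left (Dvd.intro _ hNidx))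
    (fun h => hbot (eq_bot_of_card_eq _ (by rw [← hcardEN, h, card_bot])))
    fun x hx hpp g hg => by
      obtain ⟨d, hd, hdx⟩ := hfus N hNn hNE x (mem_inf.2 ⟨hx, x.2⟩) (by rwa [Subgroup.orderOf_coe]) g g.2 hg
      exact ⟨⟨d, (mem_inf.1 hd).2⟩, (mem_inf.1 hd).1, Subtype.ext hdx⟩
  set N₁ := L₁.map N.subtype with hN₁
  have hN₁E : N₁ ⊔ E = ⊤ := by
    rw [eq_top_iff, ← hNE]
    refine sup_le ?_ le_sup_right
    have h := congrArg (Subgroup.map N.subtype) hL₁E
    rw [Subgroup.map_sup, ← MonoidHom.range_eq_map, range_subtype] at h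
    rw [← h]
    refine sup_le_sup_left ?_ _
    rintro _ ⟨x, hx, rfl⟩
    exact hx
  haveI := hL₁
  refine hNmin N₁ ⟨inferInstance, hN₁E⟩ (lt_of_le_of_ne (map_subtype_le _) fun e => hL₁top ?_)
  refine Subgroup.map_injective N.subtype_injective ?_
  rw [← MonoidHom.range_eq_map, range_subtype]
  exact e

end Cfsg.Lib.BenderSE
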