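/-
The simple socle of a group with a core-free strongly embedded subgroup of 2-rank at least two, and
the reduction of `O(H) ≤ O(G)` (row 1221) to simple groups.
-/
import Cfsg.Agent.BenderSE.Induction

set_option autoImplicit false
set_option linter.unusedSectionVars false
set_option linter.style.haveILetI false

namespace Cfsg.Lib.BenderSE

open Subgroup MulAction Cfsg.Lib.InvolCalc Cfsg.Lib.StrongEmb

universe u

variable {G : Type u} [Group G] [Finite G] {H : Subgroup G}

theorem smul_mk_one_iff {g : G} :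
    g • (QuotientGroup.mk 1 : G ⧸ H) = QuotientGroup.mk 1 ↔ g ∈ H := by
  rw [MulAction.Quotient.smul_mk, smul_eq_mul, mul_one, eq_comm, QuotientGroup.eq, inv_one, one_mul]

/-- a core-free setting has no non-trivial normal subgroup of odd order -/
theorem eq_bot_of_odd_normal (hS : Setting H) {N : Subgroup G} (hN : N.Normal)
    (hodd : Odd (Nat.card N)) : N = ⊥ := by
  haveI := hN
  obtain ⟨p, q, hp, hq, hne, hc, hpx, -⟩ :=
    exists_commuting_fixing hS.se hS.rank2 (QuotientGroup.mk 1 : G ⧸ H)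
  have hmem : ∀ g : G, g ∈ normalizer (N : Set G) := fun g => by
    rw [normalizer_eq_top_iff.2 hN]; exact mem_top g
  exact eq_bot_of_normal_le_stabilizer hS.core hN
    (le_stabilizer_of_four hS.se hp hq hne hc hpx hodd (hmem p) (hmem q))

/-- THE SOCLE: a simple normal subgroup with all involutions, transitive on the points, in which
`H ∩ M` is strongly embedded -/
theorem exists_socle (hS : Setting H) :
    ∃ M : Subgroup G, M.Normal ∧ IsSimpleGroup M ∧ (∀ i : G, orderOf i = 2 → i ∈ M) ∧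
      (∀ x : G ⧸ H, ∃ m ∈ M, m • (QuotientGroup.mk 1 : G ⧸ H) = x) ∧
      Cfsg.IsStronglyEmbedded (H.subgroupOf M) ∧ HasCommutingInvolutions M := by
  have hH := hS.se
  haveI : Nontrivial G := by
    obtain ⟨p, -, hp, -⟩ := hS.rank2
    exact ⟨⟨p, 1, fun e => by rw [e, orderOf_one] at hp; simp at hp⟩⟩
  obtain ⟨M, -, hMn, hMne, hMmin⟩ :=
    Cfsg.Lib.Coprime.exists_minimal_normal (inferInstance : (⊤ : Subgroup G).Normal) top_ne_bot
  haveI := hMn
  have hNM : ∀ g : G, g ∈ normalizer (M : Set G) := fun g => by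
    rw [normalizer_eq_top_iff.2 hMn]; exact mem_top g
  obtain ⟨a, haM, ha⟩ : ∃ a ∈ M, orderOf a = 2 :=
    exists_involution_of_even (Nat.not_odd_iff_even.1 fun h => hMne (eq_bot_of_odd_normal hS hMn h))
  have hall : ∀ i : G, orderOf i = 2 → i ∈ M := fun i hi => by
    obtain ⟨g, hg⟩ := isConj_iff.1 (all_conj hH ha hi)
    exact hg ▸ hMn.conj_mem a haM g
  have htrans : ∀ x : G ⧸ H, ∃ m ∈ M, m • (QuotientGroup.mk 1 : G ⧸ H) = x := fun x => by
    by_cases hx : (QuotientGroup.mk 1 : G ⧸ H) = x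
    · exact ⟨1, one_mem M, by rw [one_smul, hx]⟩
    · obtain ⟨v, hv, hvx⟩ := exists_swapper hH hx
      exact ⟨v, hall v hv, hvx⟩
  have hMH : ∀ x : G ⧸ H, ¬ M ≤ stabilizer G x := fun x h =>
    hMne (eq_bot_of_normal_le_stabilizer hS.core hMn h)
  have hoddM : oddCoreOf M = ⊥ := eq_bot_of_odd_normal hS
    (normalizer_eq_top_iff.1 (eq_top_iff.2 fun g _ => normalizer_le_normalizer_oddCoreOf M (hNM g)))
    (odd_card_oddCoreOf M)
  have heven : ∀ T : Subgroup G, T ≤ M → M ≤ normalizer (T : Set G) → T ≠ ⊥ →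
      ∃ i ∈ T, orderOf i = 2 := fun T hTM hMT hT =>
    exists_involution_of_even (Nat.not_odd_iff_even.1 fun h =>
      hT (le_bot_iff.1 (hoddM ▸ le_oddCoreOf hTM hMT h)))
  have hsimple : ∀ T₁ : Subgroup G, T₁ ≤ M → M ≤ normalizer (T₁ : Set G) → T₁ ≠ ⊥ → T₁ = M := by
    intro T₁ hT₁M hMT₁ hT₁
    obtain ⟨T, ⟨hTT₁, hMT, hT⟩, hTmin⟩ := WellFounded.has_min (wellFounded_lt (α := Subgroup G))
      {T | T ≤ T₁ ∧ M ≤ normalizer (T : Set G) ∧ T ≠ ⊥} ⟨T₁, le_rfl, hMT₁, hT₁⟩
    have hTM := hTT₁.trans hT₁M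
    suffices hTn : T.Normal by
      rcases hMmin T hTn hTM with h | h
      · exact absurd h hT
      · exact le_antisymm hT₁M (h ▸ hTT₁)
    by_contra hTn
    obtain ⟨x, hxT⟩ : ∃ x : G, Cfsg.Lib.Coprime.conjMap x T ≠ T := by
      by_contra hall'
      push Not at hall'
      exact hTn (normalizer_eq_top_iff.1 (eq_top_iff.2 fun x _ =>
        Cfsg.Lib.Coprime.conjMap_eq_self_iff.1 (hall' x)))
    set T' := Cfsg.Lib.Coprime.conjMap x T with hT'
    have hMc : Cfsg.Lib.Coprime.conjMap x M = M := Cfsg.Lib.Coprime.conjMap_eq_self_iff.2 (hNM x)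
    have hT'M : T' ≤ M := hMc ▸ Cfsg.Lib.Coprime.conjMap_mono hTM
    have hMT' : M ≤ normalizer (T' : Set G) := by
      rw [hT', Cfsg.Lib.Coprime.normalizer_conjMap, ← hMc]
      exact Cfsg.Lib.Coprime.conjMap_mono hMT
    have hcard : Nat.card T' = Nat.card T := Cfsg.Lib.Coprime.card_conjMap _ _
    have hinf : T ⊓ T' = ⊥ := by
      by_contra hne
      refine hTmin (T ⊓ T') ⟨inf_le_left.trans hTT₁, Cfsg.Lib.Coprime.le_normalizer_inf hMT hMT',
        hne⟩ (lt_of_le_of_ne inf_le_left fun e => hxT ?_)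
      exact (Subgroup.eq_of_le_of_card_ge (inf_eq_left.1 e) hcard.le).symm
    have hT'ne : T' ≠ ⊥ := fun e => hT (by
      rw [← Subgroup.card_eq_one] at e ⊢
      omega)
    obtain ⟨b, hb, hb2⟩ := heven T' hT'M hMT' hT'ne
    obtain ⟨e, hbe⟩ := exists_centre hH hb2
    have hfix : ∀ g ∈ T, g • e = e := by
      intro g hg
      refine fix_centre_of_commute hH hb2 hbe ?_
      have h1 : g * b * g⁻¹ * b⁻¹ ∈ T ⊓ T' := mem_inf.2 ⟨by
          rw [show g * b * g⁻¹ * b⁻¹ = g * (b * g⁻¹ * b⁻¹) by group]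
          exact mul_mem hg ((mem_normalizer_iff.1 (hMT (hT'M hb)) _).1 (inv_mem hg)),
        mul_mem ((mem_normalizer_iff.1 (hMT' (hTM hg)) b).1 hb) (inv_mem hb)⟩
      rw [hinf, mem_bot, mul_inv_eq_one, mul_inv_eq_iff_eq_mul] at h1
      exact h1
    obtain ⟨i, hi, hi2⟩ := heven T hTM hMT hT
    refine hMH e fun m hm => mem_stabilizer_iff.2 ?_
    have h1 := hfix _ ((mem_normalizer_iff''.1 (hMT hm) i).1 hi)
    rw [mul_smul, mul_smul, inv_smul_eq_iff] at h1
    exact (eq_of_fixed hH hi2 (hfix i hi) h1).symm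
  have hinj := M.subtype_injective
  haveI : Nontrivial M := (Subgroup.nontrivial_iff_ne_bot M).2 hMne
  have hSimple : IsSimpleGroup M := by
    refine ⟨fun U hU => ?_⟩
    by_cases hU' : U.map M.subtype = ⊥
    · exact Or.inl ((map_eq_bot_iff_of_injective U hinj).1 hU')
    refine Or.inr (Subgroup.map_injective hinj ?_)
    rw [← MonoidHom.range_eq_map, range_subtype]
    refine hsimple _ (map_subtype_le _) (fun m hm => ?_) hU'
    refine Cfsg.Lib.ZStarApps.mem_normalizer_of_maps ?_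
    rintro _ ⟨y, hy, rfl⟩
    exact ⟨⟨m, hm⟩ * y * ⟨m, hm⟩⁻¹, hU.conj_mem y hy _, rfl⟩
  refine ⟨M, hMn, hSimple, hall, htrans, ⟨fun htop => ?_, ?_, fun g hg => ?_⟩, ?_⟩
  · refine hMH (QuotientGroup.mk 1) fun m hm => mem_stabilizer_iff.2 (smul_mk_one_iff.2 ?_)
    exact mem_subgroupOf.1 (htop ▸ mem_top (⟨m, hm⟩ : M))
  · obtain ⟨i, hi, hi2⟩ := exists_involution_of_even hH.2.1
    refine even_iff_two_dvd.2 ?_
    rw [← hi2, ← Subgroup.orderOf_mk i (hall i hi2)]
    exact Subgroup.orderOf_dvd_natCard _ (mem_subgroupOf.2 hi)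
  · rw [← card_map_of_injective hinj]
    refine (hH.2.2 (g : G) fun h => hg (mem_subgroupOf.2 h)).of_dvd_nat (card_dvd_of_le ?_)
    rintro _ ⟨x, hx, rfl⟩
    obtain ⟨hxH, y, hy, hyx⟩ := mem_inf.1 hx
    refine mem_inf.2 ⟨mem_subgroupOf.1 hxH, y, mem_subgroupOf.1 hy, ?_⟩
    rw [← hyx]
    rfl
  · obtain ⟨p, q, hp, hq, hne, hc⟩ := hS.rank2
    exact ⟨⟨p, hall p hp⟩, ⟨q, hall q hq⟩, (Subgroup.orderOf_mk _ _).trans hp,
      (Subgroup.orderOf_mk _ _).trans hq, fun h => hne (congrArg Subtype.val h), Subtype.ext hc⟩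

/-- in a core-free setting the involutions of `H` commute -/
theorem commute_of_setting (step : CommStep.{u}) (hS : Setting H) {i j : G} (hi : i ∈ H)
    (hj : j ∈ H) (hi2 : orderOf i = 2) (hj2 : orderOf j = 2) : i * j = j * i := by
  obtain ⟨M, -, hsimple, hall, -, hM, h2⟩ := exists_socle hS
  haveI := hsimple
  exact congrArg Subtype.val (commute_of_commStep step hM h2 (i := ⟨i, hall i hi2⟩)
    (j := ⟨j, hall j hj2⟩) (mem_subgroupOf.2 hi) (mem_subgroupOf.2 hj)
    ((Subgroup.orderOf_mk _ _).trans hi2) ((Subgroup.orderOf_mk _ _).trans hj2) :)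

/-- an element of `H` centralising `H ∩ M` is trivial -/
theorem eq_one_of_centralize (step : CommStep.{u}) (hS : Setting H) {M : Subgroup G}
    (hMn : M.Normal) (hsimple : IsSimpleGroup M)
    (htrans : ∀ x : G ⧸ H, ∃ m ∈ M, m • (QuotientGroup.mk 1 : G ⧸ H) = x)
    (hM : Cfsg.IsStronglyEmbedded (H.subgroupOf M)) (h2 : HasCommutingInvolutions M) {x : G}
    (hxH : x ∈ H) (hx : ∀ h ∈ H ⊓ M, x * h = h * x) : x = 1 := by
  haveI := hsimple
  have hSM : Setting (H.subgroupOf M) := ⟨hM, normalCore_eq_bot_of_simple hM, h2⟩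
  obtain ⟨r, hr, -, hrd⟩ := exists_prime_dvd_invCount hM h2
  haveI := Fact.mk hr
  have htwo := exactlyTwo_of_noBad hM (noBad_of_commStep step hSM) hrd
  have hxo : x • (QuotientGroup.mk 1 : G ⧸ H) = QuotientGroup.mk 1 := smul_mk_one_iff.2 hxH
  have hfix : ∀ a : G ⧸ H, x • a = a := by
    intro a
    by_cases hao : a = QuotientGroup.mk 1
    · subst hao; exact hxo
    obtain ⟨m₁, hm₁, rfl⟩ := htrans a
    obtain ⟨m₂, hm₂, hxa⟩ := htrans (x • m₁ • (QuotientGroup.mk 1 : G ⧸ H))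
    have hstab : ∀ (p : M) (m : G) (hm : m ∈ M),
        p • (QuotientGroup.mk ⟨m, hm⟩ : M ⧸ H.subgroupOf M) = QuotientGroup.mk ⟨m, hm⟩ ↔
          (p : G) • m • (QuotientGroup.mk 1 : G ⧸ H) = m • QuotientGroup.mk 1 := by
      intro p m hm
      rw [MulAction.Quotient.smul_mk, smul_smul, MulAction.Quotient.smul_mk,
        MulAction.Quotient.smul_mk, QuotientGroup.eq, QuotientGroup.eq, mem_subgroupOf]
      simp [mul_assoc]
    have hne : (QuotientGroup.mk 1 : M ⧸ H.subgroupOf M) ≠ QuotientGroup.mk ⟨m₁, hm₁⟩ := by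
      intro e
      rw [QuotientGroup.eq, inv_one, one_mul, mem_subgroupOf] at e
      exact hao (smul_mk_one_iff.2 e)
    obtain ⟨P, hP, hPs, -⟩ := exists_pairSylow_ge (H := H.subgroupOf M) (r := r) (Q := (⊥ : Subgroup M))
      IsPGroup.of_bot (x := QuotientGroup.mk 1) (z := QuotientGroup.mk ⟨m₁, hm₁⟩) bot_le
    have h3 := htwo _ _ P hne hP hPs.1 hPs.2
    have hmem : (QuotientGroup.mk ⟨m₂, hm₂⟩ : M ⧸ H.subgroupOf M) ∈
        fixOf (α := M ⧸ H.subgroupOf M) P := by
      intro p hp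
      have hp1 : p ∈ H.subgroupOf M := smul_mk_one_iff.1 (mem_inf.1 (hPs.1 hp)).1
      have hp2 := (hstab p m₁ hm₁).1 (mem_inf.1 (hPs.1 hp)).2
      rw [hstab, hxa, smul_smul, ← hx _ (mem_inf.2 ⟨mem_subgroupOf.1 hp1, p.2⟩), mul_smul, hp2]
    rw [h3] at hmem
    rcases hmem with h | h
    · exfalso
      rw [eq_comm, QuotientGroup.eq, inv_one, one_mul, mem_subgroupOf] at h
      rw [smul_mk_one_iff.2 h] at hxa
      exact hao (smul_left_cancel x (hxa.symm.trans hxo.symm))
    · rw [Set.mem_singleton_iff, QuotientGroup.eq, mem_subgroupOf] at h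
      rw [← hxa, MulAction.Quotient.smul_mk, MulAction.Quotient.smul_mk, QuotientGroup.eq]
      simpa using h
  rw [← mem_bot, ← hS.core]
  intro k
  rw [← smul_mk_one_iff (H := H), mul_smul, mul_smul, hfix, smul_inv_smul]

/-- the remaining input for row 1221 -/
def CoreStep : Prop :=
  ∀ (S : Type u) [Group S] [Finite S], IsSimpleGroup S →
    ∀ K : Subgroup S, Cfsg.IsStronglyEmbedded K → HasCommutingInvolutions S → TwoTransitive K →
      NoBad K → CentreSquares K →
      (∀ i ∈ K, ∀ j ∈ K, orderOf i = 2 → orderOf j = 2 → i * j = j * i) → Cfsg.oddCore K = ⊥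

/-- `O(H) = 1` in a core-free setting -/
theorem oddCoreOf_eq_bot (step : CommStep.{u}) (cstep : CoreStep.{u}) (hS : Setting H) :
    oddCoreOf H = ⊥ := by
  obtain ⟨M, hMn, hsimple, hall, htrans, hM, h2⟩ := exists_socle hS
  haveI := hsimple
  have hSM : Setting (H.subgroupOf M) := ⟨hM, normalCore_eq_bot_of_simple hM, h2⟩
  have hO : oddCoreOf (H.subgroupOf M) = ⊥ := by
    show (Cfsg.oddCore (H.subgroupOf M)).map _ = ⊥
    rw [cstep M hsimple _ hM h2 (twoTransitive_of_commStep step hSM) (noBad_of_commStep step hSM)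
      (centreSquares_of_commStep step hM) (fun i hi j hj => commute_of_commStep step hM h2 hi hj),
      Subgroup.map_bot]
  have hXn : H ≤ normalizer (oddCoreOf H : Set G) :=
    le_normalizer.trans (normalizer_le_normalizer_oddCoreOf H)
  have hXM : oddCoreOf H ⊓ M = ⊥ := by
    have h1 : (oddCoreOf H ⊓ M).subgroupOf M ≤ oddCoreOf (H.subgroupOf M) := by
      refine le_oddCoreOf (fun m hm => ?_) (fun m hm => ?_) ?_
      · exact mem_subgroupOf.2 (oddCoreOf_le H (mem_inf.1 (mem_subgroupOf.1 hm)).1)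
      · refine Cfsg.Lib.ZStarApps.mem_normalizer_of_maps fun w hw => ?_
        refine mem_subgroupOf.2 (mem_inf.2
          ⟨(mem_normalizer_iff.1 (hXn (mem_subgroupOf.1 hm)) _).1 (mem_inf.1 (mem_subgroupOf.1 hw)).1,
            ?_⟩)
        exact (m * w * m⁻¹).2
      · rw [Nat.card_congr (subgroupOfEquivOfLe inf_le_right).toEquiv]
        exact (odd_card_oddCoreOf H).of_dvd_nat (card_dvd_of_le inf_le_left)
    rw [hO, le_bot_iff] at h1
    have h5 := congrArg (Subgroup.map M.subtype) h1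
    rwa [map_subgroupOf_eq_of_le inf_le_right, Subgroup.map_bot] at h5
  rw [eq_bot_iff]
  intro x hx
  refine mem_bot.2 (eq_one_of_centralize step hS hMn hsimple htrans hM h2 (oddCoreOf_le H hx) ?_)
  intro h hh
  have h1 : x * h * x⁻¹ * h⁻¹ ∈ oddCoreOf H ⊓ M := mem_inf.2 ⟨by
      rw [show x * h * x⁻¹ * h⁻¹ = x * (h * x⁻¹ * h⁻¹) by group]
      exact mul_mem hx ((mem_normalizer_iff.1 (hXn (mem_inf.1 hh).1) _).1 (inv_mem hx)),
    mul_mem (hMn.conj_mem h (mem_inf.1 hh).2 x) (inv_mem (mem_inf.1 hh).2)⟩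
  rw [hXM, mem_bot, mul_inv_eq_one, mul_inv_eq_iff_eq_mul] at h1
  exact h1

/-- ROW 1221 from `CommStep` and `CoreStep` -/
theorem oddCore_le_oddCore (step : CommStep.{u}) (cstep : CoreStep.{u})
    (hH : Cfsg.IsStronglyEmbedded H) :
    (Cfsg.oddCore ↥H).map H.subtype ≤ Cfsg.oddCore G := by
  show oddCoreOf H ≤ _
  by_cases h2 : HasCommutingInvolutions G
  · set π := QuotientGroup.mk' H.normalCore with hπ
    have h1 : (oddCoreOf H).map π ≤ oddCoreOf (H.map π) := by
      refine le_oddCoreOf (map_mono (oddCoreOf_le H)) ?_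
        ((odd_card_oddCoreOf H).of_dvd_nat (Subgroup.card_map_dvd _ π))
      rintro _ ⟨h, hh, rfl⟩
      refine Cfsg.Lib.ZStarApps.mem_normalizer_of_maps ?_
      rintro _ ⟨w, hw, rfl⟩
      exact ⟨h * w * h⁻¹,
        (mem_normalizer_iff.1 (normalizer_le_normalizer_oddCoreOf H (le_normalizer hh)) w).1 hw,
        by rw [map_mul, map_mul, map_inv]⟩
    rw [oddCoreOf_eq_bot step cstep (setting_quotient hH h2), le_bot_iff, Subgroup.map_eq_bot_iff,
      QuotientGroup.ker_mk'] at h1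
    exact h1.trans (Cfsg.Lib.Components.le_pPrimeCore (Nat.coprime_two_right.2 (odd_normalCore hH)))
  · set O := Cfsg.oddCore G with hO
    haveI : O.Characteristic := Cfsg.Lib.Components.pPrimeCore_characteristic
    have htop := sup_eq_top_of_rankOne hH h2
    set P := oddCoreOf H ⊔ O with hP
    haveI hPn : P.Normal := by
      refine normalizer_eq_top_iff.1 (eq_top_iff.2 ?_)
      rw [← htop]
      refine sup_le (le_sup_right.trans le_normalizer) fun h hh => ?_
      rw [← Cfsg.Lib.Coprime.conjMap_eq_self_iff, hP, Cfsg.Lib.Coprime.conjMap, Subgroup.map_sup]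
      congr 1
      · exact Cfsg.Lib.Coprime.conjMap_eq_self_iff.2
          (normalizer_le_normalizer_oddCoreOf H (le_normalizer hh))
      · exact Cfsg.Lib.Coprime.conjMap_eq_self_iff.2 (by
          rw [normalizer_eq_top_iff.2 (inferInstance : O.Normal)]; exact mem_top h)
    have hodd : Odd (Nat.card P) := by
      rw [← Nat.not_even_iff_odd]
      intro he
      obtain ⟨i, hi, hi2⟩ := exists_involution_of_even he
      have h3 : QuotientGroup.mk' O i ∈ (oddCoreOf H).map (QuotientGroup.mk' O) := by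
        have h4 := mem_map_of_mem (QuotientGroup.mk' O) hi
        rwa [Subgroup.map_sup, (Subgroup.map_eq_bot_iff _).2 (QuotientGroup.ker_mk' O).ge,
          sup_bot_eq] at h4
      have h5 := ((odd_card_oddCoreOf H).of_dvd_nat (Subgroup.card_map_dvd _ _)).of_dvd_nat
        (Subgroup.orderOf_dvd_natCard _ h3)
      have h6 : QuotientGroup.mk' O i = 1 := by
        have h8 : orderOf (QuotientGroup.mk' O i) ∣ 2 := by
          exact (orderOf_map_dvd (QuotientGroup.mk' O) i).trans hi2.dvd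
        refine orderOf_eq_one_iff.1 (((Nat.dvd_prime Nat.prime_two).1 h8).resolve_right fun e => ?_)
        rw [e] at h5
        exact absurd h5 (by decide)
      have h7 := Cfsg.Lib.ZStarApps.odd_card_pPrimeCore.of_dvd_nat
        (Subgroup.orderOf_dvd_natCard _ ((QuotientGroup.eq_one_iff i).1 h6))
      rw [hi2] at h7
      exact absurd h7 (by decide)
    exact le_sup_left.trans (Cfsg.Lib.Components.le_pPrimeCore (N := P) (Nat.coprime_two_right.2 hodd))

end Cfsg.Lib.BenderSE
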