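/-
REG, step R-a (notes/bender_secA_lead.md): the elementary abelian group `U = M_c` of the involutions
at `c`, and the normal complement `Q₀` of `D₀ = C_D(U)` in `K = C_H(U)`.
-/
import Cfsg.Agent.BenderSE.CommBasic
import Cfsg.Agent.BenderSE.Complement
import Cfsg.Agent.BenderSE.Socle
import Cfsg.Agent.OddChar.PF.OddOrder

set_option autoImplicit false
set_option linter.unusedSectionVars false
set_option linter.style.haveILetI false

namespace Cfsg.Lib.BenderSE

open Subgroup MulAction Cfsg.Lib.InvolCalc Cfsg.Lib.StrongEmb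

universe u

variable {G : Type u} [Group G] [Finite G] {H : Subgroup G}

/-- induction fact: a proper `N` moving `c`, with commuting involutions, has a `2`-group fixing `c`,
transitive on the rest of the orbit of `c` and commuting with the involutions of `N` at `c` -/
def CentreTwo (H : Subgroup G) : Prop :=
  ∀ N : Subgroup G, N ≠ ⊤ →
    (∃ u ∈ N, ∃ v ∈ N, orderOf u = 2 ∧ orderOf v = 2 ∧ u ≠ v ∧ Commute u v) →
    ∀ (c : G ⧸ H) (i : G), i ∈ N → orderOf i = 2 → i • c = c → ¬ N ≤ stabilizer G c →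
      ∃ S : Subgroup G, S ≤ N ⊓ stabilizer G c ∧ IsPGroup 2 S ∧
        (∀ s ∈ S, ∀ j ∈ N, orderOf j = 2 → j • c = c → Commute s j) ∧
        ∀ x ∈ orbit N c, ∀ y ∈ orbit N c, x ≠ c → y ≠ c → ∃ s ∈ S, s • x = y

/-- `K = C_H(U)` -/
def centGroup (c : G ⧸ H) : Subgroup G :=
  stabilizer G c ⊓ centralizer (invGroup G c : Set G)

theorem mem_centGroup_iff {c : G ⧸ H} {g : G} :
    g ∈ centGroup c ↔ g • c = c ∧ ∀ i : G, orderOf i = 2 → i • c = c → Commute g i := by
  rw [centGroup, invGroup, centralizer_closure, mem_inf, mem_stabilizer_iff, mem_centralizer_iff]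
  exact ⟨fun h => ⟨h.1, fun i hi hic => (h.2 i ⟨hi, hic⟩).symm⟩,
    fun h => ⟨h.1, fun i hi => (h.2 i hi.1 hi.2).eq.symm⟩⟩

theorem stabilizer_le_normalizer_invGroup (c : G ⧸ H) :
    stabilizer G c ≤ normalizer (invGroup G c : Set G) := fun g hg =>
  Cfsg.Lib.ZStarApps.mem_normalizer_of_maps fun w hw => by
    have h := conj_mem_invGroup g hw
    rwa [mem_stabilizer_iff.1 hg] at h

theorem conj_mem_centGroup {c : G ⧸ H} {g : G} (h : G) (hg : g ∈ centGroup c) :
    h * g * h⁻¹ ∈ centGroup (h • c) := by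
  rw [mem_centGroup_iff] at hg ⊢
  refine ⟨by rw [mul_smul, mul_smul, inv_smul_smul, hg.1], fun i hi hic => ?_⟩
  have h1 := (hg.2 (h⁻¹ * i * h⁻¹⁻¹) (by rw [orderOf_conj', hi])
    (by rw [inv_inv, mul_smul, mul_smul, hic, inv_smul_smul])).map (MulAut.conj h).toMonoidHom
  simpa [mul_assoc] using h1

section U

variable (hC : CommAt H) (c : G ⧸ H)
include hC

theorem invGroup_mul_self {g : G} (hg : g ∈ invGroup G c) : g * g = 1 :=
  sq_eq_one_of_mem_closure (fun _ hu => sq_of_order_two hu.1)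
    (fun u hu v hv => (hC c u v hu.1 hv.1 hu.2 hv.2).eq) hg

theorem invGroup_commute {g h : G} (hg : g ∈ invGroup G c) (hh : h ∈ invGroup G c) :
    Commute g h := by
  have hgh := invGroup_mul_self hC c (mul_mem hg hh)
  show g * h = h * g
  rw [eq_inv_of_mul_eq_one_left hgh, mul_inv_rev,
    inv_eq_of_mul_eq_one_right (invGroup_mul_self hC c hg),
    inv_eq_of_mul_eq_one_right (invGroup_mul_self hC c hh)]

theorem mem_invGroup_iff {g : G} :
    g ∈ invGroup G c ↔ g = 1 ∨ (orderOf g = 2 ∧ g • c = c) := by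
  constructor
  · intro hg
    refine or_iff_not_imp_left.2 fun h1 => ⟨order_two_of_mul_self (invGroup_mul_self hC c hg) h1, ?_⟩
    exact mem_stabilizer_iff.1 (invGroup_le_stabilizer c hg)
  · rintro (rfl | h)
    · exact one_mem _
    · exact subset_closure h

theorem invGroup_semiregular (hH : Cfsg.IsStronglyEmbedded H) {g : G} (hg : g ∈ invGroup G c)
    (hg1 : g ≠ 1) {x : G ⧸ H} (hx : g • x = x) : x = c := by
  obtain h | ⟨h2, hc⟩ := (mem_invGroup_iff hC c).1 hg
  · exact absurd h hg1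
  · exact eq_of_fixed hH h2 hx hc

/-- `|U| = m + 1` -/
theorem card_invGroup (hH : Cfsg.IsStronglyEmbedded H) :
    Nat.card (invGroup G c) = invCount H + 1 := by
  have hset : (invGroup G c : Set G) = insert 1 {i : G | orderOf i = 2 ∧ i • c = c} := by
    ext g
    simp only [SetLike.mem_coe, Set.mem_insert_iff, Set.mem_ofPred_eq]
    exact mem_invGroup_iff hC c
  have hone : (1 : G) ∉ {i : G | orderOf i = 2 ∧ i • c = c} := fun h => by
    have h1 := h.1
    rw [orderOf_one] at h1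
    simp at h1
  show Nat.card ↥((invGroup G c : Subgroup G) : Set G) = _
  rw [Nat.card_coe_set_eq, hset, Set.ncard_insert_of_notMem hone, ← Nat.card_coe_set_eq]
  exact congrArg (· + 1) (card_fixing hH c)

theorem invGroup_le_centGroup : invGroup G c ≤ centGroup c := fun _ hg =>
  mem_inf.2 ⟨invGroup_le_stabilizer c hg,
    mem_centralizer_iff.2 fun _ hh => (invGroup_commute hC c hh hg).eq⟩

end U

/-- KEY: the centraliser in `K` of a nontrivial `r`-group of `D₀` has a `2`-group transitive on its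
fixed points other than `c` -/
theorem exists_twoGroup_transitive (hS : Setting H) (hb : NoBad H) (hct : CentreTwo H)
    {c a : G ⧸ H} (hac : a ≠ c) {r : ℕ} [Fact r.Prime] {X : Subgroup G} (hXp : IsPGroup r X)
    (hX : X ≤ centGroup c ⊓ stabilizer G a) (hX1 : X ≠ ⊥) :
    ∃ S : Subgroup G, S ≤ centGroup c ⊓ centralizer (X : Set G) ∧ IsPGroup 2 S ∧
      ∀ z ∈ fixOf (α := G ⧸ H) X, ∀ z' ∈ fixOf (α := G ⧸ H) X, z ≠ c → z' ≠ c →
        ∃ s ∈ S, s • z = z' := by
  have hH := hS.se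
  set N := centralizer (X : Set G) with hN
  have hXc : c ∈ fixOf (α := G ⧸ H) X := fun g hg => (mem_centGroup_iff.1 (mem_inf.1 (hX hg)).1).1
  have hUN : invGroup G c ≤ N := fun u hu => mem_centralizer_iff.2 fun x hx =>
    (mem_centralizer_iff.1 (mem_inf.1 (mem_inf.1 (hX hx)).1).2 u hu).symm
  obtain ⟨p, q, hp, hq, hpq, hpqc, hpc, hqc⟩ := exists_commuting_fixing hH hS.rank2 c
  have hpN : p ∈ N := hUN (subset_closure ⟨hp, hpc⟩)
  have hqN : q ∈ N := hUN (subset_closure ⟨hq, hqc⟩)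
  have hcomm : ∀ g ∈ X, Commute g p := fun g hg => (mem_centralizer_iff.1 hpN g hg)
  have hat : ∀ z ∈ fixOf (α := G ⧸ H) X, z ≠ c → ∃ w : G, orderOf w = 2 ∧ w • z = z ∧ w ∈ N := by
    intro z hz hzc
    obtain ⟨-, w, hw, hwz, hwX⟩ := exists_centralizing_other hH hb hXp hzc hXc hz hp hpc hcomm
    exact ⟨w, hw, hwz, mem_centralizer_iff.2 fun g hg => (hwX g hg).eq⟩
  have hXa : a ∈ fixOf (α := G ⧸ H) X := fun g hg => (mem_inf.1 (hX hg)).2
  have hmove : ¬ N ≤ stabilizer G c := fun hle => by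
    obtain ⟨w, hw, hwa, hwN⟩ := hat a hXa hac
    exact hac (eq_of_fixed hH hw hwa (hle hwN))
  have hNtop : N ≠ ⊤ := fun htop => by
    refine hX1 (eq_bot_of_normal_le_stabilizer hS.core ⟨fun x hx g => ?_⟩
      (a := c) fun g hg => hXc g hg)
    have hg : g ∈ N := htop ▸ mem_top g
    rw [← mem_centralizer_iff.1 hg x hx, mul_inv_cancel_right]
    exact hx
  obtain ⟨S, hSle, hS2, hScomm, hStr⟩ :=
    hct N hNtop ⟨p, hpN, q, hqN, hp, hq, hpq, hpqc⟩ c p hpN hp hpc hmove
  have horb : ∀ z ∈ fixOf (α := G ⧸ H) X, z ∈ orbit N c := by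
    intro z hz
    rcases eq_or_ne z c with rfl | hzc
    · exact mem_orbit_self z
    obtain ⟨w, hw, hwz, hwN⟩ := hat z hz hzc
    obtain ⟨g, hg, hgw⟩ := exists_conj_of_moves hH hp hpN hpc hmove hw hwN
    refine ⟨⟨g, hg⟩, eq_of_fixed hH hw ?_ hwz⟩
    show w • g • c = g • c
    rw [← hgw, mul_smul, mul_smul, inv_smul_smul, hpc]
  refine ⟨S, fun s hs => mem_inf.2 ⟨mem_centGroup_iff.2 ⟨mem_stabilizer_iff.1 (mem_inf.1 (hSle hs)).2,
    fun i hi hic => hScomm s hs i (hUN (subset_closure ⟨hi, hic⟩)) hi hic⟩, (mem_inf.1 (hSle hs)).1⟩,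
    hS2, fun z hz z' hz' hzc hz'c => hStr z (horb z hz) z' (horb z' hz') hzc hz'c⟩

/-- `D₀` is a Hall subgroup of `K` -/
theorem coprime_index_pairKernel (hS : Setting H) (hb : NoBad H) (h2 : TwoTransitive H)
    (hct : CentreTwo H) {c a : G ⧸ H} (hac : a ≠ c) :
    (Nat.card ((stabilizer G a).subgroupOf (centGroup c))).Coprime
      ((stabilizer G a).subgroupOf (centGroup c)).index := by
  set K := centGroup c
  set E := (stabilizer G a).subgroupOf K with hE
  refine Nat.coprime_of_dvd' fun r hr hrE hrI => ?_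
  exfalso
  haveI := Fact.mk hr
  obtain ⟨PE⟩ : Nonempty (Sylow r E) := inferInstance
  set P := (PE : Subgroup E).map E.subtype with hP
  have hPcard : Nat.card P = r ^ (Nat.card E).factorization r := by
    rw [hP, card_map_of_injective E.subtype_injective, Sylow.card_eq_multiplicity]
  obtain ⟨T, hPT⟩ := (PE.isPGroup'.map E.subtype).exists_le_sylow
  have hne : P ≠ (T : Subgroup K) := fun e => by
    have h1 : Nat.card P = r ^ (Nat.card K).factorization r := by
      rw [e, Sylow.card_eq_multiplicity]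
    rw [hPcard, ← E.card_mul_index, Nat.factorization_mul Nat.card_pos.ne' FiniteIndex.index_ne_zero,
      Finsupp.add_apply] at h1
    have h3 := Nat.Prime.factorization_pos_of_dvd hr FiniteIndex.index_ne_zero hrI
    have h4 := Nat.pow_right_injective hr.two_le h1
    omega
  haveI : Group.IsNilpotent T := T.isPGroup'.isNilpotent
  have hlt : P.subgroupOf (T : Subgroup K) < ⊤ :=
    lt_top_iff_ne_top.2 fun h => hne (le_antisymm hPT (subgroupOf_eq_top.1 h))
  obtain ⟨g, hgN, hgP⟩ := SetLike.exists_of_lt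
    (Group.normalizerCondition_of_isNilpotent (G := ↥(T : Subgroup K)) _ hlt)
  have hgn : ∀ x ∈ P, (g : K) * x * (g : K)⁻¹ ∈ P := fun x hx =>
    (mem_normalizer_iff.1 hgN ⟨x, hPT hx⟩).1 hx
  set P₁ := P ⊔ zpowers (g : K) with hP₁
  have hP₁T : P₁ ≤ (T : Subgroup K) := sup_le hPT (zpowers_le.2 g.2)
  set PG := P.map K.subtype with hPG
  set P₁G := P₁.map K.subtype with hP₁G
  have hPE : P ≤ E := map_subtype_le _
  have hPGX : PG ≤ centGroup c ⊓ stabilizer G a := by
    rintro _ ⟨x, hx, rfl⟩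
    exact mem_inf.2 ⟨x.2, mem_subgroupOf.1 (hPE hx)⟩
  have hPG1 : PG ≠ ⊥ := fun e => by
    rw [hPG, map_eq_bot_iff_of_injective _ K.subtype_injective] at e
    rw [e, card_bot] at hPcard
    exact (Nat.one_lt_pow (Nat.Prime.factorization_pos_of_dvd hr Nat.card_pos.ne' hrE).ne'
      hr.one_lt).ne' hPcard.symm
  obtain ⟨S, hS₀, hS2, hStr⟩ := exists_twoGroup_transitive hS hb hct hac
    ((PE.isPGroup'.map E.subtype).map K.subtype) hPGX hPG1
  set F : Set (G ⧸ H) := {z | z ∈ fixOf (α := G ⧸ H) PG ∧ z ≠ c}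
  have hinv : ∀ p ∈ P₁G, ∀ z ∈ F, p • z ∈ F := by
    rintro _ ⟨p, hp, rfl⟩ z ⟨hz, hzc⟩
    have hpn : p ∈ normalizer (P : Set K) := (sup_le le_normalizer (zpowers_le.2
      (Cfsg.Lib.ZStarApps.mem_normalizer_of_maps hgn))) hp
    refine ⟨?_, fun e => hzc ?_⟩
    · rintro _ ⟨x, hx, rfl⟩
      have h1 := hz _ ⟨_, (mem_normalizer_iff''.1 hpn x).1 hx, rfl⟩
      simp only [coe_subtype, Subgroup.coe_mul, Subgroup.coe_inv, mul_smul] at h1
      rw [inv_smul_eq_iff] at h1
      exact h1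
    · have hpc : (p : G) • c = c := (mem_centGroup_iff.1 p.2).1
      exact MulAction.injective (p : G) (e.trans hpc.symm)
  have haF : a ∈ F := ⟨fun x hx => (mem_inf.1 (hPGX hx)).2, hac⟩
  -- the number of fixed points other than `c` is a power of two
  have hF : ∃ k : ℕ, Nat.card F = 2 ^ k := by
    haveI : Fact (Nat.Prime 2) := ⟨Nat.prime_two⟩
    have horb : F = orbit S a := by
      ext z
      constructor
      · intro hz
        obtain ⟨s, hs, hsz⟩ := hStr a haF.1 z hz.1 hac hz.2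
        exact ⟨⟨s, hs⟩, hsz⟩
      · rintro ⟨s, rfl⟩
        refine ⟨fun x hx => ?_, fun e => hac ?_⟩
        · show x • (s : G) • a = (s : G) • a
          rw [smul_smul, mem_centralizer_iff.1 (mem_inf.1 (hS₀ s.2)).2 x hx, mul_smul, haF.1 x hx]
        · have hsc : (s : G) • c = c := (mem_centGroup_iff.1 (mem_inf.1 (hS₀ s.2)).1).1
          exact MulAction.injective (s : G) (e.trans hsc.symm)
    rw [horb]
    exact hS2.card_orbit a
  obtain ⟨k, hk⟩ := hF
  have hP₁p : IsPGroup r P₁G := (T.isPGroup'.to_le hP₁T).map K.subtype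
  obtain ⟨z, ⟨hzP, hzc⟩, hz⟩ : ∃ z ∈ F, ∀ p ∈ P₁G, p • z = z := by
    haveI : Finite F := Subtype.finite
    by_contra hno
    push Not at hno
    have h0 : Nat.card F % r = 0 := by
      haveI : IsEmpty {z // z ∈ F ∧ ∀ p ∈ P₁G, p • z = z} := ⟨fun z => by
        obtain ⟨p, hp, hpz⟩ := hno z.1 z.2.1
        exact hpz (z.2.2 p hp)⟩
      simpa [Nat.ModEq] using card_modEq_fixed hP₁p F hinv
    have hr2 : r ∣ 2 := hr.dvd_of_dvd_pow (n := k) (hk ▸ Nat.dvd_of_mod_eq_zero h0)
    have h3 : r = 2 := (Nat.prime_dvd_prime_iff_eq hr Nat.prime_two).1 hr2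
    have hodd : Odd (Nat.card E) := by
      refine (odd_stabilizer_inf hS.se hac).of_dvd_nat ?_
      rw [hE, ← inf_subgroupOf_right, Nat.card_congr (subgroupOfEquivOfLe inf_le_right).toEquiv]
      exact card_dvd_of_le (le_inf inf_le_left (inf_le_right.trans inf_le_left))
    exact Nat.not_even_iff_odd.2 hodd (even_iff_two_dvd.2 (h3 ▸ hrE))
  -- the larger group lies in a conjugate of `D₀`
  obtain ⟨h, hhc, hha⟩ := h2 c a z hac hzc
  have hle : P₁G.map (MulAut.conj h⁻¹).toMonoidHom ≤ K ⊓ stabilizer G a := by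
    rintro _ ⟨x, hx, rfl⟩
    refine mem_inf.2 ⟨?_, ?_⟩
    · obtain ⟨x', -, rfl⟩ := hx
      have h1 := conj_mem_centGroup h⁻¹ x'.2
      rwa [inv_smul_eq_iff.2 hhc.symm] at h1
    · rw [mem_stabilizer_iff]
      show (h⁻¹ * x * h⁻¹⁻¹) • a = a
      rw [inv_inv, mul_smul, mul_smul, hha, hz x hx, ← hha, inv_smul_smul]
  have hdvd := card_dvd_of_le hle
  rw [card_map_of_injective (MulAut.conj h⁻¹).injective, hP₁G,
    card_map_of_injective K.subtype_injective] at hdvd
  have hEc : Nat.card ↥(K ⊓ stabilizer G a) = Nat.card E := by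
    rw [hE, ← inf_subgroupOf_right, Nat.card_congr (subgroupOfEquivOfLe inf_le_right).toEquiv, inf_comm]
  rw [hEc] at hdvd
  obtain ⟨j, hj⟩ := IsPGroup.iff_card.1 (T.isPGroup'.to_le hP₁T)
  have hltP : Nat.card P < Nat.card P₁ := by
    refine lt_of_le_of_ne (card_le_of_le le_sup_left) fun e => hgP (mem_subgroupOf.2 ?_)
    rw [show P = P₁ from Subgroup.eq_of_le_of_card_ge le_sup_left e.ge]
    exact mem_sup_right (mem_zpowers _)
  rw [hj] at hdvd hltP
  rw [hPcard] at hltP
  have h5 := (hr.pow_dvd_iff_le_factorization Nat.card_pos.ne').1 hdvd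
  exact absurd hltP (not_lt.2 (Nat.pow_le_pow_right hr.pos h5))

/-- R-a: the normal complement `Q₀` of `D₀` in `K` -/
theorem exists_regCore (hS : Setting H) (hb : NoBad H) (h2 : TwoTransitive H)
    (hct : CentreTwo H) {c a : G ⧸ H} (hac : a ≠ c) :
    ∃ Q : Subgroup G, Q ≤ centGroup c ∧ stabilizer G c ≤ normalizer (Q : Set G) ∧
      Q ⊓ stabilizer G a = ⊥ ∧ Q ⊔ (centGroup c ⊓ stabilizer G a) = centGroup c ∧
      (Nat.card Q).Coprime (Nat.card ↥(centGroup c ⊓ stabilizer G a)) ∧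
      ∀ x ∈ centGroup c, (orderOf x).Coprime (Nat.card ↥(centGroup c ⊓ stabilizer G a)) → x ∈ Q := by
  set K := centGroup c with hK
  set E := (stabilizer G a).subgroupOf K with hE
  have hHall := coprime_index_pairKernel hS hb h2 hct hac
  have hEc : Nat.card ↥(K ⊓ stabilizer G a) = Nat.card E := by
    rw [hE, ← inf_subgroupOf_right, Nat.card_congr (subgroupOfEquivOfLe inf_le_right).toEquiv, inf_comm]
  have hEodd : Odd (Nat.card E) := by
    rw [← hEc]
    exact (odd_stabilizer_inf hS.se hac).of_dvd_nat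
      (card_dvd_of_le (le_inf inf_le_right (inf_le_left.trans inf_le_left)))
  haveI : Group.IsSolvable E := Cfsg.Agent.PF.isSolvable_of_odd E hEodd
  obtain ⟨Q', hQn, hQE, hQtop, hQcard, hQmem⟩ :=
    exists_complement_of_control E hHall fun N hNn hNE x hx hpp g hg hgx => by
      haveI := hNn
      obtain ⟨r, k, hr, hk, hord⟩ := hpp
      haveI : Fact r.Prime := ⟨hr.nat_prime⟩
      obtain ⟨hxE, hxN⟩ := mem_inf.1 hx
      have hx1 : x ≠ 1 := fun e => by
        rw [e, orderOf_one] at hord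
        exact (Nat.one_lt_pow hk.ne' hr.nat_prime.one_lt).ne' hord
      set XG := zpowers (x : G)
      have hXle : XG ≤ K ⊓ stabilizer G a := zpowers_le.2 (mem_inf.2 ⟨x.2, hxE⟩)
      have hXp : IsPGroup r XG := IsPGroup.of_card (n := k) (by
        rw [Nat.card_zpowers, Subgroup.orderOf_coe, hord])
      obtain ⟨S, hS₀, hS2, hStr⟩ := exists_twoGroup_transitive hS hb hct hac hXp hXle
        (fun e => hx1 (Subtype.ext (zpowers_eq_bot.1 e)))
      have hza : a ∈ fixOf (α := G ⧸ H) XG := fun y hy => (mem_inf.1 (hXle hy)).2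
      have hz : (g : G)⁻¹ • a ∈ fixOf (α := G ⧸ H) XG := by
        intro y hy
        obtain ⟨j, rfl⟩ := hy
        have h0 : (x : G) ∈ stabilizer G ((g : G)⁻¹ • a) := by
          have hgx' : ((g : G) * x * (g : G)⁻¹) • a = a := hgx
          rw [mul_smul, mul_smul] at hgx'
          exact mem_stabilizer_iff.2 (eq_inv_smul_iff.2 hgx')
        exact mem_stabilizer_iff.1 (zpow_mem h0 j)
      have hzc : (g : G)⁻¹ • a ≠ c := fun e => hac (by
        rw [inv_smul_eq_iff.1 e, (mem_centGroup_iff.1 g.2).1])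
      obtain ⟨s, hs, hsa⟩ := hStr a hza _ hz hac hzc
      obtain ⟨hsK, hsX⟩ := mem_inf.1 (hS₀ hs)
      have hsN : (⟨s, hsK⟩ : K) ∈ N := by
        refine (QuotientGroup.eq_one_iff (⟨s, hsK⟩ : K)).1 (orderOf_eq_one_iff.1 ?_)
        obtain ⟨i, hi⟩ := IsPGroup.iff_orderOf.1 hS2 ⟨s, hs⟩
        rw [Subgroup.orderOf_mk] at hi
        have h3 : orderOf ((⟨s, hsK⟩ : K) : K ⧸ N) ∣ 2 ^ i := by
          rw [← hi, ← Subgroup.orderOf_mk (a := s) hsK]
          exact orderOf_map_dvd (QuotientGroup.mk' N) _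
        have h4 : orderOf ((⟨s, hsK⟩ : K) : K ⧸ N) ∣ Nat.card E := by
          refine (_root_.orderOf_dvd_natCard _).trans ?_
          rw [← index_eq_card, show N.index = N.relIndex E by
            rw [← relIndex_sup_left E N, hNE, relIndex_top_right]]
          exact relIndex_dvd_card N E
        exact Nat.eq_one_of_dvd_coprimes ((Nat.coprime_two_left.2 hEodd).pow_left i) h3 h4
      refine ⟨g * ⟨s, hsK⟩, mem_inf.2 ⟨?_, mul_mem hg hsN⟩, Subtype.ext ?_⟩
      · show ((g : G) * s) • a = a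
        rw [mul_smul, hsa, smul_inv_smul]
      · have hsx : (x : G) * s = s * x := mem_centralizer_iff.1 hsX _ (mem_zpowers _)
        show (g : G) * s * x * ((g : G) * s)⁻¹ = (g : G) * x * (g : G)⁻¹
        rw [mul_assoc (g : G) s, ← hsx, mul_inv_rev]
        group
  refine ⟨Q'.map K.subtype, map_subtype_le _, fun h hh => ?_, ?_, ?_, ?_, fun x hx hxcop => ?_⟩
  · refine Cfsg.Lib.ZStarApps.mem_normalizer_of_maps ?_
    rintro _ ⟨q, hq, rfl⟩
    have hqK : h * (q : G) * h⁻¹ ∈ K := by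
      have h1 := conj_mem_centGroup h q.2
      rwa [mem_stabilizer_iff.1 hh] at h1
    refine ⟨⟨_, hqK⟩, hQmem _ ?_, rfl⟩
    rw [Subgroup.orderOf_mk, orderOf_conj', Subgroup.orderOf_coe]
    exact (hHall.symm.coprime_dvd_left (hQcard ▸ Subgroup.orderOf_dvd_natCard Q' hq))
  · refine eq_bot_iff.2 fun y hy => ?_
    obtain ⟨⟨q, hq, rfl⟩, hya⟩ := mem_inf.1 hy
    have h1 : q ∈ Q' ⊓ E := mem_inf.2 ⟨hq, mem_subgroupOf.2 hya⟩
    rw [hQE, mem_bot] at h1
    rw [h1]
    exact one_mem _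
  · have h1 := congrArg (Subgroup.map K.subtype) hQtop
    rw [Subgroup.map_sup, ← MonoidHom.range_eq_map, range_subtype, hE, subgroupOf_map_subtype] at h1
    rwa [inf_comm (stabilizer G a)] at h1
  · rw [card_map_of_injective K.subtype_injective, hQcard, hEc]
    exact hHall.symm
  · exact ⟨⟨x, hx⟩, hQmem _ (by rwa [Subgroup.orderOf_mk, ← hEc]), rfl⟩

end Cfsg.Lib.BenderSE
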