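/-
Transfer with control for COMM (notes/bender_caseplus_h8.md): elements centralised by two involutions
at a point move the other fixed points by 2-elements of their centraliser, and a character of a pair
stabiliser respected by this fusion is killed by a normal subgroup of the point stabiliser.
-/
import Cfsg.Agent.BenderSE.CommTransfer
import Cfsg.Agent.BenderSE.Reg.BelowWeak

set_option autoImplicit false
set_option linter.unusedSectionVars false
set_option linter.style.haveILetI false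

namespace Cfsg.Lib.BenderSE

open Subgroup MulAction Cfsg.Lib.InvolCalc

universe u

variable {G : Type u} [Group G] [Finite G] {H : Subgroup G}

/-- `R` is centralised by two involutions at `c` -/
def WideAtPoint (H : Subgroup G) (R : Subgroup G) (c : G ⧸ H) : Prop :=
  ∃ i j : G, orderOf i = 2 ∧ orderOf j = 2 ∧ i ≠ j ∧ i • c = c ∧ j • c = c ∧
    (∀ g ∈ R, Commute g i) ∧ ∀ g ∈ R, Commute g j

theorem WideAtPoint.mono {R R' : Subgroup G} {c : G ⧸ H} (hw : WideAtPoint H R c) (hR : R' ≤ R) :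
    WideAtPoint H R' c := by
  obtain ⟨i, j, hi, hj, hne, hic, hjc, hRi, hRj⟩ := hw
  exact ⟨i, j, hi, hj, hne, hic, hjc, fun g hg => hRi g (hR hg), fun g hg => hRj g (hR hg)⟩

/-- the centraliser of a wide `r`-group: 2-elements are transitive on its other fixed points, whose
number is a power of two -/
theorem exists_wide_moves (hH : Cfsg.IsStronglyEmbedded H) (hcore : H.normalCore = ⊥) (hb : NoBad H)
    (hcs : CentreSquares H) (reg : RegBelow.{u} (Nat.card G)) {r : ℕ} [Fact r.Prime] {R : Subgroup G}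
    (hR : IsPGroup r R) (hR1 : R ≠ ⊥) {c a : G ⧸ H} (hac : a ≠ c)
    (hc : c ∈ fixOf (α := G ⧸ H) R) (ha : a ∈ fixOf (α := G ⧸ H) R) (hw : WideAtPoint H R c) :
    (∀ b : G ⧸ H, b ≠ c → b ∈ fixOf (α := G ⧸ H) R → ∃ s : G, (∃ k : ℕ, orderOf s = 2 ^ k) ∧
      s • c = c ∧ (∀ g ∈ R, Commute g s) ∧ s • a = b) ∧
    ∃ k : ℕ, Nat.card {b : G ⧸ H // b ≠ c ∧ b ∈ fixOf (α := G ⧸ H) R} = 2 ^ k := by
  obtain ⟨i, j, hi, hj, hne, hic, hjc, hRi, hRj⟩ := hw
  have hij : Commute i j := by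
    obtain ⟨x, hx, hx1⟩ : ∃ x ∈ R, x ≠ 1 := by
      by_contra h
      push Not at h
      exact hR1 ((eq_bot_iff_forall R).2 h)
    exact commute_of_centralized hH hcore hb hcs hac hx1 (hc x hx) (ha x hx) hi hj hic hjc
      (hRi x hx) (hRj x hx)
  set N := centralizer (R : Set G) with hN
  have hmemN : ∀ g : G, (∀ x ∈ R, Commute x g) → g ∈ N := fun g h =>
    mem_centralizer_iff.2 fun x hx => (h x hx).eq
  have hNR : ∀ g ∈ N, ∀ x ∈ R, Commute x g := fun g hg x hx => mem_centralizer_iff.1 hg x hx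
  have hiN := hmemN i hRi
  have hjN := hmemN j hRj
  have hNtop : N ≠ ⊤ := fun htop => by
    refine proper_normalizer (Y := R) hcore hR1 (fun g hg => mem_stabilizer_iff.2 (hc g hg)) ?_
    rw [eq_top_iff, ← htop]
    exact centralizer_le_normalizer _
  have hfixN : ∀ g ∈ N, ∀ y ∈ fixOf (α := G ⧸ H) R, g • y ∈ fixOf (α := G ⧸ H) R := by
    intro g hg y hy x hx
    rw [smul_smul, (hNR g hg x hx).eq, mul_smul, hy x hx]
  have h3 : HasThree H R := (exists_centralizing_other hH hb hR hac hc ha hi hic hRi).1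
  have horb : ∀ b, b ∈ fixOf (α := G ⧸ H) R → b ∈ orbit N c := by
    intro b hb'
    by_cases hbc : b = c
    · rw [hbc]; exact mem_orbit_self c
    obtain ⟨w, hw2, hwb, hwR⟩ := exists_centralizing_at hH hb hR hb' h3
    obtain ⟨_, -, -, -, d, hdN, -, hdc⟩ :=
      exists_swapper_centres hH hi hiN hic hw2 (hmemN w hwR) hwb (Ne.symm hbc)
    exact ⟨⟨d, hdN⟩, hdc⟩
  have hmove : ¬ N ≤ stabilizer G c := fun h => by
    obtain ⟨⟨g, hg⟩, hgc⟩ := horb a ha
    exact hac (hgc.symm.trans (mem_stabilizer_iff.1 (h hg)))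
  obtain ⟨S, hS, hS2, htr, k, hk⟩ :=
    exists_two_transitive_weak hH reg hNtop hiN hjN hi hj hne hij hiN hi hic hmove
  refine ⟨fun b hbc hb' => ?_, k, ?_⟩
  · obtain ⟨s, hs, hsb⟩ := htr a (horb a ha) b (horb b hb') hac hbc
    obtain ⟨hsN, hsc⟩ := mem_inf.1 (hS hs)
    obtain ⟨e, he⟩ := hS2 ⟨s, hs⟩
    have h2 : orderOf s ∣ 2 ^ e := orderOf_dvd_of_pow_eq_one (congrArg Subtype.val he)
    obtain ⟨e', -, he'⟩ := (Nat.dvd_prime_pow Nat.prime_two).1 h2
    exact ⟨s, ⟨e', he'⟩, mem_stabilizer_iff.1 hsc, fun x hx => hNR s hsN x hx, hsb⟩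
  · rw [← hk]
    refine Nat.card_congr (Equiv.subtypeEquivRight fun b => ⟨fun h => ⟨horb b h.2, h.1⟩, fun h => ?_⟩)
    obtain ⟨⟨⟨g, hg⟩, rfl⟩, hne'⟩ := h
    exact ⟨hne', hfixN g hg c hc⟩

/-- a prime is prime to the number of other points if a full Sylow subgroup of a pair stabiliser is
wide -/
theorem not_dvd_card_others_of_wide (hH : Cfsg.IsStronglyEmbedded H) (hcore : H.normalCore = ⊥)
    (hb : NoBad H) (hcs : CentreSquares H) (reg : RegBelow.{u} (Nat.card G)) {r : ℕ} [Fact r.Prime]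
    (hr2 : r ≠ 2) {R : Subgroup G} (hR : IsPGroup r R) (hR1 : R ≠ ⊥) {c a : G ⧸ H} (hac : a ≠ c)
    (hc : c ∈ fixOf (α := G ⧸ H) R) (ha : a ∈ fixOf (α := G ⧸ H) R) (hw : WideAtPoint H R c) :
    ¬ r ∣ Nat.card {b : G ⧸ H // b ≠ c} := by
  intro hdvd
  obtain ⟨-, k, hk⟩ := exists_wide_moves hH hcore hb hcs reg hR hR1 hac hc ha hw
  have h1 := card_modEq_fixed hR {b : G ⧸ H | b ≠ c}
    (fun g hg b hbc e => hbc (smul_left_cancel g (e.trans (hc g hg).symm)))
  have h2 : Nat.card {b : G ⧸ H // b ∈ ({b : G ⧸ H | b ≠ c} : Set (G ⧸ H)) ∧ ∀ g ∈ R, g • b = b} = 2 ^ k :=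
    hk
  rw [h2] at h1
  change Nat.card {b : G ⧸ H // b ≠ c} ≡ 2 ^ k [MOD r] at h1
  have h3 : r ∣ 2 ^ k := Nat.modEq_zero_iff_dvd.1 (h1.symm.trans (Nat.modEq_zero_iff_dvd.2 hdvd))
  exact hr2 ((Nat.prime_dvd_prime_iff_eq Fact.out Nat.prime_two).1
    ((Fact.out : r.Prime).dvd_of_dvd_pow h3))

/-- an `r`-element, `r` dividing `m`, centralising an involution at `c` centralises two -/
theorem wideAtPoint_of_dvd (hH : Cfsg.IsStronglyEmbedded H) {r e : ℕ} [Fact r.Prime]
    (hr : r ∣ invCount H) {x : G} (hx : orderOf x ∣ r ^ e) {c : G ⧸ H} (hxc : x • c = c) {v : G}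
    (hv : orderOf v = 2) (hvc : v • c = c) (hxv : Commute x v) : WideAtPoint H (zpowers x) c := by
  classical
  have hR : IsPGroup r (zpowers x) := IsPGroup.of_card_dvd_pow (n := e) (by rwa [Nat.card_zpowers])
  have hgc : ∀ g ∈ zpowers x, g • c = c := fun g hg => by
    obtain ⟨k, rfl⟩ := hg
    exact mem_stabilizer_iff.1 (zpow_mem (mem_stabilizer_iff.2 hxc) k)
  let I := {i : G // orderOf i = 2 ∧ i • c = c}
  letI : MulAction (zpowers x) I :=
    { smul := fun g i => ⟨(g : G) * i.1 * (g : G)⁻¹, by rw [orderOf_conj', i.2.1], by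
        rw [mul_smul, mul_smul, inv_smul_eq_iff.2 (hgc g g.2).symm, i.2.2, hgc g g.2]⟩
      one_smul := fun i => Subtype.ext (by
        show ((1 : zpowers x) : G) * i.1 * ((1 : zpowers x) : G)⁻¹ = i.1
        simp)
      mul_smul := fun g h i => Subtype.ext (by
        show ((g * h : zpowers x) : G) * i.1 * ((g * h : zpowers x) : G)⁻¹ =
          (g : G) * ((h : G) * i.1 * (h : G)⁻¹) * (g : G)⁻¹
        rw [Subgroup.coe_mul]; group) }
  have hv' : (⟨v, hv, hvc⟩ : I) ∈ fixedPoints (zpowers x) I := fun g => Subtype.ext (by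
    show (g : G) * v * (g : G)⁻¹ = v
    obtain ⟨g, k, rfl⟩ := g
    rw [(hxv.zpow_left k).eq, mul_inv_cancel_right])
  have hI : r ∣ Nat.card I := by
    rw [show Nat.card I = invCount H from Cfsg.Lib.StrongEmb.card_fixing hH c]
    exact hr
  obtain ⟨⟨w, hw2, hwc⟩, hw, hne⟩ := hR.exists_fixed_point_of_prime_dvd_card_of_fixed_point I hI hv'
  refine ⟨v, w, hv, hw2, fun h => hne (Subtype.ext h), hvc, hwc,
    fun g hg => by obtain ⟨k, rfl⟩ := hg; exact hxv.zpow_left k, fun g hg => ?_⟩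
  exact mul_inv_eq_iff_eq_mul.1 (congrArg Subtype.val (hw ⟨g, hg⟩) : g * w * g⁻¹ = w)

/-- TRANSFER WITH CONTROL: a homomorphism of `K ∩ G_a` to an abelian group of order prime to the
number of other points, whose fusion is realised by centralising elements, is the restriction of a
homomorphism of `K` -/
theorem exists_normal_of_control {c a : G ⧸ H} (hac : a ≠ c) {K : Subgroup G}
    (hKc : K ≤ stabilizer G c) (htr : ∀ b : G ⧸ H, b ≠ c → ∃ k ∈ K, k • a = b)
    {A : Type u} [CommGroup A] [Finite A] (D' : Subgroup K)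
    (hD' : D' = (stabilizer G a).comap K.subtype) (φ : D' →* A)
    (hA : ∀ (x : A) (q : ℕ), q.Prime → q ∣ orderOf x → ¬ q ∣ Nat.card {b : G ⧸ H // b ≠ c})
    (hctl : ∀ (q e : ℕ), q.Prime → q ∣ Nat.card A → ∀ d : D', orderOf d ∣ q ^ e → d ≠ 1 →
      ∀ b : G ⧸ H, b ≠ c → b ≠ a → ((d : K) : G) • b = b →
      ∃ k ∈ K, Commute ((d : K) : G) k ∧ k • a = b) :
    ∃ K₁ : Subgroup G, K₁ ≤ K ∧ K ≤ normalizer (K₁ : Set G) ∧
      K₁ ⊓ stabilizer G a = (φ.ker.map D'.subtype).map K.subtype ∧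
      (∀ U : Subgroup G, U ≤ K → (∀ b : G ⧸ H, b ≠ c → ∃ u ∈ U, u • a = b) →
        ∀ b : G ⧸ H, b ≠ c → ∃ u ∈ U, u ∈ K₁ ∧ u • a = b) ∧
      ∀ x ∈ K, (orderOf x).Coprime (Nat.card A) → x ∈ K₁ := by
  classical
  have hDa : ∀ x : K, x ∈ D' ↔ (x : G) • a = a := fun x => by subst hD'; exact Iff.rfl
  have hfus : ∀ (d : D') (h : K) (hd : h * (d : K) * h⁻¹ ∈ D'), φ ⟨_, hd⟩ = φ d := by
    intro d h hd
    rw [← mul_inv_eq_one]
    have hpow : ∀ k : ℕ, (φ ⟨_, hd⟩ * (φ d)⁻¹) ^ k =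
        φ (⟨_, hd⟩ ^ k) * (φ (d ^ k))⁻¹ := fun k => by rw [mul_pow, inv_pow, map_pow, map_pow]
    have hconj : ∀ k : ℕ, (((⟨_, hd⟩ : D') ^ k : D') : K) = h * ((d ^ k : D') : K) * h⁻¹ := fun k => by
      push_cast
      rw [conj_pow]
    refine eq_one_of_primary (n := orderOf d) (orderOf_pos d) ?_ fun q k hq hqk ⟨e, he⟩ => ?_
    · rw [hpow]
      have h1 : (⟨_, hd⟩ : D') ^ orderOf d = 1 := Subtype.ext (by
        rw [hconj, pow_orderOf_eq_one]; simp)
      rw [h1, pow_orderOf_eq_one, map_one, one_mul, inv_one]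
    rw [hpow]
    set p := d ^ k with hp
    set p' := (⟨_, hd⟩ : D') ^ k with hp'
    have hpq : p ^ q ^ e = 1 := by rw [hp, ← pow_mul, mul_comm, ← he, pow_orderOf_eq_one]
    have hp'q : p' ^ q ^ e = 1 := by
      refine Subtype.ext ?_
      rw [hp', Subgroup.coe_pow, hconj k, conj_pow, ← hp, ← Subgroup.coe_pow, hpq]
      simp
    haveI := Fact.mk hq
    by_cases hqA : q ∣ Nat.card A
    swap
    · have hz : ∀ z : A, z ^ q ^ e = 1 → z = 1 := fun z hz => by
        rw [← orderOf_eq_one_iff]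
        obtain ⟨i, -, hi⟩ := (Nat.dvd_prime_pow hq).1 (orderOf_dvd_of_pow_eq_one hz)
        rcases Nat.eq_zero_or_pos i with rfl | hi'
        · rw [hi, pow_zero]
        · exact absurd ((hi ▸ dvd_pow_self q hi'.ne' : q ∣ orderOf z).trans (orderOf_dvd_natCard z)) hqA
      rw [hz (φ p) (by rw [← map_pow, hpq, map_one]), hz (φ p') (by rw [← map_pow, hp'q, map_one]),
        one_mul, inv_one]
    by_cases hp1 : p = 1
    · have hp'1 : p' = 1 := Subtype.ext (by rw [hp', hconj k, ← hp, hp1]; simp)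
      rw [hp1, hp'1, map_one, one_mul, inv_one]
    have hp'p : ((p' : K) : G) = (h : G) * ((p : K) : G) * (h : G)⁻¹ := by
      rw [hp', hconj k]; rfl
    set b := (h : G)⁻¹ • a with hbdef
    have hpb : ((p : K) : G) • b = b := by
      have h1 : ((p' : K) : G) • a = a := (hDa _).1 p'.2
      rw [hp'p, mul_smul, mul_smul] at h1
      rw [hbdef, eq_inv_smul_iff]
      exact h1
    have hhc : (h : G) • c = c := mem_stabilizer_iff.1 (hKc h.2)
    have hbc : b ≠ c := fun e => hac (by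
      have e' : (h : G) • b = (h : G) • c := congrArg _ e
      rwa [hbdef, smul_inv_smul, hhc] at e')
    obtain ⟨k', hk', hcomm, hk'a⟩ : ∃ k' ∈ K, Commute ((p : K) : G) k' ∧ k' • a = b := by
      by_cases hba : b = a
      · exact ⟨1, one_mem K, Commute.one_right _, by rw [one_smul, hba]⟩
      · exact hctl q e hq hqA p (orderOf_dvd_of_pow_eq_one hpq) hp1 b hbc hba hpb
    have hh' : h * ⟨k', hk'⟩ ∈ D' := (hDa _).2 (by
      show ((h : G) * k') • a = a
      rw [mul_smul, hk'a, hbdef, smul_inv_smul])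
    have e1 : p' = ⟨_, hh'⟩ * p * (⟨_, hh'⟩ : D')⁻¹ := by
      apply Subtype.ext
      apply Subtype.ext
      rw [hp'p]
      show (h : G) * ((p : K) : G) * (h : G)⁻¹ = (h : G) * k' * ((p : K) : G) * ((h : G) * k')⁻¹
      rw [mul_inv_rev, mul_assoc (h : G) k', ← hcomm.eq]
      group
    rw [e1, map_mul, map_mul, map_inv, mul_comm (φ ⟨_, hh'⟩), mul_inv_cancel_right, mul_inv_cancel]
  obtain ⟨V, hVD, Vrange⟩ : ∃ V : K →* A, (∀ d : D', V (d : K) = φ d ^ D'.index) ∧
      ∀ g : K, V g ∈ φ.range := by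
    refine ⟨MonoidHom.transfer φ, fun d => transfer_eq_pow_of_fusion φ hfus d, fun g => ?_⟩
    letI := D'.fintypeQuotientOfFiniteIndex
    rw [MonoidHom.transfer_eq_prod_quotient_orbitRel_zpowers_quot]
    exact prod_mem fun _ _ => ⟨_, rfl⟩
  have hindex : D'.index = Nat.card {b : G ⧸ H // b ≠ c} := by
    have horb : orbit K a = {b : G ⧸ H | b ≠ c} := by
      ext b
      constructor
      · rintro ⟨k, rfl⟩ e
        refine hac (smul_left_cancel (k : G) ?_)
        exact (show (k : G) • a = c from e).trans (mem_stabilizer_iff.1 (hKc k.2)).symm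
      · intro hbc
        obtain ⟨k, hk, hkb⟩ := htr b hbc
        exact ⟨⟨k, hk⟩, hkb⟩
    have h1 : Nat.card (orbit K a) = Nat.card {b : G ⧸ H // b ≠ c} := by rw [horb]; rfl
    rw [← h1, Nat.card_congr (orbitEquivQuotientStabilizer K a), index_eq_card]
    subst hD'
    rfl
  -- raising to the index is injective on `A`
  have hcop : ∀ x : A, x ^ D'.index = 1 → x = 1 := by
    intro x hx
    rw [← orderOf_eq_one_iff]
    by_contra hne
    obtain ⟨q, hq, hqd⟩ := Nat.exists_prime_and_dvd hne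
    exact hA x q hq hqd (hindex ▸ hqd.trans (orderOf_dvd_of_pow_eq_one hx))
  set K₁ := V.ker.map K.subtype with hK₁
  refine ⟨K₁, map_subtype_le _, ?_, ?_, ?_, ?_⟩
  · intro g hg
    refine mem_normalizer_of_maps_to ?_
    rintro _ ⟨x, hx, rfl⟩
    exact ⟨⟨g, hg⟩ * x * ⟨g, hg⟩⁻¹, (MonoidHom.normal_ker V).conj_mem x hx _, rfl⟩
  · apply le_antisymm
    · rintro g ⟨hg, hga⟩
      obtain ⟨x, hx, rfl⟩ := hg
      have hxD : x ∈ D' := (hDa x).2 hga
      exact mem_map_of_mem _ ⟨⟨x, hxD⟩,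
        MonoidHom.mem_ker.2 (hcop _ (by rw [← hVD]; exact hx)), rfl⟩
    · rintro _ ⟨x, ⟨d, hd, rfl⟩, rfl⟩
      refine mem_inf.2 ⟨⟨(d : K), MonoidHom.mem_ker.2 ?_, rfl⟩, (hDa _).1 d.2⟩
      rw [hVD, MonoidHom.mem_ker.1 hd, one_pow]
  · intro U hUK hUtr b hbc
    -- the image of `U` is the image of `U ∩ G_a`
    set U' : Subgroup K := U.subgroupOf K with hU'
    obtain ⟨u, hu, hub⟩ := hUtr b hbc
    have himg : ∃ d ∈ U', d ∈ D' ∧ V d = V ⟨u, hUK hu⟩ := by
      have h1 : Nat.card (orbit U' a) = D'.index := by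
        rw [hindex]
        refine Nat.card_congr (Equiv.subtypeEquivRight fun p => ⟨?_, fun hp => ?_⟩)
        · rintro ⟨⟨k, hkU⟩, rfl⟩ e
          refine hac (smul_left_cancel (k : G) ?_)
          exact (show (k : G) • a = c from e).trans (mem_stabilizer_iff.1 (hKc k.2)).symm
        · obtain ⟨w, hw, hwa⟩ := hUtr p hp
          exact ⟨⟨⟨w, hUK hw⟩, mem_subgroupOf.2 hw⟩, hwa⟩
      have h2 : (D'.subgroupOf U').index = D'.index := by
        rw [← h1, Nat.card_congr (orbitEquivQuotientStabilizer U' a), ← index_eq_card]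
        congr 1
        ext x
        exact hDa _
      let f : U' →* A := V.comp U'.subtype
      have h3 : ((D'.subgroupOf U').map f.rangeRestrict).index ∣ D'.index :=
        h2 ▸ index_map_dvd _ f.rangeRestrict_surjective
      set y : f.range := f.rangeRestrict ⟨⟨u, hUK hu⟩, mem_subgroupOf.2 hu⟩ with hy
      haveI : ((D'.subgroupOf U').map f.rangeRestrict).Normal :=
        ⟨fun z hz w => by rwa [mul_comm w z, mul_inv_cancel_right]⟩
      have h4 := ((D'.subgroupOf U').map f.rangeRestrict).pow_index_mem y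
      set m := ((D'.subgroupOf U').map f.rangeRestrict).index
      have hcy : m.Coprime (orderOf y) := Nat.coprime_of_dvd fun q hq hqm hqy => by
        rw [← Subgroup.orderOf_coe] at hqy
        exact hA (y : A) q hq hqy (hindex ▸ hqm.trans h3)
      obtain ⟨e, he⟩ := exists_pow_eq_self_of_coprime hcy
      obtain ⟨d, hd, hdy⟩ := (show y ∈ (D'.subgroupOf U').map f.rangeRestrict from
        he ▸ pow_mem h4 e)
      exact ⟨(d : K), d.2, mem_subgroupOf.1 hd, congrArg Subtype.val hdy⟩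
    obtain ⟨d, hdU, hdD, hdu⟩ := himg
    refine ⟨u * (d : G)⁻¹, mul_mem hu (inv_mem (mem_subgroupOf.1 hdU)),
      ⟨⟨u, hUK hu⟩ * d⁻¹, MonoidHom.mem_ker.2 ?_, rfl⟩, ?_⟩
    · rw [map_mul, map_inv, hdu, mul_inv_cancel]
    · rw [mul_smul, inv_smul_eq_iff.2 ((hDa _).1 hdD).symm, hub]
  · intro x hx hxc
    refine ⟨⟨x, hx⟩, MonoidHom.mem_ker.2 (orderOf_eq_one_iff.1 ?_), rfl⟩
    exact Nat.eq_one_of_dvd_coprimes hxc ((orderOf_map_dvd V ⟨x, hx⟩).trans
      (dvd_of_eq (Subgroup.orderOf_mk x hx))) (orderOf_dvd_natCard _)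

end Cfsg.Lib.BenderSE
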