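/-
COMM: every proper block system on the involutions at `c` has all of them in the kernel
(notes/bender_A_h1.md, P2).
-/
import Cfsg.Agent.BenderSE.CommTransfer

set_option autoImplicit false
set_option linter.unusedSectionVars false
set_option linter.style.haveILetI false

namespace Cfsg.Lib.BenderSE

open Subgroup MulAction Cfsg.Lib.InvolCalc

universe u v

variable {G : Type u} [Group G] [Finite G] {H : Subgroup G}

/-- an element fixing `c`, `a` and a third point commutes with an involution -/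
theorem exists_commute_of_third (hH : Cfsg.IsStronglyEmbedded H) (hb : NoBad H) {r : ℕ}
    [Fact r.Prime] {w : G} (hw : w ^ r = 1) {c a b : G ⧸ H} (hac : a ≠ c) (hbc : b ≠ c) (hba : b ≠ a)
    (hwc : w • c = c) (hwa : w • a = a) (hwb : w • b = b) :
    ∃ i : G, orderOf i = 2 ∧ i • c = c ∧ Commute w i := by
  have hR : IsPGroup r (zpowers w) := IsPGroup.of_card_dvd_pow (n := 1) (by
    rw [Nat.card_zpowers, pow_one]; exact orderOf_dvd_of_pow_eq_one hw)
  have hfix : ∀ x : G ⧸ H, w • x = x → x ∈ fixOf (α := G ⧸ H) (zpowers w) := fun x hx g hg => by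
    obtain ⟨k, rfl⟩ := hg
    exact mem_stabilizer_iff.1 (zpow_mem (mem_stabilizer_iff.2 hx) k)
  obtain ⟨i, hi, hic, hiw⟩ := exists_centralizing_at hH hb hR (hfix c hwc)
    ⟨c, hfix c hwc, a, hfix a hwa, b, hfix b hwb, hac.symm, hbc.symm, hba.symm⟩
  exact ⟨i, hi, hic, hiw w (mem_zpowers w)⟩

variable {c a : G ⧸ H} {A : Subgroup G} {v : G}

/-- a group regular on the involutions at `c` has order `m` -/
theorem card_eq_invCount_of_regular (hH : Cfsg.IsStronglyEmbedded H) (hA : A ≤ stabilizer G c)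
    (hfree : ∀ y ∈ A, y ≠ 1 → ¬ Commute y v) (hv : orderOf v = 2) (hvc : v • c = c)
    (hreg : ∀ i : G, orderOf i = 2 → i • c = c → ∃ y ∈ A, y * v * y⁻¹ = i) :
    Nat.card A = invCount H := by
  let f : A → {i : G // orderOf i = 2 ∧ i • c = c} := fun y => ⟨(y : G) * v * (y : G)⁻¹,
    by rw [orderOf_conj', hv], by
      have hy : (y : G) • c = c := mem_stabilizer_iff.1 (hA y.2)
      rw [mul_smul, mul_smul, inv_smul_eq_iff.2 hy.symm, hvc, hy]⟩
  have hf : Function.Bijective f := by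
    refine ⟨fun x y h => ?_, fun i => ?_⟩
    · have h' : (x : G) * v * (x : G)⁻¹ = (y : G) * v * (y : G)⁻¹ := congrArg Subtype.val h
      by_contra hne
      refine hfree _ (mul_mem (inv_mem y.2) x.2) (fun e => hne (Subtype.ext (inv_mul_eq_one.1 e).symm)) ?_
      show (y : G)⁻¹ * x * v = v * ((y : G)⁻¹ * x)
      calc (y : G)⁻¹ * x * v = (y : G)⁻¹ * ((x : G) * v * (x : G)⁻¹) * x := by group
        _ = v * ((y : G)⁻¹ * x) := by rw [h']; group
    · obtain ⟨y, hy, hyi⟩ := hreg i.1 i.2.1 i.2.2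
      exact ⟨⟨y, hy⟩, Subtype.ext hyi⟩
  rw [Nat.card_congr (Equiv.ofBijective f hf)]
  exact Cfsg.Lib.StrongEmb.card_fixing hH c

/-- PRIMITIVITY: an image of the involutions at `c` which identifies two of them is fixed pointwise
by all elements of 2-power order -/
theorem smul_eq_self_of_two_power (hH : Cfsg.IsStronglyEmbedded H) (hb : NoBad H) (hac : a ≠ c)
    (hAle : A ≤ stabilizer G c ⊓ stabilizer G a) (hAc : ∀ x ∈ A, ∀ y ∈ A, Commute x y)
    (hfree : ∀ y ∈ A, y ≠ 1 → ∀ u : G, orderOf u = 2 → u • c = c → ¬ Commute y u)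
    (hv : orderOf v = 2) (hvc : v • c = c)
    (hreg : ∀ i : G, orderOf i = 2 → i • c = c → ∃ y ∈ A, y * v * y⁻¹ = i)
    {Y : Type v} [MulAction (stabilizer G c) Y]
    (f : {i : G // orderOf i = 2 ∧ i • c = c} → Y) (hsurj : Function.Surjective f)
    (heq : ∀ (g : stabilizer G c) (i j : {i : G // orderOf i = 2 ∧ i • c = c}),
      (j : G) = (g : G) * i * (g : G)⁻¹ → f j = g • f i)
    (hninj : ¬ Function.Injective f) (u : stabilizer G c) (hu : ∃ k : ℕ, orderOf (u : G) = 2 ^ k) (y : Y) :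
    u • y = y := by
  classical
  have hAX : A ≤ (stabilizer G c) := hAle.trans inf_le_left
  set K : Subgroup (stabilizer G c) := (MulAction.toPermHom (stabilizer G c) Y).ker with hK
  have hmemK : ∀ g : (stabilizer G c), (∀ y : Y, g • y = y) → g ∈ K := fun g hg =>
    MonoidHom.mem_ker.2 (Equiv.ext fun y => hg y)
  obtain ⟨p, q, hpq, hne⟩ := Function.not_injective_iff.1 hninj
  obtain ⟨x₀, hx₀, hx₀p⟩ := hreg p.1 p.2.1 p.2.2
  obtain ⟨x₁, hx₁, hx₁q⟩ := hreg q.1 q.2.1 q.2.2
  set z := x₁ * x₀⁻¹ with hz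
  have hzA : z ∈ A := mul_mem hx₁ (inv_mem hx₀)
  have hz1 : z ≠ 1 := fun e => hne (Subtype.ext (by
    rw [← hx₀p, ← hx₁q, show x₁ = x₀ from mul_inv_eq_one.1 e]))
  set zX : (stabilizer G c) := ⟨z, hAX hzA⟩
  have hzfix : zX • f p = f p := by
    have h1 : f q = zX • f p := heq zX p q (show (q : G) = z * p * z⁻¹ by rw [← hx₀p, ← hx₁q, hz]; group)
    rw [← h1, hpq]
  have hzK : zX ∈ K := hmemK zX fun y => by
    obtain ⟨i, rfl⟩ := hsurj y
    obtain ⟨x, hx, hxi⟩ := hreg i.1 i.2.1 i.2.2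
    set g : (stabilizer G c) := ⟨x * x₀⁻¹, hAX (mul_mem hx (inv_mem hx₀))⟩
    have hgi : (i : G) = (g : G) * p * (g : G)⁻¹ := by
      simp only [g]
      rw [← hxi, ← hx₀p]
      group
    have hi : f i = g • f p := heq g p i hgi
    have hcomm : zX * g = g * zX :=
      Subtype.ext (hAc z hzA (x * x₀⁻¹) (mul_mem hx (inv_mem hx₀))).eq
    rw [hi, smul_smul, hcomm, mul_smul, hzfix]
  -- an element of prime order in `K ∩ A`
  obtain ⟨l, hl, hld⟩ := Nat.exists_prime_and_dvd (fun h => hz1 (orderOf_eq_one_iff.1 h))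
  haveI := Fact.mk hl
  set w := z ^ (orderOf z / l) with hw
  have hwA : w ∈ A := pow_mem hzA _
  have hwo : orderOf w = l := orderOf_pow_orderOf_div (orderOf_pos z).ne' hld
  have hw1 : w ≠ 1 := fun e => by rw [e, orderOf_one] at hwo; exact hl.ne_one hwo.symm
  have hlm : l ∣ invCount H := by
    rw [← card_eq_invCount_of_regular hH hAX (fun y hy hy1 => hfree y hy hy1 v hv hvc) hv hvc hreg,
      ← hwo]
    exact Subgroup.orderOf_dvd_natCard A hwA
  have hwfix : ∀ b : G ⧸ H, b ≠ c → w • b = b → b = a := by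
    intro b hbc hwb
    by_contra hba
    obtain ⟨i, hi, hic, hiw⟩ := exists_commute_of_third hH hb (hwo ▸ pow_orderOf_eq_one w) hac hbc hba
      (mem_stabilizer_iff.1 (hAX hwA)) (mem_stabilizer_iff.1 (mem_inf.1 (hAle hwA)).2) hwb
    exact hfree w hwA hw1 i hi hic hiw
  set wX : (stabilizer G c) := ⟨w, hAX hwA⟩
  have hwK : wX ∈ K := by
    rw [show wX = zX ^ (orderOf z / l) from Subtype.ext (by simp [wX, zX, hw])]
    exact pow_mem hzK _
  set wK : K := ⟨wX, hwK⟩
  have hwp : IsPGroup l (zpowers wK) := IsPGroup.of_card (n := 1) (by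
    rw [Nat.card_zpowers, pow_one, Subgroup.orderOf_mk, Subgroup.orderOf_mk, hwo])
  obtain ⟨P, hP⟩ := hwp.exists_le_sylow
  set PG : Subgroup G := ((P : Subgroup K).map K.subtype).map (stabilizer G c).subtype with hPG
  have hwPG : w ∈ PG := ⟨wX, ⟨wK, hP (mem_zpowers _), rfl⟩, rfl⟩
  have hPGX : PG ≤ (stabilizer G c) := map_subtype_le _
  have hPGa : ∀ g ∈ PG, g • a = a := by
    have hPp : IsPGroup l PG := (P.isPGroup'.map K.subtype).map (stabilizer G c).subtype
    have h1 := card_modEq_fixed hPp {b : G ⧸ H | b ≠ c}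
      (fun g hg b hbc e => hbc (smul_left_cancel g
        (e.trans (mem_stabilizer_iff.1 (hPGX hg)).symm)))
    obtain ⟨⟨b, hbc, hb'⟩⟩ : Nonempty {b : G ⧸ H // b ∈ ({b : G ⧸ H | b ≠ c} : Set (G ⧸ H)) ∧
        ∀ g ∈ PG, g • b = b} := by
      by_contra hne
      rw [not_nonempty_iff] at hne
      rw [Nat.card_eq_zero.2 (Or.inl hne)] at h1
      change Nat.card {b : G ⧸ H // b ≠ c} ≡ 0 [MOD l] at h1
      exact not_dvd_card_others hH hb hlm c (Nat.modEq_zero_iff_dvd.1 h1)
    rw [← hwfix b hbc (hb' w hwPG)]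
    exact hb'
  haveI : K.Normal := MonoidHom.normal_ker _
  haveI : Finite (Sylow l K) := inferInstance
  obtain ⟨n, hn, k, hk, hnk⟩ := Subgroup.mem_sup_of_normal_right.1
    (show u ∈ normalizer (((P : Subgroup K).map K.subtype : Subgroup (stabilizer G c)) : Set (stabilizer G c)) ⊔ K by
      rw [Sylow.normalizer_sup_eq_top P]; exact mem_top u)
  -- the normaliser of the Sylow subgroup fixes `a`
  have hna : (n : G) • a = a := by
    have h1 : n * wX * n⁻¹ ∈ (P : Subgroup K).map K.subtype :=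
      (mem_normalizer_iff.1 hn _).1 ⟨wK, hP (mem_zpowers _), rfl⟩
    have h2 : ((n * wX * n⁻¹ : (stabilizer G c)) : G) • a = a := hPGa _ ⟨_, h1, rfl⟩
    have h3 : w • ((n : G)⁻¹ • a) = (n : G)⁻¹ • a := by
      rw [eq_inv_smul_iff, smul_smul, smul_smul]
      exact h2
    have hnc : (n : G) • c = c := mem_stabilizer_iff.1 n.2
    have h4 : (n : G)⁻¹ • a ≠ c := fun e => hac ((inv_smul_eq_iff.1 e).trans hnc)
    exact (inv_smul_eq_iff.1 (hwfix _ h4 h3)).symm
  have hnodd : Odd (orderOf n) := by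
    rw [← Subgroup.orderOf_coe]
    exact (odd_stabilizer_inf hH hac.symm).of_dvd_nat (Subgroup.orderOf_dvd_natCard _
      (mem_inf.2 ⟨n.2, mem_stabilizer_iff.2 hna⟩))
  have himg : MulAction.toPermHom (stabilizer G c) Y u = MulAction.toPermHom (stabilizer G c) Y n := by
    rw [← hnk, map_mul, MonoidHom.mem_ker.1 hk, mul_one]
  have hperm : MulAction.toPermHom (stabilizer G c) Y u = 1 := by
    rw [← orderOf_eq_one_iff]
    obtain ⟨k, hk⟩ := hu
    refine Nat.eq_one_of_dvd_coprimes (Nat.Coprime.pow_left k (Nat.coprime_two_left.2 hnodd)) ?_ ?_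
    · rw [← hk, Subgroup.orderOf_coe]; exact orderOf_map_dvd (MulAction.toPermHom (stabilizer G c) Y) u
    · rw [himg]; exact orderOf_map_dvd (MulAction.toPermHom (stabilizer G c) Y) n
  exact (congrArg (fun σ : Equiv.Perm Y => σ y) hperm :)

/-- PRIMITIVITY, for involutions: an image of the involutions at `c` which identifies two of them is fixed pointwise
by all of them -/
theorem smul_eq_self_of_not_injective (hH : Cfsg.IsStronglyEmbedded H) (hb : NoBad H) (hac : a ≠ c)
    (hAle : A ≤ stabilizer G c ⊓ stabilizer G a) (hAc : ∀ x ∈ A, ∀ y ∈ A, Commute x y)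
    (hfree : ∀ y ∈ A, y ≠ 1 → ∀ u : G, orderOf u = 2 → u • c = c → ¬ Commute y u)
    (hv : orderOf v = 2) (hvc : v • c = c)
    (hreg : ∀ i : G, orderOf i = 2 → i • c = c → ∃ y ∈ A, y * v * y⁻¹ = i)
    {Y : Type v} [MulAction (stabilizer G c) Y]
    (f : {i : G // orderOf i = 2 ∧ i • c = c} → Y) (hsurj : Function.Surjective f)
    (heq : ∀ (g : stabilizer G c) (i j : {i : G // orderOf i = 2 ∧ i • c = c}),
      (j : G) = (g : G) * i * (g : G)⁻¹ → f j = g • f i)
    (hninj : ¬ Function.Injective f) (u : stabilizer G c) (hu : orderOf (u : G) = 2) (y : Y) :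
    u • y = y :=
  smul_eq_self_of_two_power hH hb hac hAle hAc hfree hv hvc hreg f hsurj heq hninj u ⟨1, by rw [hu, pow_one]⟩ y

end Cfsg.Lib.BenderSE
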