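/-
COMM, the abelian normal subgroups of a pair stabiliser (notes/bender_A_h1.md E1, E3, E4): unless the
involutions with a common centre commute, a mixed elementary abelian one has order `l^2` and its
inverted line is invariant; so the minimal ones are inverted and centralised by no involution.
-/
import Cfsg.Agent.BenderSE.CommTransfer
import Cfsg.Agent.OddLocal.SmallAction
import Cfsg.Agent.OddChar.PF.OddOrder
import Cfsg.Agent.Components.PComponents
import Cfsg.Agent.Coprime.Generation

set_option autoImplicit false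
set_option linter.unusedSectionVars false
set_option linter.style.haveILetI false

namespace Cfsg.Lib.BenderSE

open Subgroup MulAction Cfsg.Lib.InvolCalc
open scoped commutatorElement

universe u

variable {G : Type u} [Group G] [Finite G] {H : Subgroup G}

/-- conjugation preserves commuting -/
theorem commute_conj {x i : G} (g : G) (h : Commute x i) :
    Commute (g * x * g⁻¹) (g * i * g⁻¹) :=
  h.map (MulAut.conj g).toMonoidHom

/-- a swapper exchanges the two point stabiliser with itself -/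
theorem swapper_conj_mem {t x : G} {c a : G ⧸ H} (ht : orderOf t = 2) (htc : t • c = a)
    (hxc : x • c = c) (hxa : x • a = a) :
    (t * x * t⁻¹) • c = c ∧ (t * x * t⁻¹) • a = a := by
  have hta : t • a = c := smul_swap ht htc
  rw [inv_of_order_two ht]
  exact ⟨by rw [mul_smul, mul_smul, htc, hxa, hta], by rw [mul_smul, mul_smul, hta, hxc, htc]⟩

/-- E1: no involution centralises an element fixing two points and inverted by an involution -/
theorem not_commute_of_inverted (hH : Cfsg.IsStronglyEmbedded H) (hb : NoBad H) {t y u : G}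
    {c a : G ⧸ H} (hac : a ≠ c) (ht : orderOf t = 2) (hyc : y • c = c) (hya : y • a = a) (hy1 : y ≠ 1)
    (hinv : t * y * t⁻¹ = y⁻¹) (hu : orderOf u = 2) : ¬ Commute y u := by
  intro hyu
  obtain ⟨e, hte⟩ := exists_centre hH ht
  obtain ⟨e', hue⟩ := exists_centre hH hu
  have hye' : y • e' = e' := fix_centre_of_commute hH hu hue hyu.eq
  have hye : y • e ≠ e := by
    intro hye
    by_cases hec : e = c
    · exact hb t y c a ⟨ht, hec ▸ hte, hac, hyc, hya, hy1, hinv⟩
    · exact hb t y e c ⟨ht, hte, Ne.symm hec, hye, hyc, hy1, hinv⟩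
  have hne : e' ≠ e := fun h => hye (h ▸ hye')
  set N := normalizer ((zpowers y : Subgroup G) : Set G) with hN
  have htN : t ∈ N := by
    refine mem_normalizer_of_maps_to ?_
    rintro _ ⟨k, rfl⟩
    exact ⟨-k, by simp only [← conj_zpow, hinv, inv_zpow', zpow_neg]⟩
  have huN : u ∈ N := by
    refine mem_normalizer_of_maps_to ?_
    rintro _ ⟨k, rfl⟩
    exact ⟨k, by simp only [← (hyu.zpow_left k).eq, mul_inv_cancel_right]⟩
  obtain ⟨_, -, -, -, d, hdN, hdu, -⟩ := exists_swapper_centres hH hu huN hue ht htN hte hne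
  obtain ⟨k, hk⟩ := (mem_normalizer_iff''.1 hdN y).1 (mem_zpowers y)
  have h1 : Commute (d⁻¹ * y * d) u := by
    rw [show d⁻¹ * y * d = y ^ k from hk.symm]
    exact hyu.zpow_left k
  have h2 := commute_conj d h1
  rw [hdu, show d * (d⁻¹ * y * d) * d⁻¹ = y by group] at h2
  rw [h2.symm.eq, mul_inv_cancel_right] at hinv
  have hodd : Odd (orderOf y) := (odd_stabilizer_inf hH hac.symm).of_dvd_nat
    (Subgroup.orderOf_dvd_natCard _ (mem_inf.2 ⟨mem_stabilizer_iff.2 hyc, mem_stabilizer_iff.2 hya⟩))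
  refine hy1 (orderOf_eq_one_iff.1 (Nat.eq_one_of_dvd_coprimes (Nat.coprime_two_left.2 hodd)
    (orderOf_dvd_of_pow_eq_one ?_) dvd_rfl))
  rw [sq]
  exact mul_eq_one_iff_eq_inv.2 hinv

/-- a swapper conjugating an involution at `c` into one at `a` commutes with what fixes both -/
theorem commute_swapper (hH : Cfsg.IsStronglyEmbedded H) (hb : NoBad H) {v s z : G} {c a : G ⧸ H}
    (hac : a ≠ c) (hv : orderOf v = 2) (hvc : v • c = a) (hs : orderOf s = 2)
    (hzc : z • c = c) (hza : z • a = a) (hzs : Commute z s) (hzs' : Commute z (v * s * v)) :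
    Commute z v := by
  set w := z * v * z⁻¹ with hw
  have hwo : orderOf w = 2 := by rw [hw, orderOf_conj', hv]
  have hzc' : z⁻¹ • c = c := by rw [inv_smul_eq_iff, hzc]
  have hwc : w • c = a := by rw [hw, mul_smul, mul_smul, hzc', hvc, hza]
  have hvv := sq_of_order_two hv
  have hww := sq_of_order_two hwo
  by_contra hne
  have hg1 : w * v ≠ 1 := fun h => hne (by
    have e : w = v := mul_right_cancel (h.trans hvv.symm)
    exact mul_inv_eq_iff_eq_mul.1 e)
  refine not_commute_of_inverted hH hb hac hv (y := w * v) (u := s) ?_ ?_ hg1 ?_ hs ?_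
  · rw [mul_smul, hvc, smul_swap hwo hwc]
  · rw [mul_smul, smul_swap hv hvc, hwc]
  · rw [mul_inv_rev, inv_of_order_two hv, inv_of_order_two hwo]
    simp only [mul_assoc, hvv, mul_one]
  · have h1 : z * s * z⁻¹ = s := by rw [hzs.eq, mul_inv_cancel_right]
    have h2 : z * (v * s * v) * z⁻¹ = v * s * v := by rw [hzs'.eq, mul_inv_cancel_right]
    have h3 : w * (v * s * v) * w = s := by
      conv_lhs => arg 1; arg 2; rw [← h2]
      rw [hw, show z * v * z⁻¹ * (z * (v * s * v) * z⁻¹) * (z * v * z⁻¹) =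
        z * ((v * v) * s * (v * v)) * z⁻¹ by group, hvv, one_mul, mul_one, h1]
    show w * v * s = s * (w * v)
    calc w * v * s = w * v * s * (v * w * (w * v)) := by
            rw [show v * w * (w * v) = v * (w * w) * v by group, hww, mul_one, hvv, mul_one]
      _ = (w * (v * s * v) * w) * (w * v) := by group
      _ = s * (w * v) := by rw [h3]

/-- the involutions at `a` and the swappers of `c, a` centralising an element fixing both are
equinumerous -/
theorem card_swappers_commute (hH : Cfsg.IsStronglyEmbedded H) (hb : NoBad H) {x s : G}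
    {c a : G ⧸ H} (hac : a ≠ c) (hxc : x • c = c) (hxa : x • a = a) (hs : orderOf s = 2)
    (hsc : s • c = c) (hxs : Commute x s) :
    Nat.card {i : G // orderOf i = 2 ∧ i • a = a ∧ Commute x i} =
      Nat.card {v : G // orderOf v = 2 ∧ v • c = a ∧ Commute x v} := by
  apply le_antisymm
  · have key : ∀ i : {i : G // orderOf i = 2 ∧ i • a = a ∧ Commute x i},
        ∃ v : {v : G // orderOf v = 2 ∧ v • c = a ∧ Commute x v}, (v : G) * s * v = i := by
      rintro ⟨i, hi, hia, hxi⟩
      obtain ⟨v, hv, hvc, hvs, -⟩ := Cfsg.Lib.StrongEmb.exists_swap hH (Ne.symm hac) hs hsc hi hia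
      exact ⟨⟨v, hv, hvc, commute_swapper hH hb hac hv hvc hs hxc hxa hxs (hvs.symm ▸ hxi)⟩, hvs⟩
    choose f hf using key
    refine Nat.card_le_card_of_injective f fun i i' h => Subtype.ext ?_
    rw [← hf i, ← hf i', h]
  · refine Nat.card_le_card_of_injective (fun v : {v : G // orderOf v = 2 ∧ v • c = a ∧ Commute x v} =>
      (⟨(v : G) * s * v, ?_, ?_, ?_⟩ : {i : G // orderOf i = 2 ∧ i • a = a ∧ Commute x i})) ?_
    · have := orderOf_conj' (v : G) s
      rwa [inv_of_order_two v.2.1, hs] at this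
    · rw [mul_smul, mul_smul, smul_swap v.2.1 v.2.2.1, hsc, v.2.2.1]
    · exact (v.2.2.2.mul_right hxs).mul_right v.2.2.2
    · intro p q h
      obtain ⟨v, hv, hvc, hxv⟩ := p
      obtain ⟨w, hw, hwc, hxw⟩ := q
      have h' : v * s * v = w * s * w := congrArg Subtype.val h
      refine Subtype.ext ?_
      show v = w
      by_contra hne
      have hvv := sq_of_order_two hv
      have hww := sq_of_order_two hw
      refine not_commute_of_inverted hH hb hac hv (y := w * v) (u := s) ?_ ?_
        (fun e => hne ((mul_left_cancel (e.trans hww.symm)))) ?_ hs ?_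
      · rw [mul_smul, hvc, smul_swap hw hwc]
      · rw [mul_smul, smul_swap hv hvc, hwc]
      · rw [mul_inv_rev, inv_of_order_two hv, inv_of_order_two hw]
        simp only [mul_assoc, hvv, mul_one]
      · show w * v * s = s * (w * v)
        calc w * v * s = w * v * s * (v * v) := by rw [hvv, mul_one]
          _ = w * (v * s * v) * v := by group
          _ = w * (w * s * w) * v := by rw [h']
          _ = (w * w) * s * (w * v) := by group
          _ = s * (w * v) := by rw [hww, one_mul]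

/-- commuting at one point means commuting at every point -/
theorem commAt_of_point {c : G ⧸ H} (h : ∀ i j : G, orderOf i = 2 → orderOf j = 2 → i • c = c →
    j • c = c → Commute i j) : CommAt H := by
  intro c' i j hi hj hic hjc
  obtain ⟨g, rfl⟩ := MulAction.exists_smul_eq G c c'
  have key : ∀ k : G, k • (g • c) = g • c → (g⁻¹ * k * g) • c = c := fun k hk => by
    rw [mul_smul, mul_smul, hk, inv_smul_smul]
  have h1 := commute_conj g (h (g⁻¹ * i * g) (g⁻¹ * j * g)
    (by have := orderOf_conj' g⁻¹ i; rwa [inv_inv, hi] at this)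
    (by have := orderOf_conj' g⁻¹ j; rwa [inv_inv, hj] at this) (key i hic) (key j hjc))
  simpa [mul_assoc] using h1

/-- an element of prime order fixing `c, a` with an involution at `a` or a swapper commuting with it
has one at `c` -/
theorem exists_fixing_commute (hH : Cfsg.IsStronglyEmbedded H) (hb : NoBad H) {l : ℕ} [Fact l.Prime]
    {x : G} {c a : G ⧸ H} (hac : a ≠ c) (hxl : x ^ l = 1) (hxc : x • c = c) (hxa : x • a = a)
    (h : (∃ i, orderOf i = 2 ∧ i • a = a ∧ Commute x i) ∨
      ∃ v, orderOf v = 2 ∧ v • c = a ∧ Commute x v) :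
    ∃ s, orderOf s = 2 ∧ s • c = c ∧ Commute x s := by
  have hR : IsPGroup l (zpowers x) := IsPGroup.of_card_dvd_pow (n := 1) (by
    rw [Nat.card_zpowers, pow_one]; exact orderOf_dvd_of_pow_eq_one hxl)
  have hfix : ∀ p : G ⧸ H, x • p = p → p ∈ fixOf (α := G ⧸ H) (zpowers x) := fun p hp g hg => by
    obtain ⟨k, rfl⟩ := hg
    exact mem_stabilizer_iff.1 (zpow_mem (mem_stabilizer_iff.2 hp) k)
  rcases h with ⟨i, hi, hia, hxi⟩ | ⟨v, hv, hvc, hxv⟩
  · obtain ⟨-, w, hw, hwc, hwx⟩ := exists_centralizing_other hH hb hR (Ne.symm hac) (hfix a hxa)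
      (hfix c hxc) hi hia (fun g hg => by obtain ⟨k, rfl⟩ := hg; exact hxi.zpow_left k)
    exact ⟨w, hw, hwc, hwx x (mem_zpowers x)⟩
  · obtain ⟨e, hve⟩ := exists_centre hH hv
    have hec : e ≠ c := fun he => hac (hvc.symm.trans (he ▸ hve))
    have hea : e ≠ a := fun he => hec (by
      rw [he] at hve ⊢
      exact hve.symm.trans (smul_swap hv hvc))
    obtain ⟨s, hs, hsc, hsx⟩ := exists_centralizing_at hH hb hR (hfix c hxc)
      ⟨c, hfix c hxc, a, hfix a hxa, e, hfix e (fix_centre_of_commute hH hv hve hxv.eq),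
        Ne.symm hac, Ne.symm hec, Ne.symm hea⟩
    exact ⟨s, hs, hsc, hsx x (mem_zpowers x)⟩

/-- an elementary abelian `l`-group normalised by the pair stabiliser of `c, a` -/
structure PairAbelian (H : Subgroup G) (A : Subgroup G) (c a : G ⧸ H) (l : ℕ) : Prop where
  ne : a ≠ c
  le : A ≤ stabilizer G c ⊓ stabilizer G a
  comm : ∀ x ∈ A, ∀ y ∈ A, Commute x y
  exp : ∀ x ∈ A, x ^ l = 1
  norm : stabilizer G c ⊓ stabilizer G a ≤ normalizer (A : Set G)

theorem PairAbelian.symm {A : Subgroup G} {c a : G ⧸ H} {l : ℕ} (P : PairAbelian H A c a l) :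
    PairAbelian H A a c l :=
  ⟨Ne.symm P.ne, P.le.trans (le_of_eq (inf_comm _ _)), P.comm, P.exp,
    (le_of_eq (inf_comm _ _)).trans P.norm⟩

theorem PairAbelian.fix {A : Subgroup G} {c a : G ⧸ H} {l : ℕ} (P : PairAbelian H A c a l) {x : G}
    (hx : x ∈ A) : x • c = c ∧ x • a = a :=
  ⟨mem_stabilizer_iff.1 (mem_inf.1 (P.le hx)).1, mem_stabilizer_iff.1 (mem_inf.1 (P.le hx)).2⟩

/-- the centralisers in `A` of conjugates are conjugate -/
theorem card_centralizer_conj {A : Subgroup G} {d i : G} (hd : d ∈ normalizer (A : Set G)) :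
    Nat.card ↥(A ⊓ centralizer ({d * i * d⁻¹} : Set G)) = Nat.card ↥(A ⊓ centralizer ({i} : Set G)) := by
  symm
  refine Nat.card_congr ((MulAut.conj d).toEquiv.subtypeEquiv fun x => ?_)
  show _ ↔ d * x * d⁻¹ ∈ A ⊓ centralizer ({d * i * d⁻¹} : Set G)
  rw [mem_inf, mem_inf, mem_centralizer_singleton_iff, mem_centralizer_singleton_iff,
    ← mem_normalizer_iff.1 hd x]
  refine and_congr_right' ⟨fun h => commute_conj d h, fun h => ?_⟩
  have h2 := commute_conj d⁻¹ (show Commute _ _ from h)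
  simp only [inv_inv, mul_assoc, inv_mul_cancel, mul_one, inv_mul_cancel_left] at h2
  exact h2

/-- counting commuting pairs of a conjugation orbit -/
theorem card_pairs {A : Subgroup G} (P : G → Prop) {i₀ : G}
    (htr : ∀ i, P i → ∃ d ∈ normalizer (A : Set G), d * i₀ * d⁻¹ = i) :
    Nat.card (Σ x : A, {i : G // P i ∧ Commute (x : G) i}) =
      Nat.card {i : G // P i} * Nat.card ↥(A ⊓ centralizer ({i₀} : Set G)) := by
  classical
  haveI := Fintype.ofFinite {i : G // P i}
  let e : (Σ x : A, {i : G // P i ∧ Commute (x : G) i}) ≃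
      Σ i : {i : G // P i}, ↥(A ⊓ centralizer ({(i : G)} : Set G)) :=
    { toFun := fun q => ⟨⟨q.2.1, q.2.2.1⟩, ⟨q.1.1, mem_inf.2 ⟨q.1.2,
        mem_centralizer_singleton_iff.2 q.2.2.2⟩⟩⟩
      invFun := fun q => ⟨⟨q.2.1, (mem_inf.1 q.2.2).1⟩, ⟨q.1.1, q.1.2,
        mem_centralizer_singleton_iff.1 (mem_inf.1 q.2.2).2⟩⟩
      left_inv := fun q => rfl
      right_inv := fun q => rfl }
  rw [Nat.card_congr e, Nat.card_sigma, Nat.card_eq_fintype_card (α := {i : G // P i}),
    ← Finset.card_univ, ← smul_eq_mul]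
  refine Finset.sum_eq_card_nsmul fun i _ => ?_
  obtain ⟨d, hd, hdi⟩ := htr i i.2
  rw [← hdi]
  exact card_centralizer_conj hd

/-- `|C_A(u)| = |C_A(t)|` for a swapper `t` and an involution `u` at an end -/
theorem PairAbelian.card_centralizer_eq {A : Subgroup G} {c a : G ⧸ H} {l : ℕ} [Fact l.Prime]
    (P : PairAbelian H A c a l) (hH : Cfsg.IsStronglyEmbedded H) (hb : NoBad H) {t u : G}
    (ht : orderOf t = 2) (htc : t • c = a) (hu : orderOf u = 2) (hua : u • a = a) :
    Nat.card ↥(A ⊓ centralizer ({u} : Set G)) = Nat.card ↥(A ⊓ centralizer ({t} : Set G)) := by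
  classical
  have h1 := card_pairs (A := A) (fun i : G => orderOf i = 2 ∧ i • a = a) (i₀ := u) fun i hi => by
    obtain ⟨d, hd, hdi⟩ := exists_conj_centre hH P.ne hu hua hi.1 hi.2
    exact ⟨d, P.symm.norm hd, hdi⟩
  have h2 := card_pairs (A := A) (fun v : G => orderOf v = 2 ∧ v • c = a) (i₀ := t) fun v hv => by
    obtain ⟨d, hd, hdi⟩ := exists_conj_swapper hH (Ne.symm P.ne) ht htc hv.1 hv.2
    exact ⟨d, P.norm hd, hdi⟩
  rw [Cfsg.Lib.StrongEmb.card_fixing hH a] at h1
  rw [Cfsg.Lib.StrongEmb.card_swap hH c a (Ne.symm P.ne)] at h2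
  refine Nat.eq_of_mul_eq_mul_left (invCount_pos hH) (h1.symm.trans (Eq.trans ?_ h2))
  haveI := Fintype.ofFinite A
  rw [Nat.card_sigma, Nat.card_sigma]
  refine Finset.sum_congr rfl fun x _ => ?_
  have hl : Nat.card {i : G // (orderOf i = 2 ∧ i • a = a) ∧ Commute (x : G) i} =
      Nat.card {i : G // orderOf i = 2 ∧ i • a = a ∧ Commute (x : G) i} :=
    Nat.card_congr (Equiv.subtypeEquivRight fun i => and_assoc)
  have hr : Nat.card {i : G // (orderOf i = 2 ∧ i • c = a) ∧ Commute (x : G) i} =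
      Nat.card {i : G // orderOf i = 2 ∧ i • c = a ∧ Commute (x : G) i} :=
    Nat.card_congr (Equiv.subtypeEquivRight fun i => and_assoc)
  rw [hl, hr]
  by_cases hs : ∃ s, orderOf s = 2 ∧ s • c = c ∧ Commute (x : G) s
  · obtain ⟨s, hs, hsc, hxs⟩ := hs
    exact card_swappers_commute hH hb P.ne (P.fix x.2).1 (P.fix x.2).2 hs hsc hxs
  · have hno := fun h => hs (exists_fixing_commute hH hb P.ne (P.exp x x.2) (P.fix x.2).1 (P.fix x.2).2 h)
    rw [Nat.card_eq_zero.2 (Or.inl ⟨fun i => hno (Or.inl ⟨i.1, i.2⟩)⟩),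
      Nat.card_eq_zero.2 (Or.inl ⟨fun i => hno (Or.inr ⟨i.1, i.2⟩)⟩)]

theorem PairAbelian.card_centralizer_eq_left {A : Subgroup G} {c a : G ⧸ H} {l : ℕ} [Fact l.Prime]
    (P : PairAbelian H A c a l) (hH : Cfsg.IsStronglyEmbedded H) (hb : NoBad H) {t v : G}
    (ht : orderOf t = 2) (htc : t • c = a) (hv : orderOf v = 2) (hvc : v • c = c) :
    Nat.card ↥(A ⊓ centralizer ({v} : Set G)) = Nat.card ↥(A ⊓ centralizer ({t} : Set G)) :=
  P.symm.card_centralizer_eq hH hb ht (smul_swap ht htc) hv hvc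

/-- the inverted part of an abelian group is the set of inverted elements -/
theorem inverted_of_mem_invClosure {A : Subgroup G} {t y : G}
    (hA : ∀ x ∈ A, ∀ y ∈ A, Commute x y) (hy : y ∈ invClosure A t) :
    y ∈ A ∧ t * y * t⁻¹ = y⁻¹ := by
  induction hy using closure_induction with
  | mem x hx => exact hx
  | one => exact ⟨one_mem A, by group⟩
  | mul p q _ _ hp hq =>
    refine ⟨mul_mem hp.1 hq.1, ?_⟩
    rw [← conj_mul, hp.2, hq.2, mul_inv_rev]
    exact ((hA q hq.1 p hp.1).inv_inv).eq.symm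
  | inv p _ hp => exact ⟨inv_mem hp.1, by rw [← conj_inv, hp.2]⟩

theorem card_inverted_eq {A : Subgroup G} {t : G} (hA : ∀ x ∈ A, ∀ y ∈ A, Commute x y) :
    Nat.card {x // x ∈ A ∧ t * x * t⁻¹ = x⁻¹} = Nat.card ↥(invClosure A t) :=
  Nat.card_congr (Equiv.subtypeEquivRight fun _ =>
    ⟨fun hx => subset_closure hx, inverted_of_mem_invClosure hA⟩)

/-- E3: next to an element centralised by the swapper the inverted part has order at most `l` -/
theorem PairAbelian.card_invClosure_le {A : Subgroup G} {c a : G ⧸ H} {l : ℕ} [Fact l.Prime]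
    (P : PairAbelian H A c a l) (hH : Cfsg.IsStronglyEmbedded H) (hcore : H.normalCore = ⊥)
    (hb : NoBad H) (hcs : CentreSquares H) {t x : G} (ht : orderOf t = 2) (htc : t • c = a)
    (hl2 : l ≠ 2) (hxA : x ∈ A) (hx1 : x ≠ 1) (hxt : Commute x t) :
    Nat.card ↥(invClosure A t) ≤ l := by
  classical
  have hl : l.Prime := Fact.out
  obtain ⟨hxc, hxa⟩ := P.fix hxA
  obtain ⟨u, hu, huc, hxu⟩ := exists_fixing_commute hH hb P.ne (P.exp x hxA) hxc hxa
    (Or.inr ⟨t, ht, htc, hxt⟩)
  have hC2 : ∀ p q : G, orderOf p = 2 ∧ p • c = c ∧ Commute x p →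
      orderOf q = 2 ∧ q • c = c ∧ Commute x q → Commute p q := fun p q hp hq =>
    commute_of_centralized hH hcore hb hcs P.ne hx1 hxc hxa hp.1 hq.1 hp.2.1 hq.2.1 hp.2.2 hq.2.2
  let V : Subgroup G :=
    { carrier := {g | g = 1 ∨ (orderOf g = 2 ∧ g • c = c ∧ Commute x g)}
      one_mem' := Or.inl rfl
      mul_mem' := fun {p q} hp hq => by
        rcases hp with rfl | hp
        · rwa [one_mul]
        rcases hq with rfl | hq
        · rw [mul_one]; exact Or.inr hp
        by_cases h1 : p * q = 1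
        · exact Or.inl h1
        refine Or.inr ⟨order_two_of_mul_self ?_ h1, by rw [mul_smul, hq.2.1, hp.2.1], hp.2.2.mul_right hq.2.2⟩
        rw [mul_assoc, ← mul_assoc q, ← (hC2 p q hp hq).eq, mul_assoc, sq_of_order_two hq.1, mul_one,
          sq_of_order_two hp.1]
      inv_mem' := fun {p} hp => by
        rcases hp with rfl | hp
        · exact Or.inl inv_one
        · rw [inv_of_order_two hp.1]; exact Or.inr hp }
  have hVmem : ∀ g ∈ V, g = 1 ∨ (orderOf g = 2 ∧ g • c = c ∧ Commute x g) := fun g hg => hg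
  letI : CommGroup V :=
    { (inferInstance : Group V) with
      mul_comm := fun ⟨p, hp⟩ ⟨q, hq⟩ => Subtype.ext (by
        show p * q = q * p
        rcases hVmem p hp with rfl | hp
        · rw [one_mul, mul_one]
        rcases hVmem q hq with rfl | hq
        · rw [one_mul, mul_one]
        exact (hC2 p q hp hq).eq) }
  have hAV : A ≤ normalizer (V : Set G) := fun y hy => mem_normalizer_of_maps_to fun g hg => by
    rcases hVmem g hg with rfl | hg
    · rw [mul_one, mul_inv_cancel]; exact one_mem V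
    refine Or.inr ⟨by rw [orderOf_conj', hg.1], ?_, ?_⟩
    · rw [mul_smul, mul_smul, inv_smul_eq_iff.2 (P.fix hy).1.symm, hg.2.1, (P.fix hy).1]
    · exact ((P.comm x hxA y hy).mul_right hg.2.2).mul_right (P.comm x hxA y hy).inv_right
  let act : A →* MulAut V :=
    { toFun := fun y => V.normalizerMonoidHom ⟨(y : G), hAV y.2⟩
      map_one' := by rw [show (⟨((1 : A) : G), hAV (1 : A).2⟩ : normalizer (V : Set G)) = 1 from rfl, map_one]
      map_mul' := fun y z => by rw [← map_mul]; rfl }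
  have hfpf : ∀ y ∈ invClosure A t, y ≠ 1 → ∀ hy : y ∈ A, ∀ g : V, act ⟨y, hy⟩ g = g → g = 1 := by
    intro y hy hy1 hyA g hg
    rcases hVmem g g.2 with h1 | h1
    · exact Subtype.ext h1
    refine absurd ?_ (not_commute_of_inverted hH hb P.ne ht (P.fix hyA).1 (P.fix hyA).2 hy1
      (inverted_of_mem_invClosure P.comm hy).2 h1.1)
    exact mul_inv_eq_iff_eq_mul.1 (congrArg Subtype.val hg : y * (g : G) * y⁻¹ = g)
  by_contra hlt
  push Not at hlt
  have hne : invClosure A t ≠ ⊥ := fun h => by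
    rw [h, Subgroup.card_bot] at hlt
    exact absurd hlt (not_lt.2 hl.one_le)
  obtain ⟨y, hy, hy1⟩ := (invClosure A t).ne_bot_iff_exists_ne_one.1 hne |> fun ⟨⟨y, hy⟩, hy1⟩ =>
    (⟨y, hy, fun h => hy1 (Subtype.ext h)⟩ : ∃ y, y ∈ invClosure A t ∧ y ≠ 1)
  have hyA : y ∈ A := invClosure_le A t hy
  have hyo : orderOf y = l := orderOf_eq_prime (P.exp y hyA) hy1
  obtain ⟨z, hz, hzy⟩ : ∃ z ∈ invClosure A t, z ∉ zpowers y := by
    by_contra h
    push Not at h
    have := card_le_of_le (show invClosure A t ≤ zpowers y from h)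
    rw [Nat.card_zpowers, hyo] at this
    omega
  have hzA : z ∈ A := invClosure_le A t hz
  have h1 := Cfsg.Lib.Coprime.pow_mem_of_fixed hl (x := act ⟨z, hzA⟩) (y := act ⟨y, hyA⟩) (S := ⊥)
    (by rw [← map_pow, show (⟨z, hzA⟩ : A) ^ l = 1 from Subtype.ext (P.exp z hzA), map_one])
    (by rw [← map_pow, show (⟨y, hyA⟩ : A) ^ l = 1 from Subtype.ext (P.exp y hyA), map_one])
    (by
      show _ * _ = _ * _
      rw [← map_mul, ← map_mul, show (⟨z, hzA⟩ : A) * ⟨y, hyA⟩ = ⟨y, hyA⟩ * ⟨z, hzA⟩ from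
        Subtype.ext (P.comm z hzA y hyA).eq])
    (fun g hg => mem_bot.2 (hfpf y hy hy1 hyA g hg))
    (fun j _ g hg => mem_bot.2 (hfpf (z * y ^ j) (mul_mem hz (pow_mem hy j))
      (fun h => hzy (by rw [eq_inv_of_mul_eq_one_left h]; exact inv_mem (pow_mem (mem_zpowers y) j)))
      (mul_mem hzA (pow_mem hyA j)) g (by rw [← map_pow, ← map_mul] at hg; exact hg)))
    (⟨u, Or.inr ⟨hu, huc, hxu⟩⟩ : V)
  have h2 : u ^ l = 1 := congrArg Subtype.val (mem_bot.1 h1)
  have h3 := orderOf_dvd_of_pow_eq_one h2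
  rw [hu] at h3
  exact hl2 ((Nat.prime_dvd_prime_iff_eq Nat.prime_two hl).1 h3).symm

/-- an element of `A` centralised by all swappers makes the involutions at a point commute -/
theorem PairAbelian.commAt_of_all_swappers {A : Subgroup G} {c a : G ⧸ H} {l : ℕ} [Fact l.Prime]
    (P : PairAbelian H A c a l) (hH : Cfsg.IsStronglyEmbedded H) (hcore : H.normalCore = ⊥)
    (hb : NoBad H) (hcs : CentreSquares H) {x : G} (hxA : x ∈ A) (hx1 : x ≠ 1)
    (h : ∀ v : G, orderOf v = 2 → v • c = a → Commute x v) : CommAt H := by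
  obtain ⟨hxc, hxa⟩ := P.fix hxA
  obtain ⟨t, ht, htc⟩ := exists_swapper hH (Ne.symm P.ne)
  obtain ⟨s, hs, hsc, hxs⟩ := exists_fixing_commute hH hb P.ne (P.exp x hxA) hxc hxa
    (Or.inr ⟨t, ht, htc, h t ht htc⟩)
  have hall : ∀ i : G, orderOf i = 2 → i • a = a → Commute x i := by
    intro i hi hia
    obtain ⟨v, hv, hvc, hvs, -⟩ := Cfsg.Lib.StrongEmb.exists_swap hH (Ne.symm P.ne) hs hsc hi hia
    rw [← hvs]
    exact ((h v hv hvc).mul_right hxs).mul_right (h v hv hvc)
  exact commAt_of_point (c := a) fun i j hi hj hia hja =>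
    commute_of_centralized hH hcore hb hcs (Ne.symm P.ne) hx1 hxa hxc hi hj hia hja
      (hall i hi hia) (hall j hj hja)

/-- a part centralised by `t` and normalised by the pair stabiliser is centralised by all swappers -/
theorem PairAbelian.commAt_of_normal_fixed {A : Subgroup G} {c a : G ⧸ H} {l : ℕ} [Fact l.Prime]
    (P : PairAbelian H A c a l) (hH : Cfsg.IsStronglyEmbedded H) (hcore : H.normalCore = ⊥)
    (hb : NoBad H) (hcs : CentreSquares H) {t x : G} (ht : orderOf t = 2) (htc : t • c = a)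
    (hxA : x ∈ A) (hx1 : x ≠ 1)
    (h : ∀ d ∈ stabilizer G c ⊓ stabilizer G a, Commute (d * x * d⁻¹) t) : CommAt H := by
  refine P.commAt_of_all_swappers hH hcore hb hcs hxA hx1 fun v hv hvc => ?_
  obtain ⟨d, hd, hdv⟩ := exists_conj_swapper hH (Ne.symm P.ne) ht htc hv hvc
  have h1 := commute_conj d (h d⁻¹ (inv_mem hd))
  rw [hdv] at h1
  simpa [mul_assoc] using h1

/-- an invariant line which is neither fixed nor inverted has a commutative image -/
theorem PairAbelian.commutator_centralizes_or_line {A : Subgroup G} {c a : G ⧸ H} {l : ℕ}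
    [Fact l.Prime] (P : PairAbelian H A c a l) (hH : Cfsg.IsStronglyEmbedded H) (hl2 : l ≠ 2)
    (hA : Nat.card A = l ^ 2) :
    (∀ g ∈ ⁅stabilizer G c ⊓ stabilizer G a, stabilizer G c ⊓ stabilizer G a⁆, ∀ x ∈ A, Commute g x) ∨
      Nat.card ↥(A ⊓ centralizer
        ((⁅stabilizer G c ⊓ stabilizer G a, stabilizer G c ⊓ stabilizer G a⁆ : Subgroup G) : Set G)) = l := by
  classical
  set D := stabilizer G c ⊓ stabilizer G a with hD
  have hl : l.Prime := Fact.out
  by_cases hall : ∀ g ∈ ⁅D, D⁆, ∀ x ∈ A, Commute g x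
  · exact Or.inl hall
  refine Or.inr ?_
  letI : CommGroup A :=
    { (inferInstance : Group A) with mul_comm := fun p q => Subtype.ext (P.comm p p.2 q q.2).eq }
  let φ : D →* MulAut A := A.normalizerMonoidHom.comp (inclusion P.norm)
  have hφ : ∀ (d : D) (x : A), ((φ d x : A) : G) = (d : G) * x * (d : G)⁻¹ := fun d x => rfl
  have hDodd : Odd (Nat.card D) := odd_stabilizer_inf hH (Ne.symm P.ne)
  haveI : Group.IsSolvable D := Cfsg.Agent.PF.isSolvable_of_odd D hDodd
  haveI : Group.IsSolvable φ.range := Group.isSolvable_of_surjective φ.rangeRestrict_surjective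
  have hodd : Odd (Nat.card φ.range) := hDodd.of_dvd_nat (Subgroup.card_range_dvd φ)
  have hpow : ∀ e ∈ ⁅φ.range, φ.range⁆, e ^ l = 1 :=
    Cfsg.Lib.OddP.pow_prime_of_commutator_mulAut (p := l) hl2
      (fun m => Subtype.ext (P.exp m m.2)) le_rfl hA φ.range hodd
  set W := ⁅φ.range, φ.range⁆ with hW
  have hWp : IsPGroup l W := fun e => ⟨1, Subtype.ext (by rw [pow_one]; exact hpow e e.2)⟩
  have hWD : W = (commutator D).map φ := by
    rw [hW, commutator_def, map_commutator, ← MonoidHom.range_eq_map]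
  have hDD : ⁅D, D⁆ = (commutator D).map D.subtype := (Subgroup.map_subtype_commutator D).symm
  set F := A ⊓ centralizer ((⁅D, D⁆ : Subgroup G) : Set G) with hF
  have hFA : F ≤ A := inf_le_left
  -- the fixed points
  have hfix : ∀ x : A, (∀ e : W, (e : MulAut A) x = x) ↔ (x : G) ∈ F := by
    intro x
    rw [hF, mem_inf, and_iff_right x.2, mem_centralizer_iff]
    constructor
    · intro h g hg
      rw [SetLike.mem_coe, hDD] at hg
      obtain ⟨d, hd, rfl⟩ := hg
      have h1 := congrArg Subtype.val (h ⟨φ d, hWD ▸ mem_map_of_mem φ hd⟩)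
      rw [hφ] at h1
      exact mul_inv_eq_iff_eq_mul.1 h1
    · rintro h ⟨e, he⟩
      rw [hWD] at he
      obtain ⟨d, hd, rfl⟩ := he
      refine Subtype.ext ?_
      show ((φ d x : A) : G) = x
      rw [hφ, mul_inv_eq_iff_eq_mul]
      exact h (d : G) (by rw [SetLike.mem_coe, hDD]; exact mem_map_of_mem _ hd)
  have h1 : l ∣ Nat.card F := by
    have h2 := hWp.card_modEq_card_fixedPoints A
    have h3 : Nat.card (fixedPoints W A) = Nat.card F := Nat.card_congr
      { toFun := fun x => ⟨(x : A).1, (hfix x.1).1 x.2⟩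
        invFun := fun x => ⟨⟨x.1, hFA x.2⟩, (hfix _).2 x.2⟩
        left_inv := fun x => rfl
        right_inv := fun x => rfl }
    rw [h3] at h2
    exact Nat.modEq_zero_iff_dvd.1 (h2.symm.trans
      (Nat.modEq_zero_iff_dvd.2 (by rw [hA]; exact dvd_pow_self l (by norm_num))))
  have h4 : Nat.card F ∣ l ^ 2 := hA ▸ card_dvd_of_le hFA
  obtain ⟨j, hj, hjF⟩ := (Nat.dvd_prime_pow hl).1 h4
  rcases (show j = 0 ∨ j = 1 ∨ j = 2 by omega) with rfl | rfl | rfl
  · rw [hjF, pow_zero, Nat.dvd_one] at h1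
    exact absurd h1 hl.ne_one
  · rwa [pow_one] at hjF
  · exfalso
    refine hall fun g hg x hx => ?_
    have h5 : F = A := Subgroup.eq_of_le_of_card_ge hFA (by rw [hjF, hA])
    have h6 : x ∈ F := h5.symm ▸ hx
    exact mem_centralizer_iff.1 (mem_inf.1 h6).2 g hg

/-- E4: unless involutions with a common centre commute, a mixed `A` has order `l^2` and its
inverted line is invariant -/
theorem PairAbelian.commAt_or_invariant_line {A : Subgroup G} {c a : G ⧸ H} {l : ℕ} [Fact l.Prime]
    (P : PairAbelian H A c a l) (hH : Cfsg.IsStronglyEmbedded H) (hcore : H.normalCore = ⊥)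
    (hb : NoBad H) (hcs : CentreSquares H) (htt : TwoTransitive H) {t : G} (ht : orderOf t = 2)
    (htc : t • c = a) (htA : t ∈ normalizer (A : Set G)) (hl2 : l ≠ 2) {x : G} (hxA : x ∈ A)
    (hx1 : x ≠ 1) (hxt : Commute x t) :
    CommAt H ∨ (Nat.card A = l ^ 2 ∧ Nat.card ↥(invClosure A t) = l ∧
      Nat.card ↥(A ⊓ centralizer ({t} : Set G)) = l ∧
      stabilizer G c ⊓ stabilizer G a ≤ normalizer (invClosure A t : Set G)) := by
  classical
  have hl : l.Prime := Fact.out
  set D := stabilizer G c ⊓ stabilizer G a with hD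
  set Ap := A ⊓ centralizer ({t} : Set G) with hAp
  set Am := invClosure A t with hAm
  have hAodd : Odd (Nat.card A) :=
    (odd_stabilizer_inf hH (Ne.symm P.ne)).of_dvd_nat (card_dvd_of_le P.le)
  have hmul : Nat.card Am * Nat.card Ap = Nat.card A := by
    rw [hAm, ← card_inverted_eq P.comm]
    exact card_inverted_mul hAodd (sq_of_order_two ht) htA
  have hAmle : Nat.card Am ≤ l := P.card_invClosure_le hH hcore hb hcs ht htc hl2 hxA hx1 hxt
  have hxAp : x ∈ Ap := mem_inf.2 ⟨hxA, mem_centralizer_singleton_iff.2 hxt⟩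
  by_cases hcomm : CommAt H
  · exact Or.inl hcomm
  refine Or.inr ?_
  -- the inverted part is a line
  have hAp_all : Ap ≠ A := by
    intro h
    refine hcomm (P.commAt_of_normal_fixed hH hcore hb hcs ht htc hxA hx1 fun d hd => ?_)
    have h1 : d * x * d⁻¹ ∈ Ap := h.symm ▸ (mem_normalizer_iff.1 (P.norm hd) x).1 hxA
    exact mem_centralizer_singleton_iff.1 (mem_inf.1 h1).2
  have hpA : IsPGroup l A := fun y => ⟨1, Subtype.ext (by rw [pow_one]; exact P.exp y y.2)⟩
  have hAmcard : Nat.card Am = l := by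
    obtain ⟨n, hn⟩ := (hpA.to_le (invClosure_le A t)).exists_card_eq
    rcases Nat.eq_zero_or_pos n with rfl | hn0
    · exfalso
      rw [← hAm, pow_zero] at hn
      rw [hn, one_mul] at hmul
      exact hAp_all (Subgroup.eq_of_le_of_card_ge inf_le_left hmul.ge)
    · refine le_antisymm hAmle ?_
      rw [hAm, hn]
      calc l = l ^ 1 := (pow_one l).symm
        _ ≤ l ^ n := Nat.pow_le_pow_right hl.pos hn0
  -- two centralisers at `a` meet trivially
  have hAp_card : Nat.card Ap = l := by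
    obtain ⟨n, hn⟩ := (hpA.to_le (inf_le_left : Ap ≤ A)).exists_card_eq
    rcases Nat.eq_zero_or_pos n with rfl | hn0
    · rw [← hAp, pow_zero] at hn
      have h1 := Subgroup.card_eq_one.1 hn
      rw [h1, mem_bot] at hxAp
      exact absurd hxAp hx1
    refine le_antisymm ?_ (by
      rw [hAp, hn]
      calc l = l ^ 1 := (pow_one l).symm
        _ ≤ l ^ n := Nat.pow_le_pow_right hl.pos hn0)
    by_contra hgt
    push Not at hgt
    refine hcomm (commAt_of_point (c := a) fun i j hi hj hia hja => ?_)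
    have hci := P.card_centralizer_eq hH hb ht htc hi hia
    have hcj := P.card_centralizer_eq hH hb ht htc hj hja
    obtain ⟨y, hy, hy1⟩ : ∃ y, y ∈ (A ⊓ centralizer ({i} : Set G)) ⊓ (A ⊓ centralizer ({j} : Set G)) ∧
        y ≠ 1 := by
      by_contra hno
      push Not at hno
      have hinj : Nat.card (↥(A ⊓ centralizer ({i} : Set G)) × ↥(A ⊓ centralizer ({j} : Set G))) ≤
          Nat.card A := by
        refine Nat.card_le_card_of_injective
          (fun p => (⟨(p.1 : G) * (p.2 : G), mul_mem (mem_inf.1 p.1.2).1 (mem_inf.1 p.2.2).1⟩ : A)) ?_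
        rintro ⟨⟨p, hp⟩, ⟨q, hq⟩⟩ ⟨⟨p', hp'⟩, ⟨q', hq'⟩⟩ h
        have h' : p * q = p' * q' := congrArg Subtype.val h
        have h2 : p'⁻¹ * p = q' * q⁻¹ := by rw [eq_mul_inv_iff_mul_eq, mul_assoc, h', inv_mul_cancel_left]
        have h3 := hno _ (mem_inf.2 ⟨mul_mem (inv_mem hp') hp, h2 ▸ mul_mem hq' (inv_mem hq)⟩)
        obtain rfl : p' = p := inv_mul_eq_one.1 h3
        obtain rfl : q = q' := mul_left_cancel h'
        rfl
      rw [Nat.card_prod, hci, hcj, ← hAp, ← hmul, hAmcard] at hinj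
      exact absurd (Nat.le_of_mul_le_mul_right hinj Nat.card_pos) (not_le.2 hgt)
    obtain ⟨hyi, hyj⟩ := mem_inf.1 hy
    exact commute_of_centralized hH hcore hb hcs (Ne.symm P.ne) hy1 (P.fix (mem_inf.1 hyi).1).2
      (P.fix (mem_inf.1 hyi).1).1 hi hj hia hja (mem_centralizer_singleton_iff.1 (mem_inf.1 hyi).2)
      (mem_centralizer_singleton_iff.1 (mem_inf.1 hyj).2)
  have hA2 : Nat.card A = l ^ 2 := by rw [← hmul, hAmcard, hAp_card, sq]
  refine ⟨hA2, hAmcard, hAp_card, ?_⟩
  rcases P.commutator_centralizes_or_line hH hl2 hA2 with habel | hline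
  · -- commutative image: the transfer lemma
    exfalso
    apply hcomm
    obtain ⟨v, hv, hvc⟩ := exists_fixing hH c
    set L := A ⊓ centralizer ({v} : Set G) with hL
    have hLcard : Nat.card L = l := by
      rw [hL, P.card_centralizer_eq_left hH hb ht htc hv hvc, ← hAp, hAp_card]
    set D₁ := D ⊓ normalizer (L : Set G) with hD₁
    have hD'1 : ⁅D, D⁆ ≤ D₁ := le_inf (commutator_le_self D) fun g hg =>
      mem_normalizer_of_maps_to fun y hy => by
        rw [(habel g hg y (mem_inf.1 hy).1).eq, mul_inv_cancel_right]; exact hy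
    have hCv : D ⊓ centralizer ({v} : Set G) ≤ D₁ := le_inf inf_le_left fun g hg =>
      mem_normalizer_of_maps_to fun y hy => by
        obtain ⟨hyA, hyv⟩ := mem_inf.1 hy
        have hgv : Commute g v := mem_centralizer_singleton_iff.1 (mem_inf.1 hg).2
        refine mem_inf.2 ⟨(mem_normalizer_iff.1 (P.norm (mem_inf.1 hg).1) y).1 hyA, ?_⟩
        exact mem_centralizer_singleton_iff.2
          ((hgv.mul_left (mem_centralizer_singleton_iff.1 hyv)).mul_left hgv.inv_left)
    have hidx : (D ⊓ centralizer ({v} : Set G)).relIndex D = invCount H := by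
      have h1 := card_centralizer_fixing hH (Ne.symm P.ne) hv hvc
      have h2 : Nat.card ↥(D ⊓ centralizer ({v} : Set G)) *
          (D ⊓ centralizer ({v} : Set G)).relIndex D = Nat.card D := by
        rw [relIndex, ← Nat.card_congr (subgroupOfEquivOfLe
          (inf_le_left : D ⊓ centralizer ({v} : Set G) ≤ D)).toEquiv]
        exact card_mul_index _
      exact Nat.eq_of_mul_eq_mul_left Nat.card_pos (h2.trans h1.symm)
    have htr : ∀ b : G ⧸ H, b ≠ c → ∃ k ∈ stabilizer G c, k • a = b := fun b hbc => by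
      obtain ⟨g, hg, hgb⟩ := htt c a b P.ne hbc
      exact ⟨g, mem_stabilizer_iff.2 hg, hgb⟩
    obtain ⟨K₁, hK₁c, hK₁n, hCK₁, hK₁a⟩ := exists_normal_of_transfer hH hb P.ne hv hvc le_rfl
      (centralizer_le_stabilizer hH hv hvc) htr (D₁ := D₁) inf_le_left hD'1
      (fun q _ hq => hq.trans (hidx ▸ relIndex_dvd_of_le_left _ hCv))
      (fun g hg i hi hic hgi => by
        obtain ⟨d, hd, hdi⟩ := exists_conj_centre hH (Ne.symm P.ne) hv hvc hi hic
        set g' := d⁻¹ * g * d with hg'
        have hg'1 : g' ∈ D₁ := by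
          refine hCv (mem_inf.2 ⟨mul_mem (mul_mem (inv_mem hd) hg) hd, mem_centralizer_singleton_iff.2 ?_⟩)
          have h1 := commute_conj d⁻¹ hgi
          rw [← hdi] at h1
          simp only [inv_inv, mul_assoc, inv_mul_cancel, mul_one, inv_mul_cancel_left] at h1
          rw [hg', mul_assoc d⁻¹]
          exact h1
        have hcm : ⁅d, g'⁆ ∈ D₁ := hD'1 (commutator_mem_commutator hd (mem_inf.1 hg'1).1)
        have e : g = ⁅d, g'⁆ * g' := by rw [hg', commutatorElement_def]; group
        rw [e]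
        exact mul_mem hcm hg'1)
    have hcl : ∀ k ∈ K₁, Commute v (k * v * k⁻¹) := by
      intro k hk
      obtain ⟨d, hd, hdk⟩ := exists_conj_centre hH (Ne.symm P.ne) hv hvc
        (s' := k * v * k⁻¹) (by rw [orderOf_conj', hv]) (by
          have hkc := mem_stabilizer_iff.1 (hK₁c hk)
          rw [mul_smul, mul_smul, inv_smul_eq_iff.2 hkc.symm, hvc, hkc])
      have hz : d⁻¹ * k ∈ centralizer ({v} : Set G) := mem_centralizer_singleton_iff.2 (by
        have h1 : k * v = d * v * d⁻¹ * k := by rw [hdk, inv_mul_cancel_right]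
        rw [mul_assoc, h1]
        group)
      have hdK : d ∈ D₁ := by
        rw [← hK₁a]
        refine mem_inf.2 ⟨?_, (mem_inf.1 hd).2⟩
        have h1 := mul_mem hk (inv_mem (hCK₁ hz))
        rwa [mul_inv_rev, inv_inv, mul_inv_cancel_left] at h1
      obtain ⟨y, hy, hy1⟩ : ∃ y ∈ L, y ≠ 1 := by
        by_contra hno
        push Not at hno
        rw [(eq_bot_iff_forall L).2 hno, Subgroup.card_bot] at hLcard
        exact hl.ne_one hLcard.symm
      obtain ⟨hyA, hyv⟩ := mem_inf.1 hy
      refine commute_of_centralized hH hcore hb hcs P.ne hy1 (P.fix hyA).1 (P.fix hyA).2 hv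
        (by rw [orderOf_conj', hv]) hvc ?_ (mem_centralizer_singleton_iff.1 hyv) ?_
      · have hkc := mem_stabilizer_iff.1 (hK₁c hk)
        rw [mul_smul, mul_smul, inv_smul_eq_iff.2 hkc.symm, hvc, hkc]
      · rw [← hdk]
        have hy' := (mem_normalizer_iff''.1 (mem_inf.1 hdK).2 y).1 hy
        have h1 := commute_conj d (mem_centralizer_singleton_iff.1 (mem_inf.1 hy').2)
        simpa [mul_assoc] using h1
    haveI : Fact (Nat.Prime 2) := ⟨Nat.prime_two⟩
    have hvK : v ∈ K₁ := hCK₁ (mem_centralizer_singleton_iff.2 rfl)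
    set S : Set K₁ := Group.conjugatesOfSet {(⟨v, hvK⟩ : K₁)} with hS
    have hSconj : ∀ s ∈ S, ∃ k ∈ K₁, (s : G) = k * v * k⁻¹ := by
      intro s hs
      obtain ⟨r, hr, hrs⟩ := Group.mem_conjugatesOfSet_iff.1 hs
      rw [Set.mem_singleton_iff] at hr
      subst hr
      obtain ⟨k, hk⟩ := isConj_iff.1 hrs
      exact ⟨k, k.2, (congrArg Subtype.val hk).symm⟩
    have hScomm : ∀ p ∈ S, ∀ q ∈ S, p * q = q * p := by
      intro p hp q hq
      obtain ⟨k, hk, hpk⟩ := hSconj p hp
      obtain ⟨k', hk', hqk⟩ := hSconj q hq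
      refine Subtype.ext ?_
      show (p : G) * q = q * p
      have h1 := commute_conj k (hcl (k⁻¹ * k') (mul_mem (inv_mem hk) hk'))
      rw [show k * (k⁻¹ * k' * v * (k⁻¹ * k')⁻¹) * k⁻¹ = k' * v * k'⁻¹ by group, ← hpk, ← hqk] at h1
      exact h1.eq
    set E := Subgroup.normalClosure ({(⟨v, hvK⟩ : K₁)} : Set K₁) with hE
    have hEp : IsPGroup 2 E := by
      have hsq : ∀ g ∈ E, g * g = 1 ∧ ∀ q ∈ S, g * q = q * g := by
        intro g hg
        have hEC : E ≤ centralizer S := (closure_le _).2 fun p hp =>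
          mem_centralizer_iff.2 fun q hq => hScomm q hq p hp
        refine ⟨?_, fun q hq => (mem_centralizer_iff.1 (hEC hg) q hq).symm⟩
        have hE' : ∀ g ∈ E, ∀ g' ∈ E, g * g' = g' * g := fun g hg g' hg' => by
          have : E ≤ centralizer (E : Set K₁) := (closure_le _).2 fun p hp =>
            mem_centralizer_iff.2 fun q hq => (mem_centralizer_iff.1 (hEC hq) p hp).symm
          exact (mem_centralizer_iff.1 (this hg) g' hg').symm
        refine closure_induction (p := fun p _ => p * p = 1) ?_ (one_mul 1) ?_ ?_ hg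
        · intro p hp
          obtain ⟨k, -, hk⟩ := hSconj p hp
          refine Subtype.ext ?_
          show (p : G) * p = 1
          rw [hk]
          exact sq_of_order_two (by rw [orderOf_conj', hv])
        · intro p q hp hq h1 h2
          rw [mul_assoc, ← mul_assoc q, hE' q hq p hp, mul_assoc, h2, mul_one, h1]
        · intro p _ h1
          rw [← mul_inv_rev, h1, inv_one]
      exact fun g => ⟨1, Subtype.ext (by rw [pow_one, SubgroupClass.coe_pow, sq]; exact (hsq g g.2).1)⟩
    refine commAt_of_point (c := c) fun i j hi hj hic hjc =>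
      commute_of_two_core hH (N := (Cfsg.pCore 2 K₁).map K₁.subtype) ((map_subtype_le _).trans hK₁c) ?_
        ((Cfsg.Lib.Components.isPGroup_pCore 2).map _) ?_ hi hj hic hjc
    · intro g hg
      haveI : (Cfsg.pCore 2 K₁).Characteristic := Cfsg.Lib.Components.pCore_characteristic
      exact (Cfsg.Lib.OddP.le_normalizer_map_of_char (Cfsg.pCore 2 K₁)) (hK₁n hg)
    · intro hbot
      have h1 : (⟨v, hvK⟩ : K₁) ∈ Cfsg.pCore 2 K₁ :=
        Cfsg.Lib.Components.le_pCore (N := E) hEp (subset_normalClosure (Set.mem_singleton _))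
      have h2 := mem_map_of_mem K₁.subtype h1
      rw [hbot, mem_bot] at h2
      exact ne_one_of_order_two hv h2
  · -- an invariant line
    set F := A ⊓ centralizer ((⁅D, D⁆ : Subgroup G) : Set G) with hF
    have hDD : D ≤ normalizer ((⁅D, D⁆ : Subgroup G) : Set G) := fun g hg =>
      mem_normalizer_of_maps_to fun y hy => by
        have := commutator_mem_commutator hg (commutator_le_self D hy)
        rw [commutatorElement_def] at this
        simpa [mul_assoc] using mul_mem this hy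
    have hFn : ∀ g, g ∈ normalizer (A : Set G) →
        (∀ y ∈ ⁅D, D⁆, g⁻¹ * y * g ∈ ⁅D, D⁆) → ∀ y ∈ F, g * y * g⁻¹ ∈ F := by
      intro g hgA hgD y hy
      obtain ⟨hyA, hyc⟩ := mem_inf.1 hy
      refine mem_inf.2 ⟨(mem_normalizer_iff.1 hgA y).1 hyA, mem_centralizer_iff.2 fun q hq => ?_⟩
      have h1 := commute_conj g (show Commute (g⁻¹ * q * g) y from mem_centralizer_iff.1 hyc _ (hgD q hq))
      rw [show g * (g⁻¹ * q * g) * g⁻¹ = q by group] at h1
      exact h1.eq
    have htF : ∀ y ∈ F, t * y * t⁻¹ ∈ F := by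
      refine hFn t htA fun y hy => ?_
      have hDt : ∀ z ∈ D, t⁻¹ * z * t ∈ D := fun z hz => by
        have := swapper_conj_mem ht htc (mem_stabilizer_iff.1 (mem_inf.1 hz).1)
          (mem_stabilizer_iff.1 (mem_inf.1 hz).2)
        rw [inv_of_order_two ht] at this ⊢
        exact mem_inf.2 ⟨mem_stabilizer_iff.2 this.1, mem_stabilizer_iff.2 this.2⟩
      have h1 : (⁅D, D⁆ : Subgroup G).map (MulAut.conj t⁻¹).toMonoidHom ≤ ⁅D, D⁆ := by
        rw [map_commutator]
        refine commutator_mono ?_ ?_ <;>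
        · rintro _ ⟨z, hz, rfl⟩
          simpa using hDt z hz
      simpa using h1 (mem_map_of_mem _ hy)
    have hFt : t ∈ normalizer (F : Set G) := mem_normalizer_of_maps_to htF
    have hFodd : Odd (Nat.card F) := hAodd.of_dvd_nat (card_dvd_of_le inf_le_left)
    have hFD : D ≤ normalizer (F : Set G) := fun g hg => mem_normalizer_of_maps_to
      (hFn g (P.norm hg) fun y hy => (mem_normalizer_iff''.1 (hDD hg) y).1 hy)
    by_cases hmeet : ∃ y ∈ F, y ≠ 1 ∧ Commute y t
    · exfalso
      obtain ⟨y, hy, hy1, hyt⟩ := hmeet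
      have h2 : F = Ap := by
        have h4 : zpowers y ≤ F := zpowers_le.2 hy
        have h5 : zpowers y ≤ Ap := zpowers_le.2 (mem_inf.2
          ⟨(mem_inf.1 hy).1, mem_centralizer_singleton_iff.2 hyt⟩)
        have h6 : Nat.card (zpowers y) = l := by
          rw [Nat.card_zpowers]; exact orderOf_eq_prime (P.exp y (mem_inf.1 hy).1) hy1
        rw [← Subgroup.eq_of_le_of_card_ge h4 (by rw [h6, hline]),
          ← Subgroup.eq_of_le_of_card_ge h5 (by rw [h6, hAp_card])]
      refine hcomm (P.commAt_of_normal_fixed hH hcore hb hcs ht htc hxA hx1 fun d hd => ?_)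
      have h1 : d * x * d⁻¹ ∈ Ap := h2 ▸ (mem_normalizer_iff.1 (hFD hd) x).1 (h2.symm ▸ hxAp)
      exact mem_centralizer_singleton_iff.1 (mem_inf.1 h1).2
    · push Not at hmeet
      have hFle : F ≤ Am := le_of_inverted hFodd (sq_of_order_two ht) hFt
        (fun y hy hyt => by
          rw [(by_contra fun h => hmeet y hy h hyt : y = 1)]
          exact one_mem Am)
        (fun y hy hinv => subset_closure ⟨(mem_inf.1 hy).1, hinv⟩)
      rw [← Subgroup.eq_of_le_of_card_ge hFle (by rw [hline, hAmcard])]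
      exact hFD

/-- a minimal invariant `A` is inverted by the swapper, unless involutions at a point commute -/
theorem PairAbelian.inverted_of_minimal {A : Subgroup G} {c a : G ⧸ H} {l : ℕ} [Fact l.Prime]
    (P : PairAbelian H A c a l) (hH : Cfsg.IsStronglyEmbedded H) (hcore : H.normalCore = ⊥)
    (hb : NoBad H) (hcs : CentreSquares H) (htt : TwoTransitive H) {t : G} (ht : orderOf t = 2)
    (htc : t • c = a) (htA : t ∈ normalizer (A : Set G))
    (hmin : ∀ X : Subgroup G, X ≤ A → X ≠ ⊥ → stabilizer G c ⊓ stabilizer G a ≤ normalizer (X : Set G) →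
      t ∈ normalizer (X : Set G) → X = A) (hncomm : ¬ CommAt H) :
    ∀ y ∈ A, t * y * t⁻¹ = y⁻¹ := by
  have hAodd : Odd (Nat.card A) :=
    (odd_stabilizer_inf hH (Ne.symm P.ne)).of_dvd_nat (card_dvd_of_le P.le)
  intro y hy
  by_cases hmix : ∃ x ∈ A, x ≠ 1 ∧ Commute x t
  · exfalso
    obtain ⟨x, hxA, hx1, hxt⟩ := hmix
    have hl2 : l ≠ 2 := by
      rintro rfl
      have h1 : orderOf x = 2 := orderOf_eq_prime (P.exp x hxA) hx1
      have h2 : 2 ∣ Nat.card A := h1 ▸ Subgroup.orderOf_dvd_natCard A hxA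
      exact (Nat.not_even_iff_odd.2 hAodd) (even_iff_two_dvd.2 h2)
    rcases P.commAt_or_invariant_line hH hcore hb hcs htt ht htc htA hl2 hxA hx1 hxt with h | ⟨hA, hm, -, hn⟩
    · exact hncomm h
    have hne : invClosure A t ≠ ⊥ := fun h => by
      rw [h, Subgroup.card_bot] at hm
      exact (Fact.out : l.Prime).ne_one hm.symm
    have htm : t ∈ normalizer (invClosure A t : Set G) :=
      mem_normalizer_invClosure htA (Commute.refl t)
    have h1 := hmin _ (invClosure_le A t) hne hn htm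
    rw [h1, hA] at hm
    exact absurd ((Nat.pow_eq_self_iff (Fact.out : l.Prime).one_lt).1 hm) (by norm_num)
  · push Not at hmix
    refine (inverted_of_mem_invClosure P.comm (le_of_inverted hAodd (sq_of_order_two ht) htA
      (fun z hz hzt => ?_) (fun z hz hinv => Subgroup.subset_closure (show z ∈ {x | x ∈ A ∧ t * x * t⁻¹ = x⁻¹} from ⟨hz, hinv⟩)) hy)).2
    rw [(by_contra fun h => hmix z hz h hzt : z = 1)]
    exact one_mem _

/-- unless involutions at a point commute, the pair stabiliser has a nontrivial elementary abelian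
normal subgroup inverted by the swapper and centralised by no involution -/
theorem exists_inverted_normal (hH : Cfsg.IsStronglyEmbedded H) (hcore : H.normalCore = ⊥)
    (hb : NoBad H) (hcs : CentreSquares H) (htt : TwoTransitive H) {c a : G ⧸ H} (hac : a ≠ c)
    (hD : stabilizer G c ⊓ stabilizer G a ≠ ⊥) {t : G} (ht : orderOf t = 2) (htc : t • c = a)
    (hncomm : ¬ CommAt H) :
    ∃ (l : ℕ) (A : Subgroup G), l.Prime ∧ A ≠ ⊥ ∧ PairAbelian H A c a l ∧
      (∀ y ∈ A, t * y * t⁻¹ = y⁻¹) ∧ ∀ y ∈ A, y ≠ 1 → ∀ u, orderOf u = 2 → ¬ Commute y u := by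
  classical
  set D := stabilizer G c ⊓ stabilizer G a with hDdef
  have htD : t ∈ normalizer (D : Set G) := mem_normalizer_of_maps_to fun z hz => by
    have h := swapper_conj_mem ht htc (mem_stabilizer_iff.1 (mem_inf.1 hz).1)
      (mem_stabilizer_iff.1 (mem_inf.1 hz).2)
    exact mem_inf.2 ⟨mem_stabilizer_iff.2 h.1, mem_stabilizer_iff.2 h.2⟩
  let T : Set (Subgroup G) :=
    {X | X ≤ D ∧ X ≠ ⊥ ∧ D ≤ normalizer (X : Set G) ∧ t ∈ normalizer (X : Set G)}
  obtain ⟨A, hAmin⟩ := (Set.toFinite T).exists_minimal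
    ⟨D, le_rfl, hD, le_normalizer, htD⟩
  obtain ⟨hAD, hA1, hAn, htA⟩ := hAmin.prop
  have hle : ∀ X : Subgroup G, X ≤ A → X ≠ ⊥ → D ≤ normalizer (X : Set G) →
      t ∈ normalizer (X : Set G) → X = A := fun X hXA hX hXn hXt =>
    le_antisymm hXA (hAmin.le_of_le ⟨hXA.trans hAD, hX, hXn, hXt⟩ hXA)
  have hAodd : Odd (Nat.card A) := (odd_stabilizer_inf hH (Ne.symm hac)).of_dvd_nat (card_dvd_of_le hAD)
  haveI : Group.IsSolvable A := Cfsg.Agent.PF.isSolvable_of_odd A hAodd
  haveI : Nontrivial A := (nontrivial_iff_ne_bot A).2 hA1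
  have hcom : ∀ x ∈ A, ∀ y ∈ A, Commute x y := by
    have hbot : (commutator A).map A.subtype = ⊥ := by
      by_contra hne
      have hn : ∀ g : G, g ∈ normalizer (A : Set G) → g ∈ normalizer ((commutator A).map A.subtype : Set G) :=
        fun g hg => Cfsg.Lib.OddP.le_normalizer_map_of_char (commutator A) hg
      have h1 := hle _ (map_subtype_le _) hne (fun g hg => hn g (hAn hg)) (hn t htA)
      have hlt := Group.IsSolvable.commutator_lt_top_of_nontrivial A
      exact hlt.ne (map_injective A.subtype_injective (h1.trans (by rw [← MonoidHom.range_eq_map, range_subtype])))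
    intro x hx y hy
    have h1 : ⁅(⟨x, hx⟩ : A), ⟨y, hy⟩⁆ ∈ commutator A :=
      commutator_mem_commutator (mem_top _) (mem_top _)
    rw [(map_eq_bot_iff_of_injective _ A.subtype_injective).1 hbot, mem_bot,
      commutatorElement_eq_one_iff_mul_comm] at h1
    exact congrArg Subtype.val h1
  obtain ⟨l, hl, hlA⟩ := Nat.exists_prime_and_dvd (n := Nat.card A) Finite.one_lt_card.ne'
  haveI := Fact.mk hl
  let X : Subgroup G :=
    { carrier := {x | x ∈ A ∧ x ^ l = 1}
      one_mem' := ⟨one_mem A, one_pow l⟩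
      mul_mem' := fun {p q} hp hq =>
        ⟨mul_mem hp.1 hq.1, by rw [(hcom p hp.1 q hq.1).mul_pow, hp.2, hq.2, one_mul]⟩
      inv_mem' := fun {p} hp => ⟨inv_mem hp.1, by rw [inv_pow, hp.2, inv_one]⟩ }
  have hXn : ∀ g : G, g ∈ normalizer (A : Set G) → g ∈ normalizer (X : Set G) := fun g hg =>
    mem_normalizer_of_maps_to fun x hx =>
      ⟨(mem_normalizer_iff.1 hg x).1 hx.1, by rw [conj_pow, hx.2, mul_one, mul_inv_cancel]⟩
  have hX1 : X ≠ ⊥ := by
    obtain ⟨x, hx⟩ := exists_prime_orderOf_dvd_card' (G := A) l hlA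
    intro h
    have h1 : (x : G) ∈ X := ⟨x.2, by rw [← Subgroup.coe_pow, ← hx, pow_orderOf_eq_one]; rfl⟩
    rw [h, mem_bot] at h1
    rw [show x = 1 from Subtype.ext h1, orderOf_one] at hx
    exact hl.ne_one hx.symm
  have hXA : X = A := hle X (fun x hx => hx.1) hX1 (fun g hg => hXn g (hAn hg)) (hXn t htA)
  have P : PairAbelian H A c a l :=
    ⟨hac, hAD, hcom, fun x hx => (hXA.symm ▸ hx : x ∈ X).2, hAn⟩
  have hinv := P.inverted_of_minimal hH hcore hb hcs htt ht htc htA hle hncomm
  exact ⟨l, A, hl, hA1, P, hinv, fun y hy hy1 u hu =>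
    not_commute_of_inverted hH hb hac ht (P.fix hy).1 (P.fix hy).2 hy1 (hinv y hy) hu⟩

/-- in 2-rank at least two the pair stabilisers are nontrivial -/
theorem pair_ne_bot (hH : Cfsg.IsStronglyEmbedded H) (h2 : HasCommutingInvolutions G) {c a : G ⧸ H}
    (hac : a ≠ c) : stabilizer G c ⊓ stabilizer G a ≠ ⊥ := by
  intro h
  obtain ⟨q, hq, -, hqm⟩ := exists_prime_dvd_invCount hH h2
  obtain ⟨s, hs, hsc⟩ := exists_fixing hH c
  have h1 := card_centralizer_fixing hH (Ne.symm hac) hs hsc
  rw [h, bot_inf_eq, Subgroup.card_bot, one_mul] at h1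
  exact hq.ne_one (Nat.dvd_one.1 (h1 ▸ hqm))

end Cfsg.Lib.BenderSE
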