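/-
COMM, notes/bender_comm.md N2: a maximal normal subgroup `A` of a pair stabiliser `D` inverted by the
swapper is abelian and semiregular on the involutions at each end; if `C_D(A) = A` it is regular and
`D` is the product of `A` and the centraliser of an involution; otherwise it is cyclic.
-/
import Cfsg.Agent.BenderSE.CommMinimal

set_option autoImplicit false
set_option linter.unusedSectionVars false
set_option linter.style.haveILetI false

namespace Cfsg.Lib.BenderSE

open Subgroup MulAction Cfsg.Lib.InvolCalc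
open scoped commutatorElement

universe u

variable {G : Type u} [Group G] [Finite G] {H : Subgroup G}

/-- a maximal subgroup of `G_ca`, normal in it and inverted by `t` -/
structure InvertedMax (H : Subgroup G) (A : Subgroup G) (t : G) (c a : G ⧸ H) : Prop where
  le : A ≤ stabilizer G c ⊓ stabilizer G a
  inv : ∀ y ∈ A, t * y * t⁻¹ = y⁻¹
  norm : stabilizer G c ⊓ stabilizer G a ≤ normalizer (A : Set G)
  max : ∀ X : Subgroup G, A ≤ X → X ≤ stabilizer G c ⊓ stabilizer G a →
    (∀ y ∈ X, t * y * t⁻¹ = y⁻¹) → stabilizer G c ⊓ stabilizer G a ≤ normalizer (X : Set G) → X = A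

/-- such a subgroup exists above any inverted normal one -/
theorem exists_invertedMax {t : G} {c a : G ⧸ H} {A₀ : Subgroup G}
    (hle : A₀ ≤ stabilizer G c ⊓ stabilizer G a) (hinv : ∀ y ∈ A₀, t * y * t⁻¹ = y⁻¹)
    (hnorm : stabilizer G c ⊓ stabilizer G a ≤ normalizer (A₀ : Set G)) :
    ∃ A : Subgroup G, A₀ ≤ A ∧ InvertedMax H A t c a := by
  let T : Set (Subgroup G) := {X | A₀ ≤ X ∧ X ≤ stabilizer G c ⊓ stabilizer G a ∧
    (∀ y ∈ X, t * y * t⁻¹ = y⁻¹) ∧ stabilizer G c ⊓ stabilizer G a ≤ normalizer (X : Set G)}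
  obtain ⟨A, hA⟩ := (Set.toFinite T).exists_maximal ⟨A₀, le_rfl, hle, hinv, hnorm⟩
  obtain ⟨h0, h1, h2, h3⟩ := hA.prop
  exact ⟨A, h0, h1, h2, h3, fun X hAX hX hXi hXn =>
    le_antisymm (hA.le_of_ge ⟨h0.trans hAX, hX, hXi, hXn⟩ hAX) hAX⟩

variable {A : Subgroup G} {t : G} {c a : G ⧸ H}

/-- an inverted group is abelian -/
theorem InvertedMax.comm (P : InvertedMax H A t c a) {x y : G} (hx : x ∈ A) (hy : y ∈ A) :
    Commute x y := by
  have h := P.inv (x * y) (mul_mem hx hy)
  rw [← conj_mul, P.inv x hx, P.inv y hy, mul_inv_rev] at h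
  have h1 : Commute x⁻¹ y⁻¹ := h
  simpa using h1.inv_inv

theorem InvertedMax.fix (P : InvertedMax H A t c a) {x : G} (hx : x ∈ A) : x • c = c ∧ x • a = a :=
  ⟨mem_stabilizer_iff.1 (mem_inf.1 (P.le hx)).1, mem_stabilizer_iff.1 (mem_inf.1 (P.le hx)).2⟩

/-- no involution centralises a nontrivial element -/
theorem InvertedMax.not_commute (P : InvertedMax H A t c a) (hH : Cfsg.IsStronglyEmbedded H)
    (hb : NoBad H) (hac : a ≠ c) (ht : orderOf t = 2) {y u : G} (hy : y ∈ A) (hy1 : y ≠ 1)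
    (hu : orderOf u = 2) : ¬ Commute y u :=
  not_commute_of_inverted hH hb hac ht (P.fix hy).1 (P.fix hy).2 hy1 (P.inv y hy) hu

/-- every inverted element of `D` centralises `A` -/
theorem InvertedMax.commute_inverted (P : InvertedMax H A t c a) (hH : Cfsg.IsStronglyEmbedded H)
    (hac : a ≠ c) {j y : G} (hj : j ∈ stabilizer G c ⊓ stabilizer G a)
    (hjt : t * j * t⁻¹ = j⁻¹) (hy : y ∈ A) : Commute j y := by
  have h1 := P.inv _ ((mem_normalizer_iff.1 (P.norm hj) y).1 hy)
  rw [show t * (j * y * j⁻¹) * t⁻¹ = (t * j * t⁻¹) * (t * y * t⁻¹) * (t * j * t⁻¹)⁻¹ by group, hjt,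
    P.inv y hy, inv_inv] at h1
  have h2 : Commute (j * j) y := by
    have h3 := congrArg (fun z : G => (j * z * j⁻¹)⁻¹) h1
    simp only [mul_inv_rev, inv_inv, mul_assoc, mul_inv_cancel_left, mul_inv_cancel, mul_one] at h3
    show j * j * y = y * (j * j)
    conv_rhs => rw [h3]
    group
  obtain ⟨k, hk⟩ := (odd_stabilizer_inf hH hac.symm).of_dvd_nat (Subgroup.orderOf_dvd_natCard _ hj)
  have h4 : j = (j * j) ^ (k + 1) := by
    rw [← sq, ← pow_mul, show 2 * (k + 1) = orderOf j + 1 by omega, pow_succ, pow_orderOf_eq_one,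
      one_mul]
  rw [h4]
  exact h2.pow_left _

/-- the inverted elements: `|J| = m` -/
theorem card_inverted_eq_invCount (hH : Cfsg.IsStronglyEmbedded H) (hac : a ≠ c)
    (ht : orderOf t = 2) (htc : t • c = a) :
    Nat.card {x // x ∈ stabilizer G c ⊓ stabilizer G a ∧ t * x * t⁻¹ = x⁻¹} = invCount H := by
  have hn : t ∈ normalizer ((stabilizer G c ⊓ stabilizer G a : Subgroup G) : Set G) :=
    mem_normalizer_of_maps_to fun z hz => by
      have h := swapper_conj_mem ht htc (mem_stabilizer_iff.1 (mem_inf.1 hz).1)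
        (mem_stabilizer_iff.1 (mem_inf.1 hz).2)
      exact mem_inf.2 ⟨mem_stabilizer_iff.2 h.1, mem_stabilizer_iff.2 h.2⟩
  refine Nat.eq_of_mul_eq_mul_right Nat.card_pos
    ((card_inverted_mul (odd_stabilizer_inf hH hac.symm) (sq_of_order_two ht) hn).trans ?_)
  rw [mul_comm]
  exact (card_centralizer_swapper hH hac.symm ht htc).symm

/-- if `C_D(A) = A` then `A` is the set of inverted elements -/
theorem InvertedMax.mem_of_inverted (P : InvertedMax H A t c a) (hH : Cfsg.IsStronglyEmbedded H)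
    (hac : a ≠ c) (hself : stabilizer G c ⊓ stabilizer G a ⊓ centralizer (A : Set G) ≤ A) {j : G}
    (hj : j ∈ stabilizer G c ⊓ stabilizer G a) (hjt : t * j * t⁻¹ = j⁻¹) : j ∈ A :=
  hself (mem_inf.2 ⟨hj, mem_centralizer_iff.2 fun _ hy => (P.commute_inverted hH hac hj hjt hy).eq.symm⟩)

/-- if `C_D(A) = A` then `|A| = m` -/
theorem InvertedMax.card_eq (P : InvertedMax H A t c a) (hH : Cfsg.IsStronglyEmbedded H)
    (hac : a ≠ c) (ht : orderOf t = 2) (htc : t • c = a)
    (hself : stabilizer G c ⊓ stabilizer G a ⊓ centralizer (A : Set G) ≤ A) :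
    Nat.card A = invCount H := by
  rw [← card_inverted_eq_invCount hH hac ht htc]
  exact Nat.card_congr (Equiv.subtypeEquivRight fun x =>
    ⟨fun hx => ⟨P.le hx, P.inv x hx⟩, fun hx => P.mem_of_inverted hH hac hself hx.1 hx.2⟩)

/-- if `C_D(A) = A` then `A` is regular on the involutions at `c` -/
theorem InvertedMax.existsUnique_conj (P : InvertedMax H A t c a) (hH : Cfsg.IsStronglyEmbedded H)
    (hb : NoBad H) (hac : a ≠ c) (ht : orderOf t = 2) (htc : t • c = a)
    (hself : stabilizer G c ⊓ stabilizer G a ⊓ centralizer (A : Set G) ≤ A) {v i : G}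
    (hv : orderOf v = 2) (hvc : v • c = c) (hi : orderOf i = 2) (hic : i • c = c) :
    ∃! y : A, (y : G) * v * (y : G)⁻¹ = i := by
  let f : A → {i : G // orderOf i = 2 ∧ i • c = c} := fun y => ⟨(y : G) * v * (y : G)⁻¹,
    by rw [orderOf_conj', hv], by
      rw [mul_smul, mul_smul, inv_smul_eq_iff.2 (P.fix y.2).1.symm, hvc, (P.fix y.2).1]⟩
  have hinj : Function.Injective f := by
    rintro ⟨x, hx⟩ ⟨y, hy⟩ h
    have h' : x * v * x⁻¹ = y * v * y⁻¹ := congrArg Subtype.val h
    refine Subtype.ext ?_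
    by_contra hne
    refine P.not_commute hH hb hac ht (mul_mem (inv_mem hy) hx)
      (fun e => hne (inv_mul_eq_one.1 e).symm) hv ?_
    have h2 := congrArg (fun z => y⁻¹ * z * x) h'
    simp only [mul_assoc, inv_mul_cancel, mul_one, inv_mul_cancel_left] at h2
    show y⁻¹ * x * v = v * (y⁻¹ * x)
    rw [mul_assoc]
    exact h2
  haveI : Fintype A := Fintype.ofFinite A
  haveI : Fintype {i : G // orderOf i = 2 ∧ i • c = c} := Fintype.ofFinite _
  have hbij : Function.Bijective f := (Fintype.bijective_iff_injective_and_card f).2 ⟨hinj, by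
    rw [← Nat.card_eq_fintype_card, ← Nat.card_eq_fintype_card, P.card_eq hH hac ht htc hself,
      Cfsg.Lib.StrongEmb.card_fixing hH c]; rfl⟩
  obtain ⟨y, hy, huniq⟩ := hbij.existsUnique ⟨i, hi, hic⟩
  exact ⟨y, congrArg Subtype.val hy, fun z hz => huniq z (Subtype.ext hz)⟩

/-- if `C_D(A) = A` then `D = A C_D(v)` -/
theorem InvertedMax.exists_mul (P : InvertedMax H A t c a) (hH : Cfsg.IsStronglyEmbedded H)
    (hb : NoBad H) (hac : a ≠ c) (ht : orderOf t = 2) (htc : t • c = a)
    (hself : stabilizer G c ⊓ stabilizer G a ⊓ centralizer (A : Set G) ≤ A) {v g : G}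
    (hv : orderOf v = 2) (hvc : v • c = c) (hg : g ∈ stabilizer G c ⊓ stabilizer G a) :
    ∃ y ∈ A, ∃ r ∈ stabilizer G c ⊓ stabilizer G a ⊓ centralizer ({v} : Set G), g = y * r := by
  have hgc : g • c = c := mem_stabilizer_iff.1 (mem_inf.1 hg).1
  obtain ⟨y, hy, -⟩ := P.existsUnique_conj hH hb hac ht htc hself hv hvc
    (i := g * v * g⁻¹) (by rw [orderOf_conj', hv])
    (by rw [mul_smul, mul_smul, inv_smul_eq_iff.2 hgc.symm, hvc, hgc])
  refine ⟨y, y.2, (y : G)⁻¹ * g, mem_inf.2 ⟨mul_mem (inv_mem (P.le y.2)) hg, ?_⟩, by group⟩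
  rw [mem_centralizer_singleton_iff]
  have h := congrArg (fun z => (y : G)⁻¹ * z * g) hy
  simp only [mul_assoc, inv_mul_cancel, mul_one, inv_mul_cancel_left] at h
  rw [mul_assoc]
  exact h.symm

/-- an inverted abelian group centralised by a nontrivial element commuting with the swapper is
cyclic -/
theorem isCyclic_of_inverted_centralized (hH : Cfsg.IsStronglyEmbedded H) (hcore : H.normalCore = ⊥)
    (hb : NoBad H) (hcs : CentreSquares H) (hac : a ≠ c) (ht : orderOf t = 2) (htc : t • c = a)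
    {B : Subgroup G} (hB : B ≤ stabilizer G c ⊓ stabilizer G a)
    (hBinv : ∀ y ∈ B, t * y * t⁻¹ = y⁻¹) {l : ℕ} [Fact l.Prime] {k : G} (hk1 : k ≠ 1)
    (hkl : k ^ l = 1) (hkc : k • c = c) (hka : k • a = a) (hkt : Commute k t)
    (hkB : ∀ y ∈ B, Commute k y) : IsCyclic B := by
  classical
  have hBc : ∀ x ∈ B, ∀ y ∈ B, Commute x y := fun x hx y hy => by
    have h := hBinv (x * y) (mul_mem hx hy)
    rw [← conj_mul, hBinv x hx, hBinv y hy, mul_inv_rev] at h
    have h1 : Commute x⁻¹ y⁻¹ := h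
    simpa using h1.inv_inv
  letI : CommGroup B :=
    { (inferInstance : Group B) with mul_comm := fun p q => Subtype.ext (hBc p p.2 q q.2).eq }
  obtain ⟨u, hu, huc, hku⟩ := exists_fixing_commute hH hb hac hkl hkc hka (Or.inr ⟨t, ht, htc, hkt⟩)
  have hC2 : ∀ p q : G, orderOf p = 2 ∧ p • c = c ∧ Commute k p →
      orderOf q = 2 ∧ q • c = c ∧ Commute k q → Commute p q := fun p q hp hq =>
    commute_of_centralized hH hcore hb hcs hac hk1 hkc hka hp.1 hq.1 hp.2.1 hq.2.1 hp.2.2 hq.2.2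
  let V : Subgroup G :=
    { carrier := {g | g = 1 ∨ (orderOf g = 2 ∧ g • c = c ∧ Commute k g)}
      one_mem' := Or.inl rfl
      mul_mem' := fun {p q} hp hq => by
        rcases hp with rfl | hp
        · rwa [one_mul]
        rcases hq with rfl | hq
        · rw [mul_one]; exact Or.inr hp
        by_cases h1 : p * q = 1
        · exact Or.inl h1
        refine Or.inr ⟨order_two_of_mul_self ?_ h1, by rw [mul_smul, hq.2.1, hp.2.1], hp.2.2.mul_right hq.2.2⟩
        rw [mul_assoc, ← mul_assoc q, ← (hC2 p q hp hq).eq, mul_assoc, sq_of_order_two hq.1, mul_one,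
          sq_of_order_two hp.1]
      inv_mem' := fun {p} hp => by
        rcases hp with rfl | hp
        · exact Or.inl inv_one
        · rw [inv_of_order_two hp.1]; exact Or.inr hp }
  have hVmem : ∀ g ∈ V, g = 1 ∨ (orderOf g = 2 ∧ g • c = c ∧ Commute k g) := fun g hg => hg
  letI : CommGroup V :=
    { (inferInstance : Group V) with
      mul_comm := fun ⟨p, hp⟩ ⟨q, hq⟩ => Subtype.ext (by
        show p * q = q * p
        rcases hVmem p hp with rfl | hp
        · rw [one_mul, mul_one]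
        rcases hVmem q hq with rfl | hq
        · rw [one_mul, mul_one]
        exact (hC2 p q hp hq).eq) }
  have hBfix : ∀ y ∈ B, y • c = c ∧ y • a = a := fun y hy =>
    ⟨mem_stabilizer_iff.1 (mem_inf.1 (hB hy)).1, mem_stabilizer_iff.1 (mem_inf.1 (hB hy)).2⟩
  have hBV : B ≤ normalizer (V : Set G) := fun y hy => mem_normalizer_of_maps_to fun g hg => by
    rcases hVmem g hg with rfl | hg
    · rw [mul_one, mul_inv_cancel]; exact one_mem V
    refine Or.inr ⟨by rw [orderOf_conj', hg.1], ?_, ?_⟩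
    · rw [mul_smul, mul_smul, inv_smul_eq_iff.2 (hBfix y hy).1.symm, hg.2.1, (hBfix y hy).1]
    · exact ((hkB y hy).mul_right hg.2.2).mul_right (hkB y hy).inv_right
  let act : B →* MulAut V :=
    { toFun := fun y => V.normalizerMonoidHom ⟨(y : G), hBV y.2⟩
      map_one' := by rw [show (⟨((1 : B) : G), hBV (1 : B).2⟩ : normalizer (V : Set G)) = 1 from rfl, map_one]
      map_mul' := fun y z => by rw [← map_mul]; rfl }
  have hfpf : ∀ y : B, y ≠ 1 → ∀ g : V, act y g = g → g = 1 := by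
    intro y hy1 g hg
    rcases hVmem g g.2 with h1 | h1
    · exact Subtype.ext h1
    refine absurd ?_ (not_commute_of_inverted hH hb hac ht (hBfix y y.2).1 (hBfix y y.2).2
      (fun e => hy1 (Subtype.ext e)) (hBinv y y.2) h1.1)
    exact mul_inv_eq_iff_eq_mul.1 (congrArg Subtype.val hg : (y : G) * (g : G) * (y : G)⁻¹ = g)
  by_contra hcyc
  obtain ⟨p, x, y, hp, hx, hy, hxy⟩ := Cfsg.Lib.Coprime.exists_root_pair_of_not_cyclic hcyc
  have hxp : (act x) ^ p = 1 := by rw [← map_pow, ← hx, pow_orderOf_eq_one, map_one]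
  have hyp : (act y) ^ p = 1 := by rw [← map_pow, ← hy, pow_orderOf_eq_one, map_one]
  have h1 := Cfsg.Lib.Coprime.pow_mem_of_fixed hp hyp hxp ((Commute.all y x).map act) (S := ⊥)
    (fun w hw => mem_bot.2 (hfpf x (fun e => by rw [e, orderOf_one] at hx; exact hp.ne_one hx.symm) w hw))
    (fun j _ w hw => mem_bot.2 (hfpf (y * x ^ j)
      (fun e => hxy (by rw [eq_inv_of_mul_eq_one_left e]; exact inv_mem (pow_mem (mem_zpowers x) j))) w
      (by rw [map_mul, map_pow]; exact hw)))
    (⟨u, Or.inr ⟨hu, huc, hku⟩⟩ : V)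
  have h2 : u ^ p = 1 := congrArg Subtype.val (mem_bot.1 h1)
  have h3 := orderOf_dvd_of_pow_eq_one h2
  rw [hu] at h3
  have hp2 : p = 2 := ((Nat.prime_dvd_prime_iff_eq Nat.prime_two hp).1 h3).symm
  have hodd : Odd (Nat.card B) :=
    (odd_stabilizer_inf hH hac.symm).of_dvd_nat (card_dvd_of_le hB)
  exact (Nat.not_even_iff_odd.2 hodd) (even_iff_two_dvd.2 (hp2 ▸ hx ▸ orderOf_dvd_natCard x))

/-- the dichotomy: `A` is self-centralising, or `A` is cyclic and centralised by an element of prime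
order commuting with the swapper -/
theorem InvertedMax.self_centralizing_or_cyclic (P : InvertedMax H A t c a)
    (hH : Cfsg.IsStronglyEmbedded H) (hcore : H.normalCore = ⊥) (hb : NoBad H)
    (hcs : CentreSquares H) (hac : a ≠ c) (ht : orderOf t = 2) (htc : t • c = a) :
    stabilizer G c ⊓ stabilizer G a ⊓ centralizer (A : Set G) ≤ A ∨
      (IsCyclic A ∧ ∃ l : ℕ, l.Prime ∧ ∃ k ∈ stabilizer G c ⊓ stabilizer G a,
        orderOf k = l ∧ Commute k t ∧ ∀ y ∈ A, Commute k y) := by
  classical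
  set D := stabilizer G c ⊓ stabilizer G a with hDdef
  set C := D ⊓ centralizer (A : Set G) with hC
  by_cases hk : ∃ k ∈ C, k ≠ 1 ∧ Commute k t
  · obtain ⟨k₀, hk₀C, hk₀1, hk₀t⟩ := hk
    obtain ⟨l, hl, hld⟩ := Nat.exists_prime_and_dvd (fun h => hk₀1 (orderOf_eq_one_iff.1 h))
    haveI := Fact.mk hl
    set k := k₀ ^ (orderOf k₀ / l) with hkdef
    have hkC : k ∈ C := pow_mem hk₀C _
    have hko : orderOf k = l := orderOf_pow_orderOf_div (orderOf_pos k₀).ne' hld
    have hk1 : k ≠ 1 := fun e => by rw [e, orderOf_one] at hko; exact hl.ne_one hko.symm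
    have hkt : Commute k t := hk₀t.pow_left _
    have hkA : ∀ y ∈ A, Commute k y := fun y hy =>
      (mem_centralizer_iff.1 (mem_inf.1 hkC).2 y hy).symm
    have hkD : k ∈ D := (mem_inf.1 hkC).1
    exact Or.inr ⟨isCyclic_of_inverted_centralized hH hcore hb hcs hac ht htc P.le P.inv hk1
      (l := l) (hko ▸ pow_orderOf_eq_one k) (mem_stabilizer_iff.1 (mem_inf.1 hkD).1)
      (mem_stabilizer_iff.1 (mem_inf.1 hkD).2) hkt hkA, l, hl, k, hkD, hko, hkt, hkA⟩
  refine Or.inl ?_
  push Not at hk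
  -- otherwise `C` is inverted, so equals `A`
  have htD : ∀ z ∈ D, t * z * t⁻¹ ∈ D := fun z hz => by
    have h := swapper_conj_mem ht htc (mem_stabilizer_iff.1 (mem_inf.1 hz).1)
      (mem_stabilizer_iff.1 (mem_inf.1 hz).2)
    exact mem_inf.2 ⟨mem_stabilizer_iff.2 h.1, mem_stabilizer_iff.2 h.2⟩
  have htC : t ∈ normalizer (C : Set G) := mem_normalizer_of_maps_to fun z hz => by
    refine mem_inf.2 ⟨htD z (mem_inf.1 hz).1, mem_centralizer_iff.2 fun y hy => ?_⟩
    have h1 := commute_conj t (show Commute y⁻¹ z from mem_centralizer_iff.1 (mem_inf.1 hz).2 _ (inv_mem hy))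
    rw [← conj_inv, P.inv y hy, inv_inv] at h1
    exact h1.eq
  have hCn : D ≤ normalizer (C : Set G) := fun g hg => mem_normalizer_of_maps_to fun z hz => by
    refine mem_inf.2 ⟨mul_mem (mul_mem hg (mem_inf.1 hz).1) (inv_mem hg), mem_centralizer_iff.2 fun y hy => ?_⟩
    have hy' := (mem_normalizer_iff''.1 (P.norm hg) y).1 hy
    have h1 := commute_conj g (show Commute (g⁻¹ * y * g) z from mem_centralizer_iff.1 (mem_inf.1 hz).2 _ hy')
    rw [show g * (g⁻¹ * y * g) * g⁻¹ = y by group] at h1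
    exact h1.eq
  have hodd : Odd (Nat.card C) :=
    (odd_stabilizer_inf hH hac.symm).of_dvd_nat (card_dvd_of_le inf_le_left)
  have hinv : ∀ z ∈ C, t * z * t⁻¹ = z⁻¹ := fun z hz => by
    obtain ⟨q, hq, hqt, i, -, hi, rfl⟩ := exists_commute_mul_inverted hodd (sq_of_order_two ht) htC hz
    rw [(by_contra fun h => hk q hq h hqt : q = 1), one_mul]
    exact hi
  exact le_of_eq (P.max C (le_inf P.le fun y hy =>
    mem_centralizer_iff.2 fun z hz => (P.comm hz hy).eq) inf_le_left hinv hCn)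

/-- unless involutions at a point commute: a nontrivial maximal inverted normal subgroup -/
theorem exists_invertedMax_ne_bot (hH : Cfsg.IsStronglyEmbedded H) (hcore : H.normalCore = ⊥)
    (hb : NoBad H) (hcs : CentreSquares H) (htt : TwoTransitive H) (h2 : HasCommutingInvolutions G)
    (hac : a ≠ c) (ht : orderOf t = 2) (htc : t • c = a) (hncomm : ¬ CommAt H) :
    ∃ A : Subgroup G, A ≠ ⊥ ∧ InvertedMax H A t c a := by
  obtain ⟨l, A₀, -, hA₀, P, hinv, -⟩ :=
    exists_inverted_normal hH hcore hb hcs htt hac (pair_ne_bot hH h2 hac) ht htc hncomm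
  obtain ⟨A, hle, hA⟩ := exists_invertedMax P.le hinv P.norm
  exact ⟨A, fun h => hA₀ (le_bot_iff.1 (h ▸ hle)), hA⟩

end Cfsg.Lib.BenderSE
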