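/-
COMM (notes/bender_comm.md): an abelian group `A` regular on the involutions at `c`;
the translation lemma P2 and the clique lemma F3.
-/
import Cfsg.Agent.BenderSE.CommPrimitive
import Cfsg.Agent.BenderSE.CommRegular

set_option autoImplicit false
set_option linter.unusedSectionVars false
set_option linter.style.haveILetI false

namespace Cfsg.Lib.BenderSE

open Subgroup MulAction Cfsg.Lib.InvolCalc

universe u

variable {G : Type u} [Group G] [Finite G] {H : Subgroup G}

/-- `A` is abelian, normal in `G_ca` and regular on the involutions at `c` -/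
structure RegAb (H : Subgroup G) (A : Subgroup G) (v : G) (c a : G ⧸ H) : Prop where
  ne : a ≠ c
  vord : orderOf v = 2
  vfix : v • c = c
  le : A ≤ stabilizer G c ⊓ stabilizer G a
  norm : stabilizer G c ⊓ stabilizer G a ≤ normalizer (A : Set G)
  comm : ∀ x ∈ A, ∀ y ∈ A, Commute x y
  free : ∀ y ∈ A, y ≠ 1 → ∀ u : G, orderOf u = 2 → u • c = c → ¬ Commute y u
  reg : ∀ i : G, orderOf i = 2 → i • c = c → ∃ y ∈ A, y * v * y⁻¹ = i

/-- a self-centralising maximal inverted subgroup has these properties -/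
theorem InvertedMax.regAb {A : Subgroup G} {t : G} {c a : G ⧸ H} (P : InvertedMax H A t c a)
    (hH : Cfsg.IsStronglyEmbedded H) (hb : NoBad H) (hac : a ≠ c) (ht : orderOf t = 2)
    (htc : t • c = a) (hself : stabilizer G c ⊓ stabilizer G a ⊓ centralizer (A : Set G) ≤ A)
    {v : G} (hv : orderOf v = 2) (hvc : v • c = c) : RegAb H A v c a where
  ne := hac
  vord := hv
  vfix := hvc
  le := P.le
  norm := P.norm
  comm := fun _ hx _ hy => P.comm hx hy
  free := fun y hy hy1 u hu _ => P.not_commute hH hb hac ht hy hy1 hu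
  reg := fun i hi hic => by
    obtain ⟨y, hy, -⟩ := P.existsUnique_conj hH hb hac ht htc hself hv hvc hi hic
    exact ⟨y, y.2, hy⟩

variable {A : Subgroup G} {v : G} {c a : G ⧸ H}

theorem RegAb.fix (P : RegAb H A v c a) {y : G} (hy : y ∈ A) : y • c = c ∧ y • a = a :=
  ⟨mem_stabilizer_iff.1 (mem_inf.1 (P.le hy)).1, mem_stabilizer_iff.1 (mem_inf.1 (P.le hy)).2⟩

theorem RegAb.conj_mem (P : RegAb H A v c a) {y : G} (hy : y ∈ A) :
    orderOf (y * v * y⁻¹) = 2 ∧ (y * v * y⁻¹) • c = c :=
  ⟨by rw [orderOf_conj', P.vord], by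
    rw [mul_smul, mul_smul, inv_smul_eq_iff.2 (P.fix hy).1.symm, P.vfix, (P.fix hy).1]⟩

theorem RegAb.conj_inj (P : RegAb H A v c a) {x y : G} (hx : x ∈ A) (hy : y ∈ A)
    (h : x * v * x⁻¹ = y * v * y⁻¹) : x = y := by
  by_contra hne
  refine P.free _ (mul_mem (inv_mem hy) hx) (fun e => hne (inv_mul_eq_one.1 e).symm) v P.vord P.vfix ?_
  have h2 := congrArg (fun z => y⁻¹ * z * x) h
  simp only [mul_assoc, inv_mul_cancel, mul_one, inv_mul_cancel_left] at h2
  show y⁻¹ * x * v = v * (y⁻¹ * x)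
  rw [mul_assoc]
  exact h2

theorem commute_conj_iff' (g : G) {x y : G} :
    Commute (g * x * g⁻¹) (g * y * g⁻¹) ↔ Commute x y := by
  constructor
  · intro h
    have h1 := h.map (MulAut.conj g⁻¹).toMonoidHom
    simp only [MulEquiv.coe_toMonoidHom, MulAut.conj_apply] at h1
    convert h1 using 1 <;> group
  · intro h
    exact h.map (MulAut.conj g).toMonoidHom

/-- commuting of two involutions at `c` is decided by the quotient of their parameters -/
theorem RegAb.commute_iff (_P : RegAb H A v c a) {x y : G} :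
    Commute (x * v * x⁻¹) (y * v * y⁻¹) ↔ Commute v ((x⁻¹ * y) * v * (x⁻¹ * y)⁻¹) := by
  conv_lhs => rw [show y * v * y⁻¹ = x * ((x⁻¹ * y) * v * (x⁻¹ * y)⁻¹) * x⁻¹ by group]
  exact commute_conj_iff' x

/-- TRANSLATION LEMMA: if the non-commuting set of `v` is invariant under a translation `≠ 1`,
then the involutions commute. -/
theorem RegAb.commAt_of_periodic (P : RegAb H A v c a) (hH : Cfsg.IsStronglyEmbedded H)
    (hb : NoBad H) {τ : G} (hτ : τ ∈ A) (hτ1 : τ ≠ 1)
    (hper : ∀ x ∈ A, Commute v (x * v * x⁻¹) → Commute v ((τ * x) * v * (τ * x)⁻¹)) :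
    CommAt H := by
  classical
  set I := {i : G // orderOf i = 2 ∧ i • c = c} with hI
  let nb : G → Set G := fun i => {j | orderOf j = 2 ∧ j • c = c ∧ Commute i j}
  let Y := {S : Set G // ∃ i : I, nb i.1 = S}
  let f : I → Y := fun i => ⟨nb i.1, i, rfl⟩
  -- conjugation by `g` in `G_c`
  have hconj : ∀ g : G, g • c = c → ∀ i : I, orderOf (g * i.1 * g⁻¹) = 2 ∧ (g * i.1 * g⁻¹) • c = c :=
    fun g hg i => ⟨by rw [orderOf_conj', i.2.1], by
      rw [mul_smul, mul_smul, inv_smul_eq_iff.2 hg.symm, i.2.2, hg]⟩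
  have himg : ∀ g : G, g • c = c → ∀ i : G, (fun x => g * x * g⁻¹) '' nb i = nb (g * i * g⁻¹) := by
    intro g hg i
    ext z
    constructor
    · rintro ⟨x, ⟨hx1, hx2, hx3⟩, rfl⟩
      exact ⟨by rw [orderOf_conj', hx1], by
        rw [mul_smul, mul_smul, inv_smul_eq_iff.2 hg.symm, hx2, hg], (commute_conj_iff' g).2 hx3⟩
    · rintro ⟨hz1, hz2, hz3⟩
      have hg' : g⁻¹ • c = c := inv_smul_eq_iff.2 hg.symm
      refine ⟨g⁻¹ * z * g⁻¹⁻¹, ⟨by rw [orderOf_conj', hz1], ?_, ?_⟩, by group⟩
      · rw [inv_inv, mul_smul, mul_smul, hg, hz2, hg']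
      · rw [← commute_conj_iff' g]
        convert hz3 using 1; group
  letI act : MulAction (stabilizer G c) Y :=
    { smul := fun g S => ⟨(fun x => (g : G) * x * (g : G)⁻¹) '' S.1, by
        obtain ⟨i, hi⟩ := S.2
        exact ⟨⟨_, hconj g (mem_stabilizer_iff.1 g.2) i⟩, by
          rw [← hi, himg g (mem_stabilizer_iff.1 g.2)]⟩⟩
      one_smul := fun S => Subtype.ext (show (fun x => (1 : G) * x * (1 : G)⁻¹) '' S.1 = S.1 by simp)
      mul_smul := fun g g' S => Subtype.ext (show
        (fun x => ((g : G) * (g' : G)) * x * ((g : G) * (g' : G))⁻¹) '' S.1 =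
          (fun x => (g : G) * x * (g : G)⁻¹) '' ((fun x => (g' : G) * x * (g' : G)⁻¹) '' S.1) by
        rw [Set.image_image]
        exact congrArg (fun φ => φ '' S.1) (funext fun x => by group)) }
  have hsurj : Function.Surjective f := fun S => ⟨S.2.choose, Subtype.ext S.2.choose_spec⟩
  have heq : ∀ (g : stabilizer G c) (i j : I), (j : G) = (g : G) * i * (g : G)⁻¹ → f j = g • f i := by
    intro g i j hij
    refine Subtype.ext ?_
    show nb j.1 = (fun x => (g : G) * x * (g : G)⁻¹) '' nb i.1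
    rw [himg g (mem_stabilizer_iff.1 g.2), hij]
  -- `τ` gives two involutions with the same neighbourhood
  set oI : I := ⟨v, P.vord, P.vfix⟩
  set τI : I := ⟨τ * v * τ⁻¹, P.conj_mem hτ⟩
  have hpow : ∀ n : ℕ, ∀ x ∈ A, Commute v (x * v * x⁻¹) →
      Commute v ((τ ^ n * x) * v * (τ ^ n * x)⁻¹) := by
    intro n
    induction n with
    | zero => intro x _ h; simpa using h
    | succ n ih =>
      intro x hx h
      have h1 := hper _ (mul_mem (pow_mem hτ n) hx) (ih x hx h)
      rwa [show τ * (τ ^ n * x) = τ ^ (n + 1) * x by rw [pow_succ', mul_assoc]] at h1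
  have hper' : ∀ x ∈ A, Commute v (x * v * x⁻¹) ↔ Commute v ((τ⁻¹ * x) * v * (τ⁻¹ * x)⁻¹) := by
    intro x hx
    constructor
    · intro h
      have h1 := hpow (orderOf τ - 1) x hx h
      have e : τ ^ (orderOf τ - 1) = τ⁻¹ := by
        refine eq_inv_of_mul_eq_one_left ?_
        rw [← pow_succ, Nat.sub_add_cancel (orderOf_pos τ), pow_orderOf_eq_one]
      rwa [e] at h1
    · intro h
      have h1 := hper _ (mul_mem (inv_mem hτ) hx) h
      rwa [mul_inv_cancel_left] at h1
  have hninj : ¬ Function.Injective f := by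
    intro hinj
    have h0 : f oI = f τI := by
      refine Subtype.ext ?_
      show nb v = nb (τ * v * τ⁻¹)
      ext z
      constructor
      all_goals
        rintro ⟨hz1, hz2, hz3⟩
        refine ⟨hz1, hz2, ?_⟩
        obtain ⟨x, hx, rfl⟩ := P.reg z hz1 hz2
      · rw [P.commute_iff]
        exact (hper' x hx).1 hz3
      · rw [P.commute_iff] at hz3
        exact (hper' x hx).2 hz3
    have h1 : v = τ * v * τ⁻¹ := congrArg Subtype.val (hinj h0)
    exact hτ1 (P.conj_inj hτ (one_mem A) (by simpa using h1.symm))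
  have hfix := smul_eq_self_of_not_injective hH hb P.ne P.le P.comm P.free P.vord P.vfix P.reg f hsurj
    heq hninj ⟨v, mem_stabilizer_iff.2 P.vfix⟩ P.vord
  -- neighbourhoods have equal size
  have hsize : ∀ i : I, (nb i.1).ncard = (nb v).ncard := by
    intro i
    obtain ⟨y, hy, hyi⟩ := P.reg i.1 i.2.1 i.2.2
    rw [← hyi, ← himg y (P.fix hy).1, Set.ncard_image_of_injective _
      (fun p q h => mul_left_cancel (mul_right_cancel h))]
  -- all involutions at `c` commute with `v`
  have hall : ∀ i : I, Commute v i.1 := by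
    intro i
    set i' : I := ⟨v * i.1 * v⁻¹, hconj v P.vfix i⟩ with hi'
    have hclass : nb i'.1 = nb i.1 := by
      have h1 := congrArg Subtype.val (hfix (f i))
      show nb (v * i.1 * v⁻¹) = nb i.1
      rw [← himg v P.vfix]
      exact h1
    by_cases hii : v * i.1 * v⁻¹ = i.1
    · exact mul_inv_eq_iff_eq_mul.1 hii
    have hc : Commute i.1 i'.1 := by
      have h1 : i'.1 ∈ nb i'.1 := ⟨i'.2.1, i'.2.2, Commute.refl _⟩
      rw [hclass] at h1
      exact h1.2.2
    -- the product `w` commutes with `v` and has the same neighbourhood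
    set w := i.1 * i'.1 with hw
    have hw1 : w ≠ 1 := fun e => hii (by
      rw [hw] at e
      exact (eq_inv_of_mul_eq_one_right e).trans (inv_of_order_two i.2.1))
    have hwo : orderOf w = 2 := order_two_of_mul_self (by
      rw [hw, mul_assoc, ← mul_assoc i'.1, ← hc.eq, mul_assoc, sq_of_order_two i'.2.1, mul_one,
        sq_of_order_two i.2.1]) hw1
    have hwc : w • c = c := by rw [hw, mul_smul, i'.2.2, i.2.2]
    have hvw : Commute v w := by
      have e : v * w * v⁻¹ = w := by
        have hvv : v * v = 1 := sq_of_order_two P.vord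
        calc v * w * v⁻¹ = (v * i.1 * v⁻¹) * (v * (v * i.1 * v⁻¹) * v⁻¹) := by
              simp only [hw, hi']; group
          _ = (v * i.1 * v⁻¹) * ((v * v) * i.1 * (v * v)⁻¹) := by group
          _ = i'.1 * i.1 := by rw [hvv, inv_one, mul_one, one_mul]
          _ = w := hc.eq.symm
      exact mul_inv_eq_iff_eq_mul.1 e
    have hsub : nb i.1 ⊆ nb w := by
      rintro z ⟨hz1, hz2, hz3⟩
      have h1 : z ∈ nb i'.1 := by rw [hclass]; exact ⟨hz1, hz2, hz3⟩
      exact ⟨hz1, hz2, hz3.mul_left h1.2.2⟩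
    have heqn : nb i.1 = nb w := Set.eq_of_subset_of_ncard_le hsub
      (by rw [hsize i, hsize ⟨w, hwo, hwc⟩]) (Set.toFinite _)
    have h1 : v ∈ nb w := ⟨P.vord, P.vfix, hvw.symm⟩
    rw [← heqn] at h1
    exact h1.2.2.symm
  -- transport to all pairs and all points
  have hcomm : ∀ i j : G, orderOf i = 2 → orderOf j = 2 → i • c = c → j • c = c → Commute i j := by
    intro i j hi hj hic hjc
    obtain ⟨x, hx, rfl⟩ := P.reg i hi hic
    obtain ⟨y, hy, rfl⟩ := P.reg j hj hjc
    rw [P.commute_iff]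
    exact hall ⟨_, P.conj_mem (mul_mem (inv_mem hx) hy)⟩
  intro d i j hi hj hid hjd
  obtain ⟨g, hg⟩ := MulAction.exists_smul_eq G d c
  have hgd : g⁻¹ • c = d := inv_smul_eq_iff.2 hg.symm
  refine (commute_conj_iff' g).1 (hcomm _ _ (by rw [orderOf_conj', hi]) (by rw [orderOf_conj', hj]) ?_ ?_)
  · rw [mul_smul, mul_smul, hgd, hid, hg]
  · rw [mul_smul, mul_smul, hgd, hjd, hg]

/-- CLIQUE LEMMA: a subgroup of `A` whose involutions commute with `v` is cyclic. -/
theorem RegAb.isCyclic_of_clique (P : RegAb H A v c a) (hH : Cfsg.IsStronglyEmbedded H)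
    {Z : Subgroup G} (hZ : Z ≤ A) (hcl : ∀ x ∈ Z, Commute v (x * v * x⁻¹)) : IsCyclic Z := by
  classical
  set S : Set G := {g | ∃ x ∈ Z, g = x * v * x⁻¹} with hS
  have hScomm : ∀ p ∈ S, ∀ q ∈ S, p * q = q * p := by
    rintro _ ⟨x, hx, rfl⟩ _ ⟨y, hy, rfl⟩
    exact (P.commute_iff.2 (hcl _ (mul_mem (inv_mem hx) hy))).eq
  set V := closure S with hV
  letI : CommGroup V :=
    { (inferInstance : Group V) with
      mul_comm := (Subgroup.isMulCommutative_closure hScomm).is_comm.comm }
  have hSc : S ⊆ stabilizer G c := by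
    rintro _ ⟨x, hx, rfl⟩
    exact mem_stabilizer_iff.2 (P.conj_mem (hZ hx)).2
  have hVc : ∀ g ∈ V, g • c = c := fun g hg => mem_stabilizer_iff.1 ((closure_le _).2 hSc hg)
  have hV2 : ∀ g ∈ V, g * g = 1 := by
    intro g hg
    induction hg using closure_induction with
    | mem z hz =>
      obtain ⟨x, hx, rfl⟩ := hz
      exact sq_of_order_two (P.conj_mem (hZ hx)).1
    | one => rw [one_mul]
    | mul p q hp hq hp2 hq2 =>
      have hpq : p * q = q * p := congrArg Subtype.val (mul_comm (⟨p, hp⟩ : V) ⟨q, hq⟩)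
      rw [show p * q * (p * q) = p * q * (q * p) by rw [← hpq], mul_assoc, ← mul_assoc q, hq2, one_mul,
        hp2]
    | inv p _ hp2 => rw [← mul_inv_rev, hp2, inv_one]
  have hnorm : Z ≤ normalizer (V : Set G) := fun z hz => mem_normalizer_of_maps_to fun g hg => by
    induction hg using closure_induction with
    | mem w hw =>
      obtain ⟨x, hx, rfl⟩ := hw
      exact subset_closure ⟨z * x, mul_mem hz hx, by group⟩
    | one => rw [mul_one, mul_inv_cancel]; exact one_mem V
    | mul p q _ _ hp hq =>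
      rw [show z * (p * q) * z⁻¹ = (z * p * z⁻¹) * (z * q * z⁻¹) by group]
      exact mul_mem hp hq
    | inv p _ hp =>
      rw [show z * p⁻¹ * z⁻¹ = (z * p * z⁻¹)⁻¹ by group]
      exact inv_mem hp
  let act : Z →* MulAut V :=
    { toFun := fun y => V.normalizerMonoidHom ⟨(y : G), hnorm y.2⟩
      map_one' := by rw [show (⟨((1 : Z) : G), hnorm (1 : Z).2⟩ : normalizer (V : Set G)) = 1 from rfl, map_one]
      map_mul' := fun y z => by rw [← map_mul]; rfl }
  letI : CommGroup Z :=
    { (inferInstance : Group Z) with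
      mul_comm := fun p q => Subtype.ext (P.comm p (hZ p.2) q (hZ q.2)).eq }
  have hfpf : ∀ y : Z, y ≠ 1 → ∀ g : V, act y g = g → g = 1 := by
    intro y hy1 g hg
    by_contra hg1
    have hg1' : (g : G) ≠ 1 := fun e => hg1 (Subtype.ext e)
    refine P.free y (hZ y.2) (fun e => hy1 (Subtype.ext e)) g
      (order_two_of_mul_self (hV2 g g.2) hg1') (hVc g g.2) ?_
    exact mul_inv_eq_iff_eq_mul.1 (congrArg Subtype.val hg : (y : G) * (g : G) * (y : G)⁻¹ = g)
  by_contra hcyc
  obtain ⟨p, x, y, hp, hx, hy, hxy⟩ := Cfsg.Lib.Coprime.exists_root_pair_of_not_cyclic hcyc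
  have hxp : (act x) ^ p = 1 := by rw [← map_pow, ← hx, pow_orderOf_eq_one, map_one]
  have hyp : (act y) ^ p = 1 := by rw [← map_pow, ← hy, pow_orderOf_eq_one, map_one]
  have h1 := Cfsg.Lib.Coprime.pow_mem_of_fixed hp hyp hxp ((Commute.all y x).map act) (S := ⊥)
    (fun w hw => mem_bot.2 (hfpf x (fun e => by rw [e, orderOf_one] at hx; exact hp.ne_one hx.symm) w hw))
    (fun j _ w hw => mem_bot.2 (hfpf (y * x ^ j)
      (fun e => hxy (by rw [eq_inv_of_mul_eq_one_left e]; exact inv_mem (pow_mem (mem_zpowers x) j))) w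
      (by rw [map_mul, map_pow]; exact hw)))
    (⟨v, subset_closure ⟨1, one_mem Z, by simp⟩⟩ : V)
  have h2 : v ^ p = 1 := congrArg Subtype.val (mem_bot.1 h1)
  have h3 := orderOf_dvd_of_pow_eq_one h2
  rw [P.vord] at h3
  have hp2 : p = 2 := ((Nat.prime_dvd_prime_iff_eq Nat.prime_two hp).1 h3).symm
  have hodd : Odd (Nat.card Z) :=
    (odd_stabilizer_inf hH P.ne.symm).of_dvd_nat (card_dvd_of_le (hZ.trans P.le))
  exact (Nat.not_even_iff_odd.2 hodd) (even_iff_two_dvd.2 (hp2 ▸ hx ▸ orderOf_dvd_natCard x))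

end Cfsg.Lib.BenderSE
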