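/-
COMM, LEMMA T (notes/bender_comm.md): `X` generated by `A` and the 2-elements of `G_c`; an element of
prime order of `X ∩ G_ca` centralising `v` and a nontrivial element of `A` is killed by every
homomorphism of `X ∩ G_ca` trivial on `A` into an abelian group of odd order.
-/
import Cfsg.Agent.BenderSE.CommTranslate
import Cfsg.Agent.BenderSE.CommControl

set_option autoImplicit false
set_option linter.unusedSectionVars false
set_option linter.style.haveILetI false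

namespace Cfsg.Lib.BenderSE

open Subgroup MulAction Cfsg.Lib.InvolCalc

universe u

variable {G : Type u} [Group G] [Finite G] {H : Subgroup G}

/-- the subgroup generated by the 2-elements fixing a point -/
def twoGen {α : Type*} [MulAction G α] (c : α) : Subgroup G :=
  closure {g : G | g • c = c ∧ ∃ k : ℕ, orderOf g = 2 ^ k}

/-- the transfer at one element whose fusion the map respects -/
theorem transfer_eq_pow_at {K : Type u} [Group K] [Finite K] {D : Subgroup K} {C : Type u}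
    [CommGroup C] (φ : D →* C) (g : D)
    (hfus : ∀ (k : ℕ) (h : K) (hd : h * ((g ^ k : D) : K) * h⁻¹ ∈ D), φ ⟨_, hd⟩ = φ (g ^ k)) :
    MonoidHom.transfer φ (g : K) = φ g ^ D.index := by
  classical
  letI := D.fintypeQuotientOfFiniteIndex
  rw [MonoidHom.transfer_eq_prod_quotient_orbitRel_zpowers_quot, index_eq_sum_minimalPeriod D (g : K),
    ← Finset.prod_pow_eq_pow_sum]
  refine Finset.prod_congr rfl fun q _ => ?_
  rw [← map_pow]
  have hmem : (q.out.out)⁻¹ * ((g ^ Function.minimalPeriod ((g : K) • ·) q.out : D) : K) *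
      (q.out.out)⁻¹⁻¹ ∈ D := by
    rw [inv_inv, Subgroup.coe_pow]
    exact QuotientGroup.out_conj_pow_minimalPeriod_mem D (g : K) q.out
  refine Eq.trans (congrArg φ (Subtype.ext ?_)) (hfus _ _ hmem)
  simp only [inv_inv, Subgroup.coe_pow]

variable {A : Subgroup G} {v : G} {c a : G ⧸ H}

theorem RegAb.twoGen_sup_le (P : RegAb H A v c a) : twoGen c ⊔ A ≤ stabilizer G c :=
  sup_le ((closure_le _).2 fun _ hg => mem_stabilizer_iff.2 hg.1) (P.le.trans inf_le_left)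

/-- a nontrivial element of `A` fixes only `c` and `a` -/
theorem RegAb.eq_of_fixed (P : RegAb H A v c a) (hH : Cfsg.IsStronglyEmbedded H) (hb : NoBad H)
    {y : G} (hy : y ∈ A) (hy1 : y ≠ 1) {b : G ⧸ H} (hbc : b ≠ c) (hyb : y • b = b) : b = a := by
  by_contra hba
  obtain ⟨l, hl, hld⟩ := Nat.exists_prime_and_dvd (fun h => hy1 (orderOf_eq_one_iff.1 h))
  haveI := Fact.mk hl
  set w := y ^ (orderOf y / l) with hw
  have hwo : orderOf w = l := orderOf_pow_orderOf_div (orderOf_pos y).ne' hld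
  have hw1 : w ≠ 1 := fun e => by rw [e, orderOf_one] at hwo; exact hl.ne_one hwo.symm
  have hwA : w ∈ A := pow_mem hy _
  obtain ⟨i, hi, hic, hiw⟩ := exists_commute_of_third hH hb (hwo ▸ pow_orderOf_eq_one w) P.ne hbc hba
    (P.fix hwA).1 (P.fix hwA).2
    (mem_stabilizer_iff.1 (pow_mem (mem_stabilizer_iff.2 hyb : y ∈ stabilizer G b) _))
  exact P.free w hwA hw1 i hi hic hiw

/-- `G_ca = A C(v)` -/
theorem RegAb.exists_mul (P : RegAb H A v c a) {d : G} (hdc : d • c = c) :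
    ∃ y ∈ A, Commute (y⁻¹ * d) v := by
  obtain ⟨y, hy, hyd⟩ := P.reg (d * v * d⁻¹) (by rw [orderOf_conj', P.vord])
    (by rw [mul_smul, mul_smul, inv_smul_eq_iff.2 hdc.symm, P.vfix, hdc])
  refine ⟨y, hy, ?_⟩
  show y⁻¹ * d * v = v * (y⁻¹ * d)
  calc y⁻¹ * d * v = y⁻¹ * (d * v * d⁻¹) * d := by group
    _ = v * (y⁻¹ * d) := by rw [← hyd]; group

/-- an element centralising `v` and a nontrivial element of `A` is wide at `c` -/
theorem RegAb.wide (P : RegAb H A v c a) {g y : G} (hgv : Commute g v) (hy : y ∈ A) (hy1 : y ≠ 1)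
    (hgy : Commute g y) : WideAtPoint H (zpowers g) c := by
  have h1 : Commute g (y * v * y⁻¹) := (hgy.mul_right hgv).mul_right hgy.inv_right
  refine ⟨v, y * v * y⁻¹, P.vord, (P.conj_mem hy).1, fun e => hy1 ?_, P.vfix, (P.conj_mem hy).2,
    fun x hx => ?_, fun x hx => ?_⟩
  · exact P.conj_inj hy (one_mem A) (by simpa using e.symm)
  · obtain ⟨k, rfl⟩ := hx; exact hgv.zpow_left k
  · obtain ⟨k, rfl⟩ := hx; exact h1.zpow_left k

/-- LEMMA T for an element of prime power order -/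
theorem RegAb.map_eq_one_of_wide_pow (P : RegAb H A v c a) (hH : Cfsg.IsStronglyEmbedded H)
    (hcore : H.normalCore = ⊥) (hb : NoBad H) (hcs : CentreSquares H)
    (reg : RegBelow.{u} (Nat.card G)) {X : Subgroup G} (hX : X = twoGen c ⊔ A)
    (D' : Subgroup X) (hD' : D' = (stabilizer G a).comap X.subtype)
    {C : Type u} [CommGroup C] [Finite C] (hC : Odd (Nat.card C)) (φ : D' →* C)
    (hA : ∀ d : D', ((d : X) : G) ∈ A → φ d = 1) {q : ℕ} [Fact q.Prime] (g : D')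
    (hgv : Commute ((g : X) : G) v) {e : ℕ} (hgq : orderOf g = q ^ e) {y : G} (hy : y ∈ A) (hy1 : y ≠ 1)
    (hgy : Commute ((g : X) : G) y) : φ g = 1 := by
  classical
  have hq : q.Prime := Fact.out
  rcases Nat.eq_zero_or_pos e with rfl | he
  · rw [pow_zero, orderOf_eq_one_iff] at hgq
    rw [hgq, map_one]
  have hXc : X ≤ stabilizer G c := hX ▸ P.twoGen_sup_le
  have hDa : ∀ x : X, x ∈ D' ↔ (x : G) • a = a := fun x => by subst hD'; exact Iff.rfl
  have hfixc : ∀ x : X, (x : G) • c = c := fun x => mem_stabilizer_iff.1 (hXc x.2)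
  set g₀ : G := ((g : X) : G) with hg₀
  have hg₀q : orderOf g₀ = q ^ e := by rw [hg₀, Subgroup.orderOf_coe, Subgroup.orderOf_coe, hgq]
  have hgc : g₀ • c = c := hfixc g
  have hga : g₀ • a = a := (hDa _).1 g.2
  have hqodd : Odd q := (odd_stabilizer_inf hH P.ne.symm).of_dvd_nat ((dvd_pow_self q he.ne').trans (hg₀q ▸
    Subgroup.orderOf_dvd_natCard _ (mem_inf.2 ⟨mem_stabilizer_iff.2 hgc, mem_stabilizer_iff.2 hga⟩)))
  -- conjugates of an element in `D'` by elements fixing `a`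
  have hsame : ∀ (d : D') (h : X) (hd : h * (d : X) * h⁻¹ ∈ D'), h ∈ D' → φ ⟨_, hd⟩ = φ d := by
    intro d h hd hh
    rw [show (⟨_, hd⟩ : D') = ⟨h, hh⟩ * d * ⟨h, hh⟩⁻¹ from rfl, map_mul, map_mul, map_inv,
      mul_comm (φ ⟨h, hh⟩), mul_inv_cancel_right]
  -- the point moved back by a fusing element
  have hback : ∀ (d : D') (h : X), h * (d : X) * h⁻¹ ∈ D' →
      ((d : X) : G) • ((h : G)⁻¹ • a) = (h : G)⁻¹ • a ∧ (h : G)⁻¹ • a ≠ c := by
    intro d h hd
    refine ⟨?_, fun e => P.ne ?_⟩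
    · have h1 := (hDa _).1 hd
      simp only [Subgroup.coe_mul, Subgroup.coe_inv, mul_smul] at h1
      rw [eq_inv_smul_iff]
      exact h1
    · rw [inv_smul_eq_iff.1 e, hfixc h]
  set V : X →* C := MonoidHom.transfer φ with hV
  -- `V` kills `A`
  have hVA : ∀ d : D', ((d : X) : G) ∈ A → V (d : X) = 1 := by
    intro d hd
    rw [hV, transfer_eq_pow_at φ d fun k h hh => ?_, hA d hd, one_pow]
    by_cases hk : d ^ k = 1
    · refine Eq.trans (Eq.trans (congrArg φ (Subtype.ext ?_)) (map_one φ)) ?_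
      · simp [hk]
      · rw [hk, map_one]
    obtain ⟨h1, h2⟩ := hback (d ^ k) h hh
    refine hsame (d ^ k) h hh ((hDa h).2 ?_)
    have h3 := P.eq_of_fixed hH hb (y := (((d ^ k : D') : X) : G))
      (by push_cast; exact pow_mem hd k) (fun e => hk (Subtype.ext (Subtype.ext e))) h2 h1
    exact (inv_smul_eq_iff.1 h3).symm
  -- `V` is trivial
  have hV1 : ∀ x : X, V x = 1 := by
    have hle : X ≤ V.ker.map X.subtype := by
      conv_lhs => rw [hX]
      refine sup_le ((closure_le _).2 ?_) fun x hx => ?_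
      · rintro s ⟨hsc, k, hk⟩
        have hsX : s ∈ X := by rw [hX]; exact mem_sup_left (subset_closure ⟨hsc, k, hk⟩)
        refine ⟨⟨s, hsX⟩, MonoidHom.mem_ker.2 (orderOf_eq_one_iff.1 ?_), rfl⟩
        refine Nat.eq_one_of_dvd_coprimes ((Nat.coprime_two_left.2 hC).pow_left k) ?_
          (orderOf_dvd_natCard _)
        rw [← hk, ← Subgroup.orderOf_mk s hsX]
        exact orderOf_map_dvd V _
      · have hxX : x ∈ X := by rw [hX]; exact mem_sup_right hx
        exact ⟨⟨x, hxX⟩, MonoidHom.mem_ker.2 (hVA ⟨⟨x, hxX⟩, (hDa _).2 (P.fix hx).2⟩ hx), rfl⟩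
    intro x
    obtain ⟨x', hx', e⟩ := hle x.2
    rwa [show x' = x from Subtype.ext e] at hx'
  -- fusion of `g`
  have hfix : ∀ z b, z • b = b → b ∈ fixOf (α := G ⧸ H) (zpowers (z : G)) := fun z b hb x hx => by
    obtain ⟨k, rfl⟩ := hx
    exact mem_stabilizer_iff.1 (zpow_mem (mem_stabilizer_iff.2 hb) k)
  have hRp : ∀ k : ℕ, IsPGroup q (zpowers (g₀ ^ k)) := fun k => IsPGroup.of_card_dvd_pow (n := e) (by
    rw [Nat.card_zpowers]
    refine orderOf_dvd_of_pow_eq_one ?_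
    rw [← pow_mul, mul_comm, pow_mul, ← hg₀q, pow_orderOf_eq_one, one_pow])
  have hmoves : ∀ k : ℕ, g₀ ^ k ≠ 1 →
      (∀ b : G ⧸ H, b ≠ c → (g₀ ^ k) • b = b → ∃ s ∈ X, Commute (g₀ ^ k) s ∧ s • a = b) ∧
        ∃ j : ℕ, Nat.card {b : G ⧸ H // b ≠ c ∧ b ∈ fixOf (α := G ⧸ H) (zpowers (g₀ ^ k))} = 2 ^ j := by
    intro k hk
    have hR1 : zpowers (g₀ ^ k) ≠ ⊥ := by rwa [Ne, zpowers_eq_bot]
    have hkc : (g₀ ^ k) • c = c := mem_stabilizer_iff.1 (pow_mem (mem_stabilizer_iff.2 hgc) k)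
    have hka : (g₀ ^ k) • a = a := mem_stabilizer_iff.1 (pow_mem (mem_stabilizer_iff.2 hga) k)
    obtain ⟨hm, hj⟩ := exists_wide_moves hH hcore hb hcs reg (hRp k) hR1 P.ne (hfix _ c hkc)
      (hfix _ a hka) (P.wide (hgv.pow_left k) hy hy1 (hgy.pow_left k))
    refine ⟨fun b hbc hgb => ?_, hj⟩
    obtain ⟨s, hs2, hsc, hsR, hsa⟩ := hm b hbc (hfix _ b hgb)
    exact ⟨s, by rw [hX]; exact mem_sup_left (subset_closure ⟨hsc, hs2⟩), hsR _ (mem_zpowers _), hsa⟩
  have hgV : V (g : X) = φ g ^ D'.index := by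
    rw [hV]
    refine transfer_eq_pow_at φ g fun k h hh => ?_
    by_cases hk : g ^ k = 1
    · refine Eq.trans (Eq.trans (congrArg φ (Subtype.ext ?_)) (map_one φ)) ?_
      · simp [hk]
      · rw [hk, map_one]
    obtain ⟨h1, h2⟩ := hback (g ^ k) h hh
    have hk' : g₀ ^ k ≠ 1 := fun h' => hk (Subtype.ext (Subtype.ext (by simpa [hg₀] using h')))
    have hgb : (g₀ ^ k) • ((h : G)⁻¹ • a) = (h : G)⁻¹ • a := by
      rw [hg₀]; push_cast at h1; exact h1
    obtain ⟨s, hsX, hsg, hsa⟩ := (hmoves k hk').1 _ h2 hgb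
    have hsD : h * ⟨s, hsX⟩ ∈ D' := (hDa _).2 (by
      show ((h : G) * s) • a = a
      rw [mul_smul, hsa, smul_inv_smul])
    have hcm : (⟨s, hsX⟩ : X) * ((g ^ k : D') : X) = ((g ^ k : D') : X) * ⟨s, hsX⟩ := Subtype.ext (by
      push_cast
      exact hsg.eq.symm)
    have e : h * ((g ^ k : D') : X) * h⁻¹ = (h * ⟨s, hsX⟩) * ((g ^ k : D') : X) * (h * ⟨s, hsX⟩)⁻¹ := by
      rw [show h * ⟨s, hsX⟩ * ((g ^ k : D') : X) * (h * ⟨s, hsX⟩)⁻¹ =
        h * (⟨s, hsX⟩ * ((g ^ k : D') : X) * (⟨s, hsX⟩ : X)⁻¹) * h⁻¹ by group, hcm, mul_inv_cancel_right]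
    refine Eq.trans (congrArg φ (Subtype.ext e)) (hsame (g ^ k) (h * ⟨s, hsX⟩) ?_ hsD)
    rwa [← e]
  -- the index
  have hindex : ¬ q ∣ D'.index := by
    intro hdvd
    have horb : Nat.card {b : G ⧸ H // b ∈ orbit X a} = D'.index := by
      rw [show Nat.card {b : G ⧸ H // b ∈ orbit X a} = Nat.card (orbit X a) from rfl,
        Nat.card_congr (orbitEquivQuotientStabilizer X a), index_eq_card]
      exact congrArg (fun K : Subgroup X => Nat.card (X ⧸ K)) (Subgroup.ext fun x => (hDa x).symm)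
    obtain ⟨hmv, j, hj⟩ := hmoves 1 (by
      rw [pow_one]
      intro h'
      rw [h', orderOf_one] at hg₀q
      exact (Nat.one_lt_pow he.ne' hq.one_lt).ne hg₀q)
    rw [pow_one] at hmv hj
    have hRp1 : IsPGroup q (zpowers g₀) := by have hh := hRp 1; rwa [pow_one] at hh
    have h1 := card_modEq_fixed hRp1 (orbit X a) (fun x hx b hb => by
      obtain ⟨⟨z, hz⟩, rfl⟩ := hb
      refine ⟨⟨x, ?_⟩ * ⟨z, hz⟩, mul_smul x z a⟩
      exact zpowers_le.2 (g : X).2 hx)
    have h2 : Nat.card {b : G ⧸ H // b ∈ orbit X a ∧ ∀ x ∈ zpowers g₀, x • b = b} = 2 ^ j := by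
      rw [← hj]
      refine Nat.card_congr (Equiv.subtypeEquivRight fun b => ⟨fun hb => ⟨?_, hb.2⟩, fun hb => ⟨?_, hb.2⟩⟩)
      · obtain ⟨⟨z, rfl⟩, -⟩ := hb
        exact fun e => P.ne (smul_left_cancel (z : G) (e.trans (hfixc z).symm))
      · obtain ⟨s, hsX, -, hsa⟩ := hmv b hb.1 (hb.2 g₀ (mem_zpowers g₀))
        exact ⟨⟨s, hsX⟩, hsa⟩
    rw [h2] at h1
    have h3 : q ∣ 2 ^ j := Nat.modEq_zero_iff_dvd.1
      (h1.symm.trans (Nat.modEq_zero_iff_dvd.2 (horb.symm ▸ hdvd)))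
    have h4 := (Nat.prime_dvd_prime_iff_eq hq Nat.prime_two).1 (hq.dvd_of_dvd_pow h3)
    exact (Nat.not_even_iff_odd.2 hqodd) (h4 ▸ even_two)
  have h1 : φ g ^ D'.index = 1 := by rw [← hgV, hV1]
  have h2 : φ g ^ q ^ e = 1 := by rw [← map_pow, ← hgq, pow_orderOf_eq_one, map_one]
  rw [← orderOf_eq_one_iff]
  exact Nat.eq_one_of_dvd_coprimes ((hq.coprime_iff_not_dvd.2 hindex).pow_left e)
    (orderOf_dvd_of_pow_eq_one h2) (orderOf_dvd_of_pow_eq_one h1)

/-- LEMMA T -/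
theorem RegAb.map_eq_one_of_wide (P : RegAb H A v c a) (hH : Cfsg.IsStronglyEmbedded H)
    (hcore : H.normalCore = ⊥) (hb : NoBad H) (hcs : CentreSquares H)
    (reg : RegBelow.{u} (Nat.card G)) {X : Subgroup G} (hX : X = twoGen c ⊔ A)
    (D' : Subgroup X) (hD' : D' = (stabilizer G a).comap X.subtype)
    {C : Type u} [CommGroup C] [Finite C] (hC : Odd (Nat.card C)) (φ : D' →* C)
    (hA : ∀ d : D', ((d : X) : G) ∈ A → φ d = 1) {q : ℕ} [Fact q.Prime] (g : D')
    (hgv : Commute ((g : X) : G) v) (hgq : orderOf g = q) {y : G} (hy : y ∈ A) (hy1 : y ≠ 1)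
    (hgy : Commute ((g : X) : G) y) : φ g = 1 :=
  P.map_eq_one_of_wide_pow hH hcore hb hcs reg hX D' hD' hC φ hA g hgv (e := 1)
    (hgq.trans (pow_one q).symm) hy hy1 hgy

end Cfsg.Lib.BenderSE
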