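/-
COMM, the coprime case at group level (notes/bender_comm.md section 3): `A` regular on the involutions
at `c`, `A = C_A(R) A'` with `|A'|` prime to `|R|`, and one prime dividing every non-trivial stabiliser.
-/
import Cfsg.Agent.BenderSE.CommCoprime
import Cfsg.Agent.BenderSE.CommWideTransfer
import Cfsg.Agent.BenderSE.CommEndgame
import Cfsg.Agent.OddChar.PF.OddOrder

set_option autoImplicit false
set_option linter.unusedSectionVars false
set_option linter.style.haveILetI false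

namespace Cfsg.Lib.BenderSE

open Subgroup MulAction Cfsg.Lib.InvolCalc
open Cfsg.Lib.Chars

universe u

variable {G : Type u} [Group G] [Finite G] {H : Subgroup G}
variable {A : Subgroup G} {v : G} {c a : G ⧸ H}

/-- an element of `X ∩ G_a` with a third fixed point centralises an involution at `c` -/
theorem RegAb.exists_conj_of_third (P : RegAb H A v c a) (hH : Cfsg.IsStronglyEmbedded H)
    (hb : NoBad H) {B R A' : Subgroup G} (hBD : B ≤ stabilizer G c ⊓ stabilizer G a) (hAB : A ≤ B)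
    (hR : R = B ⊓ centralizer ({v} : Set G)) (hA' : A' ≤ A)
    (hnA : ∀ r ∈ R, ∀ y ∈ A', r * y * r⁻¹ ∈ A') (hcop : (Nat.card A').Coprime (Nat.card R))
    (hsplit : ∀ y ∈ A, ∃ y₀ ∈ A, ∃ y' ∈ A', y = y₀ * y' ∧ ∀ r ∈ R, Commute r y₀)
    {x : G} (hx : x ∈ B) {b : G ⧸ H} (hbc : b ≠ c) (hba : b ≠ a) (hxb : x • b = b) :
    ∃ u ∈ A, Commute (u⁻¹ * x * u) v := by
  classical
  have hRnorm : R ≤ normalizer (A' : Set G) := fun r hr => mem_normalizer_of_maps_to (hnA r hr)
  have hRmem : ∀ r : G, r ∈ R ↔ r ∈ B ∧ Commute r v := fun r => by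
    rw [hR, mem_inf, mem_centralizer_singleton_iff]; rfl
  -- prime power elements
  have hpp : ∀ (l k : ℕ), l.Prime → ∀ z ∈ zpowers x, orderOf z = l ^ k → z ∈ A' ⊔ R := by
    intro l k hl z hz hzo
    haveI := Fact.mk hl
    have hzB : z ∈ B := zpowers_le.2 hx hz
    have hzb : z • b = b := mem_stabilizer_iff.1 (zpowers_le.2 (mem_stabilizer_iff.2 hxb) hz)
    have hzp : IsPGroup l (zpowers z) := IsPGroup.of_card (n := k) (by rw [Nat.card_zpowers, hzo])
    have hfx : ∀ q : G ⧸ H, z • q = q → q ∈ fixOf (α := G ⧸ H) (zpowers z) := fun q hq g hg =>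
      mem_stabilizer_iff.1 ((zpowers_le.2 (mem_stabilizer_iff.2 hq) : zpowers z ≤ stabilizer G q) hg)
    have hzc : z • c = c := mem_stabilizer_iff.1 (mem_inf.1 (hBD hzB)).1
    have hza : z • a = a := mem_stabilizer_iff.1 (mem_inf.1 (hBD hzB)).2
    obtain ⟨w, hw, hwc, hwz⟩ := exists_centralizing_at hH hb hzp (hfx c hzc)
      ⟨c, hfx c hzc, a, hfx a hza, b, hfx b hzb, P.ne.symm, hbc.symm, hba.symm⟩
    obtain ⟨u, hu, rfl⟩ := P.reg w hw hwc
    have hr : u⁻¹ * z * u ∈ R := by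
      refine (hRmem _).2 ⟨mul_mem (mul_mem (inv_mem (hAB hu)) hzB) (hAB hu), ?_⟩
      have h1 := (hwz z (mem_zpowers z)).map (MulAut.conj u⁻¹).toMonoidHom
      simp only [MulEquiv.coe_toMonoidHom, MulAut.conj_apply, inv_inv] at h1
      rwa [show u⁻¹ * (u * v * u⁻¹) * u = v by group] at h1
    obtain ⟨y₀, hy₀, y', hy', rfl, hc₀⟩ := hsplit u hu
    have e : z = y' * ((y₀ * y')⁻¹ * z * (y₀ * y')) * y'⁻¹ := by
      have h1 : y₀ * ((y₀ * y')⁻¹ * z * (y₀ * y')) * y₀⁻¹ = (y₀ * y')⁻¹ * z * (y₀ * y') := by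
        rw [← (hc₀ _ hr).eq, mul_inv_cancel_right]
      have h2 : y₀ * y' = y' * y₀ := (P.comm y₀ hy₀ y' (hA' hy')).eq
      calc z = (y₀ * y') * ((y₀ * y')⁻¹ * z * (y₀ * y')) * (y₀ * y')⁻¹ := by group
        _ = (y' * y₀) * ((y₀ * y')⁻¹ * z * (y₀ * y')) * (y' * y₀)⁻¹ := by rw [← h2]
        _ = y' * (y₀ * ((y₀ * y')⁻¹ * z * (y₀ * y')) * y₀⁻¹) * y'⁻¹ := by group
        _ = _ := by rw [h1]
    rw [e]
    exact mul_mem (mul_mem (mem_sup_left hy') (mem_sup_right hr)) (inv_mem (mem_sup_left hy'))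
  have hxK : x ∈ A' ⊔ R := by
    have hd : orderOf x ∣ Nat.card ↥(zpowers x ⊓ (A' ⊔ R) : Subgroup G) := by
      refine (Nat.dvd_iff_prime_pow_dvd_dvd _ _).2 fun p k hp hd => ?_
      have ho : orderOf (x ^ (orderOf x / p ^ k)) = p ^ k :=
        orderOf_pow_orderOf_div (orderOf_pos x).ne' hd
      rw [← ho]
      exact Subgroup.orderOf_dvd_natCard _ (Subgroup.mem_inf.2 ⟨pow_mem (mem_zpowers x) _,
        hpp p k hp _ (pow_mem (mem_zpowers x) _) ho⟩)
    have e : zpowers x ⊓ (A' ⊔ R) = zpowers x := Subgroup.eq_of_le_of_card_ge inf_le_left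
      (by rw [Nat.card_zpowers]; exact Nat.le_of_dvd Nat.card_pos hd)
    exact (Subgroup.mem_inf.1 (e.ge (mem_zpowers x))).2
  obtain ⟨y', hy', r, hr, rfl⟩ := (Cfsg.Lib.Coprime.mem_sup_of_le_normalizer hRnorm).1 hxK
  -- the cocycle
  set N : ℕ → G := fun i => (y' * r) ^ i * (r ^ i)⁻¹ with hN
  have hNsucc : ∀ i, N (i + 1) = y' * (r * N i * r⁻¹) := fun i => by
    simp only [hN, pow_succ', mul_inv_rev]; group
  have hNA : ∀ i, N i ∈ A' := by
    intro i
    induction i with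
    | zero => simp [hN]
    | succ i ih => rw [hNsucc]; exact mul_mem hy' (hnA r hr _ ih)
  set n := orderOf r with hn
  have hxn : (y' * r) ^ n = 1 := by
    have h1 : (y' * r) ^ n = N n := by
      simp only [hN, hn, pow_orderOf_eq_one, inv_one, mul_one]
    by_contra hne
    have h2 := P.eq_of_fixed hH hb (hA' (hNA n)) (h1 ▸ hne) hbc
      (h1 ▸ mem_stabilizer_iff.1 (pow_mem (mem_stabilizer_iff.2 hxb : y' * r ∈ stabilizer G b) n))
    exact hba h2
  letI : CommGroup A' :=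
    { (inferInstance : Group A') with
      mul_comm := fun p q => Subtype.ext (P.comm p (hA' p.2) q (hA' q.2)).eq }
  let φ : A' →* A' :=
    { toFun := fun y => ⟨r * y * r⁻¹, hnA r hr y y.2⟩
      map_one' := Subtype.ext (by simp)
      map_mul' := fun p q => Subtype.ext (by simp [mul_assoc]) }
  let N' : ℕ → A' := fun i => ⟨N i, hNA i⟩
  set w : A' := ∏ i ∈ Finset.range n, N' i with hw
  have hw1 : (⟨y', hy'⟩ : A') ^ n * φ w = w := by
    have e : ∀ i, N' (i + 1) = ⟨y', hy'⟩ * φ (N' i) := fun i => Subtype.ext (hNsucc i)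
    have hp := Finset.prod_range_succ' N' n
    rw [Finset.prod_range_succ] at hp
    have h0 : N' 0 = 1 := Subtype.ext (by simp [N', hN])
    have hn' : N' n = 1 := Subtype.ext (by
      show N n = 1
      show (y' * r) ^ n * (r ^ n)⁻¹ = 1
      rw [hxn, hn, pow_orderOf_eq_one, inv_one, mul_one])
    rw [h0, hn', mul_one, mul_one, Finset.prod_congr rfl fun i _ => e i, Finset.prod_mul_distrib,
      Finset.prod_const, Finset.card_range, ← map_prod] at hp
    exact hp.symm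
  obtain ⟨k, hk⟩ := exists_pow_eq_self_of_coprime (x := (⟨y', hy'⟩ : A')) (n := n)
    (Nat.Coprime.coprime_dvd_left (hn ▸ R.orderOf_dvd_natCard hr)
      (hcop.symm.coprime_dvd_right (orderOf_dvd_natCard _)))
  have hu : (⟨y', hy'⟩ : A') = w ^ k * (φ (w ^ k))⁻¹ := by
    rw [map_pow, ← inv_pow, ← mul_pow, ← eq_mul_inv_of_mul_eq hw1, hk]
  set u := ((w ^ k : A') : G) with hu'
  refine ⟨u, hA' (w ^ k).2, ?_⟩
  have e : y' = u * (r * u * r⁻¹)⁻¹ := congrArg Subtype.val hu
  rw [show u⁻¹ * (y' * r) * u = r by rw [e]; group]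
  exact ((hRmem r).1 hr).2

/-- COMM, the coprime case -/
theorem RegAb.commAt_of_coprime (P : RegAb H A v c a) (hH : Cfsg.IsStronglyEmbedded H)
    (hcore : H.normalCore = ⊥) (hb : NoBad H) (hcs : CentreSquares H) (h2 : HasCommutingInvolutions G)
    {R A' : Subgroup G} (hR : R = (twoGen c ⊔ A) ⊓ stabilizer G a ⊓ centralizer ({v} : Set G))
    (hA' : A' ≤ A) (hnA : ∀ r ∈ R, ∀ y ∈ A', r * y * r⁻¹ ∈ A')
    (hcop : (Nat.card A').Coprime (Nat.card R))
    (hsplit : ∀ y ∈ A, ∃ y₀ ∈ A, ∃ y' ∈ A', y = y₀ * y' ∧ ∀ r ∈ R, Commute r y₀)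
    {p : ℕ} (hp : p.Prime) (hpA : (Nat.card A').Coprime p)
    (hstab : ∀ (mu : A' →* ℂˣ) (K : Subgroup R), K ≠ ⊥ →
      (∀ r : R, r ∈ K ↔ ∀ y z : A', (z : G) = r * y * (r : G)⁻¹ → mu z = mu y) → p ∣ Nat.card K) :
    CommAt H := by
  classical
  set X := twoGen c ⊔ A with hX
  set B := X ⊓ stabilizer G a with hB
  have hXc : X ≤ stabilizer G c := P.twoGen_sup_le
  have hBD : B ≤ stabilizer G c ⊓ stabilizer G a := inf_le_inf hXc le_rfl
  have hAX : A ≤ X := le_sup_right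
  have hAB : A ≤ B := le_inf hAX (P.le.trans inf_le_right)
  have hRmem : ∀ r : G, r ∈ R ↔ r ∈ B ∧ Commute r v := fun r => by
    rw [hR, mem_inf, mem_centralizer_singleton_iff]; rfl
  have hRX : R ≤ X := fun r hr => (mem_inf.1 ((hRmem r).1 hr).1).1
  have hA'X : A' ≤ X := hA'.trans hAX
  have hcfix : ∀ g : X, (g : G) • c = c := fun g => mem_stabilizer_iff.1 (hXc g.2)
  have hinvX : ∀ i : G, orderOf i = 2 → i • c = c → i ∈ X := fun i hi hic =>
    mem_sup_left (subset_closure ⟨hic, 1, by rw [hi, pow_one]⟩)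
  have hBodd : Odd (Nat.card B) :=
    (odd_stabilizer_inf hH P.ne.symm).of_dvd_nat (card_dvd_of_le hBD)
  have hRodd : Odd (Nat.card R) :=
    hBodd.of_dvd_nat (card_dvd_of_le fun r hr => ((hRmem r).1 hr).1)
  -- the action on the involutions at `c`
  let Ω := {i : G // orderOf i = 2 ∧ i • c = c}
  letI act : MulAction X Ω :=
    { smul := fun g i => ⟨(g : G) * i.1 * (g : G)⁻¹, by rw [orderOf_conj', i.2.1], by
        rw [mul_smul, mul_smul, inv_smul_eq_iff.2 (hcfix g).symm, i.2.2, hcfix g]⟩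
      one_smul := fun i => Subtype.ext (show (1 : G) * i.1 * (1 : G)⁻¹ = i.1 by group)
      mul_smul := fun g g' i => Subtype.ext
        (show (g : G) * (g' : G) * i.1 * ((g : G) * (g' : G))⁻¹ =
          (g : G) * ((g' : G) * i.1 * (g' : G)⁻¹) * (g : G)⁻¹ by group) }
  set o : Ω := ⟨v, P.vord, P.vfix⟩ with ho
  have hfix : ∀ g : X, g • o = o ↔ Commute (g : G) v := by
    intro g
    rw [Subtype.ext_iff]
    show (g : G) * v * (g : G)⁻¹ = v ↔ _
    rw [mul_inv_eq_iff_eq_mul]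
    rfl
  set Ax := A.subgroupOf X
  set Bx := B.subgroupOf X
  set Rx := R.subgroupOf X with hRx
  have hreg : ∀ ω : Ω, ∃! y : Ax, (y : X) • o = ω := by
    intro ω
    obtain ⟨y, hy, hyω⟩ := P.reg ω.1 ω.2.1 ω.2.2
    refine ⟨⟨⟨y, hAX hy⟩, mem_subgroupOf.2 hy⟩, Subtype.ext hyω, fun z hz => ?_⟩
    exact Subtype.ext (Subtype.ext
      (P.conj_inj (mem_subgroupOf.1 z.2) hy ((congrArg Subtype.val hz).trans hyω.symm)))
  have hset : Isometry.Setting Ax Bx Rx o :=
    { aB := fun x hx => mem_subgroupOf.2 (hAB (mem_subgroupOf.1 hx))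
      rB := fun x hx => mem_subgroupOf.2 ((hRmem _).1 (mem_subgroupOf.1 hx)).1
      norm := fun x hx y hy => mem_subgroupOf.2
        ((mem_normalizer_iff.1 (P.norm (hBD (mem_subgroupOf.1 hx))) _).1 (mem_subgroupOf.1 hy))
      comm := fun x y => Subtype.ext (Subtype.ext
        (P.comm _ (mem_subgroupOf.1 x.2) _ (mem_subgroupOf.1 y.2)).eq)
      sup := by
        intro g hg
        obtain ⟨d, hd, hdv⟩ := P.exists_mul (hcfix g)
        refine ⟨⟨d, hAX hd⟩, mem_subgroupOf.2 hd, ⟨d, hAX hd⟩⁻¹ * g, mem_subgroupOf.2 ((hRmem _).2 ⟨?_, ?_⟩),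
          by group⟩
        · rw [Subgroup.coe_mul, Subgroup.coe_inv]
          exact mul_mem (inv_mem (hAB hd)) (mem_subgroupOf.1 hg)
        · rw [Subgroup.coe_mul, Subgroup.coe_inv]; exact hdv
      disj := by
        rw [eq_bot_iff]
        intro x hx
        refine mem_bot.2 (Subtype.ext ?_)
        by_contra hne
        exact P.free _ (mem_subgroupOf.1 (mem_inf.1 hx).1) hne v P.vord P.vfix
          ((hRmem _).1 (mem_subgroupOf.1 (mem_inf.1 hx).2)).2
      reg := hreg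
      fixR := fun r hr => (hfix r).2 ((hRmem _).1 (mem_subgroupOf.1 hr)).2
      ti := by
        rintro g x ⟨hxB, hxR⟩ ⟨hgB, -⟩
        have hxB' : (x : G) ∈ B := mem_subgroupOf.1 hxB
        have hgx : (g : G) * x * (g : G)⁻¹ ∈ B := by
          have := mem_subgroupOf.1 hgB
          rwa [Subgroup.coe_mul, Subgroup.coe_mul, Subgroup.coe_inv] at this
        have hxfix : (x : G) • ((g : G)⁻¹ • a) = (g : G)⁻¹ • a := by
          have h1 := mem_stabilizer_iff.1 (mem_inf.1 hgx).2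
          rw [mul_smul, mul_smul] at h1
          rw [eq_inv_smul_iff]
          exact h1
        by_cases hc : (g : G)⁻¹ • a = a
        · exact mem_subgroupOf.2 (mem_inf.2 ⟨g.2, mem_stabilizer_iff.2 (inv_smul_eq_iff.1 hc).symm⟩)
        · obtain ⟨u, hu, hux⟩ := P.exists_conj_of_third hH hb hBD hAB hR hA' hnA hcop hsplit hxB'
            (fun e => P.ne ((inv_smul_eq_iff.1 e).trans (hcfix g))) hc hxfix
          have huB : (⟨u, hAX hu⟩ : X) ∈ Bx := mem_subgroupOf.2 (hAB hu)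
          refine absurd (mem_subgroupOf.2 ((hRmem _).2 ?_)) (hxR (⟨u, hAX hu⟩⁻¹) (inv_mem huB))
          simp only [Subgroup.coe_mul, Subgroup.coe_inv, inv_inv]
          exact ⟨mul_mem (mul_mem (inv_mem (hAB hu)) hxB') (hAB hu), hux⟩ }
  haveI := Fintype.ofFinite X
  haveI := Fintype.ofFinite Ax
  haveI := Fintype.ofFinite Bx
  haveI := Fintype.ofFinite Rx
  haveI := Fintype.ofFinite Ω
  -- `A'`
  set A'' : Subgroup Ax := (A'.subgroupOf X).subgroupOf Ax with hA''
  have hmemA'' : ∀ y : Ax, y ∈ A'' ↔ ((y : X) : G) ∈ A' := fun y => by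
    rw [hA'', mem_subgroupOf, mem_subgroupOf]
  have hs : hset.Split A'' :=
    { inv := fun r y hy => (hmemA'' _).2 (hnA _ (mem_subgroupOf.1 r.2) _ ((hmemA'' y).1 hy))
      split := fun y => by
        obtain ⟨y₀, hy₀, y', hy', e, hc⟩ := hsplit _ (mem_subgroupOf.1 y.2)
        refine ⟨⟨⟨y₀, hAX hy₀⟩, mem_subgroupOf.2 hy₀⟩, ⟨⟨y', hA'X hy'⟩, mem_subgroupOf.2 (hA' hy')⟩,
          (hmemA'' _).2 hy', Subtype.ext (Subtype.ext e), fun r => Subtype.ext (Subtype.ext ?_)⟩
        show ((r : X) : G) * y₀ * ((r : X) : G)⁻¹ = y₀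
        rw [(hc _ (mem_subgroupOf.1 r.2)).eq, mul_inv_cancel_right] }
  have hcardA : Nat.card A'' = Nat.card A' := by
    rw [hA'', Nat.card_congr (subgroupOfEquivOfLe (fun y hy => mem_subgroupOf.2
      (hA' (mem_subgroupOf.1 hy)))).toEquiv, Nat.card_congr (subgroupOfEquivOfLe hA'X).toEquiv]
  let eR : Rx ≃* R := subgroupOfEquivOfLe hRX
  have hcardR : Nat.card Rx = Nat.card R := Nat.card_congr eR.toEquiv
  have hRxodd : Odd (Nat.card Rx) := hcardR ▸ hRodd
  -- stabilisers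
  let ι : A' →* Ax :=
    { toFun := fun y => ⟨⟨y, hA'X y.2⟩, mem_subgroupOf.2 (hA' y.2)⟩
      map_one' := rfl
      map_mul' := fun _ _ => rfl }
  have hstab' : ∀ mu : Ax →* ℂˣ, ¬ hset.Free mu → p ∣ Nat.card (hset.stab mu) := by
    intro mu hmu
    have hne : hset.stab mu ≠ ⊥ := fun e => hmu fun r hr => mem_bot.1 (e ▸ (hset.mem_stab.2 hr))
    have h1 := hstab (mu.comp ι) ((hset.stab mu).map eR.toMonoidHom)
      (fun e => hne ((map_eq_bot_iff_of_injective _ eR.injective).1 e)) ?_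
    · rwa [card_map_of_injective eR.injective] at h1
    intro r
    obtain ⟨s, rfl⟩ := eR.surjective r
    rw [show eR s = eR.toMonoidHom s from rfl, mem_map_iff_mem eR.injective, hset.mem_stab_iff hs]
    constructor
    · intro h1 y z hz
      have h2 := h1 (ι y) ((hmemA'' _).2 y.2)
      show mu (ι z) = mu (ι y)
      rw [← h2]
      exact congrArg mu (Subtype.ext (Subtype.ext hz))
    · intro h1 y hy
      have hy' : ((y : X) : G) ∈ A' := (hmemA'' y).1 hy
      have h2 := h1 ⟨_, hy'⟩ ⟨_, hnA _ (mem_subgroupOf.1 s.2) _ hy'⟩ rfl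
      exact h2
  -- the involution
  set z : X := ⟨v, hinvX v P.vord P.vfix⟩ with hz
  have hzz : z * z = 1 := Subtype.ext (sq_of_order_two P.vord)
  have hcomm : ∀ r ∈ Rx, r * z = z * r := fun r hr =>
    Subtype.ext ((hRmem _).1 (mem_subgroupOf.1 hr)).2.eq
  have hzo : z • o = o := (hfix z).2 (Commute.refl v)
  have hfixB : ∀ r ∈ Rx, (r : G) • c = c ∧ (r : G) • a = a := fun r hr => by
    have h1 := mem_inf.1 (hBD ((hRmem _).1 (mem_subgroupOf.1 hr)).1)
    exact ⟨mem_stabilizer_iff.1 h1.1, mem_stabilizer_iff.1 h1.2⟩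
  have hsemi : ∀ ω : Ω, z • ω ≠ ω → ∀ r ∈ Rx, r • ω = ω ∨ r • ω = z • ω → r = 1 := by
    intro ω hω r hr hro
    by_contra hr1
    have key : ∀ s ∈ Rx, s ≠ 1 → s • ω ≠ ω := by
      intro s hs hs1 hsω
      obtain ⟨hsc, hsa⟩ := hfixB s hs
      have h1 : Commute v ω.1 := commute_of_centralized hH hcore hb hcs P.ne
        (fun e => hs1 (Subtype.ext e)) hsc hsa P.vord ω.2.1 P.vfix ω.2.2
        ((hRmem _).1 (mem_subgroupOf.1 hs)).2
        (mul_inv_eq_iff_eq_mul.1 (congrArg Subtype.val hsω))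
      exact hω (Subtype.ext (show v * ω.1 * v⁻¹ = ω.1 by rw [h1.eq, mul_inv_cancel_right]))
    rcases hro with h1 | h1
    · exact key r hr hr1 h1
    · refine key (r * r) (mul_mem hr hr) (fun e => hr1 ?_) ?_
      · obtain ⟨k, hk⟩ := hRxodd.of_dvd_nat (Rx.orderOf_dvd_natCard hr)
        have h3 := pow_orderOf_eq_one r
        rw [hk, pow_succ, pow_mul, pow_two, e, one_pow, one_mul] at h3
        exact h3
      · rw [mul_smul, h1, smul_smul, hcomm r hr, mul_smul, h1, smul_smul, hzz, one_smul]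
  have hvan : ∀ g : X, ∀ r ∈ Rx, g * r * g⁻¹ ∉ Isometry.offR Bx Rx ∧
      g * (r * z) * g⁻¹ ∉ Isometry.offR Bx Rx := by
    intro g r hr
    obtain ⟨hrc, hra⟩ := hfixB r hr
    refine ⟨fun hoff => ?_, fun hoff => ?_⟩
    · -- `r` fixes `v • a`, so the conjugate fixes a third point
      have hrv := ((hRmem _).1 (mem_subgroupOf.1 hr)).2
      set q := (g : G) * r * (g : G)⁻¹ with hq
      have hqB : q ∈ B := mem_subgroupOf.1 hoff.1
      have hgc := hcfix g
      have hva : v • a ≠ a := fun e => P.ne (Cfsg.Lib.StrongEmb.eq_of_fixed hH P.vord e P.vfix)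
      have hvc : v • a ≠ c := fun e => P.ne (smul_left_cancel v (e.trans P.vfix.symm))
      have hqfix : ∀ b : G ⧸ H, (r : G) • b = b → q • ((g : G) • b) = (g : G) • b := fun b hb' => by
        rw [hq, mul_smul, mul_smul, inv_smul_smul, hb']
      have hrva : (r : G) • (v • a) = v • a := by rw [smul_smul, hrv.eq, mul_smul, hra]
      obtain ⟨b, hbc, hba, hqb⟩ : ∃ b : G ⧸ H, b ≠ c ∧ b ≠ a ∧ q • b = b := by
        by_cases h1 : (g : G) • a = a
        · exact ⟨(g : G) • (v • a), fun e => hvc (smul_left_cancel _ (e.trans hgc.symm)),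
            fun e => hva (smul_left_cancel _ (e.trans h1.symm)), hqfix _ hrva⟩
        · exact ⟨(g : G) • a, fun e => P.ne (smul_left_cancel _ (e.trans hgc.symm)), h1, hqfix _ hra⟩
      obtain ⟨u, hu, hux⟩ := P.exists_conj_of_third hH hb hBD hAB hR hA' hnA hcop hsplit hqB hbc hba hqb
      refine absurd (mem_subgroupOf.2 ((hRmem _).2 ?_))
        (hoff.2 (⟨u, hAX hu⟩⁻¹) (inv_mem (mem_subgroupOf.2 (hAB hu) : (⟨u, hAX hu⟩ : X) ∈ Bx)))
      simp only [Subgroup.coe_mul, Subgroup.coe_inv, inv_inv]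
      exact ⟨mul_mem (mul_mem (inv_mem (hAB hu)) hqB) (hAB hu), hux⟩
    · -- `r * z` has even order
      have hodd : Odd (orderOf (g * (r * z) * g⁻¹)) := by
        rw [← Subgroup.orderOf_coe]
        exact hBodd.of_dvd_nat (Subgroup.orderOf_dvd_natCard _ (mem_subgroupOf.1 hoff.1))
      rw [orderOf_conj', (show Commute r z from hcomm r hr).orderOf_mul_eq_mul_orderOf_of_coprime] at hodd
      · rw [Nat.odd_mul] at hodd
        rw [← Subgroup.orderOf_coe z, show ((z : X) : G) = v from rfl, P.vord] at hodd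
        exact absurd hodd.2 (by decide)
      · rw [← Subgroup.orderOf_coe z, show ((z : X) : G) = v from rfl, P.vord]
        exact Nat.coprime_two_right.2 (hRxodd.of_dvd_nat (Rx.orderOf_dvd_natCard hr))
  obtain ⟨χ₀, hχ₀, hker⟩ := hset.exists_one_constituent hs (by rw [hcardA, hcardR]; exact hcop) hRxodd
    (Cfsg.Agent.PF.isSolvable_of_odd Rx hRxodd) hp (by rw [hcardA]; exact hpA) hstab' hzz hzo hcomm
    hsemi hvan
  -- the group generated by the involutions at `c`
  set MI : Subgroup G := closure {i : G | orderOf i = 2 ∧ i • c = c} with hMI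
  have hMIc : MI ≤ stabilizer G c := (closure_le _).2 fun i hi => mem_stabilizer_iff.2 hi.2
  have hMIn : stabilizer G c ≤ normalizer (MI : Set G) := fun g hg =>
    mem_normalizer_closure fun i hi => subset_closure ⟨by rw [orderOf_conj', hi.1], by
      have hg' : g • c = c := mem_stabilizer_iff.1 hg
      rw [mul_smul, mul_smul, inv_smul_eq_iff.2 hg'.symm, hi.2, hg']⟩
  have hMIX : MI ≤ X := (closure_le _).2 fun i hi => hinvX i hi.1 hi.2
  set Mx := MI.subgroupOf X
  have hMxn : ∀ g : X, ∀ m ∈ Mx, g * m * g⁻¹ ∈ Mx := fun g m hm =>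
    mem_subgroupOf.2 ((mem_normalizer_iff.1 (hMIn (hXc g.2)) _).1 (mem_subgroupOf.1 hm))
  have hkerM : ∀ χ : Cfsg.IrrCharacter X, χ ≠ χ₀ → hset.mult χ ≠ 0 → ∀ g : X, ∀ m ∈ Mx,
      (χ : X → ℂ) (g * m) = (χ : X → ℂ) g := by
    intro χ hne hm0
    have hch := isCharacter_of_irr χ.2
    haveI := kerSubgroup_normal hch
    have hle : MI ≤ (kerSubgroup _ hch).map X.subtype := (closure_le _).2 fun i hi => by
      obtain ⟨y, hy, hyi⟩ := P.reg i hi.1 hi.2
      refine ⟨⟨y, hAX hy⟩ * z * ⟨y, hAX hy⟩⁻¹, ?_, hyi⟩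
      exact Subgroup.Normal.conj_mem inferInstance z ((mem_kerSubgroup hch z).2 (hker χ hne hm0)) _
    intro g m hm
    obtain ⟨m', hm', e⟩ := hle (mem_subgroupOf.1 hm)
    rw [show m = m' from Subtype.ext e.symm, show g * m' = g * (m' * g) * g⁻¹ by group,
      isClassFunction_irr χ, IsCharacter.ker_mul hch ((mem_kerSubgroup hch m').1 hm')]
  -- the classes
  let s : Setoid Ω :=
    { r := fun w w' => ∃ m ∈ Mx, m • w = w'
      iseqv :=
        { refl := fun w => ⟨1, one_mem _, one_smul _ _⟩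
          symm := by
            rintro w w' ⟨m, hm, rfl⟩
            exact ⟨m⁻¹, inv_mem hm, inv_smul_smul m w⟩
          trans := by
            rintro w w' w'' ⟨m, hm, rfl⟩ ⟨m', hm', rfl⟩
            exact ⟨m' * m, mul_mem hm' hm, mul_smul m' m w⟩ } }
  letI actY : MulAction X (Quotient s) :=
    { smul := fun g => Quotient.map (g • ·) (by
        rintro w w' ⟨m, hm, rfl⟩
        exact ⟨g * m * g⁻¹, hMxn g m hm, by rw [mul_smul, mul_smul, inv_smul_smul]⟩)
      one_smul := fun y => Quotient.inductionOn y fun w => congrArg (Quotient.mk s) (one_smul _ w)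
      mul_smul := fun g g' y => Quotient.inductionOn y fun w => congrArg (Quotient.mk s) (mul_smul g g' w) }
  haveI : IsPretransitive X Ω := ⟨fun w w' => by
    obtain ⟨y, hy, -⟩ := hreg w
    obtain ⟨y', hy', -⟩ := hreg w'
    exact ⟨(y' : X) * (y : X)⁻¹, by rw [mul_smul, inv_smul_eq_iff.2 hy.symm, hy']⟩⟩
  have htr : ∀ i j : G, orderOf i = 2 → i • c = c → orderOf j = 2 → j • c = c → i ≠ v → j ≠ v →
      (∃ m ∈ MI, m * i * m⁻¹ = j) → ∃ x : G, Commute x v ∧ x * i * x⁻¹ = j := by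
    rintro i j hi hic hj hjc hiv hjv ⟨m, hm, hmij⟩
    obtain ⟨x, hxo, hxij⟩ := exists_smul_of_one_constituent (Y := Quotient s) Mx
      (fun w => Quotient.mk s w) (fun y => Quotient.inductionOn y fun w => ⟨w, rfl⟩) (fun _ _ => rfl)
      (fun w w' => ⟨fun e => Quotient.exact (s := s) e, fun e => Quotient.sound (s := s) e⟩) χ₀ hχ₀
      (fun χ hne hm0 => hkerM χ hne hm0) (o := o) (w := (⟨i, hi, hic⟩ : Ω)) (w' := (⟨j, hj, hjc⟩ : Ω))
      (fun e => hiv (congrArg Subtype.val e)) (fun e => hjv (congrArg Subtype.val e))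
      (Quotient.sound (s := s) ⟨⟨m, hMIX hm⟩, mem_subgroupOf.2 hm, Subtype.ext hmij⟩)
    exact ⟨x, (hfix x).1 hxo, congrArg Subtype.val hxij⟩
  have hall : ∀ i j : G, orderOf i = 2 → orderOf j = 2 → i • c = c → j • c = c → Commute i j :=
    fun i j hi hj hic hjc => commute_of_transitive_classes hH h2 P.ne hMIn
      (fun i hi hic => subset_closure ⟨hi, hic⟩) hMIc P.vord P.vfix htr hi hj hic hjc
  intro d i j hi hj hid hjd
  obtain ⟨g, hg⟩ := MulAction.exists_smul_eq G d c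
  have hgd : g⁻¹ • c = d := inv_smul_eq_iff.2 hg.symm
  refine (commute_conj_iff' g).1 (hall _ _ (by rw [orderOf_conj', hi]) (by rw [orderOf_conj', hj]) ?_ ?_)
  · rw [mul_smul, mul_smul, hgd, hid, hg]
  · rw [mul_smul, mul_smul, hgd, hjd, hg]

end Cfsg.Lib.BenderSE
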