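/-
COMM, notes/bender_comm.md (*): tools on the stabilisers of characters under a coprime action of odd order.
-/
import Cfsg.Agent.S1324
import Cfsg.Agent.Frobenius.UniqueSubgroup
import Cfsg.Agent.Coprime.Sylow
import Cfsg.Agent.S1451
import Cfsg.Agent.OddChar.PF.OddOrder

set_option autoImplicit false
set_option linter.unusedSectionVars false
set_option linter.style.haveILetI false

namespace Cfsg.Lib.BenderSE.Stabilisers

open Subgroup
open scoped commutatorElement

/-- the fixed subgroup of a set of automorphisms -/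
def fixOf {R A : Type*} [Group R] [Group A] (θ : R →* MulAut A) (s : Set R) : Subgroup A where
  carrier := {a | ∀ z ∈ s, θ z a = a}
  one_mem' := fun z _ => map_one (θ z)
  mul_mem' := fun {a b} ha hb z hz => by rw [map_mul, ha z hz, hb z hz]
  inv_mem' := fun {a} ha z hz => by rw [map_inv, ha z hz]

theorem mem_fixOf {R A : Type*} [Group R] [Group A] {θ : R →* MulAut A} {s : Set R} {a : A} :
    a ∈ fixOf θ s ↔ ∀ z ∈ s, θ z a = a := Iff.rfl

theorem mem_fix_singleton {R A : Type*} [Group R] [Group A] {θ : R →* MulAut A} {z : R} {a : A} :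
    a ∈ fixOf θ {z} ↔ θ z a = a :=
  ⟨fun h => h z rfl, fun h w hw => by rw [Set.mem_singleton_iff] at hw; rw [hw]; exact h⟩

/-- coprime generation by the fixed subgroups of maximal subgroups -/
theorem eq_top_of_fix_le {N B : Type*} [Group N] [Finite N] [Group B] [Finite B] {p : ℕ} [Fact p.Prime]
    (hB : ∀ a b : B, a * b = b * a) (hexp : ∀ b : B, b ^ p = 1) (hcard : p ^ 2 ≤ Nat.card B)
    (hN : ¬ p ∣ Nat.card N) (β : B →* MulAut N) (M : Subgroup N)
    (h : ∀ C : Subgroup B, C.index ≤ p → fixOf β (C : Set B) ≤ M) : M = ⊤ := by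
  let H := SemidirectProduct N B β
  haveI : Finite H := Finite.of_equiv _ SemidirectProduct.equivProd.symm
  set X : Subgroup H := (SemidirectProduct.inl : N →* H).range with hX
  set A : Subgroup H := (SemidirectProduct.inr : B →* H).range with hA
  have hAel : Cfsg.IsElementaryAbelian p A := by
    refine ⟨⟨⟨?_⟩⟩, ?_⟩
    · rintro ⟨_, a, rfl⟩ ⟨_, b, rfl⟩
      exact Subtype.ext (show SemidirectProduct.inr a * SemidirectProduct.inr b = SemidirectProduct.inr b * SemidirectProduct.inr a by
        rw [← map_mul, ← map_mul, hB])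
    · rintro _ ⟨a, rfl⟩
      rw [← map_pow, hexp, map_one]
  have hAcard : Nat.card A = Nat.card B :=
    (Nat.card_congr (MonoidHom.ofInjective SemidirectProduct.inr_injective).toEquiv).symm
  have hXcard : Nat.card X = Nat.card N :=
    (Nat.card_congr (MonoidHom.ofInjective SemidirectProduct.inl_injective).toEquiv).symm
  have hAX : A ≤ normalizer (X : Set H) := by
    haveI : X.Normal := by rw [hX, SemidirectProduct.range_inl_eq_ker_rightHom]; infer_instance
    exact fun x _ => le_normalizer_of_normal (mem_top x)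
  have hgen := Cfsg.Agent.S1324.result p A X hAel (hcard.trans_eq hAcard.symm) (hXcard.symm ▸ hN) hAX
  have hle : X ≤ M.map (SemidirectProduct.inl : N →* H) := by
    conv_lhs => rw [hgen]
    refine iSup_le fun C => ?_
    rintro x ⟨⟨n, rfl⟩, hn⟩
    refine ⟨n, h ((C : Subgroup H).comap SemidirectProduct.inr) ?_ fun c hc => ?_, rfl⟩
    · rw [index_comap, ← hA]; exact C.2.2
    · apply SemidirectProduct.inl_injective (φ := β)
      rw [SemidirectProduct.inl_aut, map_inv, mem_centralizer_iff.1 hn _ hc, mul_inv_cancel_right]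
  refine eq_top_iff.2 fun n _ => ?_
  obtain ⟨m, hm, hmn⟩ := hle ⟨n, rfl⟩
  rwa [← SemidirectProduct.inl_injective hmn]

/-- two independent elements of the same prime order -/
def Pair {R : Type*} [Group R] (p : ℕ) (x y : R) : Prop :=
  p.Prime ∧ orderOf x = p ∧ orderOf y = p ∧ x * y = y * x ∧ y ∉ zpowers x

theorem unique_subgroup_of_not_pair {R : Type*} [Group R] {p : ℕ} [Fact p.Prime] (h : ∀ x y : R, ¬ Pair p x y)
    {x y : R} (hx : orderOf x = p) (hy : orderOf y = p) (hc : x * y = y * x) : y ∈ zpowers x := by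
  by_contra hyx
  exact h x y ⟨Fact.out, hx, hy, hc, hyx⟩

/-- an abelian group of odd order without pairs is cyclic -/
theorem isCyclic_of_no_pair {A : Type*} [CommGroup A] [Finite A] (hodd : Odd (Nat.card A))
    (h : ∀ (p : ℕ) (x y : A), ¬ Pair p x y) : IsCyclic A := by
  haveI : IsZGroup A := ⟨fun p hp P => by
    haveI := Fact.mk hp
    rcases Cfsg.Lib.UniqueSub.isCyclic_or_quaternion P.2 (fun x y hx hy => by
      have h1 := unique_subgroup_of_not_pair (h p) (x := (x : A)) (y := (y : A))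
        (by rw [Subgroup.orderOf_coe, hx]) (by rw [Subgroup.orderOf_coe, hy]) (mul_comm _ _)
      obtain ⟨k, hk⟩ := mem_zpowers_iff.1 h1
      exact mem_zpowers_iff.2 ⟨k, Subtype.ext (by rw [← hk]; rfl)⟩) with hc | ⟨rfl, n, ⟨e⟩⟩
    · exact hc
    · have hP : Nat.card (P : Subgroup A) ∣ Nat.card A := card_subgroup_dvd_card _
      have h2 : 2 ∣ Nat.card (P : Subgroup A) := by
        rw [Nat.card_congr e.toEquiv, Nat.card_eq_fintype_card, QuaternionGroup.card]; exact ⟨2 * 2 ^ n, by ring⟩
      exact absurd (h2.trans hP) hodd.not_two_dvd_nat⟩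
  infer_instance

variable {R A : Type*} [Group R] [Finite R] [CommGroup A] [Finite A] (θ : R →* MulAut A)

/-- an element centralising `z` and its fixed points lies in every stabiliser containing `z` -/
theorem mem_stab (hcop : (Nat.card R).Coprime (Nat.card A)) (μ : A →* ℂˣ) (K : Subgroup R)
    (hK : ∀ r, r ∈ K ↔ ∀ a, μ (θ r a) = μ a) {z w : R} (hz : z ∈ K) (hwz : w * z = z * w)
    (hw : ∀ a, θ z a = a → θ w a = a) : w ∈ K := by
  classical
  set n := orderOf z with hn
  have hzi : ∀ (i : ℕ) (a : A), μ (θ (z ^ i) a) = μ a := fun i a => (hK _).1 (pow_mem hz i) a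
  refine (hK w).2 fun a => ?_
  let f : A → A := fun a => ∏ i ∈ Finset.range n, θ (z ^ i) a
  have hfix : θ z (f a) = f a := by
    show θ z (∏ i ∈ Finset.range n, θ (z ^ i) a) = _
    rw [map_prod]
    have hs : ∀ i, θ z (θ (z ^ i) a) = θ (z ^ (i + 1)) a := fun i => by
      rw [pow_succ', map_mul, MulAut.mul_apply]
    simp only [hs]
    have h1 := Finset.prod_range_succ' (fun i => θ (z ^ i) a) n
    rw [Finset.prod_range_succ, pow_orderOf_eq_one z, pow_zero] at h1
    exact (mul_right_cancel h1).symm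
  have hμ : ∀ b, μ (f b) = μ b ^ n := fun b => by
    simp only [f, map_prod, hzi, Finset.prod_const, Finset.card_range]
  have hcomm : θ w (f a) = f (θ w a) := by
    simp only [f, map_prod]
    refine Finset.prod_congr rfl fun i _ => ?_
    rw [← MulAut.mul_apply, ← MulAut.mul_apply, ← map_mul, ← map_mul,
      ((show Commute w z from hwz).pow_right i).eq]
  have h1 : μ (θ w a) ^ n = μ a ^ n := by
    rw [← hμ, ← hμ, ← hcomm, hw _ hfix]
  have h2 : ∀ b : A, μ b ^ Nat.card A = 1 := fun b => by rw [← map_pow, pow_card_eq_one', map_one]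
  have hco : Nat.Coprime n (Nat.card A) := hcop.coprime_dvd_left (orderOf_dvd_natCard z)
  have h3 : (μ (θ w a) / μ a) ^ n = 1 := by rw [div_pow, h1, div_self']
  have h4 : (μ (θ w a) / μ a) ^ Nat.card A = 1 := by rw [div_pow, h2, h2, div_one]
  have h5 := pow_gcd_eq_one.2 ⟨h3, h4⟩
  rw [hco.gcd_eq_one, pow_one, div_eq_one] at h5
  exact h5

variable (hinj : Function.Injective θ) (hcyc : ∀ z : R, z ≠ 1 → IsCyclic (fixOf θ {z}))
  (himg : ∀ z : R, z ≠ 1 → ∀ P : Subgroup R, P ≤ centralizer {z} →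
    (∀ u ∈ P, (∀ a, θ z a = a → θ u a = a) → u = 1) → IsCyclic P)

include himg in
/-- a pair in the centraliser gives an element of order `p` in the stabiliser -/
theorem dvd_card_of_pair (hcop : (Nat.card R).Coprime (Nat.card A)) (μ : A →* ℂˣ) (K : Subgroup R)
    (hK : ∀ r, r ∈ K ↔ ∀ a, μ (θ r a) = μ a) {z x y : R} {p : ℕ} (hz : z ∈ K) (hz1 : z ≠ 1)
    (hxy : Pair p x y) (hxz : x * z = z * x) (hyz : y * z = z * y) : p ∣ Nat.card K := by
  obtain ⟨hp, hx, hy, hc, hyx⟩ := hxy
  haveI := Fact.mk hp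
  set P := zpowers x ⊔ zpowers y with hP
  have hPc : P ≤ centralizer {z} :=
    sup_le (zpowers_le.2 (mem_centralizer_singleton_iff.2 hxz)) (zpowers_le.2 (mem_centralizer_singleton_iff.2 hyz))
  have hn : zpowers y ≤ normalizer (zpowers x : Set R) := zpowers_le.2 (centralizer_le_normalizer _
    (mem_centralizer_iff.2 fun a ha => by
      obtain ⟨k, rfl⟩ := mem_zpowers_iff.1 ha
      exact ((show Commute x y from hc).zpow_left k).eq))
  have hexp : ∀ u ∈ P, u ^ p = 1 := by
    intro u hu
    obtain ⟨a, ha, b, hb, rfl⟩ := (Cfsg.Lib.Coprime.mem_sup_of_le_normalizer hn).1 hu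
    obtain ⟨i, rfl⟩ := mem_zpowers_iff.1 ha
    obtain ⟨j, rfl⟩ := mem_zpowers_iff.1 hb
    have hx' : x ^ p = 1 := hx ▸ pow_orderOf_eq_one x
    have hy' : y ^ p = 1 := hy ▸ pow_orderOf_eq_one y
    rw [(((show Commute x y from hc).zpow_left i).zpow_right j).mul_pow, ← zpow_natCast, ← zpow_natCast,
      ← zpow_mul, ← zpow_mul, mul_comm i, mul_comm j, zpow_mul, zpow_mul, zpow_natCast, zpow_natCast,
      hx', hy', one_zpow, one_zpow, one_mul]
  obtain ⟨u, huP, huf, hu1⟩ : ∃ u ∈ P, (∀ a, θ z a = a → θ u a = a) ∧ u ≠ 1 := by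
    by_contra h
    push Not at h
    haveI := himg z hz1 P hPc h
    obtain ⟨g, hg⟩ := IsCyclic.exists_generator (α := P)
    have hgo : orderOf (g : R) = p := by
      refine orderOf_eq_prime (hexp g g.2) fun e => hyx ?_
      obtain ⟨k, hk⟩ := mem_zpowers_iff.1 (hg ⟨y, mem_sup_right (mem_zpowers y)⟩)
      rw [show g = 1 from Subtype.ext e, one_zpow] at hk
      have : y = 1 := (congrArg Subtype.val hk).symm
      rw [this]; exact one_mem _
    have hxP : zpowers x = zpowers (g : R) := by
      refine eq_of_le_of_card_ge (zpowers_le.2 ?_) (by rw [Nat.card_zpowers, Nat.card_zpowers, hgo, hx])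
      obtain ⟨k, hk⟩ := mem_zpowers_iff.1 (hg ⟨x, mem_sup_left (mem_zpowers x)⟩)
      exact mem_zpowers_iff.2 ⟨k, congrArg Subtype.val hk⟩
    obtain ⟨k, hk⟩ := mem_zpowers_iff.1 (hg ⟨y, mem_sup_right (mem_zpowers y)⟩)
    exact hyx (hxP ▸ mem_zpowers_iff.2 ⟨k, congrArg Subtype.val hk⟩)
  have huK := mem_stab θ hcop μ K hK hz (mem_centralizer_singleton_iff.1 (hPc huP)) huf
  exact (orderOf_eq_prime (hexp u huP) hu1) ▸ Subgroup.orderOf_dvd_natCard K huK

/-- automorphisms of a cyclic group commute -/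
theorem commute_on_cyclic {B : Type*} [Group B] [IsCyclic B] (σ τ : MulAut B) : σ * τ = τ * σ := by
  obtain ⟨m, hm⟩ := MonoidHom.map_cyclic σ.toMonoidHom
  obtain ⟨n, hn⟩ := MonoidHom.map_cyclic τ.toMonoidHom
  refine MulEquiv.ext fun b => ?_
  show σ (τ b) = τ (σ b)
  rw [show τ b = b ^ n from hn b, show σ b = b ^ m from hm b, map_zpow, map_zpow,
    show σ b = b ^ m from hm b, show τ b = b ^ n from hn b, ← zpow_mul, ← zpow_mul, mul_comm]

include hcyc in
/-- the commutator subgroup lies in every stabiliser containing a normal cyclic subgroup -/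
theorem commutator_le_stab (hcop : (Nat.card R).Coprime (Nat.card A)) (μ : A →* ℂˣ) (K : Subgroup R)
    (hK : ∀ r, r ∈ K ↔ ∀ a, μ (θ r a) = μ a) {z : R} (hz : z ∈ K) (hz1 : z ≠ 1)
    [(zpowers z).Normal] : commutator R ≤ K := by
  haveI := hcyc z hz1
  have hinv : ∀ (r : R) (a : A), θ z a = a → θ z (θ r a) = θ r a := by
    intro r a ha
    obtain ⟨k, hk⟩ := mem_zpowers_iff.1 ((inferInstance : (zpowers z).Normal).conj_mem z (mem_zpowers z) r⁻¹)
    have hfix : θ (r⁻¹ * z * r⁻¹⁻¹) a = a := by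
      rw [← hk, map_zpow]
      exact (MulAction.mem_stabilizer_iff (G := MulAut A)).1
        (zpow_mem (MulAction.mem_stabilizer_iff.2 (show θ z • a = a from ha)) k)
    have h1 : θ z (θ r a) = θ r (θ (r⁻¹ * z * r⁻¹⁻¹) a) := by
      rw [← MulAut.mul_apply, ← MulAut.mul_apply, ← map_mul, ← map_mul]
      congr 2
      group
    rw [h1, hfix]
  let ρ : R →* MulAut (fixOf θ {z}) := MonoidHom.mk' (fun r =>
    { toFun := fun a => ⟨θ r a, mem_fix_singleton.2 (hinv r a (mem_fix_singleton.1 a.2))⟩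
      invFun := fun a => ⟨θ r⁻¹ a, mem_fix_singleton.2 (hinv r⁻¹ a (mem_fix_singleton.1 a.2))⟩
      left_inv := fun a => Subtype.ext (by
        show θ r⁻¹ (θ r a) = (a : A); rw [← MulAut.mul_apply, ← map_mul, inv_mul_cancel, map_one]; rfl)
      right_inv := fun a => Subtype.ext (by
        show θ r (θ r⁻¹ a) = (a : A); rw [← MulAut.mul_apply, ← map_mul, mul_inv_cancel, map_one]; rfl)
      map_mul' := fun a b => Subtype.ext (map_mul (θ r) _ _) })
    fun a b => MulEquiv.ext fun x => Subtype.ext (by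
      show θ (a * b) x = θ a (θ b x); rw [map_mul]; rfl)
  let σ : R →* MulAut (zpowers z) := MulAut.conjNormal
  rw [_root_.commutator_def, commutator_le]
  intro a _ b _
  refine mem_stab θ hcop μ K hK hz ?_ fun x hx => ?_
  · have h1 : σ ⁅a, b⁆ = 1 := by
      rw [map_commutatorElement]; exact commutatorElement_eq_one_iff_mul_comm.2 (commute_on_cyclic _ _)
    have h2 : ⁅a, b⁆ * z * ⁅a, b⁆⁻¹ = z := by
      have h3 := congrArg (fun f : MulAut (zpowers z) => (f ⟨z, mem_zpowers z⟩ : R)) h1
      exact h3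
    exact mul_inv_eq_iff_eq_mul.1 h2
  · have h1 : ρ ⁅a, b⁆ = 1 := by
      rw [map_commutatorElement]; exact commutatorElement_eq_one_iff_mul_comm.2 (commute_on_cyclic _ _)
    exact congrArg (fun f : MulAut (fixOf θ {z}) => (f ⟨x, mem_fix_singleton.2 hx⟩ : A)) h1

include hinj hcyc in
/-- with an elementary abelian subgroup of order `p³` the group is abelian -/
theorem commute_of_rank_three (hcop : (Nat.card R).Coprime (Nat.card A)) (hAodd : Odd (Nat.card A))
    {p : ℕ} [Fact p.Prime] (E : Subgroup R) (hE : Cfsg.IsElementaryAbelian p E) (hE3 : p ^ 3 ≤ Nat.card E) :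
    ∀ u w : R, u * w = w * u := by
  classical
  haveI := hE.1
  haveI : Finite (MulAut A) := Finite.of_injective (fun e => (e : A → A)) DFunLike.coe_injective
  have hp : p.Prime := Fact.out
  suffices hA : IsCyclic A by
    intro u w
    exact hinj (by rw [map_mul, map_mul]; exact commute_on_cyclic _ _)
  refine isCyclic_of_no_pair hAodd fun l x y hxy => ?_
  obtain ⟨hl, hx, hy, -, hyx⟩ := hxy
  haveI := Fact.mk hl
  let T : Subgroup A :=
    { carrier := {a | a ^ l = 1}
      one_mem' := one_pow l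
      mul_mem' := fun {a b} ha hb => by rw [Set.mem_setOf_eq, mul_pow, ha, hb, one_mul]
      inv_mem' := fun {a} ha => by rw [Set.mem_setOf_eq, inv_pow, ha, inv_one] }
  have hTr : ∀ r a, a ∈ T → θ r a ∈ T := fun r a (ha : a ^ l = 1) => by
    show θ r a ^ l = 1
    rw [← map_pow, ha, map_one]
  let β : E →* MulAut T := MonoidHom.mk' (fun r =>
    { toFun := fun a => ⟨θ r a, hTr r a a.2⟩
      invFun := fun a => ⟨θ (r : R)⁻¹ a, hTr _ a a.2⟩
      left_inv := fun a => Subtype.ext (by
        show θ (r : R)⁻¹ (θ r a) = (a : A); rw [← MulAut.mul_apply, ← map_mul, inv_mul_cancel, map_one]; rfl)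
      right_inv := fun a => Subtype.ext (by
        show θ r (θ (r : R)⁻¹ a) = (a : A); rw [← MulAut.mul_apply, ← map_mul, mul_inv_cancel, map_one]; rfl)
      map_mul' := fun a b => Subtype.ext (map_mul (θ (r : R)) _ _) })
    fun a b => MulEquiv.ext fun x => Subtype.ext (by
      show θ ((a * b : E) : R) x = θ a (θ b x); rw [Subgroup.coe_mul, map_mul]; rfl)
  have hpT : ¬ p ∣ Nat.card T := fun h => by
    have hpR : p ∣ Nat.card R := ((dvd_pow_self p three_ne_zero).trans (by
      obtain ⟨j, hj⟩ := IsPGroup.iff_card.1 (show IsPGroup p E from fun a => ⟨1, Subtype.ext (by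
        rw [pow_one]; exact hE.2 a a.2)⟩)
      rw [hj] at hE3 ⊢
      exact pow_dvd_pow p ((Nat.pow_le_pow_iff_right hp.one_lt).1 hE3))).trans E.card_subgroup_dvd_card
    exact hp.one_lt.ne' (Nat.eq_one_of_dvd_coprimes hcop hpR (h.trans T.card_subgroup_dvd_card))
  -- all nontrivial fixed subgroups are one line
  have hline : ∀ C C' : Subgroup E, C.index ≤ p → C'.index ≤ p → ∀ a ∈ fixOf β (C : Set E),
      ∀ b ∈ fixOf β (C' : Set E), a ≠ 1 → (b : A) ∈ zpowers (a : A) := by
    intro C C' hC hC' a ha b hb ha1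
    obtain ⟨e, heC, heC', he1⟩ : ∃ e : E, e ∈ C ∧ e ∈ C' ∧ e ≠ 1 := by
      by_contra h
      push Not at h
      have h0 : C ⊓ C' = ⊥ := (Subgroup.eq_bot_iff_forall _).2 fun e he => h e he.1 he.2
      have h1 := Subgroup.index_inf_le (H := C) (K := C')
      rw [h0, index_bot] at h1
      have h2 : p ^ 3 ≤ p * p := hE3.trans (h1.trans (Nat.mul_le_mul hC hC'))
      rw [← pow_two, Nat.pow_le_pow_iff_right hp.one_lt] at h2
      omega
    have hfa : (a : A) ∈ fixOf θ {(e : R)} := mem_fix_singleton.2 (congrArg Subtype.val (ha e heC))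
    have hfb : (b : A) ∈ fixOf θ {(e : R)} := mem_fix_singleton.2 (congrArg Subtype.val (hb e heC'))
    haveI := hcyc (e : R) (fun h => he1 (Subtype.ext h))
    by_contra hba
    have hb1 : (b : A) ≠ 1 := fun h => hba (h ▸ one_mem _)
    have ha1' : (a : A) ≠ 1 := fun h => ha1 (Subtype.ext h)
    obtain ⟨g, hg⟩ := IsCyclic.exists_generator (α := fixOf θ {(e : R)})
    have hcard : Nat.card {w : fixOf θ {(e : R)} // w ^ l = 1} ≤ l := by
      haveI := Fintype.ofFinite (fixOf θ {(e : R)})
      rw [Nat.card_eq_fintype_card, Fintype.card_subtype]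
      exact IsCyclic.card_pow_eq_one_le hl.pos
    have hlow : l + 1 ≤ Nat.card {w : fixOf θ {(e : R)} // w ^ l = 1} := by
      let F : Option (zpowers (a : A)) → {w : fixOf θ {(e : R)} // w ^ l = 1} := fun o =>
        match o with
        | none => ⟨⟨b, hfb⟩, Subtype.ext b.2⟩
        | some x => ⟨⟨x, (zpowers_le.2 hfa) x.2⟩, Subtype.ext (by
            obtain ⟨k, hk⟩ := mem_zpowers_iff.1 x.2
            show (x : A) ^ l = 1
            rw [← hk, ← zpow_natCast, ← zpow_mul, mul_comm, zpow_mul, zpow_natCast,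
              show (a : A) ^ l = 1 from a.2, one_zpow])⟩
      have hF : Function.Injective F := by
        rintro (_ | x) (_ | y) h
        · rfl
        · have := congrArg (fun w : {w : fixOf θ {(e : R)} // w ^ l = 1} => (w.1 : A)) h
          exact absurd (show (b : A) ∈ zpowers (a : A) from this.symm ▸ y.2) hba
        · have := congrArg (fun w : {w : fixOf θ {(e : R)} // w ^ l = 1} => (w.1 : A)) h
          exact absurd (show (b : A) ∈ zpowers (a : A) from this ▸ x.2) hba
        · exact congrArg some (Subtype.ext (congrArg (fun w : {w : fixOf θ {(e : R)} // w ^ l = 1} => (w.1 : A)) h))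
      have := Nat.card_le_card_of_injective F hF
      rwa [Finite.card_option, Nat.card_zpowers,
        orderOf_eq_prime (show (a : A) ^ l = 1 from a.2) ha1'] at this
    omega
  by_cases hall : ∀ C : Subgroup E, C.index ≤ p → fixOf β (C : Set E) = ⊥
  · have htop := eq_top_of_fix_le (p := p) (fun a b => mul_comm' a b) (fun a => Subtype.ext (hE.2 a a.2))
      ((Nat.pow_le_pow_right hp.pos (by norm_num)).trans hE3) hpT β ⊥ fun C hC => (hall C hC).le
    have h0 : (⟨x, show x ^ l = 1 by rw [← hx, pow_orderOf_eq_one]⟩ : T) ∈ (⊥ : Subgroup T) := htop ▸ mem_top _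
    rw [mem_bot] at h0
    rw [show x = 1 from congrArg Subtype.val h0, orderOf_one] at hx
    exact hl.one_lt.ne hx
  push Not at hall
  obtain ⟨C, hC, hC1⟩ := hall
  obtain ⟨a, ha, ha1⟩ : ∃ a ∈ fixOf β (C : Set E), a ≠ 1 := by
    by_contra h
    push Not at h
    exact hC1 ((Subgroup.eq_bot_iff_forall _).2 h)
  have htop := eq_top_of_fix_le (p := p) (fun a b => mul_comm' a b) (fun a => Subtype.ext (hE.2 a a.2))
    ((Nat.pow_le_pow_right hp.pos (by norm_num)).trans hE3) hpT β ((zpowers (a : A)).subgroupOf T)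
    fun C' hC' b hb => mem_subgroupOf.2 (hline C C' hC hC' a ha b hb ha1)
  have hxa : x ∈ zpowers (a : A) := by
    have h0 : (⟨x, show x ^ l = 1 by rw [← hx, pow_orderOf_eq_one]⟩ : T) ∈ (zpowers (a : A)).subgroupOf T := htop ▸ mem_top _
    exact h0
  have hya : y ∈ zpowers (a : A) := by
    have h0 : (⟨y, show y ^ l = 1 by rw [← hy, pow_orderOf_eq_one]⟩ : T) ∈ (zpowers (a : A)).subgroupOf T := htop ▸ mem_top _
    exact h0
  have he : zpowers x = zpowers (a : A) := eq_of_le_of_card_ge (zpowers_le.2 hxa) (by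
    rw [Nat.card_zpowers, Nat.card_zpowers, hx, orderOf_eq_prime (show (a : A) ^ l = 1 from a.2)
      (fun h => ha1 (Subtype.ext h))])
  exact hyx (he ▸ hya)

omit [Group R] [Finite R] [CommGroup A] [Finite A] in
theorem exists_pair {P : Type*} [Group P] [Finite P] {p : ℕ} [Fact p.Prime] (hP : IsPGroup p P) (hp : p ≠ 2)
    (h : ¬ IsCyclic P) {z : P} (hz : orderOf z = p) : ∃ x y : P, Pair p x y ∧ x * z = z * x ∧ y * z = z * y := by
  haveI : Nontrivial P := ⟨⟨z, 1, fun e => by rw [e, orderOf_one] at hz; exact (Fact.out : p.Prime).ne_one hz.symm⟩⟩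
  haveI := hP.center_nontrivial
  obtain ⟨j, hj⟩ := IsPGroup.iff_card.1 (hP.to_subgroup (center P))
  obtain ⟨c, hc⟩ := exists_prime_orderOf_dvd_card' (G := center P) p (hj ▸ dvd_pow_self p fun e => by
    rw [e, pow_zero] at hj; exact (Finite.one_lt_card (α := center P)).ne' hj)
  have hcz : ∀ w : P, (c : P) * w = w * (c : P) := fun w => (mem_center_iff.1 c.2 w).symm
  have hco : orderOf (c : P) = p := by rw [Subgroup.orderOf_coe, hc]
  by_cases hzc : z ∈ zpowers (c : P)
  · obtain ⟨k, rfl⟩ := mem_zpowers_iff.1 hzc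
    by_contra hno
    push Not at hno
    have hcent : ∀ w : P, w * (c : P) ^ k = (c : P) ^ k * w := fun w =>
      ((show Commute w (c : P) from (hcz w).symm).zpow_right k).eq
    -- all elements of order `p` lie in the central subgroup
    have key : ∀ w : P, orderOf w = p → zpowers w = zpowers (c : P) := by
      intro w hw
      have hwc : w ∈ zpowers (c : P) := by
        by_contra hwc
        exact hno (c : P) w ⟨Fact.out, hco, hw, hcz w, hwc⟩ (hcent _) (hcent _)
      exact eq_of_le_of_card_ge (zpowers_le.2 hwc) (by rw [Nat.card_zpowers, Nat.card_zpowers, hw, hco])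
    have huniq : ∀ x y : P, orderOf x = p → orderOf y = p → y ∈ zpowers x := fun x y hx hy => by
      rw [key x hx, ← key y hy]
      exact mem_zpowers y
    rcases Cfsg.Lib.UniqueSub.isCyclic_or_quaternion hP huniq with hc' | ⟨h2, -⟩
    · exact h hc'
    · exact hp h2
  · exact ⟨c, z, ⟨Fact.out, hco, hz, hcz z, hzc⟩, hcz z, rfl⟩

include hinj hcyc himg in
/-- THE STABILISER PRIME: if every element of prime order with a nontrivial fixed point lies in the
commutator subgroup, some prime divides every nontrivial stabiliser. -/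
theorem exists_prime_dvd_stab (hcop : (Nat.card R).Coprime (Nat.card A)) (hRodd : Odd (Nat.card R))
    (hAodd : Odd (Nat.card A)) [Nontrivial R]
    (hder : ∀ z : R, (orderOf z).Prime → fixOf θ {z} ≠ ⊥ → z ∈ commutator R) :
    ∃ p, p.Prime ∧ p ∣ Nat.card R ∧ ∀ (μ : A →* ℂˣ) (K : Subgroup R), K ≠ ⊥ →
      (∀ r, r ∈ K ↔ ∀ a, μ (θ r a) = μ a) → p ∣ Nat.card K := by
  classical
  -- a stabiliser is the whole group or has an element of prime order in the commutator subgroup
  have hz : ∀ (μ : A →* ℂˣ) (K : Subgroup R), K ≠ ⊥ → (∀ r, r ∈ K ↔ ∀ a, μ (θ r a) = μ a) →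
      K = ⊤ ∨ ∃ z ∈ K, z ∈ commutator R ∧ (orderOf z).Prime := by
    intro μ K hK1 hK
    obtain ⟨q, hq, hqd⟩ := Nat.exists_prime_and_dvd (fun e => hK1 (card_eq_one.1 e) : Nat.card K ≠ 1)
    haveI := Fact.mk hq
    obtain ⟨⟨z, hzK⟩, hzo⟩ := exists_prime_orderOf_dvd_card' (G := K) q hqd
    rw [Subgroup.orderOf_mk] at hzo
    by_cases hfix : fixOf θ {z} = ⊥
    · left
      refine eq_top_iff.2 fun r _ => (hK r).2 fun a => ?_
      have key : ∀ b, μ b = 1 := by
        intro b
        set n := orderOf z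
        let f : A → A := fun a => ∏ i ∈ Finset.range n, θ (z ^ i) a
        have hb : f b = 1 := by
          have : f b ∈ fixOf θ {z} := by
            refine mem_fix_singleton.2 ?_
            show θ z (∏ i ∈ Finset.range n, θ (z ^ i) b) = _
            rw [map_prod]
            have hs : ∀ i, θ z (θ (z ^ i) b) = θ (z ^ (i + 1)) b := fun i => by
              rw [pow_succ', map_mul, MulAut.mul_apply]
            simp only [hs]
            have h1 := Finset.prod_range_succ' (fun i => θ (z ^ i) b) n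
            rw [Finset.prod_range_succ, pow_orderOf_eq_one z, pow_zero] at h1
            exact (mul_right_cancel h1).symm
          rwa [hfix, mem_bot] at this
        have h1 : μ b ^ n = 1 := by
          rw [← map_one μ, ← hb]
          simp only [f, map_prod, fun i => (hK _).1 (pow_mem hzK i) b, Finset.prod_const, Finset.card_range]
        have h2 : μ b ^ Nat.card A = 1 := by rw [← map_pow, pow_card_eq_one', map_one]
        have h3 := pow_gcd_eq_one.2 ⟨h1, h2⟩
        rwa [(hcop.coprime_dvd_left (orderOf_dvd_natCard z)).gcd_eq_one, pow_one] at h3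
      rw [key, key]
    · exact Or.inr ⟨z, hzK, hder z (hzo.symm ▸ hq) hfix, hzo.symm ▸ hq⟩
  obtain ⟨p₁, hp₁, hp₁d⟩ := Nat.exists_prime_and_dvd (Finite.one_lt_card (α := R)).ne'
  by_cases hder1 : commutator R = ⊥
  · refine ⟨p₁, hp₁, hp₁d, fun μ K hK1 hK => ?_⟩
    rcases hz μ K hK1 hK with rfl | ⟨z, -, hzd, hzp⟩
    · rwa [Subgroup.card_top]
    · rw [hder1, mem_bot] at hzd
      rw [hzd, orderOf_one] at hzp
      exact absurd hzp Nat.not_prime_one
  -- the commutator subgroup is nilpotent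
  have hrk : ∀ q : ℕ, q.Prime → Cfsg.PRankLE q 2 R := by
    intro q hq E hEc hEp
    haveI := Fact.mk hq
    by_contra h
    push Not at h
    refine hder1 ?_
    obtain ⟨j, hj⟩ := IsPGroup.iff_card.1 (show IsPGroup q E from fun a => ⟨1, Subtype.ext (by
      rw [pow_one]; exact hEp a a.2)⟩)
    rw [hj, Nat.pow_lt_pow_iff_right hq.one_lt] at h
    have hcomm := commute_of_rank_three θ hinj hcyc hcop hAodd E ⟨hEc, hEp⟩
      (hj ▸ Nat.pow_le_pow_right hq.pos h)
    rw [_root_.commutator_def, commutator_eq_bot_iff_le_centralizer]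
    exact fun x _ => mem_centralizer_iff.2 fun y _ => hcomm y x
  haveI : Group.IsSolvable R := Cfsg.Agent.PF.isSolvable_of_odd R hRodd
  haveI : Group.IsNilpotent (commutator R) :=
    (Cfsg.Agent.S1451.result hRodd (Or.inl hrk)).1
  set D := commutator R with hD
  have h03 := (Group.isNilpotent_of_finite_tfae (G := D)).out 0 3
  have hsyl : ∀ (p : ℕ) [hp : Fact p.Prime] (P : Sylow p D), (P : Subgroup D).Normal :=
    fun p hp P => h03.1 inferInstance p hp P
  by_cases hnc : ∃ (p : ℕ) (_ : p.Prime) (P : Sylow p D), ¬ IsCyclic P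
  · obtain ⟨p, hp, P, hP⟩ := hnc
    haveI := Fact.mk hp
    have hpD : p ∣ Nat.card D := by
      obtain ⟨j, hj⟩ := IsPGroup.iff_card.1 P.2
      rcases j.eq_zero_or_pos with rfl | hj0
      · haveI := (Nat.card_eq_one_iff_unique.1 (hj.trans (pow_zero p))).1; exact absurd isCyclic_of_subsingleton hP
      · exact ((dvd_pow_self p hj0.ne').trans hj.symm.dvd).trans (card_subgroup_dvd_card _)
    have hpR : p ∣ Nat.card R := hpD.trans (card_subgroup_dvd_card _)
    have hp2 : p ≠ 2 := fun e => hRodd.not_two_dvd_nat (e ▸ hpR)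
    refine ⟨p, hp, hpR, fun μ K hK1 hK => ?_⟩
    rcases hz μ K hK1 hK with rfl | ⟨z, hzK, hzD, hzp⟩
    · rwa [Subgroup.card_top]
    haveI : Nontrivial (P : Subgroup D) := not_subsingleton_iff_nontrivial.1 fun _ => hP isCyclic_of_subsingleton
    set q := orderOf z with hq
    have hz1 : z ≠ 1 := fun e => hzp.ne_one (by rw [hq, e, orderOf_one])
    set zD : D := ⟨z, hzD⟩
    have hzo : orderOf zD = q := Subgroup.orderOf_mk _ _
    have hPn : (P : Subgroup D).Normal := hsyl p P
    -- a pair in `P` centralising `z`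
    obtain ⟨x, y, hxy, hxz, hyz⟩ : ∃ x y : D, Pair p x y ∧ x * zD = zD * x ∧ y * zD = zD * y := by
      by_cases hqp : q = p
      · have hzP : zD ∈ (P : Subgroup D) := by
          obtain ⟨P', hP'⟩ := (IsPGroup.of_card (n := 1) (by rw [Nat.card_zpowers, hzo, hqp, pow_one]) :
            IsPGroup p (zpowers zD)).exists_le_sylow
          haveI := Sylow.unique_of_normal P hPn
          rw [Subsingleton.elim P P']
          exact hP' (mem_zpowers zD)
        obtain ⟨x, y, ⟨h1, h2, h3, h4, h5⟩, hxz, hyz⟩ := exists_pair P.2 hp2 hP (z := ⟨zD, hzP⟩)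
          (by rw [Subgroup.orderOf_mk, hzo, hqp])
        refine ⟨x, y, ⟨h1, by rw [Subgroup.orderOf_coe, h2], by rw [Subgroup.orderOf_coe, h3],
          congrArg Subtype.val h4, fun h => h5 ?_⟩, congrArg Subtype.val hxz, congrArg Subtype.val hyz⟩
        obtain ⟨k, hk⟩ := mem_zpowers_iff.1 h
        exact mem_zpowers_iff.2 ⟨k, Subtype.ext (by rw [← hk]; rfl)⟩
      · obtain ⟨w, hw⟩ := exists_prime_orderOf_dvd_card' (G := (P : Subgroup D)) p (by
          obtain ⟨j, hj⟩ := IsPGroup.iff_card.1 P.2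
          rw [hj]; exact dvd_pow_self p fun e => by
            rw [e, pow_zero] at hj; exact (Finite.one_lt_card (α := (P : Subgroup D))).ne' hj)
        obtain ⟨x, y, ⟨h1, h2, h3, h4, h5⟩, -, -⟩ := exists_pair P.2 hp2 hP hw
        have hcz : ∀ w ∈ (P : Subgroup D), w * zD = zD * w := by
          intro w hw'
          haveI := Fact.mk hzp
          obtain ⟨Q, hQ⟩ := (IsPGroup.of_card (n := 1) (by rw [Nat.card_zpowers, hzo, pow_one]) :
            IsPGroup q (zpowers zD)).exists_le_sylow
          exact Subgroup.commute_of_normal_of_disjoint (P : Subgroup D) (Q : Subgroup D) hPn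
            (hsyl q Q)
            (IsPGroup.disjoint_of_ne p q (Ne.symm hqp) _ _ P.2 Q.2) w zD hw'
            (hQ (mem_zpowers zD))
        refine ⟨x, y, ⟨h1, by rw [Subgroup.orderOf_coe, h2], by rw [Subgroup.orderOf_coe, h3],
          congrArg Subtype.val h4, fun h => h5 ?_⟩, hcz x x.2, hcz y y.2⟩
        obtain ⟨k, hk⟩ := mem_zpowers_iff.1 h
        exact mem_zpowers_iff.2 ⟨k, Subtype.ext (by rw [← hk]; rfl)⟩
    obtain ⟨h1, h2, h3, h4, h5⟩ := hxy
    refine dvd_card_of_pair θ himg hcop μ K hK hzK hz1 (x := (x : R)) (y := (y : R))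
      ⟨h1, by rw [Subgroup.orderOf_coe, h2], by rw [Subgroup.orderOf_coe, h3], congrArg Subtype.val h4,
        fun h => h5 ?_⟩ (congrArg Subtype.val hxz) (congrArg Subtype.val hyz)
    obtain ⟨k, hk⟩ := mem_zpowers_iff.1 h
    exact mem_zpowers_iff.2 ⟨k, Subtype.ext (by rw [← hk]; rfl)⟩
  -- all Sylow subgroups of the commutator subgroup are cyclic
  push Not at hnc
  haveI : IsZGroup D := ⟨fun p hp P => hnc p hp P⟩
  haveI : IsCyclic D := inferInstance
  obtain ⟨p, hp, hpD⟩ := Nat.exists_prime_and_dvd (fun e => hder1 (card_eq_one.1 e) : Nat.card D ≠ 1)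
  refine ⟨p, hp, hpD.trans (card_subgroup_dvd_card _), fun μ K hK1 hK => ?_⟩
  rcases hz μ K hK1 hK with rfl | ⟨z, hzK, hzD, hzp⟩
  · rw [Subgroup.card_top]; exact hpD.trans (card_subgroup_dvd_card _)
  haveI : (zpowers z).Normal := by
    refine ⟨fun a ha r => ?_⟩
    obtain ⟨k, rfl⟩ := mem_zpowers_iff.1 ha
    let σ : MulAut D := MulAut.conjNormal r
    obtain ⟨m, hm⟩ := MonoidHom.map_cyclic σ.toMonoidHom
    have h1 : r * z * r⁻¹ = z ^ m := congrArg Subtype.val (hm ⟨z, hzD⟩)
    rw [← conj_zpow, h1, ← zpow_mul]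
    exact zpow_mem_zpowers z _
  exact hpD.trans (card_dvd_of_le (commutator_le_stab θ hcyc hcop μ K hK hzK
    fun e => hzp.ne_one (by rw [e, orderOf_one])))

end Cfsg.Lib.BenderSE.Stabilisers
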