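/-
COMM, glue for the coprime case: if the primes of `R` centralise their parts of `A` and the wide
elements of prime order lie in the commutator subgroup of `R`, the involutions commute.
-/
import Cfsg.Agent.BenderSE.CommCoprimeCase
import Cfsg.Agent.BenderSE.CommStabilisers
import Cfsg.Agent.BenderSE.Reg.Semilinear

set_option autoImplicit false
set_option linter.unusedSectionVars false
set_option linter.style.haveILetI false

namespace Cfsg.Lib.BenderSE

open Subgroup MulAction Cfsg.Lib.InvolCalc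

universe u

variable {G : Type u} [Group G] [Finite G] {H : Subgroup G}
variable {A : Subgroup G} {v : G} {c a : G ⧸ H}

/-- the centraliser of a `z ≠ 1` in `A` acts as the multiplicative group of a field on the involutions
centralised by `z`, so a group centralising `z` acts on it by a cyclic group of Galois automorphisms -/
theorem RegAb.isCyclic_of_faithful (P : RegAb H A v c a) (hH : Cfsg.IsStronglyEmbedded H)
    (hcore : H.normalCore = ⊥) (hb : NoBad H) (hcs : CentreSquares H) {z : G} (hz1 : z ≠ 1)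
    (hzD : z ∈ stabilizer G c ⊓ stabilizer G a) (hzv : Commute z v) {Q : Subgroup G}
    (hQD : Q ≤ stabilizer G c ⊓ stabilizer G a) (hQv : ∀ u ∈ Q, Commute u v)
    (hQz : ∀ u ∈ Q, Commute u z)
    (hfaith : ∀ u ∈ Q, (∀ y ∈ A, Commute z y → Commute u y) → u = 1) : IsCyclic Q := by
  classical
  set C : Subgroup G := A ⊓ centralizer ({z} : Set G) with hC
  have hCmem : ∀ y : G, y ∈ C ↔ y ∈ A ∧ Commute z y := fun y => by
    rw [hC, mem_inf, mem_centralizer_singleton_iff]
    exact and_congr_right fun _ => ⟨fun h => h.symm, fun h => h.symm⟩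
  obtain ⟨hzc, hza⟩ : z • c = c ∧ z • a = a :=
    ⟨mem_stabilizer_iff.1 (mem_inf.1 hzD).1, mem_stabilizer_iff.1 (mem_inf.1 hzD).2⟩
  set S : Set G := {g | ∃ y ∈ C, g = y * v * y⁻¹} with hS
  have hSdata : ∀ g ∈ S, orderOf g = 2 ∧ g • c = c ∧ Commute z g := by
    rintro _ ⟨y, hy, rfl⟩
    obtain ⟨hyA, hyz⟩ := (hCmem y).1 hy
    exact ⟨(P.conj_mem hyA).1, (P.conj_mem hyA).2, (hyz.mul_right hzv).mul_right hyz.inv_right⟩
  have hScomm : ∀ p ∈ S, ∀ q ∈ S, p * q = q * p := fun p hp q hq =>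
    (commute_of_centralized hH hcore hb hcs P.ne hz1 hzc hza (hSdata p hp).1 (hSdata q hq).1
      (hSdata p hp).2.1 (hSdata q hq).2.1 (hSdata p hp).2.2 (hSdata q hq).2.2).eq
  set U := closure S with hU
  have hUprop : ∀ g ∈ U, g * g = 1 ∧ g • c = c ∧ Commute z g := by
    intro g hg
    induction hg using closure_induction with
    | mem g hg => exact ⟨sq_of_order_two (hSdata g hg).1, (hSdata g hg).2⟩
    | one => exact ⟨one_mul 1, one_smul G c, Commute.one_right z⟩
    | mul p q hp hq hp2 hq2 =>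
      letI : CommGroup U :=
        { (inferInstance : Group U) with
          mul_comm := (Subgroup.isMulCommutative_closure hScomm).is_comm.comm }
      have hpq : p * q = q * p := congrArg Subtype.val (mul_comm (⟨p, hp⟩ : U) ⟨q, hq⟩)
      refine ⟨?_, by rw [mul_smul, hq2.2.1, hp2.2.1], hp2.2.2.mul_right hq2.2.2⟩
      rw [show p * q * (p * q) = p * q * (q * p) by rw [← hpq], mul_assoc, ← mul_assoc q, hq2.1,
        one_mul, hp2.1]
    | inv p _ hp2 =>
      refine ⟨by rw [← mul_inv_rev, hp2.1, inv_one], ?_, hp2.2.2.inv_right⟩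
      rw [inv_smul_eq_iff]; exact hp2.2.1.symm
  have hUS : ∀ g ∈ U, g ≠ 1 → ∃ y ∈ C, g = y * v * y⁻¹ := by
    intro g hg hg1
    obtain ⟨hg2, hgc, hgz⟩ := hUprop g hg
    obtain ⟨y, hy, rfl⟩ := P.reg g (order_two_of_mul_self hg2 hg1) hgc
    refine ⟨y, (hCmem y).2 ⟨hy, ?_⟩, rfl⟩
    have hy' : z * y * z⁻¹ ∈ A := (mem_normalizer_iff.1 (P.norm hzD) y).1 hy
    have e := P.conj_inj hy' hy (by
      calc z * y * z⁻¹ * v * (z * y * z⁻¹)⁻¹ = z * y * (z⁻¹ * v * z) * y⁻¹ * z⁻¹ := by group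
        _ = z * (y * v * y⁻¹) * z⁻¹ := by rw [mul_assoc z⁻¹, ← hzv.eq, inv_mul_cancel_left]; group
        _ = y * v * y⁻¹ := by rw [hgz.eq, mul_inv_cancel_right])
    exact mul_inv_eq_iff_eq_mul.1 e
  have hvU : v ∈ U := subset_closure ⟨1, one_mem C, by group⟩
  have hUne : U ≠ ⊥ := fun e => by
    have h1 := hvU
    rw [e, mem_bot] at h1
    exact ne_one_of_order_two P.vord h1
  set D : Subgroup G := C ⊔ Q with hD
  have hCQ : ∀ u ∈ Q, ∀ y ∈ C, u * y * u⁻¹ ∈ C := by
    intro u hu y hy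
    obtain ⟨hyA, hyz⟩ := (hCmem y).1 hy
    refine (hCmem _).2 ⟨(mem_normalizer_iff.1 (P.norm (hQD hu)) y).1 hyA, ?_⟩
    exact ((hQz u hu).symm.mul_right hyz).mul_right (hQz u hu).symm.inv_right
  have hQn : Q ≤ normalizer (C : Set G) := fun u hu => mem_normalizer_of_maps_to (hCQ u hu)
  have hDD : D ≤ stabilizer G c ⊓ stabilizer G a := sup_le (inf_le_left.trans P.le) hQD
  have hDU : D ≤ normalizer (U : Set G) := by
    refine sup_le (fun y hy => ?_) fun u hu => ?_
    · refine mem_normalizer_closure fun g hg => ?_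
      obtain ⟨x, hx, rfl⟩ := hg
      exact subset_closure ⟨y * x, mul_mem hy hx, by group⟩
    · refine mem_normalizer_closure fun g hg => ?_
      obtain ⟨x, hx, rfl⟩ := hg
      refine subset_closure ⟨u * x * u⁻¹, hCQ u hu x hx, ?_⟩
      calc u * (x * v * x⁻¹) * u⁻¹ = u * x * u⁻¹ * (u * v * u⁻¹) * (u * x * u⁻¹)⁻¹ := by group
        _ = _ := by rw [(hQv u hu).eq, mul_inv_cancel_right]
  have htr : ∀ g ∈ U, ∀ w ∈ U, g ≠ 1 → w ≠ 1 → ∃ d ∈ D, d * g * d⁻¹ = w := by
    intro g hg w hw hg1 hw1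
    obtain ⟨x, hx, rfl⟩ := hUS g hg hg1
    obtain ⟨y, hy, rfl⟩ := hUS w hw hw1
    exact ⟨y * x⁻¹, mem_sup_left (mul_mem hy (inv_mem hx)), by group⟩
  have hDodd : Odd (Nat.card D) :=
    (odd_stabilizer_inf hH P.ne.symm).of_dvd_nat (card_dvd_of_le hDD)
  obtain ⟨F, _, _, e, σ, α, he, hadd, -, hact⟩ :=
    exists_semilinear hDodd hDU (fun g hg => (hUprop g hg).1) hUne htr
  obtain ⟨n, hn⟩ : ∃ n, Fintype.card F = 2 ^ n := by
    haveI : Fact (Nat.Prime 2) := ⟨Nat.prime_two⟩
    obtain ⟨n, hn⟩ := IsPGroup.iff_card.1 (show IsPGroup 2 U from fun g => ⟨1, Subtype.ext (by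
      show (g : G) ^ 2 ^ 1 = 1
      rw [pow_one, pow_two]
      exact (hUprop g g.2).1)⟩)
    exact ⟨n, by rw [← Nat.card_eq_fintype_card, ← Nat.card_congr (Equiv.ofBijective e he), hn]⟩
  haveI : IsCyclic (F ≃+* F) := by
    haveI : Fact (Nat.Prime 2) := ⟨Nat.prime_two⟩
    haveI : CharP F 2 := by
      obtain ⟨q, hq⟩ := CharP.exists F
      obtain ⟨m, hqp, hm⟩ := FiniteField.card F q
      have h2q : q = 2 := (Nat.prime_dvd_prime_iff_eq hqp Nat.prime_two).1
        (hqp.dvd_of_dvd_pow (hn ▸ hm ▸ dvd_pow_self q m.ne_zero))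
      exact h2q ▸ hq
    exact (Cfsg.Lib.Known.FieldLight.ringAut_facts 2 n hn).1
  haveI : Finite (F ≃+* F) := Finite.of_injective (fun e => (e : F → F)) DFunLike.coe_injective
  refine isCyclic_of_injective (σ.comp (inclusion (le_sup_right : Q ≤ D))) ?_
  rw [injective_iff_map_eq_one]
  intro u hu
  set d : D := inclusion (le_sup_right : Q ≤ D) u
  have hud : (d : G) = u := rfl
  have hσ : σ d = 1 := hu
  -- `u` fixes `v`, so it fixes every element of `U`
  have hev : e ⟨v, hvU⟩ ≠ 0 := fun h0 => by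
    have h1 := hadd 1 1
    rw [one_mul, left_eq_add] at h1
    exact ne_one_of_order_two P.vord (congrArg Subtype.val (he.1 (h0.trans h1.symm)) :)
  have hα1 : α d = 1 := by
    have h1 := hact d ⟨v, hvU⟩
    rw [show (⟨(d : G) * v * (d : G)⁻¹, (mem_normalizer_iff.1 (hDU d.2) v).1 hvU⟩ : U) = ⟨v, hvU⟩ from
      Subtype.ext (show (u : G) * v * (u : G)⁻¹ = v by rw [(hQv u u.2).eq, mul_inv_cancel_right]), hσ] at h1
    exact (mul_eq_right₀ hev).1 h1.symm
  have hfix : ∀ g : U, (u : G) * g * (u : G)⁻¹ = g := fun g => by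
    have h1 := hact d g
    rw [hσ, hα1, one_mul] at h1
    exact congrArg Subtype.val (he.1 h1)
  refine Subtype.ext (hfaith u u.2 fun y hy hyz => ?_)
  have h1 := hfix ⟨y * v * y⁻¹, subset_closure ⟨y, (hCmem y).2 ⟨hy, hyz⟩, rfl⟩⟩
  have hy' : (u : G) * y * (u : G)⁻¹ ∈ A := (mem_normalizer_iff.1 (P.norm (hQD u.2)) y).1 hy
  have e2 := P.conj_inj hy' hy (by
    calc (u : G) * y * (u : G)⁻¹ * v * ((u : G) * y * (u : G)⁻¹)⁻¹
        = (u : G) * y * ((u : G)⁻¹ * v * u) * y⁻¹ * (u : G)⁻¹ := by group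
      _ = (u : G) * (y * v * y⁻¹) * (u : G)⁻¹ := by
        rw [mul_assoc (u : G)⁻¹, ← (hQv u u.2).eq, inv_mul_cancel_left]; group
      _ = y * v * y⁻¹ := h1)
  exact mul_inv_eq_iff_eq_mul.1 e2

/-- COMM, the coprime case, from: the `l`-elements of `A` are centralised by `R` for the primes `l` of
`R`, and the wide elements of prime order of `R` lie in its commutator subgroup -/
theorem RegAb.commAt_of_central_primes (P : RegAb H A v c a) (hH : Cfsg.IsStronglyEmbedded H)
    (hcore : H.normalCore = ⊥) (hb : NoBad H) (hcs : CentreSquares H) (h2 : HasCommutingInvolutions G)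
    {R : Subgroup G} (hR : R = (twoGen c ⊔ A) ⊓ stabilizer G a ⊓ centralizer ({v} : Set G))
    (hcent : ∀ l : ℕ, l.Prime → l ∣ Nat.card R → ∀ y ∈ A, (∃ k, orderOf y = l ^ k) →
      ∀ r ∈ R, Commute r y)
    (hder : ∀ z : R, (orderOf z).Prime → (∃ y ∈ A, y ≠ 1 ∧ Commute (z : G) y) → z ∈ commutator R) :
    CommAt H := by
  classical
  set D := stabilizer G c ⊓ stabilizer G a
  have hRB : R ≤ D := by
    rw [hR]
    exact inf_le_left.trans (inf_le_inf P.twoGen_sup_le le_rfl)
  have hRv : ∀ r ∈ R, Commute r v := fun r hr => by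
    rw [hR] at hr
    exact mem_centralizer_singleton_iff.1 (mem_inf.1 hr).2
  have hRA : ∀ r ∈ R, ∀ y ∈ A, r * y * r⁻¹ ∈ A := fun r hr y hy =>
    (mem_normalizer_iff.1 (P.norm (hRB hr)) y).1 hy
  have hfix : ∀ r ∈ R, r • c = c ∧ r • a = a := fun r hr =>
    ⟨mem_stabilizer_iff.1 (mem_inf.1 (hRB hr)).1, mem_stabilizer_iff.1 (mem_inf.1 (hRB hr)).2⟩
  by_cases hcentral : ∃ r ∈ R, r ≠ 1 ∧ ∀ y ∈ A, Commute r y
  · -- C2: all involutions at `c` commute
    obtain ⟨r, hr, hr1, hrA⟩ := hcentral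
    have hall : ∀ i j : G, orderOf i = 2 → orderOf j = 2 → i • c = c → j • c = c → Commute i j := by
      intro i j hi hj hic hjc
      refine commute_of_centralized hH hcore hb hcs P.ne hr1 (hfix r hr).1 (hfix r hr).2 hi hj hic hjc
        ?_ ?_
      all_goals first
        | (obtain ⟨y, hy, rfl⟩ := P.reg i hi hic
           exact ((hrA y hy).mul_right (hRv r hr)).mul_right (hrA y hy).inv_right)
        | (obtain ⟨y, hy, rfl⟩ := P.reg j hj hjc
           exact ((hrA y hy).mul_right (hRv r hr)).mul_right (hrA y hy).inv_right)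
    intro d i j hi hj hid hjd
    obtain ⟨g, hg⟩ := MulAction.exists_smul_eq G d c
    have hgd : g⁻¹ • c = d := inv_smul_eq_iff.2 hg.symm
    refine (commute_conj_iff' g).1 (hall _ _ (by rw [orderOf_conj', hi]) (by rw [orderOf_conj', hj]) ?_ ?_)
    · rw [mul_smul, mul_smul, hgd, hid, hg]
    · rw [mul_smul, mul_smul, hgd, hjd, hg]
  push Not at hcentral
  -- the part of `A` of order prime to `|R|`
  let A' : Subgroup G :=
    { carrier := {y | y ∈ A ∧ (orderOf y).Coprime (Nat.card R)}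
      one_mem' := ⟨one_mem A, by rw [orderOf_one]; exact Nat.coprime_one_left _⟩
      mul_mem' := fun {x y} hx hy => ⟨mul_mem hx.1 hy.1, Nat.Coprime.coprime_dvd_left
        ((Commute.orderOf_mul_dvd_lcm (P.comm x hx.1 y hy.1)).trans (Nat.lcm_dvd_mul _ _))
        (Nat.Coprime.mul_left hx.2 hy.2)⟩
      inv_mem' := fun {x} hx => ⟨inv_mem hx.1, by rw [orderOf_inv]; exact hx.2⟩ }
  have hA' : A' ≤ A := fun y hy => hy.1
  have hnA : ∀ r ∈ R, ∀ y ∈ A', r * y * r⁻¹ ∈ A' := fun r hr y hy =>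
    ⟨hRA r hr y hy.1, by rw [orderOf_conj']; exact hy.2⟩
  have hcop : (Nat.card A').Coprime (Nat.card R) := by
    refine Nat.coprime_of_dvd fun q hq hqA hqR => ?_
    haveI := Fact.mk hq
    obtain ⟨⟨y, hy⟩, hyo⟩ := exists_prime_orderOf_dvd_card' (G := A') q hqA
    rw [Subgroup.orderOf_mk] at hyo
    exact hq.coprime_iff_not_dvd.1 (hyo ▸ hy.2) hqR
  have hsplit : ∀ y ∈ A, ∃ y₀ ∈ A, ∃ y' ∈ A', y = y₀ * y' ∧ ∀ r ∈ R, Commute r y₀ := by
    intro y hy
    set Z : Subgroup G := A ⊓ centralizer (R : Set G)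
    have hZ : Z ≤ normalizer (A' : Set G) := fun x hx => mem_normalizer_of_maps_to fun w hw => by
      rwa [(P.comm x (mem_inf.1 hx).1 w hw.1).eq, mul_inv_cancel_right]
    have hpp : ∀ (l k : ℕ), l.Prime → ∀ x ∈ zpowers y, orderOf x = l ^ k → x ∈ A' ⊔ Z := by
      intro l k hl x hx hxo
      have hxA : x ∈ A := zpowers_le.2 hy hx
      by_cases hlR : l ∣ Nat.card R
      · exact mem_sup_right (mem_inf.2 ⟨hxA, mem_centralizer_iff.2 fun r hr =>
          (hcent l hl hlR x hxA ⟨k, hxo⟩ r hr).eq⟩)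
      · exact mem_sup_left ⟨hxA, by rw [hxo]; exact (hl.coprime_iff_not_dvd.2 hlR).pow_left k⟩
    have hyK : y ∈ A' ⊔ Z := by
      have hd : orderOf y ∣ Nat.card ↥(zpowers y ⊓ (A' ⊔ Z) : Subgroup G) := by
        refine (Nat.dvd_iff_prime_pow_dvd_dvd _ _).2 fun p k hp hd => ?_
        have ho : orderOf (y ^ (orderOf y / p ^ k)) = p ^ k :=
          orderOf_pow_orderOf_div (orderOf_pos y).ne' hd
        rw [← ho]
        exact Subgroup.orderOf_dvd_natCard _ (Subgroup.mem_inf.2 ⟨pow_mem (mem_zpowers y) _,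
          hpp p k hp _ (pow_mem (mem_zpowers y) _) ho⟩)
      have e : zpowers y ⊓ (A' ⊔ Z) = zpowers y := Subgroup.eq_of_le_of_card_ge inf_le_left
        (by rw [Nat.card_zpowers]; exact Nat.le_of_dvd Nat.card_pos hd)
      exact (Subgroup.mem_inf.1 (e.ge (mem_zpowers y))).2
    obtain ⟨y', hy', y₀, hy₀, rfl⟩ := (Cfsg.Lib.Coprime.mem_sup_of_le_normalizer hZ).1 hyK
    exact ⟨y₀, (mem_inf.1 hy₀).1, y', hy', (P.comm y' hy'.1 y₀ (mem_inf.1 hy₀).1).eq,
      fun r hr => mem_centralizer_iff.1 (mem_inf.1 hy₀).2 r hr⟩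
  have hRodd : Odd (Nat.card R) :=
    (odd_stabilizer_inf hH P.ne.symm).of_dvd_nat (card_dvd_of_le hRB)
  have hAodd : Odd (Nat.card A') :=
    (odd_stabilizer_inf hH P.ne.symm).of_dvd_nat (card_dvd_of_le (hA'.trans P.le))
  by_cases hR1 : R = ⊥
  · refine P.commAt_of_coprime hH hcore hb hcs h2 hR hA' hnA hcop hsplit Nat.prime_two
      (Nat.coprime_two_right.2 hAodd) fun mu K hK _ => absurd ?_ hK
    haveI : Subsingleton R := by rw [hR1]; infer_instance
    exact Subsingleton.elim _ _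
  haveI : Nontrivial R := (nontrivial_iff_ne_bot R).2 hR1
  letI : CommGroup A' :=
    { (inferInstance : Group A') with
      mul_comm := fun p q => Subtype.ext (P.comm p p.2.1 q q.2.1).eq }
  let θ : R →* MulAut A' := (normalizerMonoidHom A').comp
    (inclusion fun r hr => mem_normalizer_of_maps_to (hnA r hr))
  have hθ : ∀ (r : R) (y : A'), ((θ r y : A') : G) = (r : G) * y * (r : G)⁻¹ := fun r y => rfl
  have hθfix : ∀ (r : R) (y : A'), θ r y = y → Commute (r : G) y := fun r y e => by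
    have h1 := congrArg Subtype.val e
    rw [hθ] at h1
    exact mul_inv_eq_iff_eq_mul.1 h1
  have hfixθ : ∀ (r : R) (y : A'), Commute (r : G) y → θ r y = y := fun r y e =>
    Subtype.ext (by rw [hθ, e.eq, mul_inv_cancel_right])
  have hext : ∀ r : R, (∀ y : A', θ r y = y) → ∀ y ∈ A, Commute (r : G) y := fun r h y hy => by
    obtain ⟨y₀, -, y', hy', rfl, hc⟩ := hsplit y hy
    exact (hc r r.2).mul_right (hθfix r ⟨y', hy'⟩ (h _))
  have hinj : Function.Injective θ := by
    rw [injective_iff_map_eq_one]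
    intro r hr
    by_contra hne
    obtain ⟨y, hy, hny⟩ := hcentral r r.2 (fun e => hne (Subtype.ext e))
    exact hny (hext r (fun y => by rw [hr]; rfl) y hy)
  have hzD : ∀ z : R, (z : G) ∈ D := fun z => hRB z.2
  have hcyc : ∀ z : R, z ≠ 1 → IsCyclic (Stabilisers.fixOf θ {z}) := by
    intro z hz
    have hz1 : (z : G) ≠ 1 := fun e => hz (Subtype.ext e)
    have hclq : IsCyclic (A ⊓ centralizer ({(z : G)} : Set G) : Subgroup G) := by
      refine P.isCyclic_of_clique hH inf_le_left fun x hx => ?_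
      have hxz : Commute (z : G) x := (mem_centralizer_singleton_iff.1 (mem_inf.1 hx).2 : Commute x (z : G)).symm
      exact commute_of_centralized hH hcore hb hcs P.ne hz1 (hfix z z.2).1 (hfix z z.2).2 P.vord
        (P.conj_mem (mem_inf.1 hx).1).1 P.vfix (P.conj_mem (mem_inf.1 hx).1).2 (hRv z z.2)
        ((hxz.mul_right (hRv z z.2)).mul_right hxz.inv_right)
    let f : Stabilisers.fixOf θ {z} →* (A ⊓ centralizer ({(z : G)} : Set G) : Subgroup G) :=
      { toFun := fun y => ⟨((y : A') : G), mem_inf.2 ⟨hA' (y : A').2, mem_centralizer_singleton_iff.2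
          (hθfix z (y : A') (Stabilisers.mem_fix_singleton.1 y.2)).symm.eq⟩⟩
        map_one' := rfl
        map_mul' := fun _ _ => rfl }
    exact isCyclic_of_injective f fun x y e => Subtype.ext (Subtype.ext (congrArg Subtype.val e :))
  have himg : ∀ z : R, z ≠ 1 → ∀ Q : Subgroup R, Q ≤ centralizer {z} →
      (∀ u ∈ Q, (∀ y, θ z y = y → θ u y = y) → u = 1) → IsCyclic Q := by
    intro z hz Q hQ hfaith
    have h1 := P.isCyclic_of_faithful hH hcore hb hcs (fun e => hz (Subtype.ext e)) (hzD z) (hRv z z.2)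
      (Q := Q.map R.subtype) (fun u hu => hRB (map_subtype_le Q hu))
      (fun u hu => hRv u (map_subtype_le Q hu))
      (by rintro _ ⟨u, hu, rfl⟩; exact (congrArg Subtype.val (mem_centralizer_singleton_iff.1 (hQ hu)) :))
      (by
        rintro _ ⟨u, hu, rfl⟩ h
        have := hfaith u hu fun y hy => hfixθ u y (h y (hA' y.2) (hθfix z y hy))
        rw [this]; rfl)
    haveI := h1
    exact isCyclic_of_injective (Q.equivMapOfInjective R.subtype R.subtype_injective).toMonoidHom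
      (MulEquiv.injective _)
  obtain ⟨p, hp, hpR, hp'⟩ := Stabilisers.exists_prime_dvd_stab θ hinj hcyc himg hcop.symm hRodd hAodd
    fun z hz hne => hder z hz (by
      obtain ⟨y, hy, hy1⟩ : ∃ y, θ z y = y ∧ y ≠ 1 := by
        by_contra h
        push Not at h
        exact hne ((eq_bot_iff_forall _).2 fun y hy => h y (Stabilisers.mem_fix_singleton.1 hy))
      exact ⟨y, hA' y.2, fun e => hy1 (Subtype.ext e), hθfix z y hy⟩)
  refine P.commAt_of_coprime hH hcore hb hcs h2 hR hA' hnA hcop hsplit hp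
    (hcop.coprime_dvd_right hpR) fun mu K hK hKmu => hp' mu K hK fun r => ?_
  rw [hKmu r]
  exact ⟨fun h y => h y (θ r y) (hθ r y), fun h y w e => by
    rw [← h y]; exact congrArg mu (Subtype.ext (e.trans (hθ r y).symm))⟩

end Cfsg.Lib.BenderSE
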