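/-
COMM, a common prime with noncyclic part (notes/bender_comm.md section 1): `R = X ∩ G_ca ∩ C(v)`,
`X` generated by `A` and the 2-elements at `c`. Every element of prime order of `R` with a fixed point
in `A` lies in `R'`; if a prime `l` divides `|R|` and `A` has more than `l` roots of unity, then `R'`
has order at most `l`, the rest of `R` is fixed point free and the involutions commute.
-/
import Cfsg.Agent.BenderSE.CommWideTransfer
import Cfsg.Agent.BenderSE.IsometryPeriodic
import Cfsg.Agent.OddChar.PF.OddOrder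
import Cfsg.Agent.S1451

set_option autoImplicit false
set_option linter.unusedSectionVars false
set_option linter.style.haveILetI false
set_option linter.unnecessarySeqFocus false

namespace Cfsg.Lib.BenderSE

open Subgroup MulAction Cfsg.Lib.InvolCalc
open scoped commutatorElement

universe u

variable {G : Type u} [Group G] [Finite G] {H : Subgroup G}

/-- a `p`-group normalising a group of order divisible by `p` fixes a nontrivial element of it -/
theorem exists_fixed_of_pgroup {l : ℕ} [Fact l.Prime] {W E : Subgroup G} (hW : IsPGroup l W)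
    (hn : W ≤ normalizer (E : Set G)) (hl : l ∣ Nat.card E) :
    ∃ e ∈ E, e ≠ 1 ∧ ∀ w ∈ W, Commute w e := by
  have hmem : ∀ w : W, ∀ e : E, (w : G) * e * (w : G)⁻¹ ∈ E :=
    fun w e => (mem_normalizer_iff.1 (hn w.2) (e : G)).1 e.2
  letI : MulAction W E :=
    { smul := fun w e => ⟨(w : G) * e * (w : G)⁻¹, hmem w e⟩
      one_smul := fun e => Subtype.ext (show ((1 : W) : G) * e * ((1 : W) : G)⁻¹ = e by simp)
      mul_smul := fun w z e => Subtype.ext (show ((w * z : W) : G) * e * ((w * z : W) : G)⁻¹ =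
        (w : G) * ((z : G) * e * (z : G)⁻¹) * (w : G)⁻¹ by rw [Subgroup.coe_mul]; group) }
  have h1 : (1 : E) ∈ fixedPoints W E := fun w => Subtype.ext
    (show (w : G) * ((1 : E) : G) * (w : G)⁻¹ = ((1 : E) : G) by simp)
  obtain ⟨e, he, hne⟩ := hW.exists_fixed_point_of_prime_dvd_card_of_fixed_point E hl h1
  refine ⟨e, e.2, fun h => hne (Subtype.ext h.symm), fun w hw => ?_⟩
  exact mul_inv_eq_iff_eq_mul.1 (congrArg Subtype.val (he ⟨w, hw⟩) : w * e * w⁻¹ = e)

/-- if every element `≠ 1` of an abelian group of exponent `q` fixes at most `l` elements of an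
elementary abelian `l`-group with more than `l` elements, the group has at most `q ^ 2` elements -/
theorem card_le_sq_of_lines {l q : ℕ} [Fact l.Prime] [Fact q.Prime] (hql : q ≠ l) {W E : Subgroup G}
    (hn : W ≤ normalizer (E : Set G)) (hWc : ∀ x ∈ W, ∀ y ∈ W, Commute x y) (hWq : ∀ x ∈ W, x ^ q = 1)
    (hEc : ∀ x ∈ E, ∀ y ∈ E, Commute x y) (hEl : ∀ x ∈ E, x ^ l = 1) (hE : l < Nat.card E)
    (hline : ∀ w ∈ W, w ≠ 1 → ∀ x ∈ E, ∀ y ∈ E, x ≠ 1 → Commute w x → Commute w y → y ∈ zpowers x) :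
    Nat.card W ≤ q ^ 2 := by
  classical
  by_contra hlt
  push Not at hlt
  have hl : l.Prime := Fact.out
  have hq : q.Prime := Fact.out
  letI : CommGroup E :=
    { (inferInstance : Group E) with mul_comm := fun p r => Subtype.ext (hEc p p.2 r r.2).eq }
  let act : W →* MulAut E :=
    { toFun := fun w => E.normalizerMonoidHom ⟨(w : G), hn w.2⟩
      map_one' := by
        rw [show (⟨((1 : W) : G), hn (1 : W).2⟩ : normalizer (E : Set G)) = 1 from rfl, map_one]
      map_mul' := fun y z => by rw [← map_mul]; rfl }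
  have hact : ∀ (w : W) (x : E), (act w x : G) = (w : G) * x * (w : G)⁻¹ := fun w x => rfl
  have hfix : ∀ (w : W) (x : E), act w x = x → Commute (w : G) x := fun w x h =>
    mul_inv_eq_iff_eq_mul.1 ((hact w x).symm.trans (congrArg Subtype.val h))
  have hpowE : ∀ x : E, x ^ q = 1 → x = 1 := fun x h => by
    rw [← orderOf_eq_one_iff]
    refine Nat.eq_one_of_dvd_coprimes ((Nat.coprime_primes hq hl).2 hql) (orderOf_dvd_of_pow_eq_one h) ?_
    exact orderOf_dvd_of_pow_eq_one (Subtype.ext (by simpa using hEl x x.2))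
  -- two independent elements fix a common element only if `E` is a line
  have hspan : ∀ (K : Subgroup W) {u w : W}, u ∈ K → w ∈ K → u ≠ 1 → w ∉ zpowers u → ∀ S : Subgroup E,
      (∀ z : W, z ∈ K → z ≠ 1 → ∀ x : E, Commute (z : G) (x : G) → x ∈ S) → S = ⊤ := by
    intro K u w huK hwK hu hw S hS
    refine eq_top_iff.2 fun x _ => ?_
    have h1 := Cfsg.Lib.Coprime.pow_mem_of_fixed hq (x := act w) (y := act u)
      (by rw [← map_pow, show w ^ q = 1 from Subtype.ext (by simpa using hWq w w.2), map_one])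
      (by rw [← map_pow, show u ^ q = 1 from Subtype.ext (by simpa using hWq u u.2), map_one])
      (Commute.map (Subtype.ext (hWc w w.2 u u.2).eq : w * u = u * w) act) (S := S)
      (fun z hz => hS u huK hu z (hfix u z hz))
      (fun j _ z hz => hS _ (mul_mem hwK (pow_mem huK j)) (fun e => hw (by
          rw [eq_inv_of_mul_eq_one_left e]
          exact inv_mem (pow_mem (mem_zpowers u) j)))
        z (hfix (w * u ^ j) z (by rw [map_mul, map_pow]; exact hz))) x
    obtain ⟨m, hm⟩ := exists_pow_eq_self_of_coprime (x := x) (n := q) (by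
      refine Nat.Coprime.of_dvd_right (orderOf_dvd_of_pow_eq_one ?_) ((Nat.coprime_primes hq hl).2 hql)
      exact Subtype.ext (by simpa using hEl x x.2))
    rw [← hm]
    exact pow_mem h1 m
  have hpair : ∀ {K : Subgroup W}, q < Nat.card K → ∃ u ∈ K, ∃ w ∈ K, u ≠ 1 ∧ w ∉ zpowers u := by
    intro K hK
    obtain ⟨u, hu, hu1⟩ : ∃ u ∈ K, u ≠ 1 := by
      by_contra h
      push Not at h
      rw [(eq_bot_iff_forall K).2 h, card_bot] at hK
      exact absurd hK (not_lt.2 hq.one_le)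
    by_contra h
    push Not at h
    have h2 : Nat.card K ≤ Nat.card (zpowers u) :=
      Nat.le_of_dvd Nat.card_pos (card_dvd_of_le fun w hw => h u hu w hw hu1)
    rw [Nat.card_zpowers] at h2
    have h3 : orderOf u ≤ q := orderOf_le_of_pow_eq_one hq.pos (Subtype.ext (by simpa using hWq u u.2))
    omega
  -- a fixed line of some element
  obtain ⟨u, -, w, -, hu, hw⟩ := hpair (K := (⊤ : Subgroup W)) (by
    rw [card_top]; exact lt_of_le_of_lt (Nat.le_self_pow two_ne_zero q) hlt)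
  obtain ⟨z, hz, hz1, e, he1, hze⟩ : ∃ z ∈ W, z ≠ 1 ∧ ∃ e : E, e ≠ 1 ∧ Commute z (e : G) := by
    by_contra h
    push Not at h
    have h1 := hspan ⊤ (mem_top u) (mem_top w) hu hw ⊥ fun z _ hz1 x hx => mem_bot.2 (by
      by_contra hx1; exact h z z.2 (fun e => hz1 (Subtype.ext e)) x hx1 hx)
    rw [← card_top (G := E), ← h1, card_bot] at hE
    exact absurd hE (not_lt.2 hl.one_le)
  have he1' : (e : G) ≠ 1 := fun h => he1 (Subtype.ext h)
  -- `W` acts on the line
  set Z := zpowers (e : G) with hZ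
  have hZn : W ≤ normalizer (Z : Set G) := by
    intro w' hw'
    have h1 : w' * (e : G) * w'⁻¹ ∈ E := (mem_normalizer_iff.1 (hn hw') _).1 e.2
    have h2 : w' * (e : G) * w'⁻¹ ∈ Z := hline z hz hz1 e e.2 _ h1 he1' hze
      (((hWc z hz w' hw').mul_right hze).mul_right (hWc z hz w' hw').inv_right)
    refine mem_normalizer_of_maps_to ?_
    rintro _ ⟨k, rfl⟩
    rw [← conj_zpow]
    exact zpow_mem h2 k
  let act' : W →* MulAut Z :=
    { toFun := fun y => Z.normalizerMonoidHom ⟨(y : G), hZn y.2⟩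
      map_one' := by
        rw [show (⟨((1 : W) : G), hZn (1 : W).2⟩ : normalizer (Z : Set G)) = 1 from rfl, map_one]
      map_mul' := fun y z => by rw [← map_mul]; rfl }
  haveI hAut : IsCyclic (MulAut Z) := by
    have hZl : Nat.card Z = l := by
      rw [hZ, Nat.card_zpowers]
      exact orderOf_eq_prime (hEl e e.2) he1'
    haveI : Fact (Nat.card Z).Prime := ⟨hZl ▸ hl⟩
    exact isCyclic_of_surjective (IsCyclic.mulAutMulEquiv Z).symm.toMonoidHom
      (IsCyclic.mulAutMulEquiv Z).symm.surjective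
  have hker : q < Nat.card act'.ker := by
    have hrange : Nat.card act'.range ≤ q := by
      haveI := Subgroup.isCyclic act'.range
      rw [← IsCyclic.exponent_eq_card]
      refine Nat.le_of_dvd hq.pos (Monoid.exponent_dvd_of_forall_pow_eq_one fun g => ?_)
      obtain ⟨g, x, rfl⟩ := g
      refine Subtype.ext ?_
      show act' x ^ q = 1
      rw [← map_pow, show x ^ q = 1 from Subtype.ext (by simpa using hWq x x.2), map_one]
    have hmul : Nat.card W = Nat.card act'.range * Nat.card act'.ker := by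
      rw [← index_ker, index_mul_card]
    by_contra h
    push Not at h
    have := Nat.mul_le_mul hrange h
    rw [← hmul, ← sq] at this
    omega
  obtain ⟨u', hu'K, w', hw'K, hu', hw'⟩ := hpair hker
  -- the kernel fixes the line
  have hkfix : ∀ k ∈ act'.ker, Commute (k : G) e := fun k hk => by
    have h1 := DFunLike.congr_fun (MonoidHom.mem_ker.1 hk) ⟨(e : G), mem_zpowers _⟩
    exact mul_inv_eq_iff_eq_mul.1 (congrArg Subtype.val h1 : (k : G) * e * (k : G)⁻¹ = e)
  have h2 := hspan act'.ker hu'K hw'K hu' hw' (Z.subgroupOf E) fun k hk hk1 x hx => mem_subgroupOf.2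
    (hline k k.2 (fun h => hk1 (Subtype.ext h)) e e.2 x x.2 he1' (hkfix k hk) hx)
  have h3 : Nat.card E ≤ Nat.card Z := Nat.le_of_dvd Nat.card_pos (card_dvd_of_le fun x hx => by
    have h4 : (⟨x, hx⟩ : E) ∈ Z.subgroupOf E := h2 ▸ mem_top _
    exact mem_subgroupOf.1 h4)
  rw [hZ, Nat.card_zpowers, orderOf_eq_prime (hEl e e.2) he1'] at h3
  omega

variable {A : Subgroup G} {v : G} {c a : G ⧸ H}

/-- the part of the stabiliser of `v` generated by `A` and 2-elements -/
def pairPart (A : Subgroup G) (v : G) (c a : G ⧸ H) : Subgroup G :=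
  (twoGen c ⊔ A) ⊓ stabilizer G a ⊓ centralizer ({v} : Set G)

theorem mem_pairPart {g : G} :
    g ∈ pairPart A v c a ↔ g ∈ twoGen c ⊔ A ∧ g • a = a ∧ Commute g v := by
  simp only [pairPart, mem_inf, mem_stabilizer_iff, mem_centralizer_singleton_iff, and_assoc]
  rfl

theorem RegAb.pairPart_le (P : RegAb H A v c a) :
    pairPart A v c a ≤ stabilizer G c ⊓ stabilizer G a := fun _ hg =>
  mem_inf.2 ⟨P.twoGen_sup_le (mem_pairPart.1 hg).1, mem_stabilizer_iff.2 (mem_pairPart.1 hg).2.1⟩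

theorem RegAb.odd_pairPart (P : RegAb H A v c a) (hH : Cfsg.IsStronglyEmbedded H) :
    Odd (Nat.card (pairPart A v c a)) :=
  (odd_stabilizer_inf hH P.ne.symm).of_dvd_nat (card_dvd_of_le P.pairPart_le)

theorem RegAb.conj_mem_of_pairPart (P : RegAb H A v c a) {r x : G} (hr : r ∈ pairPart A v c a)
    (hx : x ∈ A) : r * x * r⁻¹ ∈ A :=
  (mem_normalizer_iff.1 (P.norm (P.pairPart_le hr)) x).1 hx

theorem RegAb.eq_one_of_commute (P : RegAb H A v c a) {x : G} (hx : x ∈ A) (hxv : Commute x v) :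
    x = 1 := by
  by_contra h
  exact P.free x hx h v P.vord P.vfix hxv

/-- an element of prime power order of `R` fixing a nontrivial element of `A` lies in `R'` -/
theorem RegAb.mem_commutator_of_wide_pow (P : RegAb H A v c a) (hH : Cfsg.IsStronglyEmbedded H)
    (hcore : H.normalCore = ⊥) (hb : NoBad H) (hcs : CentreSquares H)
    (reg : RegBelow.{u} (Nat.card G)) {q : ℕ} [Fact q.Prime] {g : pairPart A v c a}
    {e : ℕ} (hgq : orderOf g = q ^ e) {y : G} (hy : y ∈ A) (hy1 : y ≠ 1) (hgy : Commute (g : G) y) :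
    g ∈ _root_.commutator (pairPart A v c a) := by
  classical
  set X := twoGen c ⊔ A with hX
  set D' : Subgroup X := (stabilizer G a).comap X.subtype with hD'
  have hr : ∀ d : D', ∃ r : pairPart A v c a, ((d : X) : G) * (r : G)⁻¹ ∈ A := by
    intro d
    have hdc : ((d : X) : G) • c = c := mem_stabilizer_iff.1 (P.twoGen_sup_le (d : X).2)
    have hda : ((d : X) : G) • a = a := mem_stabilizer_iff.1 (mem_comap.1 d.2)
    obtain ⟨y, hy, hyv⟩ := P.exists_mul hdc
    refine ⟨⟨y⁻¹ * ((d : X) : G), mem_pairPart.2 ⟨mul_mem (inv_mem (mem_sup_right hy)) (d : X).2, ?_, hyv⟩⟩, ?_⟩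
    · rw [mul_smul, hda, inv_smul_eq_iff, (P.fix hy).2]
    · simpa [mul_assoc] using hy
  choose f hf using hr
  have huniq : ∀ (d : D') (r : pairPart A v c a), ((d : X) : G) * (r : G)⁻¹ ∈ A → f d = r := by
    intro d r h
    refine Subtype.ext (mul_inv_eq_one.1 (P.eq_one_of_commute ?_ ?_))
    · simpa [mul_assoc] using mul_mem (inv_mem (hf d)) h
    · exact (mem_pairPart.1 (f d).2).2.2.mul_left (mem_pairPart.1 r.2).2.2.inv_left
  let π : D' →* pairPart A v c a :=
    MonoidHom.mk' f fun d e => huniq _ _ (by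
      have h1 : ((d : X) : G) * (((e : X) : G) * (f e : G)⁻¹) * ((d : X) : G)⁻¹ ∈ A :=
        (mem_normalizer_iff.1 (P.norm (mem_inf.2 ⟨P.twoGen_sup_le (d : X).2, mem_comap.1 d.2⟩)) _).1 (hf e)
      have h2 := mul_mem h1 (hf d)
      simpa [mul_assoc] using h2)
  have hgX : (g : G) ∈ X := (mem_pairPart.1 g.2).1
  have hgD : (⟨g, hgX⟩ : X) ∈ D' := mem_comap.2 (mem_stabilizer_iff.2 (mem_pairPart.1 g.2).2.1)
  set g' : D' := ⟨⟨g, hgX⟩, hgD⟩ with hg'
  have hπg : π g' = g := huniq _ _ (by simp [hg'])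
  have hg'q : orderOf g' = q ^ e := by
    rw [hg', Subgroup.orderOf_mk, Subgroup.orderOf_mk, Subgroup.orderOf_coe, hgq]
  have hodd : Odd (Nat.card (Abelianization (pairPart A v c a))) :=
    (P.odd_pairPart hH).of_dvd_nat (Subgroup.card_quotient_dvd_card _)
  have key := P.map_eq_one_of_wide_pow hH hcore hb hcs reg hX D' hD'
    (C := Abelianization (pairPart A v c a)) hodd (Abelianization.of.comp π) (fun d hd => by
      rw [MonoidHom.comp_apply, show π d = 1 from huniq d 1 (by simpa using hd), map_one])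
    g' (mem_pairPart.1 g.2).2.2 hg'q hy hy1 hgy
  rw [MonoidHom.comp_apply, hπg] at key
  rw [← Abelianization.ker_of]
  exact MonoidHom.mem_ker.2 key

/-- an element of prime order of `R` fixing a nontrivial element of `A` lies in `R'` -/
theorem RegAb.mem_commutator_of_wide (P : RegAb H A v c a) (hH : Cfsg.IsStronglyEmbedded H)
    (hcore : H.normalCore = ⊥) (hb : NoBad H) (hcs : CentreSquares H)
    (reg : RegBelow.{u} (Nat.card G)) {q : ℕ} [Fact q.Prime] {g : pairPart A v c a}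
    (hgq : orderOf g = q) {y : G} (hy : y ∈ A) (hy1 : y ≠ 1) (hgy : Commute (g : G) y) :
    g ∈ _root_.commutator (pairPart A v c a) :=
  P.mem_commutator_of_wide_pow hH hcore hb hcs reg (e := 1) (hgq.trans (pow_one q).symm) hy hy1 hgy

/-- the elements of `A` of order dividing `l` -/
def roots (P : RegAb H A v c a) (l : ℕ) : Subgroup G where
  carrier := {x | x ∈ A ∧ x ^ l = 1}
  one_mem' := ⟨one_mem A, one_pow l⟩
  mul_mem' := fun {x y} hx hy => ⟨mul_mem hx.1 hy.1, by
    rw [(P.comm x hx.1 y hy.1).mul_pow, hx.2, hy.2, one_mul]⟩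
  inv_mem' := fun {x} hx => ⟨inv_mem hx.1, by rw [inv_pow, hx.2, inv_one]⟩

/-- a common prime with more than `l` roots of unity in `A` makes the involutions commute -/
theorem RegAb.commAt_of_noncyclic (P : RegAb H A v c a) (hH : Cfsg.IsStronglyEmbedded H)
    (hcore : H.normalCore = ⊥) (hb : NoBad H) (hcs : CentreSquares H)
    (reg : RegBelow.{u} (Nat.card G)) {l : ℕ} [Fact l.Prime]
    (hlR : l ∣ Nat.card (pairPart A v c a)) (hE : l < Nat.card (roots P l)) : CommAt H := by
  classical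
  have hl : l.Prime := Fact.out
  set R := pairPart A v c a with hR
  set E := roots P l with hEdef
  have hEA : E ≤ A := fun x hx => hx.1
  have hEl : ∀ x ∈ E, x ^ l = 1 := fun x hx => hx.2
  have hEc : ∀ x ∈ E, ∀ y ∈ E, Commute x y := fun x hx y hy => P.comm x hx.1 y hy.1
  have hRv : ∀ r ∈ R, Commute r v := fun r hr => (mem_pairPart.1 hr).2.2
  have hconjA : ∀ r ∈ R, ∀ x ∈ A, r * x * r⁻¹ ∈ A := fun r hr x hx => P.conj_mem_of_pairPart hr hx
  have hconjE : ∀ r ∈ R, ∀ x ∈ E, r * x * r⁻¹ ∈ E := fun r hr x hx =>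
    ⟨hconjA r hr x hx.1, by rw [conj_pow, hx.2, mul_one, mul_inv_cancel]⟩
  have hRE : R ≤ normalizer (E : Set G) := fun r hr => mem_normalizer_of_maps_to fun x hx => hconjE r hr x hx
  have hRodd : Odd (Nat.card R) := P.odd_pairPart hH
  have hEp : IsPGroup l E := fun x => ⟨1, Subtype.ext (by simpa using hEl x x.2)⟩
  have hlE : l ∣ Nat.card E := hEp.card_eq_or_dvd.resolve_left (by have := hl.two_le; omega)
  -- commuting with `v`
  have hgamma : ∀ r ∈ R, r ≠ 1 → ∀ x ∈ A, Commute r x → Commute v (x * v * x⁻¹) := by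
    intro r hr hr1 x hx hrx
    exact commute_of_centralized hH hcore hb hcs P.ne hr1
      (mem_stabilizer_iff.1 (mem_inf.1 (P.pairPart_le hr)).1)
      (mem_stabilizer_iff.1 (mem_inf.1 (P.pairPart_le hr)).2) P.vord (P.conj_mem hx).1 P.vfix
      (P.conj_mem hx).2 (hRv r hr) ((hrx.mul_right (hRv r hr)).mul_right hrx.inv_right)
  -- every element `≠ 1` of `R` fixes at most a line of `E`
  have hline : ∀ r ∈ R, r ≠ 1 → ∀ x ∈ E, ∀ y ∈ E, x ≠ 1 → Commute r x → Commute r y →
      y ∈ zpowers x := by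
    intro r hr hr1 x hx y hy hx1 hrx hry
    set Z := E ⊓ centralizer ({r} : Set G) with hZ
    have hmemZ : ∀ z ∈ E, Commute r z → z ∈ Z := fun z hz h =>
      mem_inf.2 ⟨hz, mem_centralizer_singleton_iff.2 h.symm.eq⟩
    haveI : IsCyclic Z := P.isCyclic_of_clique hH (inf_le_left.trans hEA) fun z hz =>
      hgamma r hr hr1 z (hEA (mem_inf.1 hz).1)
        (show Commute z r from mem_centralizer_singleton_iff.1 (mem_inf.1 hz).2).symm
    have h1 : Nat.card Z ≤ l := by
      rw [← IsCyclic.exponent_eq_card]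
      exact Nat.le_of_dvd hl.pos (Monoid.exponent_dvd_of_forall_pow_eq_one fun z =>
        Subtype.ext (by simpa using hEl z (mem_inf.1 z.2).1))
    have h2 : zpowers x = Z := Subgroup.eq_of_le_of_card_ge (zpowers_le.2 (hmemZ x hx hrx)) (by
      rw [Nat.card_zpowers, orderOf_eq_prime (hEl x hx) hx1]; exact h1)
    rw [h2]; exact hmemZ y hy hry
  -- an element of order `l`: a fixed line and its preimage
  obtain ⟨y₀, hy₀⟩ := exists_prime_orderOf_dvd_card' (G := R) l hlR
  set y : G := (y₀ : G) with hy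
  have hyR : y ∈ R := y₀.2
  have hyo : orderOf y = l := by rw [hy, Subgroup.orderOf_coe, hy₀]
  have hpre : ∀ g ∈ R, g ≠ 1 → g ^ l = 1 → ∃ x ∈ E, ∃ e ∈ E, e ≠ 1 ∧ Commute g e ∧
      g * x * g⁻¹ * x⁻¹ = e ∧ x ∉ zpowers e := by
    intro g hg hg1 hgl
    let δ : E →* G :=
      { toFun := fun x => g * x * g⁻¹ * (x : G)⁻¹
        map_one' := by simp
        map_mul' := fun x z => by
          have h1 : Commute (x : G) (g * z * g⁻¹) := hEc x x.2 _ (hconjE g hg z z.2)
          have h2 : Commute (x : G)⁻¹ (g * z * g⁻¹ * (z : G)⁻¹) :=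
            (hEc x x.2 _ (mul_mem (hconjE g hg z z.2) (inv_mem z.2))).inv_left
          calc g * (x * z : E) * g⁻¹ * ((x * z : E) : G)⁻¹
              = g * x * g⁻¹ * (g * z * g⁻¹ * (z : G)⁻¹ * (x : G)⁻¹) := by
                rw [Subgroup.coe_mul]; group
            _ = g * x * g⁻¹ * ((x : G)⁻¹ * (g * z * g⁻¹ * (z : G)⁻¹)) := by rw [h2.eq]
            _ = g * x * g⁻¹ * (x : G)⁻¹ * (g * z * g⁻¹ * (z : G)⁻¹) := by group }
    have hp : IsPGroup l (zpowers g) := IsPGroup.of_card_dvd_pow (n := 1) (by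
      rw [Nat.card_zpowers, pow_one]; exact orderOf_dvd_of_pow_eq_one hgl)
    have hIE : δ.range ≤ E := by
      rintro _ ⟨x, rfl⟩
      exact mul_mem (hconjE g hg x x.2) (inv_mem x.2)
    have hIn : zpowers g ≤ normalizer (δ.range : Set G) := by
      rw [zpowers_le]
      refine mem_normalizer_of_maps_to ?_
      rintro _ ⟨x, rfl⟩
      exact ⟨⟨g * x * g⁻¹, hconjE g hg x x.2⟩, by show g * (g * x * g⁻¹) * g⁻¹ * _ = g * _ * g⁻¹; simp [δ, mul_assoc]⟩
    have hne : δ.range ≠ ⊥ := by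
      intro hbot
      have h0 : ∀ x ∈ E, Commute g x := fun x hx => by
        have h1 : δ ⟨x, hx⟩ = 1 := mem_bot.1 (hbot ▸ ⟨⟨x, hx⟩, rfl⟩)
        exact mul_inv_eq_iff_eq_mul.1 (mul_inv_eq_one.1 h1)
      obtain ⟨x, hx, hx1⟩ : ∃ x ∈ E, x ≠ 1 := by
        by_contra h
        push Not at h
        rw [(eq_bot_iff_forall E).2 h, card_bot] at hE
        exact absurd hE (not_lt.2 hl.one_le)
      have h1 : Nat.card E ≤ Nat.card (zpowers x) := Nat.le_of_dvd Nat.card_pos
        (card_dvd_of_le fun z hz => hline g hg hg1 x hx z hz hx1 (h0 x hx) (h0 z hz))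
      rw [Nat.card_zpowers, orderOf_eq_prime (hEl x hx) hx1] at h1
      omega
    obtain ⟨e, ⟨x, hxe⟩, he1, hfix⟩ := exists_fixed_of_pgroup hp hIn
      ((hEp.to_le hIE).card_eq_or_dvd.resolve_left fun h => hne (Subgroup.card_eq_one.1 h))
    have heE : e ∈ E := hIE ⟨x, hxe⟩
    have hge : Commute g e := hfix g (mem_zpowers g)
    refine ⟨x, x.2, e, heE, he1, hge, hxe, ?_⟩
    rintro ⟨k, hk⟩
    refine he1 (hxe.symm.trans ?_)
    show g * (x : G) * g⁻¹ * (x : G)⁻¹ = 1
    rw [← show e ^ k = (x : G) from hk, (hge.zpow_right k).eq]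
    group
  -- no subgroup of order `l ^ 2`
  have hno : ∀ W : Subgroup G, W ≤ R → Nat.card W ≠ l ^ 2 := by
    intro W hWR hW
    have hWc := (IsPGroup.isMulCommutative_of_card_eq_prime_sq hW).is_comm.comm
    obtain ⟨g, hg⟩ := exists_prime_orderOf_dvd_card' (G := W) l (hW ▸ dvd_pow_self l two_ne_zero)
    have hg1 : (g : G) ≠ 1 := fun e => by
      rw [← Subgroup.orderOf_coe, e, orderOf_one] at hg; exact hl.ne_one hg.symm
    obtain ⟨x, hx, e, he, he1, hge, hxe, hxn⟩ := hpre g (hWR g.2) hg1 (by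
      rw [← hg, ← Subgroup.orderOf_coe]; exact pow_orderOf_eq_one _)
    have hWe : ∀ w ∈ W, Commute w e := by
      intro w hw
      have h0 : Commute (g : G) w := congrArg Subtype.val (hWc g ⟨w, hw⟩)
      have h1 : w * e * w⁻¹ ∈ zpowers e := hline g (hWR g.2) hg1 e he _ (hconjE w (hWR hw) e he) he1 hge
        ((h0.mul_right hge).mul_right h0.inv_right)
      obtain ⟨k, hk⟩ := h1
      have hwl : IsPGroup l W := IsPGroup.of_card hW
      have hZn : W ≤ normalizer (zpowers e : Set G) := by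
        intro w' hw'
        refine mem_normalizer_of_maps_to ?_
        rintro _ ⟨j, rfl⟩
        rw [← conj_zpow]
        refine zpow_mem (hline g (hWR g.2) hg1 e he _ (hconjE w' (hWR hw') e he) he1 hge ?_) j
        have h0' : Commute (g : G) w' := congrArg Subtype.val (hWc g ⟨w', hw'⟩)
        exact (h0'.mul_right hge).mul_right h0'.inv_right
      obtain ⟨e', he', he'1, hfix⟩ := exists_fixed_of_pgroup hwl hZn (by
        rw [Nat.card_zpowers, orderOf_eq_prime (hEl e he) he1])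
      obtain ⟨j, hj⟩ := he'
      have h5 : e ∈ zpowers e' := by
        have h6 : zpowers e' = zpowers e := Subgroup.eq_of_le_of_card_ge
          (zpowers_le.2 ⟨j, hj⟩) (by
            rw [Nat.card_zpowers, Nat.card_zpowers, orderOf_eq_prime (hEl e he) he1,
              orderOf_eq_prime (hEl e' (by rw [← hj]; exact zpow_mem he j)) he'1])
        rw [h6]; exact mem_zpowers e
      obtain ⟨i, hi⟩ := h5
      rw [← hi]
      exact (hfix w hw).zpow_right i
    have hd : ∀ w ∈ W, w * x * w⁻¹ * x⁻¹ ∈ zpowers e := by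
      intro w hw
      have h0 : Commute (g : G) w := congrArg Subtype.val (hWc g ⟨w, hw⟩)
      have hz : w * x * w⁻¹ * x⁻¹ ∈ E := mul_mem (hconjE w (hWR hw) x hx) (inv_mem hx)
      refine hline g (hWR g.2) hg1 e he _ hz he1 hge ?_
      have h1 : (g : G) * (w * x * w⁻¹) * (g : G)⁻¹ = e * (w * x * w⁻¹) := by
        calc (g : G) * (w * x * w⁻¹) * (g : G)⁻¹ = ((g : G) * w) * x * ((g : G) * w)⁻¹ := by group
          _ = w * ((g : G) * x * (g : G)⁻¹ * x⁻¹ * x) * w⁻¹ := by rw [h0.eq]; group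
          _ = (w * e) * x * w⁻¹ := by rw [hxe]; group
          _ = e * (w * x * w⁻¹) := by rw [(hWe w hw).eq]; group
      have h2 : (g : G) * x * (g : G)⁻¹ = e * x := mul_inv_eq_iff_eq_mul.1 hxe
      refine mul_inv_eq_iff_eq_mul.1 ?_
      calc (g : G) * (w * x * w⁻¹ * x⁻¹) * (g : G)⁻¹
          = ((g : G) * (w * x * w⁻¹) * (g : G)⁻¹) * ((g : G) * x * (g : G)⁻¹)⁻¹ := by group
        _ = e * ((w * x * w⁻¹) * x⁻¹) * e⁻¹ := by rw [h1, h2]; group
        _ = w * x * w⁻¹ * x⁻¹ := by rw [(hEc e he _ hz).eq, mul_inv_cancel_right]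
    let θ : W →* zpowers e :=
      MonoidHom.mk' (fun w => ⟨(w : G) * x * (w : G)⁻¹ * x⁻¹, hd w w.2⟩) fun w w' => Subtype.ext (by
        have h1 : Commute (w : G) ((w' : G) * x * (w' : G)⁻¹ * x⁻¹) := by
          obtain ⟨k, hk⟩ := hd w' w'.2
          rw [← hk]
          exact (hWe w w.2).zpow_right k
        have h2 : Commute ((w' : G) * x * (w' : G)⁻¹ * x⁻¹) ((w : G) * x * (w : G)⁻¹ * x⁻¹) :=
          hEc _ (mul_mem (hconjE w' (hWR w'.2) x hx) (inv_mem hx)) _
            (mul_mem (hconjE w (hWR w.2) x hx) (inv_mem hx))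
        push_cast
        calc (w : G) * w' * x * ((w : G) * w')⁻¹ * x⁻¹
            = ((w : G) * ((w' : G) * x * (w' : G)⁻¹ * x⁻¹) * (w : G)⁻¹) * ((w : G) * x * (w : G)⁻¹ * x⁻¹) := by
              group
          _ = (w : G) * x * (w : G)⁻¹ * x⁻¹ * ((w' : G) * x * (w' : G)⁻¹ * x⁻¹) := by
              rw [h1.eq, mul_inv_cancel_right, h2.eq])
    have hker : θ.ker ≠ ⊥ := by
      intro hbot
      have h1 := Nat.card_le_card_of_injective θ ((MonoidHom.ker_eq_bot_iff θ).1 hbot)
      rw [hW, Nat.card_zpowers, orderOf_eq_prime (hEl e he) he1, sq] at h1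
      have h2 := hl.two_le
      nlinarith
    obtain ⟨w, hw, hw1⟩ : ∃ w ∈ θ.ker, w ≠ 1 := by
      by_contra h; push Not at h; exact hker ((eq_bot_iff_forall _).2 h)
    refine hxn (hline w (hWR w.2) (fun h => hw1 (Subtype.ext h)) e he x hx he1 (hWe w w.2) ?_)
    exact mul_inv_eq_iff_eq_mul.1 (mul_inv_eq_one.1 (congrArg Subtype.val (MonoidHom.mem_ker.1 hw)))
  -- an `l`-subgroup of `R` has at most `l` elements
  have hsmall : ∀ W : Subgroup G, W ≤ R → IsPGroup l W → Nat.card W ≤ l := by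
    intro W hWR hW
    by_contra hlt
    push Not at hlt
    obtain ⟨n, hn⟩ := IsPGroup.iff_card.1 hW
    have hn2 : 2 ≤ n := by
      by_contra h
      push Not at h
      interval_cases n <;> simp [hn] at hlt <;> have := hl.two_le <;> omega
    obtain ⟨W', hW'⟩ := Sylow.exists_subgroup_card_pow_prime (G := W) l (n := 2)
      (hn ▸ pow_dvd_pow l hn2)
    exact hno (W'.map W.subtype) ((map_subtype_le _).trans hWR)
      (by rw [card_map_of_injective W.subtype_injective, hW'])
  -- `l`-elements lie in the derived group, which is nilpotent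
  haveI : Group.IsSolvable R := Cfsg.Agent.PF.isSolvable_of_odd R hRodd
  have hrank : ∀ p : ℕ, p.Prime → Cfsg.PRankLE p 2 R := by
    intro p hp W hWc hWp
    haveI := Fact.mk hp
    set W' := W.map R.subtype with hW'
    have hW'R : W' ≤ R := map_subtype_le _
    have hcard : Nat.card W' = Nat.card W := card_map_of_injective R.subtype_injective
    have hWc' : ∀ x ∈ W', ∀ z ∈ W', Commute x z := by
      rintro _ ⟨x, hx, rfl⟩ _ ⟨z, hz, rfl⟩
      have h := congrArg Subtype.val (hWc.is_comm.comm ⟨x, hx⟩ ⟨z, hz⟩)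
      exact (congrArg Subtype.val h :)
    have hWp' : ∀ x ∈ W', x ^ p = 1 := by
      rintro _ ⟨x, hx, rfl⟩
      rw [← map_pow, hWp x hx, map_one]
    rw [← hcard]
    by_cases hpl : p = l
    · subst hpl
      exact (hsmall W' hW'R fun x => ⟨1, Subtype.ext (by simpa using hWp' x x.2)⟩).trans
        (Nat.le_self_pow two_ne_zero p)
    · exact card_le_sq_of_lines hpl (hW'R.trans hRE) hWc' hWp' hEc hEl hE
        fun w hw hw1 => hline w (hW'R hw) hw1
  haveI hnil : Group.IsNilpotent (_root_.commutator R) :=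
    (Cfsg.Agent.S1451.result hRodd (Or.inl fun p hp => hrank p hp)).1
  have hl_mem : ∀ g : R, (g : G) ^ l = 1 → g ∈ _root_.commutator R := by
    intro g hgl
    by_cases hg1 : g = 1
    · rw [hg1]; exact one_mem _
    have hg1' : (g : G) ≠ 1 := fun h => hg1 (Subtype.ext h)
    obtain ⟨x, -, e, he, he1, hge, -, -⟩ := hpre g g.2 hg1' hgl
    exact P.mem_commutator_of_wide hH hcore hb hcs reg
      (orderOf_eq_prime (Subtype.ext (by simpa using hgl)) hg1) (hEA he) he1 hge
  -- the normal subgroup of order `l`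
  set Y := zpowers y with hYdef
  have hYR : Y ≤ R := zpowers_le.2 hyR
  have hyl : y ^ l = 1 := hyo ▸ pow_orderOf_eq_one y
  have hy1 : y ≠ 1 := fun e => by rw [e, orderOf_one] at hyo; exact hl.ne_one hyo.symm
  have hgen : ∀ g ∈ R, g ^ l = 1 → g ∈ Y := by
    intro g hg hgl
    set K := _root_.commutator R
    obtain ⟨S⟩ : Nonempty (Sylow l K) := inferInstance
    have hSn : (S : Subgroup K).Normal := inferInstance
    have hmem : ∀ z : K, (z : R) ^ l = 1 → z ∈ (S : Subgroup K) := by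
      intro z hz
      obtain ⟨T, hT⟩ := (show IsPGroup l (zpowers z) from IsPGroup.of_card_dvd_pow (n := 1) (by
        rw [Nat.card_zpowers, pow_one]
        exact orderOf_dvd_of_pow_eq_one (Subtype.ext (by simpa using hz)))).exists_le_sylow
      letI := Sylow.unique_of_normal S hSn
      rw [Subsingleton.elim S T]
      exact hT (mem_zpowers z)
    set SG := ((S : Subgroup K).map K.subtype).map R.subtype with hSG
    have hSGR : SG ≤ R := map_subtype_le _
    have hSGl : Nat.card SG ≤ l := hsmall SG hSGR ((S.isPGroup'.map _).map _)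
    have hin : ∀ z ∈ R, z ^ l = 1 → z ∈ SG := fun z hz hzl =>
      ⟨⟨z, hz⟩, ⟨⟨_, hl_mem ⟨z, hz⟩ hzl⟩, hmem _ (Subtype.ext (by simpa using hzl)), rfl⟩, rfl⟩
    have hYS : Y = SG := Subgroup.eq_of_le_of_card_ge (zpowers_le.2 (hin y hyR hyl))
      (by rw [Nat.card_zpowers, hyo]; exact hSGl)
    rw [hYS]; exact hin g hg hgl
  have hYn : ∀ r ∈ R, r * y * r⁻¹ ∈ Y := fun r hr =>
    hgen _ (mul_mem (mul_mem hr hyR) (inv_mem hr)) (by rw [conj_pow, hyl, mul_one, mul_inv_cancel])
  obtain ⟨x₀, hx₀, e₀, he₀, he₀1, hye, hxe, hxn⟩ := hpre y hyR hy1 hyl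
  have hLn : ∀ r ∈ R, r * e₀ * r⁻¹ ∈ zpowers e₀ := by
    intro r hr
    refine hline y hyR hy1 e₀ he₀ _ (hconjE r hr e₀ he₀) he₀1 hye ?_
    obtain ⟨k, hk⟩ := hYn r⁻¹ (inv_mem hr)
    have h1 : Commute (r⁻¹ * y * r⁻¹⁻¹) e₀ := by rw [← hk]; exact hye.zpow_left k
    have h2 := h1.map (MulAut.conj r).toMonoidHom
    simpa [mul_assoc] using h2
  -- the centraliser of `y` and `e₀` in `R`
  have hcent : ∀ g ∈ R, Commute g y → Commute g e₀ → g ∈ Y := by
    intro g hg hgy hge
    set n := orderOf g with hn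
    obtain ⟨i, k, hk, hik⟩ := Nat.exists_eq_pow_mul_and_not_dvd (orderOf_pos g).ne' l hl.ne_one
    set h := g ^ (l ^ i) with hh
    have hho : orderOf h = k := by
      rw [hh, orderOf_pow' _ (pow_ne_zero i hl.ne_zero), hik, Nat.gcd_mul_right_left,
        Nat.mul_div_cancel_left _ (pow_pos hl.pos i)]
    have hhR : h ∈ R := pow_mem hg _
    have hhy : Commute h y := hgy.pow_left _
    have hhe : Commute h e₀ := hge.pow_left _
    set z := h * x₀ * h⁻¹ * x₀⁻¹ with hz
    have hzE : z ∈ E := mul_mem (hconjE h hhR x₀ hx₀) (inv_mem hx₀)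
    have hyx : y * x₀ * y⁻¹ = e₀ * x₀ := mul_inv_eq_iff_eq_mul.1 hxe
    have hyh : y * (h * x₀ * h⁻¹) * y⁻¹ = e₀ * (h * x₀ * h⁻¹) := by
      calc y * (h * x₀ * h⁻¹) * y⁻¹ = (y * h) * x₀ * (y * h)⁻¹ := by group
        _ = h * (y * x₀ * y⁻¹) * h⁻¹ := by rw [← hhy.eq]; group
        _ = (h * e₀) * x₀ * h⁻¹ := by rw [hyx]; group
        _ = e₀ * (h * x₀ * h⁻¹) := by rw [hhe.eq]; group
    have hzL : z ∈ zpowers e₀ := by
      refine hline y hyR hy1 e₀ he₀ z hzE he₀1 hye (mul_inv_eq_iff_eq_mul.1 ?_)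
      calc y * z * y⁻¹ = (y * (h * x₀ * h⁻¹) * y⁻¹) * (y * x₀ * y⁻¹)⁻¹ := by rw [hz]; group
        _ = e₀ * z * e₀⁻¹ := by rw [hyh, hyx, hz]; group
        _ = z := by rw [(hEc e₀ he₀ z hzE).eq, mul_inv_cancel_right]
    have hhz : Commute h z := by
      obtain ⟨j, hj⟩ := hzL
      rw [← hj]; exact hhe.zpow_right j
    have hpow : ∀ j : ℕ, h ^ j * x₀ * (h ^ j)⁻¹ = z ^ j * x₀ := by
      intro j
      induction j with
      | zero => simp
      | succ j ih =>
        rw [pow_succ', mul_inv_rev, show h * h ^ j * x₀ * ((h ^ j)⁻¹ * h⁻¹) =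
          h * (h ^ j * x₀ * (h ^ j)⁻¹) * h⁻¹ by group, ih,
          show h * (z ^ j * x₀) * h⁻¹ = (h * z ^ j * h⁻¹) * (z * x₀) by rw [hz]; group,
          (hhz.pow_right j).eq, mul_inv_cancel_right, pow_succ]
        group
    have hzk : z ^ k = 1 := by
      have h1 := hpow k
      rw [← hho, pow_orderOf_eq_one, inv_one, one_mul, mul_one] at h1
      rw [← hho]
      exact mul_eq_right.1 h1.symm
    have hz1 : z = 1 := by
      rw [← orderOf_eq_one_iff]
      exact Nat.eq_one_of_dvd_coprimes (hl.coprime_iff_not_dvd.2 hk)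
        (orderOf_dvd_of_pow_eq_one (hEl z hzE)) (orderOf_dvd_of_pow_eq_one hzk)
    have hh1 : h = 1 := by
      by_contra hne
      exact hxn (hline h hhR hne e₀ he₀ x₀ hx₀ he₀1 hhe
        (mul_inv_eq_iff_eq_mul.1 (mul_inv_eq_one.1 hz1)))
    have hgl : g ^ l = 1 := by
      have h1 := hsmall (zpowers g) (zpowers_le.2 hg) (IsPGroup.of_card_dvd_pow (n := i) (by
        rw [Nat.card_zpowers]; exact orderOf_dvd_of_pow_eq_one hh1))
      rw [Nat.card_zpowers] at h1
      rw [← orderOf_dvd_iff_pow_eq_one]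
      obtain ⟨j, hj, hj'⟩ := (Nat.dvd_prime_pow hl).1 (orderOf_dvd_of_pow_eq_one hh1 : orderOf g ∣ l ^ i)
      rw [hj'] at h1 ⊢
      have : j ≤ 1 := (Nat.pow_le_pow_iff_right hl.one_lt).1 (by simpa using h1)
      exact (pow_dvd_pow l this).trans (by simp)
    exact hgen g hg hgl
  -- the derived group is `Y`
  have hswap : ∀ (z : G) (j k : ℤ), (z ^ j) ^ k = (z ^ k) ^ j := fun z j k => by
    rw [← zpow_mul, ← zpow_mul, mul_comm]
  have hderived : ∀ g : R, g ∈ _root_.commutator R → (g : G) ∈ Y := by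
    have hcomm : ∀ r ∈ R, ∀ s ∈ R, ∀ z : G, (∀ q ∈ R, q * z * q⁻¹ ∈ zpowers z) →
        Commute ⁅r, s⁆ z := by
      intro r hr s hs z hz
      obtain ⟨i, hi⟩ := hz r⁻¹ (inv_mem hr)
      obtain ⟨j, hj⟩ := hz s⁻¹ (inv_mem hs)
      replace hi : r⁻¹ * z * r⁻¹⁻¹ = z ^ i := hi.symm
      replace hj : s⁻¹ * z * s⁻¹⁻¹ = z ^ j := hj.symm
      have e1 : r⁻¹ * s⁻¹ * z * (r⁻¹ * s⁻¹)⁻¹ = (z ^ i) ^ j := by
        rw [show r⁻¹ * s⁻¹ * z * (r⁻¹ * s⁻¹)⁻¹ = r⁻¹ * (s⁻¹ * z * s⁻¹⁻¹) * r⁻¹⁻¹ by group,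
          hj, ← conj_zpow, hi]
      have e2 : s⁻¹ * r⁻¹ * z * (s⁻¹ * r⁻¹)⁻¹ = (z ^ i) ^ j := by
        rw [show s⁻¹ * r⁻¹ * z * (s⁻¹ * r⁻¹)⁻¹ = s⁻¹ * (r⁻¹ * z * r⁻¹⁻¹) * s⁻¹⁻¹ by group,
          hi, ← conj_zpow, hj, hswap]
      refine mul_inv_eq_iff_eq_mul.1 ?_
      rw [commutatorElement_def]
      calc r * s * r⁻¹ * s⁻¹ * z * (r * s * r⁻¹ * s⁻¹)⁻¹
          = (s⁻¹ * r⁻¹)⁻¹ * (r⁻¹ * s⁻¹ * z * (r⁻¹ * s⁻¹)⁻¹) * (s⁻¹ * r⁻¹) := by group
        _ = z := by rw [e1, ← e2]; group
    intro g hg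
    have hle : _root_.commutator R ≤ Y.subgroupOf R := by
      rw [_root_.commutator_def, commutator_le]
      intro r _ s _
      refine mem_subgroupOf.2 ?_
      rw [show ((⁅r, s⁆ : R) : G) = ⁅(r : G), (s : G)⁆ from map_commutatorElement R.subtype r s]
      refine hcent _ ?_ (hcomm r r.2 s s.2 y hYn) (hcomm r r.2 s s.2 e₀ hLn)
      rw [commutatorElement_def]
      exact mul_mem (mul_mem (mul_mem r.2 s.2) (inv_mem r.2)) (inv_mem s.2)
    exact mem_subgroupOf.1 (hle hg)
  -- the rest is fixed point free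
  have hfpf : ∀ r ∈ R, r ∉ Y → ∀ z ∈ A, Commute r z → z = 1 := by
    intro r hr hrY z hz hrz
    by_contra hz1
    refine hrY (hgen r hr ?_)
    have key : ∀ q : ℕ, q.Prime → q ∣ orderOf r → q = l := by
      intro q hq hqr
      haveI := Fact.mk hq
      set g := r ^ (orderOf r / q) with hg
      have hgo : orderOf g = q := orderOf_pow_orderOf_div (orderOf_pos r).ne' hqr
      have h1 := hderived _ (P.mem_commutator_of_wide hH hcore hb hcs reg (g := (⟨g, pow_mem hr _⟩ : R))
        (by rw [Subgroup.orderOf_mk, hgo]) hz hz1 (hrz.pow_left _))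
      have h2 : q ∣ l := by
        rw [← hgo, ← hyo, ← Nat.card_zpowers y]
        exact Subgroup.orderOf_dvd_natCard Y h1
      exact (Nat.prime_dvd_prime_iff_eq hq hl).1 h2
    obtain ⟨i, k, hk, hik⟩ := Nat.exists_eq_pow_mul_and_not_dvd (orderOf_pos r).ne' l hl.ne_one
    have hk1 : k = 1 := by
      by_contra hne
      obtain ⟨q, hq, hqk⟩ := Nat.exists_prime_and_dvd hne
      exact hk (key q hq (hik ▸ hqk.trans (dvd_mul_left _ _)) ▸ hqk)
    have h1 := hsmall (zpowers r) (zpowers_le.2 hr) (IsPGroup.of_card (n := i) (by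
      rw [Nat.card_zpowers, hik, hk1, mul_one]))
    rw [Nat.card_zpowers, hik, hk1, mul_one] at h1
    have hi : i ≤ 1 := (Nat.pow_le_pow_iff_right hl.one_lt).1 (by simpa using h1)
    rw [← orderOf_dvd_iff_pow_eq_one, hik, hk1, mul_one]
    exact (pow_dvd_pow l hi).trans (by simp)
  -- `X` on the involutions at `c`
  set X := twoGen c ⊔ A with hX
  have hXc : ∀ g ∈ X, g • c = c := fun g hg => mem_stabilizer_iff.1 (P.twoGen_sup_le hg)
  let Ω := {i : G // orderOf i = 2 ∧ i • c = c}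
  letI actX : MulAction X Ω :=
    { smul := fun g i => ⟨(g : G) * i.1 * (g : G)⁻¹, by rw [orderOf_conj', i.2.1], by
        rw [mul_smul, mul_smul, inv_smul_eq_iff.2 (hXc g g.2).symm, i.2.2, hXc g g.2]⟩
      one_smul := fun i => Subtype.ext
        (show ((1 : X) : G) * i.1 * ((1 : X) : G)⁻¹ = i.1 by simp)
      mul_smul := fun g g' i => Subtype.ext (show ((g * g' : X) : G) * i.1 * ((g * g' : X) : G)⁻¹ =
          (g : G) * ((g' : G) * i.1 * (g' : G)⁻¹) * (g : G)⁻¹ by rw [Subgroup.coe_mul]; group) }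
  have hval : ∀ (g : X) (i : Ω), ((g • i : Ω) : G) = (g : G) * i.1 * (g : G)⁻¹ := fun g i => rfl
  let o : Ω := ⟨v, P.vord, P.vfix⟩
  set A' := A.subgroupOf X with hA'
  set B := (stabilizer G a).subgroupOf X with hB
  set R' := R.subgroupOf X with hR'
  have hRX : R ≤ X := fun r hr => (mem_pairPart.1 hr).1
  have hfix2 : ∀ x : X, x ∈ Isometry.offR B R' → ∀ b : G ⧸ H, b ≠ c → (x : G) • b = b → b = a := by
    intro x hx b hbc hxb
    by_contra hba
    have hxc := hXc x x.2
    have hxa : (x : G) • a = a := mem_stabilizer_iff.1 (mem_subgroupOf.1 hx.1)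
    obtain ⟨a₀, ha₀, hr⟩ := P.exists_mul hxc
    set r := a₀⁻¹ * (x : G) with hrdef
    have hrR : r ∈ R := mem_pairPart.2 ⟨mul_mem (inv_mem (mem_sup_right ha₀)) x.2, by
      rw [hrdef, mul_smul, hxa, inv_smul_eq_iff, (P.fix ha₀).2], hr⟩
    have hnot : ∀ z ∈ A, ¬ Commute (z⁻¹ * (x : G) * z) v := by
      intro z hz hzv
      have hzX : z ∈ X := mem_sup_right hz
      refine hx.2 (⟨z, hzX⟩ : X)⁻¹ (mem_subgroupOf.2 ?_) (mem_subgroupOf.2 ?_)
      · exact inv_mem (mem_stabilizer_iff.2 (P.fix hz).2)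
      · refine mem_pairPart.2 ⟨?_, ?_, ?_⟩
        · push_cast
          exact mul_mem (mul_mem (inv_mem hzX) x.2) (by rw [inv_inv]; exact hzX)
        · push_cast
          rw [inv_inv, mul_smul, mul_smul, (P.fix hz).2, hxa, inv_smul_eq_iff, (P.fix hz).2]
        · push_cast
          rwa [inv_inv]
    have hxar : (x : G) = a₀ * r := by rw [hrdef, mul_inv_cancel_left]
    by_cases hrY : r ∈ Y
    · have hpow : ∀ n : ℕ, (a₀ * r) ^ n * (r ^ n)⁻¹ ∈ A := by
        intro n
        induction n with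
        | zero => simp
        | succ n ih =>
          rw [pow_succ, pow_succ, show (a₀ * r) ^ n * (a₀ * r) * (r ^ n * r)⁻¹ =
            ((a₀ * r) ^ n * (r ^ n)⁻¹) * (r ^ n * a₀ * (r ^ n)⁻¹) by group]
          exact mul_mem ih (hconjA _ (pow_mem hrR n) a₀ ha₀)
      have hrl : r ^ l = 1 := by
        obtain ⟨k, hk⟩ := hrY
        rw [← show y ^ k = r from hk]
        rw [← zpow_natCast, ← zpow_mul, mul_comm, zpow_mul, zpow_natCast, hyl, one_zpow]
      have hxl : (x : G) ^ l ∈ A := by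
        have h1 := hpow l
        rwa [hrl, inv_one, mul_one, ← hxar] at h1
      by_cases hxl1 : (x : G) ^ l = 1
      · obtain ⟨i, hi, hic, hix⟩ := exists_commute_of_third hH hb hxl1 P.ne hbc hba hxc hxa hxb
        obtain ⟨z, hz, rfl⟩ := P.reg i hi hic
        refine hnot z hz ?_
        have h2 := hix.map (MulAut.conj z⁻¹).toMonoidHom
        simpa [mul_assoc] using h2
      · exact hba (P.eq_of_fixed hH hb hxl hxl1 hbc
          (mem_stabilizer_iff.1 (pow_mem (mem_stabilizer_iff.2 hxb) l)))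
    · let f : A → A := fun z => ⟨(z : G) * (r * (z : G)⁻¹ * r⁻¹),
        mul_mem z.2 (hconjA r hrR _ (inv_mem z.2))⟩
      have hinj : Function.Injective f := by
        intro z w hzw
        have h1 : (z : G) * r * (z : G)⁻¹ = (w : G) * r * (w : G)⁻¹ := by
          have h2 : (z : G) * (r * (z : G)⁻¹ * r⁻¹) = (w : G) * (r * (w : G)⁻¹ * r⁻¹) :=
            congrArg Subtype.val hzw
          calc (z : G) * r * (z : G)⁻¹ = (z : G) * (r * (z : G)⁻¹ * r⁻¹) * r := by group
            _ = (w : G) * r * (w : G)⁻¹ := by rw [h2]; group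
        have h3 := hfpf r hrR hrY ((w : G)⁻¹ * z) (mul_mem (inv_mem w.2) z.2) (by
          show r * ((w : G)⁻¹ * z) = (w : G)⁻¹ * z * r
          calc r * ((w : G)⁻¹ * z) = (w : G)⁻¹ * ((w : G) * r * (w : G)⁻¹) * z := by group
            _ = (w : G)⁻¹ * z * r := by rw [← h1]; group)
        exact Subtype.ext (inv_mul_eq_one.1 h3).symm
      obtain ⟨z, hz⟩ := Finite.surjective_of_injective hinj ⟨a₀, ha₀⟩
      refine hnot z z.2 ?_
      have h4 : (x : G) = (z : G) * r * (z : G)⁻¹ := by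
        rw [hxar, ← show (z : G) * (r * (z : G)⁻¹ * r⁻¹) = a₀ from congrArg Subtype.val hz]; group
      rw [h4, show (z : G)⁻¹ * ((z : G) * r * (z : G)⁻¹) * z = r by group]
      exact hr
  have hset : Isometry.Setting A' B R' o :=
    { aB := fun z hz => mem_subgroupOf.2 (mem_inf.1 (P.le (mem_subgroupOf.1 hz))).2
      rB := fun z hz => mem_subgroupOf.2 (mem_stabilizer_iff.2 (mem_pairPart.1 (mem_subgroupOf.1 hz)).2.1)
      norm := fun b hb' z hz => mem_subgroupOf.2 ((mem_normalizer_iff.1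
        (P.norm (mem_inf.2 ⟨P.twoGen_sup_le b.2, mem_subgroupOf.1 hb'⟩)) _).1 (mem_subgroupOf.1 hz))
      comm := fun z w => Subtype.ext (Subtype.ext
        (P.comm _ (mem_subgroupOf.1 z.2) _ (mem_subgroupOf.1 w.2)).eq)
      sup := fun b hb' => by
        obtain ⟨z, hz, hzv⟩ := P.exists_mul (hXc b b.2)
        have hzX : z ∈ X := mem_sup_right hz
        refine ⟨⟨z, hzX⟩, mem_subgroupOf.2 hz, (⟨z, hzX⟩ : X)⁻¹ * b, mem_subgroupOf.2 ?_, by group⟩
        refine mem_pairPart.2 ⟨mul_mem (inv_mem hzX) b.2, ?_, ?_⟩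
        · push_cast
          rw [mul_smul, mem_stabilizer_iff.1 (mem_subgroupOf.1 hb'), inv_smul_eq_iff, (P.fix hz).2]
        · push_cast
          exact hzv
      disj := (eq_bot_iff_forall _).2 fun z hz => Subtype.ext
        (P.eq_one_of_commute (mem_subgroupOf.1 (mem_inf.1 hz).1) (hRv _ (mem_subgroupOf.1 (mem_inf.1 hz).2)))
      reg := fun ω => by
        obtain ⟨z, hz, hzω⟩ := P.reg ω.1 ω.2.1 ω.2.2
        refine ⟨⟨⟨z, mem_sup_right hz⟩, mem_subgroupOf.2 hz⟩, Subtype.ext hzω, fun w hw => ?_⟩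
        refine Subtype.ext (Subtype.ext (P.conj_inj (mem_subgroupOf.1 w.2) hz ?_))
        exact (congrArg Subtype.val hw).trans hzω.symm
      fixR := fun r hr => Subtype.ext (show (r : G) * v * (r : G)⁻¹ = v by
        rw [(hRv _ (mem_subgroupOf.1 hr)).eq, mul_inv_cancel_right])
      ti := fun g x hx hgx => by
        refine mem_subgroupOf.2 (mem_stabilizer_iff.2 ?_)
        have hga : ((g * x * g⁻¹ : X) : G) • a = a := mem_stabilizer_iff.1 (mem_subgroupOf.1 hgx.1)
        push_cast at hga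
        rw [mul_smul, mul_smul, ← eq_inv_smul_iff] at hga
        have hne : (g : G)⁻¹ • a ≠ c := fun h => P.ne (by rw [inv_smul_eq_iff.1 h, hXc g g.2])
        exact (inv_smul_eq_iff.1 (hfix2 x hx _ hne hga)).symm }
  letI := Fintype.ofFinite X
  letI := Fintype.ofFinite B
  letI := Fintype.ofFinite A'
  letI := Fintype.ofFinite R'
  have hcj : ∀ (r : R') (z : A'), ((hset.cj (hset.ofR r) z : A') : X) = (r : X) * z * (r : X)⁻¹ :=
    fun r z => rfl
  -- the translation
  set τ : A' := ⟨⟨e₀, mem_sup_right (hEA he₀)⟩, mem_subgroupOf.2 (hEA he₀)⟩ with hτ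
  have hτnf : ∀ lam : A' →* ℂˣ, ¬ hset.Free lam → lam τ = 1 := by
    intro lam hlam
    simp only [Isometry.Setting.Free, not_forall] at hlam
    obtain ⟨r, hr, hr1⟩ := hlam
    have hrR : ((r : X) : G) ∈ R := mem_subgroupOf.1 r.2
    have hinv : ∀ w : A', lam (hset.cj (hset.ofR r) w) = lam w := fun w => by
      have h1 := DFunLike.congr_fun hr (hset.cj (hset.ofR r) w)
      rw [hset.rot_apply, ← hset.cj_mul] at h1
      rw [show hset.ofR r⁻¹ * hset.ofR r = 1 from Subtype.ext (inv_mul_cancel _), hset.cj_one] at h1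
      exact h1.symm
    by_cases hrY : ((r : X) : G) ∈ Y
    · set y' : R' := ⟨⟨y, hRX hyR⟩, mem_subgroupOf.2 hyR⟩ with hy'
      have hmem : y' ∈ hset.stab lam := by
        have hr1' : ((r : X) : G) ≠ 1 := fun h => hr1 (Subtype.ext (Subtype.ext h))
        have h2 : y ∈ zpowers ((r : X) : G) := by
          have h3 : zpowers ((r : X) : G) = Y := Subgroup.eq_of_le_of_card_ge (zpowers_le.2 hrY) (by
            obtain ⟨k, hk⟩ := hrY
            rw [Nat.card_zpowers, Nat.card_zpowers, hyo, orderOf_eq_prime (p := l) ?_ hr1']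
            rw [← hk, ← zpow_natCast, ← zpow_mul, mul_comm, zpow_mul, zpow_natCast, hyl, one_zpow])
          rw [h3]; exact mem_zpowers y
        obtain ⟨k, hk⟩ := h2
        rw [show y' = r ^ k from Subtype.ext (Subtype.ext (by push_cast; exact hk.symm))]
        exact zpow_mem (hset.mem_stab.2 hr) k
      set x' : A' := ⟨⟨x₀, mem_sup_right (hEA hx₀)⟩, mem_subgroupOf.2 (hEA hx₀)⟩ with hx'
      have h1 := DFunLike.congr_fun (hset.mem_stab.1 (inv_mem hmem)) x'
      rw [hset.rot_apply, inv_inv] at h1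
      have h2 : τ = hset.cj (hset.ofR y') x' * x'⁻¹ := Subtype.ext (Subtype.ext (by
        push_cast
        rw [hcj]
        push_cast
        exact hxe.symm))
      rw [h2, map_mul, map_inv, h1, mul_inv_cancel]
    · let φ : A' → A' := fun z => z * (hset.cj (hset.ofR r) z)⁻¹
      have hinj : Function.Injective φ := by
        intro z w hzw
        rw [← mul_inv_eq_one]
        have h2 : hset.cj (hset.ofR r) (z * w⁻¹) = z * w⁻¹ := by
          letI : CommGroup A' := { (inferInstance : Group A') with mul_comm := hset.comm }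
          have h1 : z / hset.cj (hset.ofR r) z = w / hset.cj (hset.ofR r) w := by
            rw [div_eq_mul_inv, div_eq_mul_inv]; exact hzw
          rw [div_eq_div_iff_mul_eq_mul] at h1
          rw [map_mul, map_inv, ← div_eq_mul_inv, ← div_eq_mul_inv, div_eq_div_iff_mul_eq_mul, h1,
            mul_comm]
        refine Subtype.ext (Subtype.ext (hfpf _ hrR hrY _ (mem_subgroupOf.1 (z * w⁻¹).2) ?_))
        refine mul_inv_eq_iff_eq_mul.1 ?_
        have h3 := congrArg (fun u : A' => ((u : X) : G)) h2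
        simp only [hcj] at h3
        push_cast at h3 ⊢
        exact h3
      obtain ⟨z, hz⟩ := Finite.surjective_of_injective hinj τ
      rw [← hz, map_mul, map_inv, hinv, mul_inv_cancel]
  let N : Set Ω := {ω | ¬ Commute v ω.1}
  have hXv : ∀ s : X, s • o = o → Commute (s : G) v := fun s hs =>
    mul_inv_eq_iff_eq_mul.1 (congrArg Subtype.val hs)
  have hN : ∀ s : X, s • o = o → ∀ ω ∈ N, s • ω ∈ N := by
    intro s hs ω hω hcom
    refine hω ((commute_conj_iff' (s : G)).1 ?_)
    rw [(hXv s hs).eq, mul_inv_cancel_right]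
    exact hcom
  have hvX : v ∈ X := mem_sup_left (subset_closure ⟨P.vfix, 1, by rw [P.vord, pow_one]⟩)
  have hmove : ∀ ω ∈ N, ∀ r ∈ R', r • ω ≠ (⟨v, hvX⟩ : X) • ω := by
    intro ω hω r hr he
    have hrR : (r : G) ∈ R := mem_subgroupOf.1 hr
    set i := ω.1 with hi
    have h1 : (r : G) * i * (r : G)⁻¹ = v * i * v⁻¹ := congrArg Subtype.val he
    have hvv : v * v = 1 := sq_of_order_two P.vord
    have h2 : Commute ((r : G) * r) i := by
      refine mul_inv_eq_iff_eq_mul.1 ?_
      calc (r : G) * r * i * ((r : G) * r)⁻¹ = (r : G) * ((r : G) * i * (r : G)⁻¹) * (r : G)⁻¹ := by group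
        _ = ((r : G) * v) * i * ((r : G) * v)⁻¹ := by rw [h1]; group
        _ = v * ((r : G) * i * (r : G)⁻¹) * v⁻¹ := by rw [(hRv _ hrR).eq]; group
        _ = (v * v) * i * (v * v)⁻¹ := by rw [h1]; group
        _ = i := by rw [hvv]; group
    have hr1 : (r : G) = 1 := by
      by_contra hne
      have hrr : (r : G) * r ∈ R := mul_mem hrR hrR
      refine hω (commute_of_centralized hH hcore hb hcs P.ne (x := (r : G) * r) ?_
        (mem_stabilizer_iff.1 (mem_inf.1 (P.pairPart_le hrr)).1)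
        (mem_stabilizer_iff.1 (mem_inf.1 (P.pairPart_le hrr)).2) P.vord ω.2.1 P.vfix ω.2.2
        (hRv _ hrr) h2)
      intro h3
      refine hne (orderOf_eq_one_iff.1 (Nat.eq_one_of_dvd_coprimes (Nat.coprime_two_left.2 ?_)
        (orderOf_dvd_of_pow_eq_one (by rw [pow_two]; exact h3)) dvd_rfl))
      exact hRodd.of_dvd_nat (Subgroup.orderOf_dvd_natCard R hrR)
    rw [hr1, one_mul, inv_one, mul_one] at h1
    refine hω ?_
    show v * i = i * v
    calc v * i = v * i * v⁻¹ * v := by rw [inv_mul_cancel_right]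
      _ = i * v := by rw [← h1]
  have he₀N : ((τ : X) • o : Ω) ∉ N := not_not.2 (hgamma y hyR hy1 e₀ (hEA he₀) hye)
  have hper : ∀ z : A', (z : X) • o ∈ N → ((τ * z : A') : X) • o ∈ N := fun z hz =>
    hset.periodic_of_nonfree hτnf hN (fun h => h (Commute.refl v)) he₀N
      (fun h => he₀1 (congrArg (fun u : A' => ((u : X) : G)) h))
      (v := ⟨v, hvX⟩) (Subtype.ext (show v * v * v⁻¹ = v by group)) hmove hz
  refine P.commAt_of_periodic hH hb (inv_mem (hEA he₀)) (inv_ne_one.2 he₀1) fun z hz hzv => ?_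
  by_contra hn
  have hwA : e₀⁻¹ * z ∈ A := mul_mem (inv_mem (hEA he₀)) hz
  set w : A' := ⟨⟨e₀⁻¹ * z, mem_sup_right hwA⟩, mem_subgroupOf.2 hwA⟩
  refine hper w hn ?_
  show Commute v ((((τ * w : A') : X) : G) * v * (((τ * w : A') : X) : G)⁻¹)
  rw [show (((τ * w : A') : X) : G) = z from mul_inv_cancel_left e₀ z]
  exact hzv

/-- a common prime either makes the involutions commute or has exactly `l` roots of unity in `A` -/
theorem RegAb.commAt_or_card_roots (P : RegAb H A v c a) (hH : Cfsg.IsStronglyEmbedded H)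
    (hcore : H.normalCore = ⊥) (hb : NoBad H) (hcs : CentreSquares H)
    (reg : RegBelow.{u} (Nat.card G)) {l : ℕ} [Fact l.Prime]
    (hlR : l ∣ Nat.card (pairPart A v c a)) (hlA : l ∣ Nat.card A) :
    CommAt H ∨ Nat.card {ζ : A // ζ ^ l = 1} = l := by
  have hl : l.Prime := Fact.out
  have hcard : Nat.card {ζ : A // ζ ^ l = 1} = Nat.card (roots P l) := Nat.card_congr
    { toFun := fun ζ => ⟨ζ.1, ζ.1.2, by simpa using congrArg Subtype.val ζ.2⟩
      invFun := fun x => ⟨⟨x, x.2.1⟩, Subtype.ext (by simpa using x.2.2)⟩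
      left_inv := fun _ => rfl
      right_inv := fun _ => rfl }
  obtain ⟨z, hz⟩ := exists_prime_orderOf_dvd_card' (G := A) l hlA
  have hzE : (z : G) ∈ roots P l := ⟨z.2, by
    rw [← hz, ← Subgroup.orderOf_coe]; exact pow_orderOf_eq_one _⟩
  have hge : l ≤ Nat.card (roots P l) := by
    calc l = orderOf (z : G) := by rw [Subgroup.orderOf_coe, hz]
      _ ≤ Nat.card (roots P l) := Nat.le_of_dvd Nat.card_pos (Subgroup.orderOf_dvd_natCard _ hzE)
  rcases hge.eq_or_lt with h | h
  · exact Or.inr (hcard.trans h.symm)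
  · exact Or.inl (P.commAt_of_noncyclic hH hcore hb hcs reg hlR h)

end Cfsg.Lib.BenderSE
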