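/-
COMM, Schur's power map (notes/bender_comm.md section 2): for a relation invariant under a group and
under a regular abelian group `A` whose `l`-th roots of unity lie outside it, either it is periodic by
those roots, or the `l`-th powers give a block system.
-/
import Cfsg.Agent.BenderSE.CommPrimitive
import Mathlib.Algebra.MonoidAlgebra.Basic
import Mathlib.Algebra.CharP.Lemmas
import Mathlib.Algebra.CharP.Algebra

set_option autoImplicit false
set_option linter.unusedSectionVars false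
set_option linter.style.haveILetI false

namespace Cfsg.Lib.BenderSE.Schur

universe u v

variable {A : Type u} [CommGroup A] [Fintype A] {Ω : Type v} [Fintype Ω] [MulAction A Ω]
  (adj : Ω → Ω → Prop) (o : Ω) (l : ℕ) [Fact l.Prime]

open Classical in
/-- the number of walks of length `k` modulo `l` -/
noncomputable def walk : ℕ → Ω → Ω → ZMod l
  | 0, i, j => if i = j then 1 else 0
  | k + 1, i, j => ∑ i', walk k i i' * (if adj i' j then 1 else 0)

open Classical in
/-- the steps -/
noncomputable def steps : Finset A := Finset.univ.filter fun x => adj o (x • o)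

/-- the steps as an element of the group algebra -/
noncomputable def stepSum : MonoidAlgebra (ZMod l) A := ∑ x ∈ steps adj o, MonoidAlgebra.single x 1

theorem walk_perm (σ : Equiv.Perm Ω) (hσ : ∀ i j, adj (σ i) (σ j) ↔ adj i j) :
    ∀ k i j, walk adj l k (σ i) (σ j) = walk adj l k i j := by
  classical
  intro k
  induction k with
  | zero => intro i j; simp [walk]
  | succ k ih =>
    intro i j
    simp only [walk]
    refine (Fintype.sum_equiv σ _ _ fun i' => ?_).symm
    rw [ih, if_congr (hσ i' j) rfl rfl]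

theorem coeff_stepSum (b : A) [Decidable (adj o (b • o))] :
    (stepSum adj o l).coeff b = if adj o (b • o) then 1 else 0 := by
  classical
  rw [stepSum, MonoidAlgebra.coeff_sum, Finsupp.finset_sum_apply]
  simp [steps, Finsupp.single_apply]

variable (hA : ∀ (a : A) i j, adj (a • i) (a • j) ↔ adj i j)
  (hreg : ∀ ω : Ω, ∃! a : A, a • o = ω)
include hA hreg

theorem walk_eq : ∀ k (a b : A),
    walk adj l k (a • o) (b • o) = ((stepSum adj o l) ^ k).coeff (a⁻¹ * b) := by
  classical
  intro k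
  induction k with
  | zero =>
    intro a b
    rw [pow_zero, MonoidAlgebra.one_def, MonoidAlgebra.coeff_single, Finsupp.single_apply]
    show (if a • o = b • o then (1 : ZMod l) else 0) = _
    refine if_congr ⟨fun e => ?_, fun e => ?_⟩ rfl rfl
    · obtain ⟨c, -, hc⟩ := hreg (a • o)
      rw [(hc a rfl).trans (hc b e.symm).symm, inv_mul_cancel]
    · rw [inv_mul_eq_one.1 e.symm]
  | succ k ih =>
    intro a b
    simp only [walk]
    rw [pow_succ]
    conv_rhs => arg 1; arg 1; arg 2; rw [stepSum]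
    rw [Finset.mul_sum, MonoidAlgebra.coeff_sum, Finsupp.finset_sum_apply]
    simp only [MonoidAlgebra.coeff_mul_single_apply, mul_one]
    rw [steps, Finset.sum_filter]
    have e : Function.Bijective fun x : A => (b * x⁻¹) • o := by
      refine ⟨fun x y h => ?_, fun ω => ?_⟩
      · obtain ⟨c, -, hc⟩ := hreg ((b * x⁻¹) • o)
        exact inv_injective (mul_left_cancel ((hc _ rfl).trans (hc _ h.symm).symm))
      · obtain ⟨c, hc, -⟩ := hreg ω
        exact ⟨c⁻¹ * b, by simp only [mul_inv_rev, inv_inv, mul_inv_cancel_left]; exact hc⟩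
    refine (Fintype.sum_bijective _ e _ _ fun x => ?_).symm
    rw [ih, mul_assoc]
    have h1 : adj ((b * x⁻¹) • o) (b • o) ↔ adj o (x • o) := by
      conv_rhs => rw [← hA (b * x⁻¹) o (x • o)]
      rw [smul_smul, inv_mul_cancel_right]
    rw [if_congr h1 rfl rfl, mul_ite, mul_one, mul_zero]

/-- a walk of length `l` only sees `l`-th powers of steps -/
theorem walk_l (b : A) [DecidableEq A] :
    walk adj l l o (b • o) = ((steps adj o).filter fun x : A => x ^ l = b).card := by
  classical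
  have h1 := walk_eq adj o l hA hreg l 1 b
  rw [one_smul, inv_one, one_mul] at h1
  haveI : CharP (MonoidAlgebra (ZMod l) A) l :=
    charP_of_injective_algebraMap (FaithfulSMul.algebraMap_injective (ZMod l) _) l
  rw [h1, stepSum, sum_pow_char, MonoidAlgebra.coeff_sum, Finsupp.finset_sum_apply]
  simp [MonoidAlgebra.single_pow, Finsupp.single_apply, Finset.sum_boole]

/-- SCHUR: the relation is periodic by the `l`-th roots of unity, or there is an invariant
equivalence, not the identity, inside the cosets of the `l`-th powers -/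
theorem dichotomy (hroot : ∀ ζ : A, ζ ^ l = 1 → ¬ adj o (ζ • o))
    (hker : Nat.card {ζ : A // ζ ^ l = 1} = l) :
    (∀ x ζ : A, ζ ^ l = 1 → adj o (x • o) → adj o ((x * ζ) • o)) ∨
      ∃ s : Setoid Ω,
        (∀ σ : Equiv.Perm Ω, (∀ i j, adj (σ i) (σ j) ↔ adj i j) → ∀ i j, s.r i j → s.r (σ i) (σ j)) ∧
        (∀ a b : A, s.r (a • o) (b • o) → ∃ y : A, a⁻¹ * b = y ^ l) ∧
        ∃ i j, i ≠ j ∧ s.r i j := by
  classical
  let r : Ω → Ω → Prop := fun i j => walk adj l l i j ≠ 0
  by_cases hall : ∀ i j, ¬ r i j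
  · left
    intro x ζ hζ hx
    have h0 := hall o ((x ^ l) • o)
    simp only [r, not_not] at h0
    rw [walk_l adj o l hA hreg, ZMod.natCast_eq_zero_iff] at h0
    set F := (steps adj o).filter fun y : A => y ^ l = x ^ l with hF
    have hxF : x ∈ F := by simp [hF, steps, hx]
    let T : Finset A := (Finset.univ.filter fun y : A => y ^ l = 1).image (x * ·)
    have hsub : F ⊆ T := fun y hy => by
      simp only [hF, Finset.mem_filter] at hy
      refine Finset.mem_image.2 ⟨x⁻¹ * y, ?_, by group⟩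
      simp [mul_pow, inv_pow, hy.2]
    have hT : T.card = l := by
      rw [Finset.card_image_of_injective _ (mul_right_injective x), ← Fintype.card_subtype,
        ← Nat.card_eq_fintype_card, hker]
    have hle : T.card ≤ F.card := hT ▸ Nat.le_of_dvd (Finset.card_pos.2 ⟨x, hxF⟩) h0
    have hmem : x * ζ ∈ F := Finset.eq_of_subset_of_card_le hsub hle ▸
      Finset.mem_image.2 ⟨ζ, by simp [hζ], rfl⟩
    simp only [hF, steps, Finset.mem_filter, Finset.mem_univ, true_and] at hmem
    exact hmem.1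
  · right
    push Not at hall
    refine ⟨Relation.EqvGen.setoid r, fun σ hσ i j hij => ?_, ?_, ?_⟩
    · induction hij with
      | rel a b h => exact Relation.EqvGen.rel _ _ (show walk adj l l _ _ ≠ 0 by rwa [walk_perm adj l σ hσ])
      | refl a => exact Relation.EqvGen.refl _
      | symm a b _ h => exact Relation.EqvGen.symm _ _ h
      | trans a b c _ _ h h' => exact Relation.EqvGen.trans _ _ _ h h'
    · have key : ∀ i j, Relation.EqvGen r i j → ∀ a b : A, a • o = i → b • o = j →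
          ∃ y : A, a⁻¹ * b = y ^ l := by
        intro i j hij
        induction hij with
        | rel i j h =>
          intro a b ha hb
          subst ha hb
          have h1 : walk adj l l o ((a⁻¹ * b) • o) ≠ 0 := by
            intro e
            apply h
            rw [← e, ← walk_perm adj l (MulAction.toPerm a⁻¹) (fun i j => hA a⁻¹ i j) l (a • o) (b • o)]
            simp [mul_smul]
          rw [walk_l adj o l hA hreg] at h1
          obtain ⟨y, hy⟩ : ((steps adj o).filter fun x : A => x ^ l = a⁻¹ * b).Nonempty := by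
            rw [← Finset.card_pos]; exact Nat.pos_of_ne_zero fun e => h1 (by rw [e, Nat.cast_zero])
          exact ⟨y, (Finset.mem_filter.1 hy).2.symm⟩
        | refl i =>
          intro a b ha hb
          obtain ⟨c, -, hc⟩ := hreg i
          exact ⟨1, by rw [hc a ha, hc b hb, inv_mul_cancel, one_pow]⟩
        | symm i j _ ih =>
          intro a b ha hb
          obtain ⟨y, hy⟩ := ih b a hb ha
          exact ⟨y⁻¹, by rw [inv_pow, ← hy, mul_inv_rev, inv_inv]⟩
        | trans i j k _ _ ih ih' =>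
          intro a b ha hb
          obtain ⟨c, hc, -⟩ := hreg j
          obtain ⟨y, hy⟩ := ih a c ha hc
          obtain ⟨y', hy'⟩ := ih' c b hc hb
          exact ⟨y * y', by rw [mul_pow, ← hy, ← hy']; group⟩
      exact fun a b hab => key _ _ hab a b rfl rfl
    · obtain ⟨i, j, hij⟩ := hall
      refine ⟨i, j, ?_, Relation.EqvGen.rel _ _ hij⟩
      intro e
      subst e
      apply hij
      obtain ⟨a, ha, -⟩ := hreg i
      rw [← ha, ← walk_perm adj l (MulAction.toPerm a⁻¹) (fun i j => hA a⁻¹ i j) l (a • o) (a • o)]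
      simp only [MulAction.toPerm_apply, smul_smul, inv_mul_cancel]
      conv_lhs => arg 4; rw [one_smul]
      rw [walk_l adj o l hA hreg, Finset.card_eq_zero.2, Nat.cast_zero]
      refine Finset.filter_eq_empty_iff.2 fun x hx hx1 => hroot x hx1 ?_
      simpa [steps] using hx

end Cfsg.Lib.BenderSE.Schur

namespace Cfsg.Lib.BenderSE

open Subgroup MulAction Cfsg.Lib.InvolCalc

universe u

variable {G : Type u} [Group G] [Finite G] {H : Subgroup G}

/-- section 2 of the COMM proof: for a prime `l` whose roots of unity in `A` commute with `v` after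
translation, non-commuting is periodic by them or `M A` moves `A` only by `l`-th powers -/
theorem periodic_or_power (hH : Cfsg.IsStronglyEmbedded H) (hb : NoBad H) {c a : G ⧸ H} (hac : a ≠ c)
    {A M : Subgroup G} {v : G} (hAle : A ≤ stabilizer G c ⊓ stabilizer G a)
    (hAc : ∀ x ∈ A, ∀ y ∈ A, Commute x y)
    (hnorm : stabilizer G c ⊓ stabilizer G a ≤ normalizer (A : Set G))
    (hfree : ∀ y ∈ A, y ≠ 1 → ∀ u : G, orderOf u = 2 → u • c = c → ¬ Commute y u)
    (hv : orderOf v = 2) (hvc : v • c = c)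
    (hreg : ∀ i : G, orderOf i = 2 → i • c = c → ∃ y ∈ A, y * v * y⁻¹ = i)
    (hMI : M ≤ closure {g : G | g • c = c ∧ ∃ k : ℕ, orderOf g = 2 ^ k}) {l : ℕ} [Fact l.Prime]
    (hker : Nat.card {ζ : A // ζ ^ l = 1} = l)
    (hroot : ∀ ζ ∈ A, ζ ^ l = 1 → Commute v (ζ * v * ζ⁻¹)) :
    (∀ x ∈ A, ∀ ζ ∈ A, ζ ^ l = 1 → ¬ Commute v (x * v * x⁻¹) →
        ¬ Commute v (x * ζ * v * (x * ζ)⁻¹)) ∨
      ∀ g ∈ M ⊔ A, g • a = a → Commute g v → ∀ x ∈ A, ∃ y ∈ A, g * x * g⁻¹ * x⁻¹ = y ^ l := by
  classical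
  have hAc' : A ≤ stabilizer G c := hAle.trans inf_le_left
  letI : CommGroup A :=
    { (inferInstance : Group A) with mul_comm := fun p q => Subtype.ext (hAc p p.2 q q.2).eq }
  letI := Fintype.ofFinite A
  let Ω := {i : G // orderOf i = 2 ∧ i • c = c}
  letI := Fintype.ofFinite Ω
  letI actX : MulAction (stabilizer G c) Ω :=
    { smul := fun g i => ⟨(g : G) * i.1 * (g : G)⁻¹, by rw [orderOf_conj', i.2.1], by
        rw [mul_smul, mul_smul, inv_smul_eq_iff.2 (mem_stabilizer_iff.1 g.2).symm, i.2.2,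
          mem_stabilizer_iff.1 g.2]⟩
      one_smul := fun i => Subtype.ext (show (1 : G) * i.1 * (1 : G)⁻¹ = i.1 by group)
      mul_smul := fun g g' i => Subtype.ext
        (show (g : G) * (g' : G) * i.1 * ((g : G) * (g' : G))⁻¹ =
          (g : G) * ((g' : G) * i.1 * (g' : G)⁻¹) * (g : G)⁻¹ by group) }
  letI actA : MulAction A Ω := MulAction.compHom Ω (Subgroup.inclusion hAc')
  let adj : Ω → Ω → Prop := fun i j => ¬ Commute i.1 j.1
  have hinv : ∀ (g : stabilizer G c) (i j : Ω), adj (g • i) (g • j) ↔ adj i j := fun g i j =>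
    not_congr ⟨fun h => Commute.of_map (MulAut.conj (g : G)).injective (f := (MulAut.conj (g : G)).toMonoidHom) h,
      fun h => h.map (MulAut.conj (g : G)).toMonoidHom⟩
  let o : Ω := ⟨v, hv, hvc⟩
  have hval : ∀ x : A, ((x • o : Ω) : G) = (x : G) * v * (x : G)⁻¹ := fun x => rfl
  have hreg' : ∀ ω : Ω, ∃! x : A, x • o = ω := by
    intro ω
    obtain ⟨y, hy, hyω⟩ := hreg ω.1 ω.2.1 ω.2.2
    refine ⟨⟨y, hy⟩, Subtype.ext hyω, fun x hx => ?_⟩
    by_contra hne
    refine hfree (y⁻¹ * (x : G)) (mul_mem (inv_mem hy) x.2)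
      (fun e => hne (Subtype.ext (inv_mul_eq_one.1 e).symm)) v hv hvc ?_
    have h1 : (x : G) * v * (x : G)⁻¹ = y * v * y⁻¹ := (congrArg Subtype.val hx).trans hyω.symm
    show y⁻¹ * (x : G) * v = v * (y⁻¹ * (x : G))
    calc y⁻¹ * (x : G) * v = y⁻¹ * ((x : G) * v * (x : G)⁻¹) * (x : G) := by group
      _ = v * (y⁻¹ * (x : G)) := by rw [h1]; group
  rcases Schur.dichotomy adj o l (fun x i j => hinv (Subgroup.inclusion hAc' x) i j) hreg'
    (fun ζ hζ => not_not.2 (hroot ζ ζ.2 (congrArg Subtype.val hζ))) hker with hper | ⟨s, hs, hpow, i₀, j₀, hne, hij⟩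
  · left
    intro x hx ζ hζ hζl hxv
    exact hper ⟨x, hx⟩ ⟨ζ, hζ⟩ (Subtype.ext hζl) hxv
  right
  have hsg : ∀ (g : stabilizer G c) (i j : Ω), s.r i j → s.r (g • i) (g • j) := fun g i j h =>
    hs (MulAction.toPerm g) (fun i j => hinv g i j) i j h
  letI actY : MulAction (stabilizer G c) (Quotient s) :=
    { smul := fun g => Quotient.map (g • ·) (fun i j h => hsg g i j h)
      one_smul := fun y => Quotient.inductionOn y fun i => congrArg (Quotient.mk s) (one_smul _ i)
      mul_smul := fun g g' y => Quotient.inductionOn y fun i => congrArg (Quotient.mk s) (mul_smul g g' i) }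
  have hfix : ∀ u : stabilizer G c, (∃ k : ℕ, orderOf (u : G) = 2 ^ k) → ∀ y : Quotient s, u • y = y :=
    smul_eq_self_of_two_power hH hb hac hAle hAc hfree hv hvc hreg (Y := Quotient s)
      (fun i => Quotient.mk s i) (fun y => Quotient.inductionOn y fun i => ⟨i, rfl⟩)
      (fun g i j h => by rw [show j = g • i from Subtype.ext h]; rfl)
      (fun hinj => hne (hinj (Quotient.sound hij)))
  have hmove : ∀ g ∈ M ⊔ A, ∃ (hg : g ∈ stabilizer G c) (a₀ : A), ∀ y : Quotient s,
      (⟨g, hg⟩ : stabilizer G c) • y = Subgroup.inclusion hAc' a₀ • y := by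
    intro g hg
    have hg' : g ∈ closure ({g : G | g • c = c ∧ ∃ k : ℕ, orderOf g = 2 ^ k} ∪ (A : Set G)) := by
      rw [Subgroup.closure_union, closure_eq]
      exact sup_le_sup_right hMI A hg
    clear hg
    induction hg' using closure_induction with
    | mem x hx =>
      rcases hx with hx | hx
      · exact ⟨mem_stabilizer_iff.2 hx.1, 1, fun y => by
          rw [map_one, one_smul]; exact hfix ⟨x, mem_stabilizer_iff.2 hx.1⟩ hx.2 y⟩
      · exact ⟨hAc' hx, ⟨x, hx⟩, fun y => rfl⟩
    | one => exact ⟨one_mem _, 1, fun y => by rw [map_one]; rfl⟩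
    | mul g₁ g₂ _ _ h₁ h₂ =>
      obtain ⟨hg₁, a₁, e₁⟩ := h₁
      obtain ⟨hg₂, a₂, e₂⟩ := h₂
      refine ⟨mul_mem hg₁ hg₂, a₁ * a₂, fun y => ?_⟩
      rw [show (⟨g₁ * g₂, mul_mem hg₁ hg₂⟩ : stabilizer G c) = ⟨g₁, hg₁⟩ * ⟨g₂, hg₂⟩ from rfl, mul_smul,
        e₂, e₁, map_mul, mul_smul]
    | inv g₁ _ h₁ =>
      obtain ⟨hg₁, a₁, e₁⟩ := h₁
      refine ⟨inv_mem hg₁, a₁⁻¹, fun y => ?_⟩
      rw [show (⟨g₁⁻¹, inv_mem hg₁⟩ : stabilizer G c) = (⟨g₁, hg₁⟩ : stabilizer G c)⁻¹ from rfl,
        inv_smul_eq_iff, e₁, map_inv, smul_inv_smul]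
  intro g hg hga hgv x hx
  obtain ⟨hgc, a₀, hact⟩ := hmove g hg
  have hgo : (⟨g, hgc⟩ : stabilizer G c) • o = o := Subtype.ext
    (show g * v * g⁻¹ = v by rw [hgv.eq, mul_inv_cancel_right])
  obtain ⟨y₀, hy₀⟩ := hpow 1 a₀ (Quotient.exact (s := s) (by
    have h1 := hact (Quotient.mk s o)
    rw [show (⟨g, hgc⟩ : stabilizer G c) • Quotient.mk s o = Quotient.mk s ((⟨g, hgc⟩ : stabilizer G c) • o) from rfl,
      hgo] at h1
    exact (congrArg (Quotient.mk s) (one_smul A o)).trans h1))
  have hx' : g * x * g⁻¹ ∈ A :=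
    (mem_normalizer_iff.1 (hnorm (mem_inf.2 ⟨hgc, mem_stabilizer_iff.2 hga⟩)) x).1 hx
  obtain ⟨y₁, hy₁⟩ := hpow ⟨g * x * g⁻¹, hx'⟩ (a₀ * ⟨x, hx⟩) (Quotient.exact (s := s) (by
    have h1 := hact (Quotient.mk s ((⟨x, hx⟩ : A) • o))
    have h2 : (⟨g, hgc⟩ : stabilizer G c) • ((⟨x, hx⟩ : A) • o) = (⟨g * x * g⁻¹, hx'⟩ : A) • o :=
      Subtype.ext (show g * (x * v * x⁻¹) * g⁻¹ = g * x * g⁻¹ * v * (g * x * g⁻¹)⁻¹ by
        conv_rhs => rw [show g * x * g⁻¹ * v * (g * x * g⁻¹)⁻¹ = g * x * (g⁻¹ * v * g) * x⁻¹ * g⁻¹ by group]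
        rw [mul_assoc g⁻¹, ← hgv.eq, inv_mul_cancel_left]
        group)
    rw [mul_smul]
    exact (congrArg (Quotient.mk s) h2).symm.trans h1))
  refine ⟨(y₀ * y₁⁻¹ : A), (y₀ * y₁⁻¹).2, ?_⟩
  have h3 : (⟨g * x * g⁻¹, hx'⟩ : A) * (⟨x, hx⟩ : A)⁻¹ = (y₀ * y₁⁻¹) ^ l := by
    rw [mul_pow, inv_pow, ← hy₁, ← hy₀]
    simp [mul_comm]
    group
  exact congrArg Subtype.val h3

end Cfsg.Lib.BenderSE
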