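/-
COMM, a common prime with cyclic part (notes/bender_comm.md section 2): for a prime `l` dividing `|R|`
the involutions commute or `R` centralises every `l`-element of `A`.
-/
import Cfsg.Agent.BenderSE.CommNoncoprime
import Cfsg.Agent.BenderSE.CommSchur

set_option autoImplicit false
set_option linter.unusedSectionVars false
set_option linter.style.haveILetI false

namespace Cfsg.Lib.BenderSE

open Subgroup MulAction Cfsg.Lib.InvolCalc
open scoped commutatorElement

universe u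

variable {G : Type u} [Group G] [Finite G] {H : Subgroup G} {A : Subgroup G} {v : G} {c a : G ⧸ H}

/-- with only `l` roots of unity the `l`-elements of an abelian group are the powers of any of
maximal order -/
theorem mem_zpowers_of_roots {K : Type u} [CommGroup K] [Finite K] {l : ℕ} [hl : Fact l.Prime]
    (hroots : Nat.card {z : K // z ^ l = 1} = l) {x : K} {N : ℕ} (hx : orderOf x = l ^ (N + 1)) :
    ∀ n ≤ N + 1, ∀ z : K, z ^ l ^ n = 1 → z ∈ zpowers x := by
  have hl' : l.Prime := hl.out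
  set e := x ^ l ^ N with he
  have heo : orderOf e = l := by
    rw [he, orderOf_pow' _ (pow_ne_zero N hl'.ne_zero), hx, pow_succ, Nat.gcd_mul_right_left,
      Nat.mul_div_cancel_left _ (pow_pos hl'.pos N)]
  have hline : ∀ z : K, z ^ l = 1 → z ∈ zpowers e := by
    let Z : Subgroup K := (powMonoidHom l : K →* K).ker
    have hZ : ∀ z, z ∈ Z ↔ z ^ l = 1 := fun z => MonoidHom.mem_ker
    have h1 : zpowers e = Z := Subgroup.eq_of_le_of_card_ge
      (zpowers_le.2 ((hZ e).2 (heo ▸ pow_orderOf_eq_one e))) (by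
        rw [Nat.card_zpowers, heo, ← Nat.card_congr (Equiv.subtypeEquivRight hZ).symm, hroots])
    intro z hz
    rw [h1]; exact (hZ z).2 hz
  intro n
  induction n with
  | zero => intro _ z hz; rw [pow_zero, pow_one] at hz; rw [hz]; exact one_mem _
  | succ n ih =>
    intro hn z hz
    obtain ⟨j, hj⟩ := Subgroup.mem_zpowers_iff.1 (ih (by omega) (z ^ l) (by rw [← pow_mul, ← pow_succ', hz]))
    -- the exponent is divisible by `l`
    have hdvd : (l : ℤ) ∣ j := by
      have h1 : (x ^ j) ^ l ^ n = 1 := by rw [hj, ← pow_mul, ← pow_succ', hz]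
      have h2 : (x ^ j) ^ l ^ N = 1 := by
        rw [← Nat.sub_add_cancel (show n ≤ N by omega), pow_add, mul_comm, pow_mul, h1, one_pow]
      rw [← zpow_natCast, ← zpow_mul, ← orderOf_dvd_iff_zpow_eq_one, hx, pow_succ'] at h2
      push_cast at h2
      rcases h2 with ⟨k, hk⟩
      refine ⟨k, mul_right_cancel₀ (b := ((l : ℤ) ^ N)) (pow_ne_zero N (by exact_mod_cast hl'.ne_zero)) ?_⟩
      rw [hk]; ring
    obtain ⟨i, rfl⟩ := hdvd
    have h3 : (z * (x ^ i)⁻¹) ^ l = 1 := by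
      rw [mul_pow, inv_pow, ← hj, ← zpow_natCast (x ^ i), ← zpow_mul, mul_comm i, mul_inv_cancel]
    have h4 : z * (x ^ i)⁻¹ ∈ zpowers x :=
      zpowers_le.2 (pow_mem (mem_zpowers x) (l ^ N)) (hline _ h3)
    simpa using mul_mem h4 (zpow_mem (mem_zpowers x) i)

/-- SECTION 2: a common prime makes the involutions commute or `R` centralises the `l`-part of `A` -/
theorem RegAb.commAt_or_central (P : RegAb H A v c a) (hH : Cfsg.IsStronglyEmbedded H)
    (hcore : H.normalCore = ⊥) (hb : NoBad H) (hcs : CentreSquares H)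
    (reg : RegBelow.{u} (Nat.card G)) {l : ℕ} [Fact l.Prime]
    (hlR : l ∣ Nat.card (pairPart A v c a)) :
    CommAt H ∨ ∀ r ∈ pairPart A v c a, ∀ x ∈ A, (∃ n : ℕ, x ^ l ^ n = 1) → Commute r x := by
  classical
  have hl : l.Prime := Fact.out
  by_cases hlA : l ∣ Nat.card A
  swap
  · refine Or.inr fun r _ x hx ⟨n, hn⟩ => ?_
    have hx1 : x = 1 := by
      rw [← orderOf_eq_one_iff]
      exact Nat.eq_one_of_dvd_coprimes ((hl.coprime_iff_not_dvd.2 hlA).pow_left n)
        (orderOf_dvd_of_pow_eq_one hn) (Subgroup.orderOf_dvd_natCard A hx)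
    rw [hx1]; exact Commute.one_right r
  rcases P.commAt_or_card_roots hH hcore hb hcs reg hlR hlA with hC | hroots
  · exact Or.inl hC
  letI : CommGroup A :=
    { (inferInstance : Group A) with mul_comm := fun p q => Subtype.ext (P.comm p p.2 q q.2).eq }
  set R := pairPart A v c a with hR
  have hconjA : ∀ r ∈ R, ∀ x ∈ A, r * x * r⁻¹ ∈ A := fun r hr x hx => P.conj_mem_of_pairPart hr hx
  have hconjR : ∀ r ∈ R, R ≤ normalizer (A : Set G) := fun _ _ r hr =>
    P.norm (P.pairPart_le hr)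
  -- a generator of the `l`-part
  obtain ⟨N, k, hk, hNk⟩ := Nat.exists_eq_pow_mul_and_not_dvd
    (Nat.card_pos (α := A)).ne' l hl.ne_one
  obtain ⟨z₀, hz₀⟩ := exists_prime_orderOf_dvd_card' (G := A) l hlA
  have hNn : ∀ z : A, (∃ n : ℕ, z ^ l ^ n = 1) → z ^ l ^ N = 1 := by
    rintro z ⟨n, hn⟩
    refine orderOf_dvd_iff_pow_eq_one.1 ?_
    have h1 : orderOf z ∣ l ^ N * k := hNk ▸ orderOf_dvd_natCard z
    exact (((hl.coprime_iff_not_dvd.2 hk).pow_left n).coprime_dvd_left
      (orderOf_dvd_of_pow_eq_one hn)).dvd_of_dvd_mul_right h1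
  obtain ⟨M, -, ⟨x, hxM⟩, hMmax⟩ : ∃ M ≤ N, (∃ x : A, orderOf x = l ^ (M + 1)) ∧
      ∀ z : A, (∃ n : ℕ, z ^ l ^ n = 1) → z ^ l ^ (M + 1) = 1 := by
    let S := fun M => ∃ x : A, orderOf x = l ^ (M + 1)
    have hS0 : S 0 := ⟨z₀, by rw [pow_one, hz₀]⟩
    refine ⟨Nat.findGreatest S N, Nat.findGreatest_le N, Nat.findGreatest_spec (Nat.zero_le N) hS0,
      fun z hz => orderOf_dvd_iff_pow_eq_one.1 ?_⟩
    obtain ⟨j, hjN, hj⟩ := (Nat.dvd_prime_pow hl).1 (orderOf_dvd_of_pow_eq_one (hNn z hz))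
    rw [hj]
    refine pow_dvd_pow l ?_
    rcases Nat.eq_zero_or_pos j with rfl | hj0
    · omega
    · have h := Nat.le_findGreatest (P := S) (show j - 1 ≤ N by omega) ⟨z, by rw [hj]; congr 1; omega⟩
      omega
  have hgenx : ∀ z : A, (∃ n : ℕ, z ^ l ^ n = 1) → z ∈ zpowers x := fun z hz =>
    mem_zpowers_of_roots hroots hxM (M + 1) le_rfl z (hMmax z hz)
  have hxl : (x : G) ^ l ^ (M + 1) = 1 := by
    rw [← hxM, ← Subgroup.orderOf_coe]; exact pow_orderOf_eq_one _
  set e : G := (x : G) ^ l ^ M with he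
  have heA : e ∈ A := pow_mem x.2 _
  have hxo : orderOf (x : G) = l ^ (M + 1) := by rw [Subgroup.orderOf_coe, hxM]
  have heo : orderOf e = l := by
    rw [he, orderOf_pow' _ (pow_ne_zero M hl.ne_zero), hxo, pow_succ, Nat.gcd_mul_right_left,
      Nat.mul_div_cancel_left _ (pow_pos hl.pos M)]
  have he1 : e ≠ 1 := fun h => by rw [h, orderOf_one] at heo; exact hl.ne_one heo.symm
  have hrootE : ∀ ζ ∈ A, ζ ^ l = 1 → ζ ∈ zpowers e := by
    intro ζ hζ hζl
    let Z : Subgroup A := (powMonoidHom l : A →* A).ker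
    have hZ : ∀ z, z ∈ Z ↔ z ^ l = 1 := fun z => MonoidHom.mem_ker
    have h1 : zpowers (⟨e, heA⟩ : A) = Z := Subgroup.eq_of_le_of_card_ge
      (zpowers_le.2 ((hZ _).2 (Subtype.ext (by push_cast; rw [← heo]; exact pow_orderOf_eq_one e)))) (by
        rw [Nat.card_zpowers, Subgroup.orderOf_mk, heo, ← Nat.card_congr (Equiv.subtypeEquivRight hZ).symm, hroots])
    obtain ⟨j, hj⟩ : (⟨ζ, hζ⟩ : A) ∈ zpowers (⟨e, heA⟩ : A) := h1 ▸ (hZ _).2 (Subtype.ext (by simpa using hζl))
    exact ⟨j, by simpa using congrArg Subtype.val hj⟩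
  -- elements of order `l` in `R` fix the roots
  obtain ⟨y₀, hy₀⟩ := exists_prime_orderOf_dvd_card' (G := R) l hlR
  have hfixroot : ∀ g ∈ R, (∃ i : ℕ, g ^ l ^ i = 1) → Commute g e := by
    rintro g hg ⟨i, hi⟩
    have hgp : IsPGroup l (zpowers g) := IsPGroup.of_card_dvd_pow (n := i) (by
      rw [Nat.card_zpowers]; exact orderOf_dvd_of_pow_eq_one hi)
    have hn : zpowers g ≤ normalizer (zpowers e : Set G) := by
      rw [zpowers_le]
      refine mem_normalizer_of_maps_to ?_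
      rintro _ ⟨j, rfl⟩
      rw [← conj_zpow]
      refine zpow_mem (hrootE _ (hconjA g hg e heA) ?_) j
      rw [conj_pow, ← heo, pow_orderOf_eq_one, mul_one, mul_inv_cancel]
    obtain ⟨e', he', he'1, hfix⟩ := exists_fixed_of_pgroup hgp hn (by rw [Nat.card_zpowers, heo])
    have h6 : zpowers e' = zpowers e := Subgroup.eq_of_le_of_card_ge (zpowers_le.2 he') (by
      rw [Nat.card_zpowers, Nat.card_zpowers, heo]
      refine le_of_eq (orderOf_eq_prime ?_ he'1).symm
      obtain ⟨j, rfl⟩ := he'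
      show (e ^ j) ^ l = 1
      rw [← zpow_natCast, ← zpow_mul, mul_comm, zpow_mul, zpow_natCast, ← heo, pow_orderOf_eq_one, one_zpow])
    obtain ⟨j, hj⟩ : e ∈ zpowers e' := h6 ▸ mem_zpowers e
    rw [← hj]
    exact (hfix g (mem_zpowers g)).zpow_right j
  have hgamma : ∀ ζ ∈ A, ζ ^ l = 1 → Commute v (ζ * v * ζ⁻¹) := by
    intro ζ hζ hζl
    have hy := y₀.2
    have hye : Commute (y₀ : G) ζ := by
      obtain ⟨j, rfl⟩ := hrootE ζ hζ hζl
      exact (hfixroot _ hy ⟨1, by rw [pow_one, ← hy₀, ← Subgroup.orderOf_coe]; exact pow_orderOf_eq_one _⟩).zpow_right j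
    have hy1 : (y₀ : G) ≠ 1 := fun h => by
      rw [← Subgroup.orderOf_coe, h, orderOf_one] at hy₀; exact hl.ne_one hy₀.symm
    have hyv : Commute (y₀ : G) v := (mem_pairPart.1 hy).2.2
    exact commute_of_centralized hH hcore hb hcs P.ne hy1
      (mem_stabilizer_iff.1 (mem_inf.1 (P.pairPart_le hy)).1)
      (mem_stabilizer_iff.1 (mem_inf.1 (P.pairPart_le hy)).2) P.vord (P.conj_mem hζ).1 P.vfix
      (P.conj_mem hζ).2 hyv ((hye.mul_right hyv).mul_right hye.inv_right)
  rcases periodic_or_power hH hb P.ne (A := A) (M := twoGen c) P.le P.comm P.norm P.free P.vord P.vfix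
    P.reg le_rfl hroots hgamma with hper | hpow
  · refine Or.inl (P.commAt_of_periodic hH hb heA he1 fun z hz hzv => ?_)
    by_contra hn
    have h1 := hper (e * z) (mul_mem heA hz) e⁻¹ (inv_mem heA)
      (by rw [inv_pow, ← heo, pow_orderOf_eq_one, inv_one]) hn
    rw [show e * z * e⁻¹ = z by rw [(P.comm e heA z hz).eq, mul_inv_cancel_right]] at h1
    exact h1 hzv
  refine Or.inr ?_
  -- every element of `R` fixes the roots
  have hRe : ∀ r ∈ R, Commute r e := by
    intro r hr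
    obtain ⟨hrX, hra, hrv⟩ := mem_pairPart.1 hr
    obtain ⟨y, hy, hyx⟩ := hpow r hrX hra hrv x x.2
    have hyl : (⟨y, hy⟩ : A) ^ l ^ (M + 1) = 1 := by
      refine hMmax _ ⟨M + 2, Subtype.ext ?_⟩
      push_cast
      rw [pow_succ', pow_mul, ← hyx]
      have hc1 : Commute (r * x * r⁻¹) (x : G)⁻¹ := (P.comm _ (hconjA r hr x x.2) _ x.2).inv_right
      rw [hc1.mul_pow, conj_pow, inv_pow, hxl, mul_one, mul_inv_cancel, inv_one, one_mul]
    have h1 : (r * x * r⁻¹ * (x : G)⁻¹) ^ l ^ M = 1 := by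
      rw [hyx, ← pow_mul, ← pow_succ']
      exact congrArg Subtype.val hyl
    have hc1 : Commute (r * x * r⁻¹) (x : G)⁻¹ := (P.comm _ (hconjA r hr x x.2) _ x.2).inv_right
    rw [hc1.mul_pow, conj_pow, inv_pow, mul_inv_eq_one] at h1
    exact mul_inv_eq_iff_eq_mul.1 h1
  have hconjx : ∀ r ∈ R, r * x * r⁻¹ ∈ zpowers (x : G) := by
    intro r hr
    obtain ⟨j, hj⟩ := hgenx ⟨_, hconjA r hr x x.2⟩ ⟨M + 1, Subtype.ext (by
      push_cast; rw [conj_pow, hxl, mul_one, mul_inv_cancel])⟩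
    exact ⟨j, by simpa using congrArg Subtype.val hj⟩
  -- the derived group fixes the generator
  have hder : ∀ g : R, g ∈ _root_.commutator R → Commute (g : G) x := by
    have hle : _root_.commutator R ≤ (centralizer ({(x : G)} : Set G)).subgroupOf R := by
      rw [_root_.commutator_def, commutator_le]
      intro r _ s _
      refine mem_subgroupOf.2 (mem_centralizer_singleton_iff.2 ?_)
      rw [show ((⁅r, s⁆ : R) : G) = ⁅(r : G), (s : G)⁆ from map_commutatorElement R.subtype r s,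
        commutatorElement_def]
      obtain ⟨i, hi⟩ := hconjx _ (inv_mem r.2)
      obtain ⟨j, hj⟩ := hconjx _ (inv_mem s.2)
      replace hi : (r : G)⁻¹ * x * (r : G)⁻¹⁻¹ = (x : G) ^ i := hi.symm
      replace hj : (s : G)⁻¹ * x * (s : G)⁻¹⁻¹ = (x : G) ^ j := hj.symm
      have e1 : (r : G)⁻¹ * (s : G)⁻¹ * x * ((r : G)⁻¹ * (s : G)⁻¹)⁻¹ = ((x : G) ^ i) ^ j := by
        rw [show (r : G)⁻¹ * (s : G)⁻¹ * x * ((r : G)⁻¹ * (s : G)⁻¹)⁻¹ =
          (r : G)⁻¹ * ((s : G)⁻¹ * x * (s : G)⁻¹⁻¹) * (r : G)⁻¹⁻¹ by group, hj, ← conj_zpow, hi]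
      have e2 : (s : G)⁻¹ * (r : G)⁻¹ * x * ((s : G)⁻¹ * (r : G)⁻¹)⁻¹ = ((x : G) ^ i) ^ j := by
        rw [show (s : G)⁻¹ * (r : G)⁻¹ * x * ((s : G)⁻¹ * (r : G)⁻¹)⁻¹ =
          (s : G)⁻¹ * ((r : G)⁻¹ * x * (r : G)⁻¹⁻¹) * (s : G)⁻¹⁻¹ by group, hi, ← conj_zpow, hj,
          ← zpow_mul, ← zpow_mul, mul_comm]
      refine mul_inv_eq_iff_eq_mul.1 ?_
      calc (r : G) * s * (r : G)⁻¹ * (s : G)⁻¹ * x * ((r : G) * s * (r : G)⁻¹ * (s : G)⁻¹)⁻¹
          = ((s : G)⁻¹ * (r : G)⁻¹)⁻¹ * ((r : G)⁻¹ * (s : G)⁻¹ * x * ((r : G)⁻¹ * (s : G)⁻¹)⁻¹) *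
              ((s : G)⁻¹ * (r : G)⁻¹) := by group
        _ = x := by rw [e1, ← e2]; group
    exact fun g hg => mem_centralizer_singleton_iff.1 (mem_subgroupOf.1 (hle hg))
  intro r hr w hw hwl
  obtain ⟨j, hj⟩ := hgenx ⟨w, hw⟩ (hwl.imp fun n hn => Subtype.ext (by simpa using hn))
  suffices hrx : Commute r x by
    rw [← show (x : G) ^ j = w by simpa using congrArg Subtype.val hj]
    exact hrx.zpow_right j
  -- split into the `l`-part and the rest
  obtain ⟨i, k', hk', hik⟩ := Nat.exists_eq_pow_mul_and_not_dvd (orderOf_pos r).ne' l hl.ne_one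
  set g := r ^ k' with hg
  set h := r ^ l ^ i with hh
  have hgR : g ∈ R := pow_mem hr _
  have hgl : g ^ l ^ i = 1 := by rw [hg, ← pow_mul, mul_comm, ← hik, pow_orderOf_eq_one]
  have hhk : h ^ k' = 1 := by rw [hh, ← pow_mul, ← hik, pow_orderOf_eq_one]
  have hgx : Commute g x := by
    obtain ⟨i', -, hi'⟩ := (Nat.dvd_prime_pow hl).1 (orderOf_dvd_of_pow_eq_one hgl)
    exact hder _ (P.mem_commutator_of_wide_pow hH hcore hb hcs reg (g := (⟨g, hgR⟩ : R))
      (by rw [Subgroup.orderOf_mk, hi']) heA he1 (hfixroot g hgR ⟨i, hgl⟩))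
  have hhx : Commute h x := by
    have key : ∀ n ≤ M + 1, Commute h ((x : G) ^ l ^ (M + 1 - n)) := by
      intro n
      induction n with
      | zero => intro _; rw [Nat.sub_zero, hxl]; exact Commute.one_right h
      | succ n ih =>
        intro hn
        set u := (x : G) ^ l ^ (M + 1 - (n + 1)) with hu
        have huA : u ∈ A := pow_mem x.2 _
        have hul : Commute h (u ^ l) := by
          rw [hu, ← pow_mul, ← pow_succ, show M + 1 - (n + 1) + 1 = M + 1 - n by omega]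
          exact ih (by omega)
        set z := h * u * h⁻¹ * u⁻¹ with hz
        have hzA : z ∈ A := mul_mem (hconjA h (pow_mem hr _) u huA) (inv_mem huA)
        have hc1 : Commute (h * u * h⁻¹) u⁻¹ :=
          (P.comm _ (hconjA h (pow_mem hr _) u huA) _ huA).inv_right
        have hzl : z ^ l = 1 := by
          rw [hz, hc1.mul_pow, conj_pow, inv_pow, hul.eq, mul_inv_cancel_right, mul_inv_cancel]
        have hhz : Commute h z := by
          obtain ⟨s, hs⟩ := hrootE z hzA hzl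
          rw [← hs]
          exact (hRe h (pow_mem hr _)).zpow_right s
        have hpowz : ∀ m : ℕ, h ^ m * u * (h ^ m)⁻¹ = z ^ m * u := by
          intro m
          induction m with
          | zero => simp
          | succ m ihm =>
            rw [pow_succ', mul_inv_rev, show h * h ^ m * u * ((h ^ m)⁻¹ * h⁻¹) =
              h * (h ^ m * u * (h ^ m)⁻¹) * h⁻¹ by group, ihm,
              show h * (z ^ m * u) * h⁻¹ = (h * z ^ m * h⁻¹) * (z * u) by rw [hz]; group,
              (hhz.pow_right m).eq, mul_inv_cancel_right, pow_succ]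
            group
        have hzk : z ^ k' = 1 := by
          have h1 := hpowz k'
          rw [hhk, inv_one, one_mul, mul_one] at h1
          exact mul_eq_right.1 h1.symm
        have hz1 : z = 1 := by
          rw [← orderOf_eq_one_iff]
          exact Nat.eq_one_of_dvd_coprimes (hl.coprime_iff_not_dvd.2 hk')
            (orderOf_dvd_of_pow_eq_one hzl) (orderOf_dvd_of_pow_eq_one hzk)
        exact mul_inv_eq_iff_eq_mul.1 (mul_inv_eq_one.1 hz1)
    simpa using key (M + 1) le_rfl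
  have hcop : (l ^ i).Coprime k' := (hl.coprime_iff_not_dvd.2 hk').pow_left i
  have hb1 : (1 : ℤ) = ((l ^ i : ℕ) : ℤ) * (l ^ i).gcdA k' + (k' : ℤ) * (l ^ i).gcdB k' := by
    rw [← Nat.gcd_eq_gcd_ab, hcop.gcd_eq_one, Nat.cast_one]
  have hr' : r = h ^ (l ^ i).gcdA k' * g ^ (l ^ i).gcdB k' := by
    conv_lhs => rw [← zpow_one r, hb1, zpow_add, zpow_mul, zpow_mul, zpow_natCast, zpow_natCast]
  rw [hr']
  exact (hhx.zpow_left _).mul_left (hgx.zpow_left _)

end Cfsg.Lib.BenderSE
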