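/-
COMM, case + (notes/bender_caseplus_h8.md): all swappers are conjugate under `C_D(A)`, and inverted
elements commuting modulo a fixed central subgroup commute.
-/
import Cfsg.Agent.BenderSE.CommRegular

set_option autoImplicit false
set_option linter.unusedSectionVars false
set_option linter.style.haveILetI false

namespace Cfsg.Lib.BenderSE

open Subgroup MulAction Cfsg.Lib.InvolCalc
open scoped commutatorElement

universe u

variable {G : Type u} [Group G] [Finite G] {H : Subgroup G}

/-- the standing hypotheses of COMM at a pair `c, a` with a swapper `t` -/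
structure PairSetting (H : Subgroup G) (t : G) (c a : G ⧸ H) : Prop where
  se : Cfsg.IsStronglyEmbedded H
  core : H.normalCore = ⊥
  nb : NoBad H
  cs : CentreSquares H
  tt : TwoTransitive H
  ne : a ≠ c
  ht : orderOf t = 2
  htc : t • c = a

variable {t : G} {c a : G ⧸ H} {A : Subgroup G}

theorem PairSetting.mul_self (S : PairSetting H t c a) : t * t = 1 := sq_of_order_two S.ht

theorem PairSetting.odd_pair (S : PairSetting H t c a) :
    Odd (Nat.card ↥(stabilizer G c ⊓ stabilizer G a)) :=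
  odd_stabilizer_inf S.se S.ne.symm

theorem PairSetting.odd_orderOf (S : PairSetting H t c a) {x : G}
    (hx : x ∈ stabilizer G c ⊓ stabilizer G a) : Odd (orderOf x) :=
  S.odd_pair.of_dvd_nat (Subgroup.orderOf_dvd_natCard _ hx)

theorem PairSetting.odd_le (S : PairSetting H t c a) {X : Subgroup G}
    (hX : X ≤ stabilizer G c ⊓ stabilizer G a) : Odd (Nat.card X) :=
  S.odd_pair.of_dvd_nat (card_dvd_of_le hX)

theorem PairSetting.conj_mem (S : PairSetting H t c a) {x : G}
    (hx : x ∈ stabilizer G c ⊓ stabilizer G a) : t * x * t⁻¹ ∈ stabilizer G c ⊓ stabilizer G a := by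
  have h := swapper_conj_mem S.ht S.htc (mem_stabilizer_iff.1 (mem_inf.1 hx).1)
    (mem_stabilizer_iff.1 (mem_inf.1 hx).2)
  exact mem_inf.2 ⟨mem_stabilizer_iff.2 h.1, mem_stabilizer_iff.2 h.2⟩

theorem PairSetting.mem_normalizer_pair (S : PairSetting H t c a) :
    t ∈ normalizer ((stabilizer G c ⊓ stabilizer G a : Subgroup G) : Set G) :=
  mem_normalizer_of_maps_to fun _ hz => S.conj_mem hz

theorem fix_of_mem_pair {x : G} (hx : x ∈ stabilizer G c ⊓ stabilizer G a) : x • c = c ∧ x • a = a :=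
  ⟨mem_stabilizer_iff.1 (mem_inf.1 hx).1, mem_stabilizer_iff.1 (mem_inf.1 hx).2⟩

/-- an element of odd order whose conjugate by itself is inverse commutes with what it inverts -/
theorem eq_one_of_conj_eq_inv {i z : G} (hi : Odd (orderOf i)) (hz : Odd (orderOf z))
    (h : i * z * i⁻¹ = z⁻¹) : z = 1 := by
  have h2 : Commute (i * i) z := by
    have e : i * i * z * (i * i)⁻¹ = z := by
      rw [show i * i * z * (i * i)⁻¹ = i * (i * z * i⁻¹) * i⁻¹ by group, h, ← conj_inv, h, inv_inv]
    exact mul_inv_eq_iff_eq_mul.1 e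
  obtain ⟨k, hk⟩ := hi
  have h4 : i = (i * i) ^ (k + 1) := by
    rw [← sq, ← pow_mul, show 2 * (k + 1) = orderOf i + 1 by omega, pow_succ, pow_orderOf_eq_one,
      one_mul]
  have h5 : Commute i z := by rw [h4]; exact h2.pow_left _
  rw [h5.eq, mul_inv_cancel_right] at h
  refine orderOf_eq_one_iff.1 (Nat.eq_one_of_dvd_coprimes (Nat.coprime_two_left.2 hz)
    (orderOf_dvd_of_pow_eq_one ?_) dvd_rfl)
  rw [sq]
  exact mul_eq_one_iff_eq_inv.2 h

/-- an element fixed and inverted is trivial -/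
theorem eq_one_of_fixed_inverted {z : G} (hz : Odd (orderOf z)) (h1 : Commute z t)
    (h2 : t * z * t⁻¹ = z⁻¹) : z = 1 := by
  rw [← h1.eq, mul_inv_cancel_right] at h2
  refine orderOf_eq_one_iff.1 (Nat.eq_one_of_dvd_coprimes (Nat.coprime_two_left.2 hz)
    (orderOf_dvd_of_pow_eq_one ?_) dvd_rfl)
  rw [sq]
  exact mul_eq_one_iff_eq_inv.2 h2

/-- the element `d` of `C_D(A)` conjugating one swapper to another -/
theorem InvertedMax.exists_conj_swapper_mem (P : InvertedMax H A t c a) (S : PairSetting H t c a)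
    {v : G} (hv : orderOf v = 2) (hvc : v • c = a) :
    ∃ d ∈ stabilizer G c ⊓ stabilizer G a ⊓ centralizer (A : Set G), d * t * d⁻¹ = v := by
  obtain ⟨d, hd, hdv⟩ := exists_conj_swapper S.se S.ne.symm S.ht S.htc hv hvc
  obtain ⟨u, -, hut, i, hi, hit, hde⟩ :=
    exists_commute_mul_inverted S.odd_pair S.mul_self S.mem_normalizer_pair (inv_mem hd)
  refine ⟨i⁻¹, mem_inf.2 ⟨inv_mem hi, mem_centralizer_iff.2 fun y hy =>
    ((P.commute_inverted S.se S.ne hi hit hy).inv_left.eq.symm)⟩, ?_⟩
  rw [← hdv, show d = i⁻¹ * u⁻¹ by rw [← inv_inv d, hde, mul_inv_rev],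
    show i⁻¹ * u⁻¹ * t * (i⁻¹ * u⁻¹)⁻¹ = i⁻¹ * (u⁻¹ * t * u) * i⁻¹⁻¹ by group,
    show u⁻¹ * t * u = t by rw [mul_assoc, ← hut.eq, inv_mul_cancel_left]]

/-- an element commuting with every swapper makes the involutions at a point commute -/
theorem PairSetting.commAt_of_commute_swappers (S : PairSetting H t c a) {x : G}
    (hx : x ∈ stabilizer G c ⊓ stabilizer G a) (hx1 : x ≠ 1)
    (h : ∀ v : G, orderOf v = 2 → v • c = a → Commute x v) : CommAt H := by
  obtain ⟨l, hl, hlx⟩ := Nat.exists_prime_and_dvd (fun e => hx1 (orderOf_eq_one_iff.1 e))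
  haveI := Fact.mk hl
  set y := x ^ (orderOf x / l) with hy
  have hyo : orderOf y = l := orderOf_pow_orderOf_div (orderOf_pos x).ne' hlx
  have hy1 : y ≠ 1 := fun e => by rw [e, orderOf_one] at hyo; exact hl.ne_one hyo.symm
  obtain ⟨hyc, hya⟩ := fix_of_mem_pair (pow_mem hx (orderOf x / l))
  obtain ⟨s, hs, hsc, hys⟩ := exists_fixing_commute S.se S.nb S.ne
    (show y ^ l = 1 by rw [← hyo]; exact pow_orderOf_eq_one y) hyc hya
    (Or.inr ⟨t, S.ht, S.htc, (h t S.ht S.htc).pow_left _⟩)
  refine commAt_of_point (c := a) fun i j hi hj hia hja =>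
    commute_of_centralized S.se S.core S.nb S.cs S.ne.symm hy1 hya hyc hi hj hia hja ?_ ?_
  · obtain ⟨v, hv, hvc, hvs, -⟩ := Cfsg.Lib.StrongEmb.exists_swap S.se S.ne.symm hs hsc hi hia
    rw [← hvs]
    exact (((h v hv hvc).pow_left _).mul_right hys).mul_right ((h v hv hvc).pow_left _)
  · obtain ⟨v, hv, hvc, hvs, -⟩ := Cfsg.Lib.StrongEmb.exists_swap S.se S.ne.symm hs hsc hj hja
    rw [← hvs]
    exact (((h v hv hvc).pow_left _).mul_right hys).mul_right ((h v hv hvc).pow_left _)

/-- a fixed element of the centre of `C_D(A)` makes the involutions at a point commute -/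
theorem InvertedMax.commAt_of_central_fixed (P : InvertedMax H A t c a) (S : PairSetting H t c a)
    {x : G} (hx : x ∈ stabilizer G c ⊓ stabilizer G a) (hx1 : x ≠ 1) (hxt : Commute x t)
    (hcen : ∀ g ∈ stabilizer G c ⊓ stabilizer G a ⊓ centralizer (A : Set G), Commute x g) : CommAt H :=
  S.commAt_of_commute_swappers hx hx1 fun v hv hvc => by
    obtain ⟨d, hd, rfl⟩ := P.exists_conj_swapper_mem S hv hvc
    exact ((hcen d hd).mul_right hxt).mul_right (hcen d hd).inv_right

/-- a normal subgroup fixed by `t` makes the involutions at a point commute -/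
theorem PairSetting.commAt_of_normal_fixed (S : PairSetting H t c a) {F : Subgroup G}
    (hF : F ≤ stabilizer G c ⊓ stabilizer G a) (hne : F ≠ ⊥)
    (hn : stabilizer G c ⊓ stabilizer G a ≤ normalizer (F : Set G)) (hFt : ∀ x ∈ F, Commute x t) :
    CommAt H := by
  obtain ⟨x, hx, hx1⟩ : ∃ x ∈ F, x ≠ 1 := by
    by_contra h
    push Not at h
    exact hne ((eq_bot_iff_forall F).2 h)
  refine S.commAt_of_commute_swappers (hF hx) hx1 fun v hv hvc => ?_
  obtain ⟨d, hd, rfl⟩ := exists_conj_swapper S.se S.ne.symm S.ht S.htc hv hvc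
  have h := commute_conj d (hFt _ ((mem_normalizer_iff''.1 (hn hd) x).1 hx))
  rwa [show d * (d⁻¹ * x * d) * d⁻¹ = x by group] at h

/-- GL: inverted elements centralising a nontrivial fixed `r`-group `Z` and commuting modulo `Z`
commute -/
theorem PairSetting.commute_of_commutator_mem (S : PairSetting H t c a) {r : ℕ} [Fact r.Prime]
    {Z : Subgroup G} (hZr : IsPGroup r Z) (hZ : Z ≤ stabilizer G c ⊓ stabilizer G a) (hZ1 : Z ≠ ⊥)
    (hZt : ∀ z ∈ Z, Commute z t) (hZc : ∀ z ∈ Z, ∀ w ∈ Z, Commute z w)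
    {g x : G} (hg : g ∈ stabilizer G c ⊓ stabilizer G a) (hx : x ∈ stabilizer G c ⊓ stabilizer G a)
    (hgt : t * g * t⁻¹ = g⁻¹) (hxt : t * x * t⁻¹ = x⁻¹) (hgZ : ∀ z ∈ Z, Commute g z)
    (hxZ : ∀ z ∈ Z, Commute x z) (hgx : ⁅g, x⁆ ∈ Z) : Commute g x := by
  classical
  -- an involution at `c` centralising `Z`
  have hfix : ∀ p : G ⧸ H, (∀ z ∈ Z, z • p = p) → p ∈ fixOf (α := G ⧸ H) Z := fun p hp => hp
  obtain ⟨e, hte⟩ := exists_centre S.se S.ht
  have hec : e ≠ c := fun h => S.ne (S.htc.symm.trans (h ▸ hte))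
  have hea : e ≠ a := fun h => hec (by rw [h] at hte ⊢; exact hte.symm.trans (smul_swap S.ht S.htc))
  obtain ⟨u, hu, huc, hZu⟩ := exists_centralizing_at S.se S.nb hZr
    (hfix c fun z hz => (fix_of_mem_pair (hZ hz)).1)
    ⟨c, fun z hz => (fix_of_mem_pair (hZ hz)).1, a, fun z hz => (fix_of_mem_pair (hZ hz)).2, e,
      fun z hz => fix_centre_of_commute S.se S.ht hte (hZt z hz).eq, S.ne.symm, hec.symm, hea.symm⟩
  obtain ⟨z₀, hz₀, hz₀1⟩ : ∃ z ∈ Z, z ≠ 1 := by
    by_contra h
    push Not at h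
    exact hZ1 ((eq_bot_iff_forall Z).2 h)
  have hC2 : ∀ p q : G, orderOf p = 2 ∧ p • c = c ∧ (∀ z ∈ Z, Commute z p) →
      orderOf q = 2 ∧ q • c = c ∧ (∀ z ∈ Z, Commute z q) → Commute p q := fun p q hp hq =>
    commute_of_centralized S.se S.core S.nb S.cs S.ne hz₀1 (fix_of_mem_pair (hZ hz₀)).1
      (fix_of_mem_pair (hZ hz₀)).2 hp.1 hq.1 hp.2.1 hq.2.1 (hp.2.2 z₀ hz₀) (hq.2.2 z₀ hz₀)
  let V : Subgroup G :=
    { carrier := {p | p = 1 ∨ (orderOf p = 2 ∧ p • c = c ∧ ∀ z ∈ Z, Commute z p)}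
      one_mem' := Or.inl rfl
      mul_mem' := fun {p q} hp hq => by
        rcases hp with rfl | hp
        · rwa [one_mul]
        rcases hq with rfl | hq
        · rw [mul_one]; exact Or.inr hp
        by_cases h1 : p * q = 1
        · exact Or.inl h1
        refine Or.inr ⟨order_two_of_mul_self ?_ h1, by rw [mul_smul, hq.2.1, hp.2.1],
          fun z hz => (hp.2.2 z hz).mul_right (hq.2.2 z hz)⟩
        rw [mul_assoc, ← mul_assoc q, ← (hC2 p q hp hq).eq, mul_assoc, sq_of_order_two hq.1, mul_one,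
          sq_of_order_two hp.1]
      inv_mem' := fun {p} hp => by
        rcases hp with rfl | hp
        · exact Or.inl inv_one
        · rw [inv_of_order_two hp.1]; exact Or.inr hp }
  have hVmem : ∀ p ∈ V, p = 1 ∨ (orderOf p = 2 ∧ p • c = c ∧ ∀ z ∈ Z, Commute z p) := fun _ h => h
  letI : CommGroup V :=
    { (inferInstance : Group V) with
      mul_comm := fun ⟨p, hp⟩ ⟨q, hq⟩ => Subtype.ext (by
        show p * q = q * p
        rcases hVmem p hp with rfl | hp
        · rw [one_mul, mul_one]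
        rcases hVmem q hq with rfl | hq
        · rw [one_mul, mul_one]
        exact (hC2 p q hp hq).eq) }
  -- the group acting
  set N := closure ({g, x} : Set G) ⊔ Z with hN
  have hND : N ≤ stabilizer G c ⊓ stabilizer G a := sup_le ((closure_le _).2 (by
    rintro w (rfl | rfl) <;> assumption)) hZ
  have hNZ : ∀ n ∈ N, ∀ z ∈ Z, Commute n z := by
    have h : N ≤ centralizer (Z : Set G) := sup_le ((closure_le _).2 (by
      rintro w (rfl | rfl) <;> exact mem_centralizer_iff.2 fun z hz => by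
        first
          | exact (hgZ z hz).eq.symm
          | exact (hxZ z hz).eq.symm)) fun w hw => mem_centralizer_iff.2 fun z hz => (hZc z hz w hw).eq
    exact fun n hn z hz => (mem_centralizer_iff.1 (h hn) z hz).symm
  have htN : t ∈ normalizer (N : Set G) := by
    refine mem_normalizer_of_maps_to fun n hn => ?_
    have h : N ≤ N.comap (MulAut.conj t).toMonoidHom := sup_le ((closure_le _).2 (by
      intro w hw
      show t * w * t⁻¹ ∈ N
      rcases hw with rfl | hw
      · rw [hgt]; exact inv_mem (mem_sup_left (subset_closure (Or.inl rfl)))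
      · rw [Set.mem_singleton_iff] at hw
        rw [hw, hxt]; exact inv_mem (mem_sup_left (subset_closure (Or.inr rfl))))) fun w hw => by
      show t * w * t⁻¹ ∈ N
      rw [← (hZt w hw).eq, mul_inv_cancel_right]
      exact mem_sup_right hw
    exact h hn
  have hNV : N ≤ normalizer (V : Set G) := fun n hn => mem_normalizer_of_maps_to fun p hp => by
    rcases hVmem p hp with rfl | hp
    · rw [mul_one, mul_inv_cancel]; exact one_mem V
    refine Or.inr ⟨by rw [orderOf_conj', hp.1], ?_, fun z hz => ?_⟩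
    · rw [mul_smul, mul_smul, inv_smul_eq_iff.2 (fix_of_mem_pair (hND hn)).1.symm, hp.2.1,
        (fix_of_mem_pair (hND hn)).1]
    · exact ((hNZ n hn z hz).symm.mul_right (hp.2.2 z hz)).mul_right (hNZ n hn z hz).inv_left.symm
  let act : N →* MulAut V :=
    { toFun := fun y => V.normalizerMonoidHom ⟨(y : G), hNV y.2⟩
      map_one' := by rw [show (⟨((1 : N) : G), hNV (1 : N).2⟩ : normalizer (V : Set G)) = 1 from rfl, map_one]
      map_mul' := fun y z => by rw [← map_mul]; rfl }
  have hactZ : ∀ n : N, (n : G) ∈ Z → act n = 1 := fun n hn => MulEquiv.ext fun p => Subtype.ext (by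
    show (n : G) * p * (n : G)⁻¹ = p
    rcases hVmem p p.2 with h | h
    · rw [h, mul_one, mul_inv_cancel]
    · rw [(h.2.2 _ hn).eq, mul_inv_cancel_right])
  set g' : N := ⟨g, mem_sup_left (subset_closure (Or.inl rfl))⟩ with hg'
  set x' : N := ⟨x, mem_sup_left (subset_closure (Or.inr rfl))⟩ with hx'
  have hcomm : Commute (act g') (act x') := by
    have h1 : act ⁅g', x'⁆ = 1 := hactZ _ (by
      show ((⁅g', x'⁆ : N) : G) ∈ Z
      simpa [commutatorElement_def] using hgx)
    rw [map_commutatorElement, commutatorElement_eq_one_iff_mul_comm] at h1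
    exact h1
  -- the image is generated by `act g, act x`, so it is abelian
  have hgen : ∀ w : N, act w ∈ closure ({act g', act x'} : Set (MulAut V)) := by
    rintro ⟨w, hw⟩
    have hle : N ≤ ((closure ({act g', act x'} : Set (MulAut V))).comap act).map N.subtype := by
      refine sup_le ((closure_le _).2 ?_) fun z hz =>
        ⟨⟨z, mem_sup_right hz⟩, by
          show act ⟨z, mem_sup_right hz⟩ ∈ Subgroup.closure _
          rw [hactZ ⟨z, mem_sup_right hz⟩ hz]; exact one_mem _, rfl⟩
      rintro y (rfl | hy)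
      · exact ⟨g', subset_closure (Or.inl rfl), rfl⟩
      · rw [Set.mem_singleton_iff] at hy
        subst hy
        exact ⟨x', subset_closure (Or.inr rfl), rfl⟩
    obtain ⟨y, hy, hyw⟩ := hle hw
    obtain rfl : y = ⟨w, hw⟩ := Subtype.ext hyw
    exact hy
  have hcl : ∀ w w' : N, Commute (act w) (act w') := by
    haveI hc := isMulCommutative_closure (k := ({act g', act x'} : Set (MulAut V))) (by
      rintro p (rfl | rfl) q (rfl | rfl)
      · rfl
      · exact hcomm.eq
      · exact hcomm.eq.symm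
      · rfl)
    exact fun w w' => congrArg Subtype.val (hc.is_comm.comm ⟨_, hgen w⟩ ⟨_, hgen w'⟩)
  let conjT : N →* N :=
    { toFun := fun w => ⟨t * (w : G) * t⁻¹, (mem_normalizer_iff.1 htN w).1 w.2⟩
      map_one' := Subtype.ext (by simp)
      map_mul' := fun w w' => Subtype.ext (by simp [mul_assoc]) }
  let ψ : N →* MulAut V :=
    { toFun := fun w => act (conjT w) * act w
      map_one' := by simp
      map_mul' := fun w w' => by
        rw [map_mul, map_mul, map_mul]
        have h1 : Commute (act w) (act (conjT w')) := hcl _ _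
        rw [mul_assoc, mul_assoc, ← mul_assoc (act (conjT w')), ← h1.eq, mul_assoc] }
  -- `t` inverts the image
  have key : ∀ w : N, act (conjT w) * act w = 1 := by
    intro w
    have hker : N ≤ ψ.ker.map N.subtype := by
      refine sup_le ((closure_le _).2 ?_) fun z hz =>
        ⟨⟨z, mem_sup_right hz⟩, MonoidHom.mem_ker.2 ?_, rfl⟩
      · rintro y (rfl | hy)
        · refine ⟨g', MonoidHom.mem_ker.2 ?_, rfl⟩
          show act (conjT g') * act g' = 1
          rw [← map_mul]
          refine (congrArg act (Subtype.ext ?_)).trans (map_one act)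
          show t * y * t⁻¹ * y = 1
          rw [hgt, inv_mul_cancel]
        · rw [Set.mem_singleton_iff] at hy
          subst hy
          refine ⟨x', MonoidHom.mem_ker.2 ?_, rfl⟩
          show act (conjT x') * act x' = 1
          rw [← map_mul]
          refine (congrArg act (Subtype.ext ?_)).trans (map_one act)
          show t * y * t⁻¹ * y = 1
          rw [hxt, inv_mul_cancel]
      · show act (conjT ⟨z, mem_sup_right hz⟩) * act ⟨z, mem_sup_right hz⟩ = 1
        have hz' : t * z * t⁻¹ ∈ Z := by rwa [← (hZt z hz).eq, mul_inv_cancel_right]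
        rw [hactZ ⟨z, mem_sup_right hz⟩ hz, hactZ (conjT ⟨z, mem_sup_right hz⟩) hz', one_mul]
    obtain ⟨y, hy, hyw⟩ := hker w.2
    obtain rfl : y = w := Subtype.ext hyw
    exact hy
  have hfixed : ∀ q : N, Commute (q : G) t → act q = 1 := by
    intro q hqt
    have h1 := key q
    rw [show conjT q = q from Subtype.ext (by
      show t * (q : G) * t⁻¹ = q
      rw [← hqt.eq, mul_inv_cancel_right])] at h1
    have h3 : act q ^ 2 = 1 := by rw [sq]; exact h1
    refine orderOf_eq_one_iff.1 (Nat.eq_one_of_dvd_coprimes ?_ (orderOf_dvd_of_pow_eq_one h3) dvd_rfl)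
    exact Nat.coprime_two_left.2 (((S.odd_le hND).of_dvd_nat
      (orderOf_dvd_natCard q)).of_dvd_nat (orderOf_map_dvd act _))
  -- inverted elements act without fixed points
  have hfpf : ∀ n : N, act n ≠ 1 → ∀ p : V, act n p = p → p = 1 := by
    intro n hn p hp
    obtain ⟨q, hq, hqt, i, hi, hit, hni⟩ :=
      exists_commute_mul_inverted (S.odd_le hND) S.mul_self htN n.2
    have hn' : act n = act ⟨i, hi⟩ := by
      rw [show n = ⟨q, hq⟩ * ⟨i, hi⟩ from Subtype.ext hni, map_mul, hfixed ⟨q, hq⟩ hqt, one_mul]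
    rcases hVmem p p.2 with h | h
    · exact Subtype.ext h
    have hi1 : i ≠ 1 := fun e => hn (by rw [hn', show (⟨i, hi⟩ : N) = 1 from Subtype.ext e, map_one])
    refine absurd ?_ (not_commute_of_inverted S.se S.nb S.ne S.ht (fix_of_mem_pair (hND hi)).1
      (fix_of_mem_pair (hND hi)).2 hi1 hit h.1)
    rw [hn'] at hp
    exact mul_inv_eq_iff_eq_mul.1 (congrArg Subtype.val hp : i * (p : G) * i⁻¹ = p)
  -- the image is cyclic
  letI : CommGroup act.range :=
    { (inferInstance : Group act.range) with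
      mul_comm := by
        rintro ⟨_, w, rfl⟩ ⟨_, w', rfl⟩
        exact Subtype.ext (hcl w w').eq }
  have hcyc : IsCyclic act.range := by
    by_contra hcyc
    obtain ⟨p, y, w, hp, hy, hw, hyw⟩ := Cfsg.Lib.Coprime.exists_root_pair_of_not_cyclic hcyc
    have hyp : ((y : act.range) : MulAut V) ^ p = 1 := by
      rw [← Subgroup.coe_pow, ← hy, pow_orderOf_eq_one]; rfl
    have hwp : ((w : act.range) : MulAut V) ^ p = 1 := by
      rw [← Subgroup.coe_pow, ← hw, pow_orderOf_eq_one]; rfl
    have hfpf' : ∀ z : act.range, z ≠ 1 → ∀ q : V, (z : MulAut V) q = q → q = 1 := fun z hz q hq => by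
      obtain ⟨z, n, rfl⟩ := z
      exact hfpf n (fun e => hz (Subtype.ext e)) q hq
    have h1 := Cfsg.Lib.Coprime.pow_mem_of_fixed hp hwp hyp
      (congrArg Subtype.val (mul_comm w y) : (w : MulAut V) * y = y * w) (S := ⊥)
      (fun q hq => mem_bot.2 (hfpf' y (fun e => by rw [e, orderOf_one] at hy; exact hp.ne_one hy.symm) q hq))
      (fun j _ q hq => mem_bot.2 (hfpf' (w * y ^ j)
        (fun e => hyw (by rw [eq_inv_of_mul_eq_one_left e]; exact inv_mem (pow_mem (mem_zpowers y) j))) q
        (by simpa using hq)))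
      (⟨u, Or.inr ⟨hu, huc, hZu⟩⟩ : V)
    have h2 : u ^ p = 1 := congrArg Subtype.val (mem_bot.1 h1)
    have h3 := orderOf_dvd_of_pow_eq_one h2
    rw [hu] at h3
    have hp2 : p = 2 := ((Nat.prime_dvd_prime_iff_eq Nat.prime_two hp).1 h3).symm
    have hodd : Odd (Nat.card act.range) := (S.odd_le hND).of_dvd_nat (Subgroup.card_range_dvd act)
    exact (Nat.not_even_iff_odd.2 hodd) (even_iff_two_dvd.2 (hp2 ▸ hy ▸ orderOf_dvd_natCard y))
  obtain ⟨⟨_, n, rfl⟩, hn⟩ := hcyc.exists_generator
  obtain ⟨q, hq, hqt, i, hi, hit, hni⟩ :=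
    exists_commute_mul_inverted (S.odd_le hND) S.mul_self htN n.2
  have hni' : act n = act ⟨i, hi⟩ := by
    rw [show n = ⟨q, hq⟩ * ⟨i, hi⟩ from Subtype.ext hni, map_mul, hfixed ⟨q, hq⟩ hqt, one_mul]
  -- every inverted element is a power of `i`
  have hpow : ∀ w : N, t * (w : G) * t⁻¹ = (w : G)⁻¹ → ∃ k : ℤ, (w : G) = i ^ k := by
    intro w hw
    obtain ⟨k, hk⟩ := mem_zpowers_iff.1 (hn ⟨act w, w, rfl⟩)
    have hk' : act n ^ k = act w := congrArg Subtype.val hk
    rw [hni', ← map_zpow] at hk'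
    refine ⟨k, ?_⟩
    set y : N := ((⟨i, hi⟩ : N) ^ k)⁻¹ * w with hy
    have hker : act y = 1 := by rw [hy, map_mul, map_inv, hk', inv_mul_cancel]
    obtain ⟨q', hq', hq't, i', hi', hi't, hyi⟩ :=
      exists_commute_mul_inverted (S.odd_le hND) S.mul_self htN y.2
    have hi'1 : i' = 1 := by
      by_contra h1
      have h2 : act ⟨i', hi'⟩ = 1 := by
        rw [show y = ⟨q', hq'⟩ * ⟨i', hi'⟩ from Subtype.ext hyi, map_mul, hfixed ⟨q', hq'⟩ hq't,
          one_mul] at hker
        exact hker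
      refine absurd ?_ (not_commute_of_inverted S.se S.nb S.ne S.ht (fix_of_mem_pair (hND hi')).1
        (fix_of_mem_pair (hND hi')).2 h1 hi't hu)
      exact mul_inv_eq_iff_eq_mul.1 (congrArg Subtype.val
        (DFunLike.congr_fun h2 (⟨u, Or.inr ⟨hu, huc, hZu⟩⟩ : V)) : i' * u * i'⁻¹ = u)
    rw [hi'1, mul_one] at hyi
    -- `w = i ^ k * y` with `y` fixed
    have e1 : (w : G) = i ^ k * (y : G) := by
      rw [hy]; push_cast; rw [← mul_assoc, mul_inv_cancel, one_mul]
    have hyt : Commute (y : G) t := hyi ▸ hq't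
    have e2 : (i ^ k)⁻¹ * (y : G) * (i ^ k)⁻¹⁻¹ = (y : G)⁻¹ := by
      have h := hw
      rw [e1, ← conj_mul, ← conj_zpow, hit, inv_zpow, ← hyt.eq, mul_inv_cancel_right, mul_inv_rev] at h
      rw [h, inv_inv, mul_assoc, inv_mul_cancel, mul_one]
    have hy1 : (y : G) = 1 := eq_one_of_conj_eq_inv
      (S.odd_orderOf (hND (inv_mem (zpow_mem hi k)))) (S.odd_orderOf (hND y.2)) e2
    rw [e1, hy1, mul_one]
  obtain ⟨k₁, hk₁⟩ := hpow g' hgt
  obtain ⟨k₂, hk₂⟩ := hpow x' hxt
  rw [show g = i ^ k₁ from hk₁, show x = i ^ k₂ from hk₂]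
  exact Commute.zpow_zpow_self i k₁ k₂

end Cfsg.Lib.BenderSE
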