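/-
COMM, case + (notes/bender_caseplus_h8.md): minimal layers invariant under a pair stabiliser and its
swapper, and the first layer above `A` in `C_D(A)`: an abelian one, or a plane.
-/
import Cfsg.Agent.BenderSE.CommPlusBasic
import Cfsg.Agent.PGroups.Commutators

set_option autoImplicit false
set_option linter.unusedSectionVars false
set_option linter.style.haveILetI false

namespace Cfsg.Lib.BenderSE

open Subgroup MulAction Cfsg.Lib.InvolCalc
open scoped commutatorElement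

universe u

variable {G : Type u} [Group G] [Finite G] {H : Subgroup G} {t : G} {c a : G ⧸ H} {A : Subgroup G}

/-- the class two power rule at an odd prime -/
theorem mul_pow_odd_prime {p : ℕ} (hp : p.Prime) (hp2 : p ≠ 2) {x y : G} (hx : Commute ⁅y, x⁆ x)
    (hy : Commute ⁅y, x⁆ y) (h : ⁅y, x⁆ ^ p = 1) : (x * y) ^ p = x ^ p * y ^ p := by
  obtain ⟨k, hk⟩ := hp.dvd_choose_self two_ne_zero
    (lt_of_le_of_ne hp.two_le (Ne.symm hp2))
  rw [Cfsg.Lib.PGroups.mul_pow_of_commute_commutator hx hy p, hk, pow_mul, h, one_pow, mul_one]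

/-- in a cyclic group elements of the same order generate the same subgroup -/
theorem zpowers_eq_of_orderOf_eq {L : Type u} [Group L] [Finite L] [IsCyclic L] {x y : L}
    (h : orderOf x = orderOf y) : zpowers x = zpowers y := by
  classical
  haveI := Fintype.ofFinite L
  have key : ∀ z : L, orderOf z = orderOf x →
      Finset.univ.filter (fun a : L => a ∈ zpowers z) = Finset.univ.filter (fun a : L => a ^ orderOf x = 1) := by
    intro z hz
    refine Finset.eq_of_subset_of_card_le (fun a ha => ?_)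
      ((IsCyclic.card_pow_eq_one_le (orderOf_pos x)).trans ?_)
    · simp only [Finset.mem_filter, Finset.mem_univ, true_and] at ha ⊢
      obtain ⟨k, rfl⟩ := ha
      rw [← hz, ← zpow_natCast, ← zpow_mul, mul_comm, zpow_mul, zpow_natCast, pow_orderOf_eq_one, one_zpow]
    · rw [← hz, ← Nat.card_zpowers, Nat.card_eq_fintype_card, ← Fintype.card_subtype]
  ext a
  have h1 := congrArg (fun S : Finset L => a ∈ S) ((key x rfl).trans (key y h.symm).symm)
  simpa using h1

/-- MINIMAL LAYER: between two invariant subgroups there is a minimal invariant one, elementary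
abelian over the lower one -/
theorem exists_layer (S : PairSetting H t c a) {Y C : Subgroup G}
    (hC : C ≤ stabilizer G c ⊓ stabilizer G a) (hYC : Y ≤ C) (hne : Y ≠ C)
    (hYn : stabilizer G c ⊓ stabilizer G a ≤ normalizer (Y : Set G)) (hYt : t ∈ normalizer (Y : Set G))
    (hCn : stabilizer G c ⊓ stabilizer G a ≤ normalizer (C : Set G)) (hCt : t ∈ normalizer (C : Set G)) :
    ∃ (p : ℕ) (W : Subgroup G), p.Prime ∧ p ≠ 2 ∧ Y ≤ W ∧ Y ≠ W ∧ W ≤ C ∧
      stabilizer G c ⊓ stabilizer G a ≤ normalizer (W : Set G) ∧ t ∈ normalizer (W : Set G) ∧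
      (∀ X : Subgroup G, Y ≤ X → X ≤ W → stabilizer G c ⊓ stabilizer G a ≤ normalizer (X : Set G) →
        t ∈ normalizer (X : Set G) → X = Y ∨ X = W) ∧
      (∀ x ∈ W, ∀ y ∈ W, ⁅x, y⁆ ∈ Y) ∧ ∀ x ∈ W, x ^ p ∈ Y := by
  classical
  set D := stabilizer G c ⊓ stabilizer G a with hD
  let T : Set (Subgroup G) :=
    {X | Y ≤ X ∧ Y ≠ X ∧ X ≤ C ∧ D ≤ normalizer (X : Set G) ∧ t ∈ normalizer (X : Set G)}
  obtain ⟨W, hW⟩ := (Set.toFinite T).exists_minimal ⟨C, hYC, hne, le_rfl, hCn, hCt⟩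
  obtain ⟨hYW, hYW', hWC, hWn, hWt⟩ := hW.prop
  have hmin : ∀ X : Subgroup G, Y ≤ X → X ≤ W → D ≤ normalizer (X : Set G) →
      t ∈ normalizer (X : Set G) → X = Y ∨ X = W := fun X hYX hXW hXn hXt => by
    by_cases h : Y = X
    · exact Or.inl h.symm
    · exact Or.inr (le_antisymm hXW (hW.le_of_le ⟨hYX, h, hXW.trans hWC, hXn, hXt⟩ hXW))
  have hYW_n : W ≤ normalizer (Y : Set G) := (hWC.trans hC).trans hYn
  haveI : (Y.subgroupOf W).Normal := (normal_subgroupOf_iff_le_normalizer hYW).2 hYW_n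
  have hWodd : Odd (Nat.card W) := S.odd_le (hWC.trans hC)
  haveI : Group.IsSolvable W := Cfsg.Agent.PF.isSolvable_of_odd W hWodd
  -- the derived subgroup
  set W' := ⁅W, W⁆ ⊔ Y with hW'
  have hW'le : W' ≤ W := sup_le (commutator_le_self W) hYW
  have hW'n : ∀ g : G, g ∈ normalizer (W : Set G) → g ∈ normalizer (Y : Set G) →
      g ∈ normalizer (W' : Set G) := fun g hgW hgY => mem_normalizer_of_maps_to fun z hz => by
    have h : W'.map (MulAut.conj g).toMonoidHom ≤ W' := by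
      rw [hW', Subgroup.map_sup, map_commutator]
      refine sup_le_sup (commutator_mono ?_ ?_) ?_ <;> rintro _ ⟨w, hw, rfl⟩
      · exact (mem_normalizer_iff.1 hgW w).1 hw
      · exact (mem_normalizer_iff.1 hgW w).1 hw
      · exact (mem_normalizer_iff.1 hgY w).1 hw
    exact h (mem_map_of_mem _ hz)
  have hW'Y : W' = Y := by
    rcases hmin W' le_sup_right hW'le (fun g hg => hW'n g (hWn hg) (hYn hg)) (hW'n t hWt hYt) with h | h
    · exact h
    exfalso
    -- a non-trivial solvable quotient is not perfect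
    haveI : Nontrivial (W ⧸ Y.subgroupOf W) := QuotientGroup.nontrivial_iff.2 fun h' => hYW'
      (le_antisymm hYW (subgroupOf_eq_top.1 h'))
    have h1 := Group.IsSolvable.commutator_lt_top_of_nontrivial (W ⧸ Y.subgroupOf W)
    refine h1.ne (eq_top_iff.2 fun z _ => ?_)
    obtain ⟨⟨x, hx⟩, rfl⟩ := QuotientGroup.mk_surjective z
    have hle : W' ≤ ((commutator (W ⧸ Y.subgroupOf W)).comap (QuotientGroup.mk' _)).map W.subtype := by
      refine sup_le ((commutator_le).2 fun y hy y' hy' => ?_) fun y hy => ?_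
      · refine ⟨⁅(⟨y, hy⟩ : W), ⟨y', hy'⟩⁆, ?_, by simp [commutatorElement_def]⟩
        rw [SetLike.mem_coe, mem_comap, map_commutatorElement]
        exact commutator_mem_commutator (mem_top _) (mem_top _)
      · refine ⟨⟨y, hYW hy⟩, ?_, rfl⟩
        rw [SetLike.mem_coe, mem_comap]
        rw [show QuotientGroup.mk' (Y.subgroupOf W) ⟨y, hYW hy⟩ = 1 from
          (QuotientGroup.eq_one_iff _).2 (mem_subgroupOf.2 hy)]
        exact one_mem _
    obtain ⟨y, hy, hyx⟩ := hle (h.symm ▸ hx : x ∈ W')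
    obtain rfl : y = ⟨x, hx⟩ := Subtype.ext hyx
    exact hy
  have hcomm : ∀ x ∈ W, ∀ y ∈ W, ⁅x, y⁆ ∈ Y := fun x hx y hy =>
    hW'Y ▸ mem_sup_left (commutator_mem_commutator hx hy)
  haveI : Nontrivial (W ⧸ Y.subgroupOf W) := QuotientGroup.nontrivial_iff.2 fun h' => hYW'
    (le_antisymm hYW (subgroupOf_eq_top.1 h'))
  letI : CommGroup (W ⧸ Y.subgroupOf W) :=
    { (inferInstance : Group (W ⧸ Y.subgroupOf W)) with
      mul_comm := fun z z' => by
        obtain ⟨x, rfl⟩ := QuotientGroup.mk_surjective z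
        obtain ⟨y, rfl⟩ := QuotientGroup.mk_surjective z'
        rw [← QuotientGroup.mk_mul, ← QuotientGroup.mk_mul, QuotientGroup.eq, mem_subgroupOf]
        have h := hcomm _ (inv_mem y.2) _ (inv_mem x.2)
        rw [commutatorElement_def, inv_inv, inv_inv] at h
        simpa [mul_assoc] using h }
  obtain ⟨p, hp, hpd⟩ := Nat.exists_prime_and_dvd (n := Nat.card (W ⧸ Y.subgroupOf W))
    Finite.one_lt_card.ne'
  haveI := Fact.mk hp
  have hpW : p ∣ Nat.card W := hpd.trans (card_quotient_dvd_card _)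
  have hp2 : p ≠ 2 := fun e => (Nat.not_even_iff_odd.2 hWodd) (even_iff_two_dvd.2 (e ▸ hpW))
  let π : W →* W ⧸ Y.subgroupOf W := QuotientGroup.mk' _
  set X := (((powMonoidHom p : W ⧸ Y.subgroupOf W →* W ⧸ Y.subgroupOf W).ker).comap π).map W.subtype
    with hX
  have hmemX : ∀ x : G, x ∈ X ↔ x ∈ W ∧ x ^ p ∈ Y := fun x => by
    constructor
    · rintro ⟨y, hy, rfl⟩
      refine ⟨y.2, ?_⟩
      have h1 : π (y ^ p) = 1 := by rw [map_pow]; exact hy
      exact mem_subgroupOf.1 ((QuotientGroup.eq_one_iff _).1 h1)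
    · rintro ⟨hx, hxp⟩
      exact ⟨⟨x, hx⟩, show π ⟨x, hx⟩ ^ p = 1 by
        rw [← map_pow]; exact (QuotientGroup.eq_one_iff _).2 (mem_subgroupOf.2 hxp), rfl⟩
  have hXn : ∀ g : G, g ∈ normalizer (W : Set G) → g ∈ normalizer (Y : Set G) →
      g ∈ normalizer (X : Set G) := fun g hgW hgY => mem_normalizer_of_maps_to fun z hz => by
    obtain ⟨hzW, hzp⟩ := (hmemX z).1 hz
    exact (hmemX _).2 ⟨(mem_normalizer_iff.1 hgW z).1 hzW,
      by rw [conj_pow]; exact (mem_normalizer_iff.1 hgY _).1 hzp⟩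
  have hXW : X = W := by
    rcases hmin X (fun y hy => (hmemX y).2 ⟨hYW hy, pow_mem hy p⟩) (map_subtype_le _)
      (fun g hg => hXn g (hWn hg) (hYn hg)) (hXn t hWt hYt) with h | h
    · exfalso
      obtain ⟨z, hz⟩ := exists_prime_orderOf_dvd_card' (G := W ⧸ Y.subgroupOf W) p hpd
      obtain ⟨x, rfl⟩ := QuotientGroup.mk_surjective z
      have h1 : (x : G) ∈ X := ⟨x, show π x ^ p = 1 by rw [← hz]; exact pow_orderOf_eq_one _, rfl⟩
      rw [h] at h1
      have h2 : ((x : W ⧸ Y.subgroupOf W)) = 1 := (QuotientGroup.eq_one_iff _).2 (mem_subgroupOf.2 h1)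
      rw [h2, orderOf_one] at hz
      exact hp.ne_one hz.symm
    · exact h
  exact ⟨p, W, hp, hp2, hYW, hYW', hWC, hWn, hWt, hmin, hcomm,
    fun x hx => ((hmemX x).1 (hXW.symm ▸ hx)).2⟩

/-- `C_D(A)` -/
def pairCentralizer (A : Subgroup G) (c a : G ⧸ H) : Subgroup G :=
  stabilizer G c ⊓ stabilizer G a ⊓ centralizer (A : Set G)

theorem InvertedMax.mem_normalizer_swapper (P : InvertedMax H A t c a) :
    t ∈ normalizer (A : Set G) :=
  mem_normalizer_of_maps_to fun y hy => by rw [P.inv y hy]; exact inv_mem hy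

theorem InvertedMax.le_pairCentralizer (P : InvertedMax H A t c a) : A ≤ pairCentralizer A c a :=
  le_inf P.le fun _ hy => mem_centralizer_iff.2 fun _ hz => (P.comm hz hy).eq

theorem InvertedMax.pairCentralizer_normal (P : InvertedMax H A t c a) :
    stabilizer G c ⊓ stabilizer G a ≤ normalizer (pairCentralizer A c a : Set G) := fun g hg =>
  mem_normalizer_of_maps_to fun z hz => by
    refine mem_inf.2 ⟨mul_mem (mul_mem hg (mem_inf.1 hz).1) (inv_mem hg),
      mem_centralizer_iff.2 fun y hy => ?_⟩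
    have hy' := (mem_normalizer_iff''.1 (P.norm hg) y).1 hy
    have h1 := commute_conj g (show Commute (g⁻¹ * y * g) z from
      mem_centralizer_iff.1 (mem_inf.1 hz).2 _ hy')
    rw [show g * (g⁻¹ * y * g) * g⁻¹ = y by group] at h1
    exact h1.eq

theorem InvertedMax.pairCentralizer_swapper (P : InvertedMax H A t c a) (S : PairSetting H t c a) :
    t ∈ normalizer (pairCentralizer A c a : Set G) := mem_normalizer_of_maps_to fun z hz => by
  refine mem_inf.2 ⟨S.conj_mem (mem_inf.1 hz).1, mem_centralizer_iff.2 fun y hy => ?_⟩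
  have h1 := commute_conj t
    (show Commute y⁻¹ z from mem_centralizer_iff.1 (mem_inf.1 hz).2 _ (inv_mem hy))
  rw [← conj_inv, P.inv y hy, inv_inv] at h1
  exact h1.eq

theorem commute_pairCentralizer {x y : G} (hx : x ∈ pairCentralizer A c a) (hy : y ∈ A) :
    Commute x y :=
  (mem_centralizer_iff.1 (mem_inf.1 hx).2 y hy).symm

/-- the branches above `A`: abelian, or a plane -/
def PlusPlane (A : Subgroup G) (t : G) (c a : G ⧸ H) : Prop :=
  ∃ (p : ℕ) (W : Subgroup G) (k : G), p.Prime ∧ p ≠ 2 ∧ p ∣ Nat.card A ∧ A ≤ W ∧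
    W ≤ pairCentralizer A c a ∧ stabilizer G c ⊓ stabilizer G a ≤ normalizer (W : Set G) ∧
    t ∈ normalizer (W : Set G) ∧
    (∀ X : Subgroup G, A ≤ X → X ≤ W → stabilizer G c ⊓ stabilizer G a ≤ normalizer (X : Set G) →
      t ∈ normalizer (X : Set G) → X = A ∨ X = W) ∧
    (∀ x ∈ W, ∀ y ∈ W, ⁅x, y⁆ ∈ A) ∧ (∀ x ∈ W, x ^ p ∈ A) ∧ (¬ ∀ x ∈ W, ∀ y ∈ W, Commute x y) ∧
    k ∈ W ∧ orderOf k = p ∧ Commute k t ∧ k ∉ A ∧
    ∀ x ∈ W, Commute x k → ∃ n : ℤ, k ^ n * x ∈ A

/-- an abelian invariant subgroup of `C_D(A)` properly above `A` -/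
def PlusAbelian (A : Subgroup G) (t : G) (c a : G ⧸ H) : Prop :=
  ∃ Y : Subgroup G, A ≤ Y ∧ A ≠ Y ∧ Y ≤ pairCentralizer A c a ∧
    stabilizer G c ⊓ stabilizer G a ≤ normalizer (Y : Set G) ∧ t ∈ normalizer (Y : Set G) ∧
    ∀ x ∈ Y, ∀ y ∈ Y, Commute x y

/-- FIRST LAYER above `A`: abelian or a plane -/
theorem InvertedMax.plusAbelian_or_plane (P : InvertedMax H A t c a) (S : PairSetting H t c a)
    (hne : A ≠ pairCentralizer A c a) :
    PlusAbelian A t c a ∨ PlusPlane A t c a := by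
  classical
  set D := stabilizer G c ⊓ stabilizer G a with hD
  set C := pairCentralizer A c a with hC
  obtain ⟨p, W, hp, hp2, hAW, hAW', hWC, hWn, hWt, hmin, hcomm, hpow⟩ :=
    exists_layer S inf_le_left P.le_pairCentralizer hne P.norm P.mem_normalizer_swapper
      P.pairCentralizer_normal (P.pairCentralizer_swapper S)
  haveI := Fact.mk hp
  by_cases hab : ∀ x ∈ W, ∀ y ∈ W, Commute x y
  · exact Or.inl ⟨W, hAW, hAW', hWC, hWn, hWt, hab⟩
  refine Or.inr ?_
  have hWD : W ≤ D := hWC.trans inf_le_left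
  have hWA : ∀ x ∈ W, ∀ y ∈ A, Commute x y := fun x hx y hy => commute_pairCentralizer (hWC hx) hy
  have hcc : ∀ x ∈ W, ∀ y ∈ W, ∀ z ∈ W, Commute ⁅x, y⁆ z := fun x hx y hy z hz =>
    (hWA z hz _ (hcomm x hx y hy)).symm
  have hcp : ∀ x ∈ W, ∀ y ∈ W, ⁅x, y⁆ ^ p = 1 := fun x hx y hy => by
    rw [← Cfsg.Lib.PGroups.commutator_pow_left_of_commute (hcc x hx y hy x hx)]
    exact commutatorElement_eq_one_iff_mul_comm.2 (hWA y hy _ (hpow x hx)).eq.symm
  have hmulpow : ∀ x ∈ W, ∀ y ∈ W, (x * y) ^ p = x ^ p * y ^ p := fun x hx y hy =>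
    mul_pow_odd_prime hp hp2 (hcc y hy x hx x hx) (hcc y hy x hx y hy) (hcp y hy x hx)
  -- inverted elements commute, so do fixed ones
  have hfix : ∀ x ∈ W, ∀ y ∈ W, Commute x t → Commute y t → Commute x y := fun x hx y hy hxt hyt => by
    refine commutatorElement_eq_one_iff_mul_comm.1 (eq_one_of_fixed_inverted (t := t)
      (S.odd_orderOf (hWD (hAW (hcomm x hx y hy)))) ?_ (P.inv _ (hcomm x hx y hy)))
    rw [commutatorElement_def]
    exact ((hxt.mul_left hyt).mul_left hxt.inv_left).mul_left hyt.inv_left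
  have hinvc : ∀ x ∈ W, ∀ y ∈ W, t * x * t⁻¹ = x⁻¹ → t * y * t⁻¹ = y⁻¹ → Commute x y := by
    intro x hx y hy hxt hyt
    refine commutatorElement_eq_one_iff_mul_comm.1 (eq_one_of_fixed_inverted (t := t)
      (S.odd_orderOf (hWD (hAW (hcomm x hx y hy)))) ?_ (P.inv _ (hcomm x hx y hy)))
    have h : t * ⁅x, y⁆ * t⁻¹ = ⁅x, y⁆ := by
      rw [show t * ⁅x, y⁆ * t⁻¹ = ⁅t * x * t⁻¹, t * y * t⁻¹⁆ by simp only [commutatorElement_def]; group,
        hxt, hyt]
      have hc : Commute ⁅x, y⁆ (y * x) := (hcc x hx y hy y hy).mul_right (hcc x hx y hy x hx)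
      rw [show ⁅x⁻¹, y⁻¹⁆ = (y * x)⁻¹ * ⁅x, y⁆ * (y * x) by simp only [commutatorElement_def]; group,
        mul_assoc, hc.eq, inv_mul_cancel_left]
    exact (mul_inv_eq_iff_eq_mul.1 h).symm
  have hWodd : Odd (Nat.card W) := S.odd_le hWD
  -- a commutator of order `p` in `A`
  obtain ⟨x₀, hx₀, y₀, hy₀, hxy⟩ : ∃ x ∈ W, ∃ y ∈ W, ¬ Commute x y := by
    push Not at hab; exact hab
  have hz1 : ⁅x₀, y₀⁆ ≠ 1 := fun h => hxy (commutatorElement_eq_one_iff_mul_comm.1 h)
  have hzA : ⁅x₀, y₀⁆ ∈ A := hcomm x₀ hx₀ y₀ hy₀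
  have hzo : orderOf ⁅x₀, y₀⁆ = p := orderOf_eq_prime (hcp x₀ hx₀ y₀ hy₀) hz1
  have hpA : p ∣ Nat.card A := hzo ▸ Subgroup.orderOf_dvd_natCard A hzA
  -- the fixed part
  have hqp : ∀ q ∈ W, Commute q t → q ^ p = 1 := fun q hq hqt =>
    eq_one_of_fixed_inverted (S.odd_orderOf (hWD (pow_mem hq p))) (hqt.pow_left p)
      (P.inv _ (hpow q hq))
  -- every power is a power of an element of `A`
  let W₁ : Subgroup G :=
    { carrier := {x | x ∈ W ∧ ∃ b ∈ A, x ^ p = b ^ p}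
      one_mem' := ⟨one_mem W, 1, one_mem A, rfl⟩
      mul_mem' := fun {x y} hx hy => by
        obtain ⟨hxW, b, hb, hbx⟩ := hx
        obtain ⟨hyW, b', hb', hby⟩ := hy
        exact ⟨mul_mem hxW hyW, b * b', mul_mem hb hb', by
          rw [hmulpow x hxW y hyW, hbx, hby, (P.comm hb hb').mul_pow]⟩
      inv_mem' := fun {x} hx => by
        obtain ⟨hxW, b, hb, hbx⟩ := hx
        exact ⟨inv_mem hxW, b⁻¹, inv_mem hb, by rw [inv_pow, hbx, inv_pow]⟩ }
  have hW₁n : ∀ g : G, g ∈ normalizer (W : Set G) → g ∈ normalizer (A : Set G) →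
      g ∈ normalizer (W₁ : Set G) := fun g hgW hgA => mem_normalizer_of_maps_to fun z hz => by
    obtain ⟨hzW, b, hb, hbz⟩ := hz
    exact ⟨(mem_normalizer_iff.1 hgW z).1 hzW, g * b * g⁻¹, (mem_normalizer_iff.1 hgA b).1 hb,
      by rw [conj_pow, conj_pow, hbz]⟩
  have hW₁ : W₁ = W := by
    rcases hmin W₁ (fun y hy => ⟨hAW hy, y, hy, rfl⟩) (fun y hy => hy.1)
      (fun g hg => hW₁n g (hWn hg) (P.norm hg)) (hW₁n t hWt P.mem_normalizer_swapper) with h | h
    · exfalso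
      refine hAW' (le_antisymm hAW fun w hw => ?_)
      have hq : ∀ q ∈ W, Commute q t → q = 1 := fun q hq hqt => by
        have h1 : q ∈ W₁ := ⟨hq, 1, one_mem A, by rw [hqp q hq hqt, one_pow]⟩
        rw [h] at h1
        exact eq_one_of_fixed_inverted (S.odd_orderOf (hWD hq)) hqt (P.inv q h1)
      have hinv : ∀ z ∈ W, t * z * t⁻¹ = z⁻¹ := fun z hz => by
        obtain ⟨u, hu, hut, i, hi, hit, rfl⟩ := exists_commute_mul_inverted hWodd S.mul_self hWt hz
        rw [hq u hu hut, one_mul]; exact hit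
      exact (P.max W hAW hWD hinv hWn).symm ▸ hw
    · exact h
  -- an inverted element of exponent `p` outside `A`
  obtain ⟨i₀, hi₀, hi₀A, hi₀p, hi₀t⟩ :
      ∃ i ∈ W, i ∉ A ∧ i ^ p = 1 ∧ t * i * t⁻¹ = i⁻¹ := by
    by_contra hno
    push Not at hno
    -- otherwise `W` would be abelian
    have hinvA : ∀ i ∈ W, t * i * t⁻¹ = i⁻¹ → i ∈ A := by
      intro i hi hit
      obtain ⟨-, b, hb, hbi⟩ := (hW₁.symm ▸ hi : i ∈ W₁)
      have hib : Commute i b⁻¹ := hWA i hi _ (inv_mem hb)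
      by_contra hiA
      refine hno (i * b⁻¹) (mul_mem hi (inv_mem (hAW hb))) ?_ ?_ ?_
      · exact fun h => hiA (by simpa using mul_mem h hb)
      · rw [hib.mul_pow, inv_pow, hbi, mul_inv_cancel]
      · rw [← conj_mul, ← conj_inv, hit, P.inv b hb, inv_inv, mul_inv_rev, inv_inv]
        exact (hWA i hi b hb).inv_left.eq
    refine hab fun x hx y hy => ?_
    obtain ⟨u, hu, hut, i, hi, hit, rfl⟩ := exists_commute_mul_inverted hWodd S.mul_self hWt hx
    obtain ⟨u', hu', hut', i', hi', hit', rfl⟩ := exists_commute_mul_inverted hWodd S.mul_self hWt hy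
    have hiA := hinvA i hi hit
    have hiA' := hinvA i' hi' hit'
    exact ((hfix u hu u' hu' hut hut').mul_right (hWA u hu i' hiA')).mul_left
      (((hWA u' hu' i hiA).symm).mul_right (P.comm hiA hiA'))
  -- no fixed element centralises it
  have hnc : ∀ q ∈ W, Commute q t → q ≠ 1 → ¬ Commute q i₀ := by
    intro q hq hqt hq1 hqi
    set B := closure ({i₀, ⁅x₀, y₀⁆} : Set G) with hB
    have hBW : B ≤ W := (closure_le _).2 (by
      rintro w (rfl | rfl)
      exacts [hi₀, hAW hzA])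
    have hBc : ∀ w ∈ B, Commute q w := fun w hw => by
      have h : B ≤ centralizer ({q} : Set G) := (closure_le _).2 (by
        rintro w (rfl | rfl)
        exacts [mem_centralizer_singleton_iff.2 hqi.symm.eq,
          mem_centralizer_singleton_iff.2 (hWA q hq _ hzA).symm.eq])
      exact ((mem_centralizer_singleton_iff.1 (h hw) : Commute w q)).symm
    have hBi : ∀ w ∈ B, t * w * t⁻¹ = w⁻¹ ∧ w ^ p = 1 := by
      intro w hw
      have hcl : ∀ w ∈ B, ∀ w' ∈ B, Commute w w' := by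
        have hpair : ∀ p₁ ∈ ({i₀, ⁅x₀, y₀⁆} : Set G), ∀ p₂ ∈ ({i₀, ⁅x₀, y₀⁆} : Set G), Commute p₁ p₂ := by
          rintro p₁ (rfl | rfl) p₂ (rfl | rfl)
          exacts [Commute.refl _, hWA _ hi₀ _ hzA, (hWA _ hi₀ _ hzA).symm, Commute.refl _]
        haveI hc := isMulCommutative_closure fun p₁ h₁ p₂ h₂ => (hpair p₁ h₁ p₂ h₂).eq
        exact fun w hw w' hw' => congrArg Subtype.val (hc.is_comm.comm ⟨w, hw⟩ ⟨w', hw'⟩)
      induction hw using closure_induction with
      | mem z hz =>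
        rcases hz with rfl | hz
        · exact ⟨hi₀t, hi₀p⟩
        · rw [Set.mem_singleton_iff] at hz
          subst hz
          exact ⟨P.inv _ hzA, hcp x₀ hx₀ y₀ hy₀⟩
      | one => exact ⟨by simp, one_pow p⟩
      | mul z z' hz hz' h h' =>
        refine ⟨?_, by rw [(hcl z hz z' hz').mul_pow, h.2, h'.2, one_mul]⟩
        rw [← conj_mul, h.1, h'.1, mul_inv_rev]
        exact (hcl z' hz' z hz).inv_inv.eq.symm
      | inv z _ h => exact ⟨by rw [← conj_inv, h.1], by rw [inv_pow, h.2, inv_one]⟩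
    haveI hcyc : IsCyclic B := isCyclic_of_inverted_centralized S.se S.core S.nb S.cs S.ne S.ht S.htc
      (hBW.trans hWD) (fun w hw => (hBi w hw).1) hq1 (hqp q hq hqt) (fix_of_mem_pair (hWD hq)).1
      (fix_of_mem_pair (hWD hq)).2 hqt hBc
    obtain ⟨⟨g, hg⟩, hgen⟩ := hcyc.exists_generator
    have hle : B ≤ zpowers g := fun w hw => by
      obtain ⟨e, he⟩ := mem_zpowers_iff.1 (hgen ⟨w, hw⟩)
      exact ⟨e, congrArg Subtype.val he⟩
    have hgz : zpowers ⁅x₀, y₀⁆ = zpowers g := by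
      refine Subgroup.eq_of_le_of_card_ge (zpowers_le.2 (hle (subset_closure (Or.inr rfl)))) ?_
      rw [Nat.card_zpowers, Nat.card_zpowers, hzo]
      exact Nat.le_of_dvd hp.pos (orderOf_dvd_of_pow_eq_one (hBi g hg).2)
    exact hi₀A ((zpowers_le.2 hzA) (hgz ▸ hle (subset_closure (Or.inl rfl))))
  obtain ⟨q, hq, hqt, hq1⟩ : ∃ q ∈ W, Commute q t ∧ q ≠ 1 := by
    by_contra hno
    push Not at hno
    refine hab fun x hx y hy => hinvc x hx y hy ?_ ?_
    · obtain ⟨u, hu, hut, i, hi, hit, rfl⟩ := exists_commute_mul_inverted hWodd S.mul_self hWt hx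
      rw [hno u hu hut, one_mul]; exact hit
    · obtain ⟨u, hu, hut, i, hi, hit, rfl⟩ := exists_commute_mul_inverted hWodd S.mul_self hWt hy
      rw [hno u hu hut, one_mul]; exact hit
  have hqA : q ∉ A := fun h =>
    hq1 (eq_one_of_fixed_inverted (S.odd_orderOf (hWD hq)) hqt (P.inv q h))
  refine ⟨p, W, q, hp, hp2, hpA, hAW, hWC, hWn, hWt, hmin, hcomm, hpow, hab, hq,
    orderOf_eq_prime (hqp q hq hqt) hq1, hqt, hqA, ?_⟩
  -- the centraliser of `q`: fixed elements are powers of `q`, inverted ones lie in `A`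
  intro x hx hxq
  obtain ⟨u, hu, hut, i, hi, hit, rfl⟩ := exists_commute_mul_inverted hWodd S.mul_self hWt hx
  have huq : Commute u q := hfix u hu q hq hut hqt
  have hiq : Commute i q := by
    have h := huq.inv_left.mul_left hxq
    rwa [inv_mul_cancel_left] at h
  -- commutators with `i₀` lie in a cyclic group
  haveI hAcyc : IsCyclic A := isCyclic_of_inverted_centralized S.se S.core S.nb S.cs S.ne S.ht S.htc
    P.le P.inv hq1 (hqp q hq hqt) (fix_of_mem_pair (hWD hq)).1 (fix_of_mem_pair (hWD hq)).2 hqt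
    (fun y hy => hWA q hq y hy)
  have hline : ∀ z ∈ A, z ^ p = 1 → z ∈ zpowers ⁅q, i₀⁆ := by
    intro z hz hzp
    have hne' : ⁅q, i₀⁆ ≠ 1 := fun h => hnc q hq hqt hq1 (commutatorElement_eq_one_iff_mul_comm.1 h)
    have hg : orderOf (⟨⁅q, i₀⁆, hcomm q hq i₀ hi₀⟩ : A) = p := by
      rw [Subgroup.orderOf_mk]; exact orderOf_eq_prime (hcp q hq i₀ hi₀) hne'
    by_cases hz1 : z = 1
    · rw [hz1]; exact one_mem _
    have hzg : orderOf (⟨z, hz⟩ : A) = p := by rw [Subgroup.orderOf_mk]; exact orderOf_eq_prime hzp hz1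
    have heq : zpowers (⟨z, hz⟩ : A) = zpowers ⟨⁅q, i₀⁆, hcomm q hq i₀ hi₀⟩ :=
      zpowers_eq_of_orderOf_eq (hzg.trans hg.symm)
    obtain ⟨e, he⟩ := mem_zpowers_iff.1 (heq ▸ mem_zpowers (⟨z, hz⟩ : A))
    exact ⟨e, congrArg Subtype.val he⟩
  obtain ⟨e, he⟩ := hline _ (hcomm u hu i₀ hi₀) (hcp u hu i₀ hi₀)
  -- `u = q ^ e`
  have hqe : ⁅q ^ e, i₀⁆ = ⁅q, i₀⁆ ^ e := by
    obtain ⟨n, rfl | rfl⟩ := e.eq_nat_or_neg
    · rw [zpow_natCast, zpow_natCast,
        Cfsg.Lib.PGroups.commutator_pow_left_of_commute (hcc q hq i₀ hi₀ q hq)]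
    · rw [zpow_neg, zpow_neg, zpow_natCast, zpow_natCast]
      have h1 := Cfsg.Lib.PGroups.commutator_pow_left_of_commute (hcc q hq i₀ hi₀ q hq) n
      rw [← h1]
      have hc : Commute ⁅q ^ n, i₀⁆ (q ^ n) := hcc _ (pow_mem hq n) i₀ hi₀ _ (pow_mem hq n)
      refine eq_inv_of_mul_eq_one_left ?_
      rw [show ⁅(q ^ n)⁻¹, i₀⁆ * ⁅q ^ n, i₀⁆ = (q ^ n)⁻¹ * ⁅q ^ n, i₀⁆⁻¹ * q ^ n * ⁅q ^ n, i₀⁆ by
        simp only [commutatorElement_def]; group, mul_assoc _ _ (q ^ n), hc.inv_left.eq,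
        inv_mul_cancel_left, inv_mul_cancel]
  have hw : Commute (q ^ (-e) * u) i₀ := by
    refine commutatorElement_eq_one_iff_mul_comm.1 ?_
    have hqe' : ⁅q ^ (-e), i₀⁆ = (⁅q, i₀⁆ ^ e)⁻¹ := by
      rw [← hqe]
      have hc : Commute ⁅q ^ e, i₀⁆ (q ^ e) := hcc _ (zpow_mem hq e) i₀ hi₀ _ (zpow_mem hq e)
      rw [zpow_neg]
      refine eq_inv_of_mul_eq_one_left ?_
      rw [show ⁅(q ^ e)⁻¹, i₀⁆ * ⁅q ^ e, i₀⁆ = (q ^ e)⁻¹ * ⁅q ^ e, i₀⁆⁻¹ * q ^ e * ⁅q ^ e, i₀⁆ by
        simp only [commutatorElement_def]; group, mul_assoc _ _ (q ^ e), hc.inv_left.eq,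
        inv_mul_cancel_left, inv_mul_cancel]
    rw [Cfsg.Lib.PGroups.mul_left_commutator, hqe', ← he,
      show q ^ (-e) * ⁅q, i₀⁆ ^ e * (q ^ (-e))⁻¹ = ⁅q, i₀⁆ ^ e by
        rw [← (((hcc q hq i₀ hi₀ q hq).zpow_left e).zpow_right (-e)).eq, mul_inv_cancel_right],
      mul_inv_cancel]
  have hu1 : q ^ (-e) * u = 1 := by
    by_contra h
    exact hnc _ (mul_mem (zpow_mem hq _) hu) ((hqt.zpow_left _).mul_left hut) h hw
  -- the inverted part
  have hiA : i ∈ A := by
    obtain ⟨-, b, hb, hbi⟩ := (hW₁.symm ▸ hi : i ∈ W₁)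
    set i' := i * b⁻¹ with hi'
    have hi'W : i' ∈ W := mul_mem hi (inv_mem (hAW hb))
    have hi't : t * i' * t⁻¹ = i'⁻¹ := by
      rw [hi', ← conj_mul, ← conj_inv, hit, P.inv b hb, inv_inv, mul_inv_rev, inv_inv]
      exact (hWA i hi b hb).inv_left.eq
    have hi'p : i' ^ p = 1 := by
      rw [hi', (hWA i hi _ (inv_mem hb)).mul_pow, inv_pow, hbi, mul_inv_cancel]
    have hi'q : Commute q i' := (hiq.symm).mul_right (hWA q hq _ (inv_mem hb))
    set B := closure ({i', ⁅q, i₀⁆} : Set G) with hB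
    have hzA' : ⁅q, i₀⁆ ∈ A := hcomm q hq i₀ hi₀
    have hBW : B ≤ W := (closure_le _).2 (by
      rintro w (rfl | rfl)
      exacts [hi'W, hAW hzA'])
    have hBc : ∀ w ∈ B, Commute q w := fun w hw => by
      have h : B ≤ centralizer ({q} : Set G) := (closure_le _).2 (by
        rintro w (rfl | rfl)
        exacts [mem_centralizer_singleton_iff.2 hi'q.symm.eq,
          mem_centralizer_singleton_iff.2 (hWA q hq _ hzA').symm.eq])
      exact ((mem_centralizer_singleton_iff.1 (h hw) : Commute w q)).symm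
    have hBi : ∀ w ∈ B, t * w * t⁻¹ = w⁻¹ ∧ w ^ p = 1 := by
      intro w hw
      have hcl : ∀ w ∈ B, ∀ w' ∈ B, Commute w w' := by
        have hpair : ∀ p₁ ∈ ({i', ⁅q, i₀⁆} : Set G), ∀ p₂ ∈ ({i', ⁅q, i₀⁆} : Set G), Commute p₁ p₂ := by
          rintro p₁ (rfl | rfl) p₂ (rfl | rfl)
          exacts [Commute.refl _, hWA _ hi'W _ hzA', (hWA _ hi'W _ hzA').symm, Commute.refl _]
        haveI hc := isMulCommutative_closure fun p₁ h₁ p₂ h₂ => (hpair p₁ h₁ p₂ h₂).eq
        exact fun w hw w' hw' => congrArg Subtype.val (hc.is_comm.comm ⟨w, hw⟩ ⟨w', hw'⟩)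
      induction hw using closure_induction with
      | mem z hz =>
        rcases hz with rfl | hz
        · exact ⟨hi't, hi'p⟩
        · rw [Set.mem_singleton_iff] at hz
          subst hz
          exact ⟨P.inv _ hzA', hcp q hq i₀ hi₀⟩
      | one => exact ⟨by simp, one_pow p⟩
      | mul z z' hz hz' h h' =>
        refine ⟨?_, by rw [(hcl z hz z' hz').mul_pow, h.2, h'.2, one_mul]⟩
        rw [← conj_mul, h.1, h'.1, mul_inv_rev]
        exact (hcl z' hz' z hz).inv_inv.eq.symm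
      | inv z _ h => exact ⟨by rw [← conj_inv, h.1], by rw [inv_pow, h.2, inv_one]⟩
    haveI hcyc : IsCyclic B := isCyclic_of_inverted_centralized S.se S.core S.nb S.cs S.ne S.ht S.htc
      (hBW.trans hWD) (fun w hw => (hBi w hw).1) hq1 (hqp q hq hqt) (fix_of_mem_pair (hWD hq)).1
      (fix_of_mem_pair (hWD hq)).2 hqt hBc
    obtain ⟨⟨g, hg⟩, hgen⟩ := hcyc.exists_generator
    have hle : B ≤ zpowers g := fun w hw => by
      obtain ⟨e, he⟩ := mem_zpowers_iff.1 (hgen ⟨w, hw⟩)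
      exact ⟨e, congrArg Subtype.val he⟩
    have hgz : zpowers ⁅q, i₀⁆ = zpowers g := by
      refine Subgroup.eq_of_le_of_card_ge (zpowers_le.2 (hle (subset_closure (Or.inr rfl)))) ?_
      rw [Nat.card_zpowers, Nat.card_zpowers, orderOf_eq_prime (hcp q hq i₀ hi₀)
        (fun h => hnc q hq hqt hq1 (commutatorElement_eq_one_iff_mul_comm.1 h))]
      exact Nat.le_of_dvd hp.pos (orderOf_dvd_of_pow_eq_one (hBi g hg).2)
    have h' : i' ∈ A := (zpowers_le.2 hzA') (hgz ▸ hle (subset_closure (Or.inl rfl)))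
    simpa [hi'] using mul_mem h' hb
  exact ⟨-e, by rw [← mul_assoc, hu1, one_mul]; exact hiA⟩

end Cfsg.Lib.BenderSE
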