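/-
COMM, case +, branch II (notes/bender_caseplus_h8.md): a plane above `A` makes the involutions at a
point commute.
-/
import Cfsg.Agent.BenderSE.CommPlusLayer
import Cfsg.Agent.BenderSE.CommControl
import Cfsg.Agent.BenderSE.CommMinimal

set_option autoImplicit false
set_option linter.unusedSectionVars false
set_option linter.style.haveILetI false

namespace Cfsg.Lib.BenderSE

open Subgroup MulAction Cfsg.Lib.InvolCalc
open scoped commutatorElement

universe u

variable {G : Type u} [Group G] [Finite G] {H : Subgroup G} {t : G} {c a : G ⧸ H} {A : Subgroup G}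

/-- the centraliser of an involution at `c` is transitive on the other points -/
theorem exists_centralizer_move (hH : Cfsg.IsStronglyEmbedded H) (htt : TwoTransitive H)
    (hac : a ≠ c) {v : G} (hv : orderOf v = 2) (hvc : v • c = c) {b : G ⧸ H} (hbc : b ≠ c) :
    ∃ z ∈ centralizer ({v} : Set G), z • a = b := by
  obtain ⟨g, hg, hgb⟩ := htt c a b hac hbc
  have hg' : g⁻¹ • c = c := by rw [inv_smul_eq_iff, hg]
  obtain ⟨d, hd, hdv⟩ := exists_conj_centre hH hac.symm hv hvc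
    (s' := g⁻¹ * v * g) (by rw [show g⁻¹ * v * g = g⁻¹ * v * g⁻¹⁻¹ by group, orderOf_conj', hv])
    (by rw [mul_smul, mul_smul, hg, hvc, hg'])
  refine ⟨g * d, mem_centralizer_singleton_iff.2 ?_, by
    rw [mul_smul, mem_stabilizer_iff.1 (mem_inf.1 hd).2, hgb]⟩
  calc g * d * v = g * (d * v * d⁻¹) * d := by group
    _ = g * (g⁻¹ * v * g) * d := by rw [hdv]
    _ = v * (g * d) := by group

/-- an inverted element of prime order has order dividing `m` -/
theorem dvd_invCount_of_inverted (S : PairSetting H t c a) {y : G}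
    (hy : y ∈ stabilizer G c ⊓ stabilizer G a) {p : ℕ} (hp : p.Prime) (hyo : orderOf y = p)
    (hyt : t * y * t⁻¹ = y⁻¹) : p ∣ invCount H := by
  classical
  haveI := Fact.mk hp
  have hy1 : y ≠ 1 := fun e => by rw [e, orderOf_one] at hyo; exact hp.ne_one hyo.symm
  have hR : IsPGroup p (zpowers y) := IsPGroup.of_card (n := 1) (by rw [Nat.card_zpowers, hyo, pow_one])
  have hgc : ∀ g ∈ zpowers y, g • c = c := fun g hg => by
    obtain ⟨k, rfl⟩ := hg
    exact mem_stabilizer_iff.1 (zpow_mem (mem_stabilizer_iff.2 (fix_of_mem_pair hy).1) k)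
  let I := {i : G // orderOf i = 2 ∧ i • c = c}
  letI : MulAction (zpowers y) I :=
    { smul := fun g i => ⟨(g : G) * i.1 * (g : G)⁻¹, by rw [orderOf_conj', i.2.1], by
        rw [mul_smul, mul_smul, inv_smul_eq_iff.2 (hgc g g.2).symm, i.2.2, hgc g g.2]⟩
      one_smul := fun i => Subtype.ext (by
        show ((1 : zpowers y) : G) * i.1 * ((1 : zpowers y) : G)⁻¹ = i.1
        simp)
      mul_smul := fun g h i => Subtype.ext (by
        show ((g * h : zpowers y) : G) * i.1 * ((g * h : zpowers y) : G)⁻¹ =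
          (g : G) * ((h : G) * i.1 * (h : G)⁻¹) * (g : G)⁻¹
        rw [Subgroup.coe_mul]; group) }
  have h1 := hR.card_modEq_card_fixedPoints I
  have h2 : Nat.card (fixedPoints (zpowers y) I) = 0 := by
    refine Nat.card_eq_zero.2 (Or.inl ⟨fun ⟨⟨i, hi, hic⟩, hfix⟩ => ?_⟩)
    refine not_commute_of_inverted S.se S.nb S.ne S.ht (fix_of_mem_pair hy).1 (fix_of_mem_pair hy).2
      hy1 hyt hi ?_
    exact mul_inv_eq_iff_eq_mul.1
      (congrArg Subtype.val (hfix ⟨y, mem_zpowers y⟩) : y * i * y⁻¹ = i)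
  rw [h2, show Nat.card I = invCount H from Cfsg.Lib.StrongEmb.card_fixing S.se c] at h1
  exact Nat.modEq_zero_iff_dvd.1 h1

/-- a group centralising `i` is wide if a normal subgroup containing the derived subgroup and the
centraliser of `i` is proper -/
theorem wideAtPoint_of_proper (hH : Cfsg.IsStronglyEmbedded H) {q : ℕ} [Fact q.Prime]
    (hq : ¬ q ∣ invCount H) (hac : a ≠ c) {M : Subgroup G}
    (hM : M ≤ stabilizer G c ⊓ stabilizer G a) (hMne : M ≠ stabilizer G c ⊓ stabilizer G a)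
    (hD' : ⁅stabilizer G c ⊓ stabilizer G a, stabilizer G c ⊓ stabilizer G a⁆ ≤ M) {i : G}
    (hi : orderOf i = 2) (hic : i • c = c)
    (hCM : stabilizer G c ⊓ stabilizer G a ⊓ centralizer ({i} : Set G) ≤ M) {R : Subgroup G}
    (hR : IsPGroup q R) (hRD : R ≤ stabilizer G c ⊓ stabilizer G a) (hRi : ∀ g ∈ R, Commute g i) :
    WideAtPoint H R c := by
  classical
  set D := stabilizer G c ⊓ stabilizer G a with hDdef
  obtain ⟨d, hd, hdM⟩ : ∃ d ∈ D, d ∉ M := by
    by_contra h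
    push Not at h
    exact hMne (le_antisymm hM h)
  set i₁ := d * i * d⁻¹ with hi₁
  have hfixc : ∀ g ∈ D, ∀ j : G, j • c = c → (g * j * g⁻¹) • c = c := fun g hg j hj => by
    have h := (fix_of_mem_pair hg).1
    rw [mul_smul, mul_smul, inv_smul_eq_iff.2 h.symm, hj, h]
  let P : G → Prop := fun j => ∃ n ∈ M, n * i₁ * n⁻¹ = j
  let T := {j : G // P j}
  have hRM : R ≤ M := fun g hg => hCM (mem_inf.2 ⟨hRD hg, mem_centralizer_singleton_iff.2 (hRi g hg).eq⟩)
  letI : MulAction R T :=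
    { smul := fun g j => ⟨(g : G) * j.1 * (g : G)⁻¹, by
        obtain ⟨n, hn, hnj⟩ := j.2
        exact ⟨g * n, mul_mem (hRM g.2) hn, by rw [← hnj]; group⟩⟩
      one_smul := fun j => Subtype.ext (by
        show ((1 : R) : G) * j.1 * ((1 : R) : G)⁻¹ = j.1
        simp)
      mul_smul := fun g h j => Subtype.ext (by
        show ((g * h : R) : G) * j.1 * ((g * h : R) : G)⁻¹ =
          (g : G) * ((h : G) * j.1 * (h : G)⁻¹) * (g : G)⁻¹
        rw [Subgroup.coe_mul]; group) }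
  have hcardT : Nat.card ↥(M ⊓ centralizer ({i₁} : Set G)) * Nat.card T = Nat.card M :=
    card_inf_centralizer_mul (D := M) (P := P) (s := i₁) ⟨1, one_mem M, by group⟩
      (fun n hn j hj => by
        obtain ⟨n', hn', rfl⟩ := hj
        exact ⟨n * n', mul_mem hn hn', by group⟩)
      (fun j hj => hj)
  have hsub : D ⊓ centralizer ({i₁} : Set G) ≤ M := fun x hx => by
    obtain ⟨hxD, hxi⟩ := mem_inf.1 hx
    have h1 : d⁻¹ * x * d ∈ M := by
      refine hCM (mem_inf.2 ⟨mul_mem (mul_mem (inv_mem hd) hxD) hd, mem_centralizer_singleton_iff.2 ?_⟩)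
      have h2 := commute_conj d⁻¹ (show Commute x i₁ from mem_centralizer_singleton_iff.1 hxi)
      rw [hi₁] at h2
      simp only [inv_inv, mul_assoc, inv_mul_cancel, mul_one, inv_mul_cancel_left] at h2
      rw [mul_assoc d⁻¹]
      exact h2
    have h3 := mul_mem (hD' (commutator_mem_commutator hd (hM h1))) h1
    rwa [show ⁅d, d⁻¹ * x * d⁆ * (d⁻¹ * x * d) = x by rw [commutatorElement_def]; group] at h3
  have hT : ¬ q ∣ Nat.card T := fun hqT => by
    refine hq (hqT.trans ?_)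
    have h1 := card_centralizer_fixing hH hac.symm (s := i₁) (by rw [hi₁, orderOf_conj', hi])
      (hfixc d hd i hic)
    rw [show stabilizer G c ⊓ stabilizer G a ⊓ centralizer ({i₁} : Set G) = M ⊓ centralizer ({i₁} : Set G) from
      le_antisymm (le_inf hsub inf_le_right) (inf_le_inf_right _ hM)] at h1
    refine Nat.dvd_of_mul_dvd_mul_left (Nat.card_pos (α := ↥(M ⊓ centralizer ({i₁} : Set G)))) ?_
    rw [hcardT, h1]
    exact card_dvd_of_le hM
  obtain ⟨⟨j, hjP⟩, hjfix⟩ : Nonempty (fixedPoints R T) := by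
    by_contra hno
    rw [not_nonempty_iff] at hno
    have h1 := hR.card_modEq_card_fixedPoints T
    rw [Nat.card_eq_zero.2 (Or.inl hno)] at h1
    exact hT (Nat.modEq_zero_iff_dvd.1 h1)
  obtain ⟨n, hn, hnj⟩ := hjP
  refine ⟨i, j, hi, ?_, ?_, hic, ?_, hRi, fun g hg => ?_⟩
  · rw [← hnj, hi₁, orderOf_conj', orderOf_conj', hi]
  · intro e
    refine hdM ?_
    have h1 : n * d ∈ M := hCM (mem_inf.2 ⟨mul_mem (hM hn) hd, mem_centralizer_singleton_iff.2 ?_⟩)
    · simpa using mul_mem (inv_mem hn) h1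
    · calc n * d * i = n * (d * i * d⁻¹) * n⁻¹ * (n * d) := by group
        _ = i * (n * d) := by rw [← hi₁, hnj, ← e]
  · rw [← hnj]; exact hfixc n (hM hn) _ (hfixc d hd i hic)
  · exact mul_inv_eq_iff_eq_mul.1 (congrArg Subtype.val (hjfix ⟨g, hg⟩) : g * j * g⁻¹ = j)

/-- an involution with commuting conjugates in a subnormal subgroup of the point stabiliser -/
theorem commAt_of_commuting_class (hH : Cfsg.IsStronglyEmbedded H) {v : G} (hv : orderOf v = 2)
    {K₁ K₂ : Subgroup G} (hK₁c : K₁ ≤ stabilizer G c)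
    (hK₁n : stabilizer G c ≤ normalizer (K₁ : Set G)) (hK₂K₁ : K₂ ≤ K₁)
    (hK₂n : K₁ ≤ normalizer (K₂ : Set G)) (hvK : v ∈ K₂)
    (hcl : ∀ g ∈ K₂, Commute v (g * v * g⁻¹)) : CommAt H := by
  classical
  haveI : Fact (Nat.Prime 2) := ⟨Nat.prime_two⟩
  set S : Set K₂ := Group.conjugatesOfSet {(⟨v, hvK⟩ : K₂)} with hS
  have hSconj : ∀ s ∈ S, ∃ k ∈ K₂, (s : G) = k * v * k⁻¹ := by
    intro s hs
    obtain ⟨r, hr, hrs⟩ := Group.mem_conjugatesOfSet_iff.1 hs
    rw [Set.mem_singleton_iff] at hr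
    subst hr
    obtain ⟨k, hk⟩ := isConj_iff.1 hrs
    exact ⟨k, k.2, (congrArg Subtype.val hk).symm⟩
  have hScomm : ∀ p ∈ S, ∀ q ∈ S, p * q = q * p := by
    intro p hp q hq
    obtain ⟨k, hk, hpk⟩ := hSconj p hp
    obtain ⟨k', hk', hqk⟩ := hSconj q hq
    refine Subtype.ext ?_
    show (p : G) * q = q * p
    have h1 := commute_conj k (hcl (k⁻¹ * k') (mul_mem (inv_mem hk) hk'))
    rw [show k * (k⁻¹ * k' * v * (k⁻¹ * k')⁻¹) * k⁻¹ = k' * v * k'⁻¹ by group, ← hpk, ← hqk] at h1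
    exact h1.eq
  set E := Subgroup.normalClosure ({(⟨v, hvK⟩ : K₂)} : Set K₂) with hE
  have hEc : ∀ g ∈ E, ∀ g' ∈ E, g * g' = g' * g := by
    haveI hc := isMulCommutative_closure hScomm
    exact fun g hg g' hg' => congrArg Subtype.val (hc.is_comm.comm (⟨g, hg⟩ : Subgroup.closure S) ⟨g', hg'⟩)
  have hEp : IsPGroup 2 E := by
    have hsq : ∀ g ∈ E, g * g = 1 := by
      intro g hg
      refine closure_induction (p := fun p _ => p * p = 1) ?_ (one_mul 1) ?_ ?_ hg
      · intro p hp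
        obtain ⟨k, -, hk⟩ := hSconj p hp
        refine Subtype.ext ?_
        show (p : G) * p = 1
        rw [hk]
        exact sq_of_order_two (by rw [orderOf_conj', hv])
      · intro p q hp hq h1 h2
        rw [mul_assoc, ← mul_assoc q, hEc q hq p hp, mul_assoc, h2, mul_one, h1]
      · intro p _ h1
        rw [← mul_inv_rev, h1, inv_one]
    exact fun g => ⟨1, Subtype.ext (by rw [pow_one, SubgroupClass.coe_pow, sq]; exact hsq g g.2)⟩
  set N₂ := (Cfsg.pCore 2 K₂).map K₂.subtype with hN₂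
  have hN₂n : K₁ ≤ normalizer (N₂ : Set G) := fun g hg => by
    haveI : (Cfsg.pCore 2 K₂).Characteristic := Cfsg.Lib.Components.pCore_characteristic
    exact Cfsg.Lib.OddP.le_normalizer_map_of_char (Cfsg.pCore 2 K₂) (hK₂n hg)
  have hN₂K : N₂ ≤ K₁ := (map_subtype_le _).trans hK₂K₁
  haveI : (N₂.subgroupOf K₁).Normal := (normal_subgroupOf_iff_le_normalizer hN₂K).2 hN₂n
  have hvN : v ∈ N₂ := mem_map_of_mem K₂.subtype
    (Cfsg.Lib.Components.le_pCore (N := E) hEp (subset_normalClosure (Set.mem_singleton _)))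
  have hvN₁ : (⟨v, hK₂K₁ hvK⟩ : K₁) ∈ Cfsg.pCore 2 K₁ := by
    refine Cfsg.Lib.Components.le_pCore (N := N₂.subgroupOf K₁) ?_ (mem_subgroupOf.2 hvN)
    exact ((Cfsg.Lib.Components.isPGroup_pCore (G := K₂) 2).map K₂.subtype).of_equiv
      (subgroupOfEquivOfLe hN₂K).symm
  refine commAt_of_point (c := c) fun i j hi hj hic hjc =>
    commute_of_two_core hH (N := (Cfsg.pCore 2 K₁).map K₁.subtype) ((map_subtype_le _).trans hK₁c) ?_
      ((Cfsg.Lib.Components.isPGroup_pCore 2).map _) ?_ hi hj hic hjc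
  · intro g hg
    haveI : (Cfsg.pCore 2 K₁).Characteristic := Cfsg.Lib.Components.pCore_characteristic
    exact Cfsg.Lib.OddP.le_normalizer_map_of_char (Cfsg.pCore 2 K₁) (hK₁n hg)
  · intro hbot
    have h2 := mem_map_of_mem K₁.subtype hvN₁
    rw [hbot, mem_bot] at h2
    exact ne_one_of_order_two hv h2

/-- BRANCH II: a plane above `A` gives COMM -/
theorem InvertedMax.commAt_of_plane (P : InvertedMax H A t c a) (S : PairSetting H t c a)
    (reg : RegBelow.{u} (Nat.card G)) (hpl : PlusPlane A t c a) : CommAt H := by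
  classical
  obtain ⟨p, W, k, hp, hp2, hpA, hAW, hWC, hWn, hWt, hmin, hcomm, hpow, hnab, hk, hko, hkt, hkA, hcent⟩ :=
    hpl
  haveI := Fact.mk hp
  set D := stabilizer G c ⊓ stabilizer G a with hDdef
  have hWD : W ≤ D := hWC.trans inf_le_left
  have hWA : ∀ x ∈ W, ∀ y ∈ A, Commute x y := fun x hx y hy => commute_pairCentralizer (hWC hx) hy
  have hk1 : k ≠ 1 := fun e => hkA (e ▸ one_mem A)
  have hkp : k ^ p = 1 := hko ▸ pow_orderOf_eq_one k
  obtain ⟨hkc, hka⟩ := fix_of_mem_pair (hWD hk)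
  obtain ⟨v, hv, hvc, hkv⟩ := exists_fixing_commute S.se S.nb S.ne hkp hkc hka
    (Or.inr ⟨t, S.ht, S.htc, hkt⟩)
  -- nothing inverted commutes with `v`
  have hAv : ∀ y ∈ A, Commute y v → y = 1 := fun y hy h => by
    by_contra h1
    exact P.not_commute S.se S.nb S.ne S.ht hy h1 hv h
  have hzp : ∀ x ∈ W, ∀ y ∈ W, ⁅x, y⁆ ^ p = 1 := fun x hx y hy => by
    have hc : Commute ⁅x, y⁆ x := (hWA x hx _ (hcomm x hx y hy)).symm
    rw [← Cfsg.Lib.PGroups.commutator_pow_left_of_commute hc]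
    exact commutatorElement_eq_one_iff_mul_comm.2 (hWA y hy _ (hpow x hx)).eq.symm
  haveI hAcyc : IsCyclic A := isCyclic_of_inverted_centralized S.se S.core S.nb S.cs S.ne S.ht S.htc
    P.le P.inv hk1 hkp hkc hka hkt (fun y hy => hWA k hk y hy)
  obtain ⟨x₀, hx₀, hx₀k⟩ : ∃ x ∈ W, ¬ Commute x k := by
    by_contra h
    push Not at h
    refine hnab fun x hx y hy => ?_
    obtain ⟨n, hn⟩ := hcent x hx (h x hx)
    obtain ⟨n', hn'⟩ := hcent y hy (h y hy)
    rw [show x = k ^ (-n) * (k ^ n * x) by group, show y = k ^ (-n') * (k ^ n' * y) by group]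
    exact ((Commute.zpow_zpow_self k (-n) (-n')).mul_right
      (hWA _ (zpow_mem hk _) _ hn')).mul_left
      (((hWA _ (zpow_mem hk _) _ hn).symm).mul_right (P.comm hn hn'))
  set z₀ := ⁅k, x₀⁆ with hz₀
  have hz₀A : z₀ ∈ A := hcomm k hk x₀ hx₀
  have hz₀o : orderOf z₀ = p := orderOf_eq_prime (hzp k hk x₀ hx₀)
    fun h => hx₀k (commutatorElement_eq_one_iff_mul_comm.1 h).symm
  have hline : ∀ z ∈ A, z ^ p = 1 → z ∈ zpowers z₀ := by
    intro z hz hzp'
    by_cases hz1 : z = 1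
    · rw [hz1]; exact one_mem _
    have heq : zpowers (⟨z, hz⟩ : A) = zpowers ⟨z₀, hz₀A⟩ := zpowers_eq_of_orderOf_eq
      (by rw [Subgroup.orderOf_mk, Subgroup.orderOf_mk, hz₀o]; exact orderOf_eq_prime hzp' hz1)
    obtain ⟨e, he⟩ := mem_zpowers_iff.1 (heq ▸ mem_zpowers (⟨z, hz⟩ : A))
    exact ⟨e, congrArg Subtype.val he⟩
  have hpm : p ∣ invCount H :=
    dvd_invCount_of_inverted S (P.le hz₀A) hp hz₀o (P.inv z₀ hz₀A)
  -- the plane
  haveI hAWn : (A.subgroupOf W).Normal :=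
    (normal_subgroupOf_iff_le_normalizer hAW).2 (hWD.trans P.norm)
  letI : CommGroup (W ⧸ A.subgroupOf W) :=
    { (inferInstance : Group (W ⧸ A.subgroupOf W)) with
      mul_comm := fun z z' => by
        obtain ⟨x, rfl⟩ := QuotientGroup.mk_surjective z
        obtain ⟨y, rfl⟩ := QuotientGroup.mk_surjective z'
        rw [← QuotientGroup.mk_mul, ← QuotientGroup.mk_mul, QuotientGroup.eq, mem_subgroupOf]
        have h := hcomm _ (inv_mem y.2) _ (inv_mem x.2)
        rw [commutatorElement_def, inv_inv, inv_inv] at h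
        simpa [mul_assoc] using h }
  let Q := W ⧸ A.subgroupOf W
  have hQp : ∀ z : Q, z ^ p = 1 := fun z => by
    obtain ⟨x, rfl⟩ := QuotientGroup.mk_surjective z
    rw [← QuotientGroup.mk_pow, QuotientGroup.eq_one_iff]
    exact mem_subgroupOf.2 (hpow x x.2)
  let π : W →* Q := QuotientGroup.mk' _
  have hQcard : Nat.card Q = p ^ 2 := by
    let f : W →* zpowers z₀ :=
      { toFun := fun x => ⟨⁅k, (x : G)⁆, hline _ (hcomm k hk x x.2) (hzp k hk x x.2)⟩
        map_one' := Subtype.ext (by simp)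
        map_mul' := fun x y => Subtype.ext (by
          show ⁅k, (x : G) * y⁆ = ⁅k, (x : G)⁆ * ⁅k, (y : G)⁆
          rw [Cfsg.Lib.PGroups.mul_right_commutator, (hWA x x.2 _ (hcomm k hk y y.2)).eq,
            mul_inv_cancel_right]) }
    have hfs : Function.Surjective f := fun z => by
      obtain ⟨e, he⟩ := mem_zpowers_iff.1 z.2
      refine ⟨(⟨x₀, hx₀⟩ : W) ^ e, ?_⟩
      rw [map_zpow]
      exact Subtype.ext (by rw [SubgroupClass.coe_zpow]; exact he)
    have h1 : f.ker.index = p := by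
      rw [index_eq_card, Nat.card_congr (QuotientGroup.quotientKerEquivOfSurjective f hfs).toEquiv,
        Nat.card_zpowers, hz₀o]
    have h2 : f.ker = A.subgroupOf W ⊔ zpowers ⟨k, hk⟩ := by
      refine le_antisymm (fun x hx => ?_) (sup_le (fun x hx => MonoidHom.mem_ker.2 (Subtype.ext ?_))
        (zpowers_le.2 (MonoidHom.mem_ker.2 (Subtype.ext ?_))))
      · have hx' : ⁅k, (x : G)⁆ = 1 := congrArg Subtype.val hx
        obtain ⟨n, hn⟩ := hcent x x.2 (commutatorElement_eq_one_iff_mul_comm.1 hx').symm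
        rw [show x = (⟨k, hk⟩ : W) ^ (-n) * ((⟨k, hk⟩ : W) ^ n * x) by group]
        exact mul_mem (mem_sup_right (zpow_mem (mem_zpowers _) _))
          (mem_sup_left (mem_subgroupOf.2 (by push_cast; exact hn)))
      · exact commutatorElement_eq_one_iff_mul_comm.2 (hWA k hk _ (mem_subgroupOf.1 hx)).eq
      · exact commutatorElement_self k
    have h3 : (A.subgroupOf W).relIndex f.ker = p := by
      rw [h2, relIndex_sup_left]
      have h4 : (A.subgroupOf W).relIndex (zpowers (⟨k, hk⟩ : W)) ∣ p := by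
        have := (A.subgroupOf W).relIndex_dvd_card (zpowers (⟨k, hk⟩ : W))
        rwa [Nat.card_zpowers, Subgroup.orderOf_mk, hko] at this
      rcases (Nat.dvd_prime hp).1 h4 with h | h
      · exact absurd (mem_subgroupOf.1 (relIndex_eq_one.1 h (mem_zpowers _))) hkA
      · exact h
    show Nat.card (W ⧸ A.subgroupOf W) = p ^ 2
    rw [← index_eq_card, ← relIndex_mul_index (h2.symm ▸ le_sup_left : A.subgroupOf W ≤ f.ker), h3, h1,
      sq]
  -- the action on the plane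
  let conjW : D → W →* W := fun d =>
    { toFun := fun x => ⟨(d : G) * x * (d : G)⁻¹, (mem_normalizer_iff.1 (hWn d.2) x).1 x.2⟩
      map_one' := Subtype.ext (by simp)
      map_mul' := fun x y => Subtype.ext (by simp [mul_assoc]) }
  let act : D → Q →* Q := fun d => QuotientGroup.lift _ (π.comp (conjW d)) fun x hx => by
    rw [MonoidHom.mem_ker]
    show π (conjW d x) = 1
    exact (QuotientGroup.eq_one_iff _).2 (mem_subgroupOf.2
      ((mem_normalizer_iff.1 (P.norm d.2) (x : G)).1 (mem_subgroupOf.1 hx)))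
  have hact : ∀ (d : D) (x : W), act d (π x) = π (conjW d x) := fun d x => rfl
  have hactmul : ∀ (d e : D) (z : Q), act (d * e) z = act d (act e z) := fun d e z => by
    obtain ⟨x, rfl⟩ := QuotientGroup.mk_surjective z
    show π (conjW (d * e) x) = π (conjW d (conjW e x))
    exact congrArg π (Subtype.ext (by
      show ((d * e : D) : G) * x * ((d * e : D) : G)⁻¹ = (d : G) * ((e : G) * x * (e : G)⁻¹) * (d : G)⁻¹
      rw [Subgroup.coe_mul]; group))
  have hactone : ∀ z : Q, act 1 z = z := fun z => by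
    obtain ⟨x, rfl⟩ := QuotientGroup.mk_surjective z
    show π (conjW 1 x) = π x
    exact congrArg π (Subtype.ext (by show ((1 : D) : G) * x * ((1 : D) : G)⁻¹ = x; simp))
  let ρ : D →* MulAut Q :=
    { toFun := fun d =>
        { toFun := act d
          invFun := act d⁻¹
          left_inv := fun z => by rw [← hactmul, inv_mul_cancel, hactone]
          right_inv := fun z => by rw [← hactmul, mul_inv_cancel, hactone]
          map_mul' := map_mul _ }
      map_one' := MulEquiv.ext hactone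
      map_mul' := fun d e => MulEquiv.ext fun z => hactmul d e z }
  have hρ : ∀ (d : D) (x : W), ρ d (π x) = π (conjW d x) := fun d x => rfl
  have hker : ∀ (d : D), ρ d = 1 → ∀ x ∈ W, (d : G) * x * (d : G)⁻¹ * x⁻¹ ∈ A := fun d hd x hx => by
    have h1 : π (conjW d ⟨x, hx⟩) = π ⟨x, hx⟩ := by rw [← hρ, hd]; rfl
    have h2 : π (conjW d ⟨x, hx⟩ * (⟨x, hx⟩ : W)⁻¹) = 1 := by rw [map_mul, map_inv, h1, mul_inv_cancel]
    exact mem_subgroupOf.1 ((QuotientGroup.eq_one_iff _).1 h2)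
  have hDodd : Odd (Nat.card D) := S.odd_pair
  haveI : Group.IsSolvable D := Cfsg.Agent.PF.isSolvable_of_odd D hDodd
  haveI : Group.IsSolvable ρ.range := Group.isSolvable_of_surjective ρ.rangeRestrict_surjective
  have hXodd : Odd (Nat.card ρ.range) := hDodd.of_dvd_nat (Subgroup.card_range_dvd ρ)
  have hpowX : ∀ e ∈ ⁅ρ.range, ρ.range⁆, e ^ p = 1 :=
    Cfsg.Lib.OddP.pow_prime_of_commutator_mulAut (p := p) hp2 hQp le_rfl hQcard ρ.range hXodd
  -- the image is abelian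
  have hXab : ∀ d e : D, ρ d * ρ e = ρ e * ρ d := by
    set W' := ⁅ρ.range, ρ.range⁆ with hW'
    have hWp : IsPGroup p W' := fun e => ⟨1, Subtype.ext (by rw [pow_one]; exact hpowX e e.2)⟩
    letI : MulAction W' Q := MulAction.compHom Q W'.subtype
    let F : Subgroup G :=
      { carrier := {x | ∃ hx : x ∈ W, ∀ e ∈ W', e (π ⟨x, hx⟩) = π ⟨x, hx⟩}
        one_mem' := ⟨one_mem W, fun e _ => by
          rw [show (⟨1, one_mem W⟩ : W) = 1 from rfl, map_one, map_one]⟩
        mul_mem' := fun {x y} ⟨hx, hfx⟩ ⟨hy, hfy⟩ => ⟨mul_mem hx hy, fun e he => by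
          rw [show (⟨x * y, mul_mem hx hy⟩ : W) = ⟨x, hx⟩ * ⟨y, hy⟩ from rfl, map_mul, map_mul, hfx e he,
            hfy e he]⟩
        inv_mem' := fun {x} ⟨hx, hfx⟩ => ⟨inv_mem hx, fun e he => by
          rw [show (⟨x⁻¹, inv_mem hx⟩ : W) = (⟨x, hx⟩ : W)⁻¹ from rfl, map_inv, map_inv, hfx e he]⟩ }
    have hFA : A ≤ F := fun x hx => ⟨hAW hx, fun e _ => by
      rw [show π ⟨x, hAW hx⟩ = 1 from (QuotientGroup.eq_one_iff _).2 (mem_subgroupOf.2 hx), map_one]⟩
    have hFW : F ≤ W := fun x hx => (show ∃ h : x ∈ W, ∀ e ∈ W', e (π ⟨x, h⟩) = π ⟨x, h⟩ from hx).1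
    have hgen : ∀ (g : G), g ∈ normalizer (W : Set G) → ∀ σ : D →* D,
        (∀ d : D, (σ d : G) = g⁻¹ * d * g) → ∀ x ∈ F, g * x * g⁻¹ ∈ W →
        (∀ (y : W), (g : G) * (y : G) * g⁻¹ ∈ W → (y : G) ∈ A → g * (y : G) * g⁻¹ ∈ A) →
        g * x * g⁻¹ ∈ F := by
      intro g hgW σ hσ x hxF hgx hgA
      obtain ⟨hx, hfx⟩ : ∃ h : x ∈ W, ∀ e ∈ W', e (π ⟨x, h⟩) = π ⟨x, h⟩ := hxF
      refine ⟨hgx, fun e he => ?_⟩
      have hW'map : W' = Subgroup.map ρ ⁅(⊤ : Subgroup D), (⊤ : Subgroup D)⁆ := by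
        rw [hW', map_commutator, ← MonoidHom.range_eq_map]
      rw [hW'map] at he
      obtain ⟨d, hd, rfl⟩ := he
      have hσd : σ d ∈ ⁅(⊤ : Subgroup D), ⊤⁆ :=
        (commutator_mono (le_top (a := (⊤ : Subgroup D).map σ)) le_top)
          ((map_commutator (⊤ : Subgroup D) ⊤ σ) ▸ mem_map_of_mem σ hd)
      have h1 := hfx _ (hW'map ▸ mem_map_of_mem ρ hσd)
      rw [hρ] at h1 ⊢
      have h2 : π (conjW (σ d) ⟨x, hx⟩ * (⟨x, hx⟩ : W)⁻¹) = 1 := by
        rw [map_mul, map_inv, h1, mul_inv_cancel]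
      have h3 : ((conjW (σ d) ⟨x, hx⟩ * (⟨x, hx⟩ : W)⁻¹ : W) : G) ∈ A :=
        mem_subgroupOf.1 ((QuotientGroup.eq_one_iff _).1 h2)
      have h4 := hgA (conjW (σ d) ⟨x, hx⟩ * (⟨x, hx⟩ : W)⁻¹)
        ((mem_normalizer_iff.1 hgW _).1 (SetLike.coe_mem _)) h3
      rw [← mul_inv_eq_one, ← map_inv, ← map_mul]
      refine (QuotientGroup.eq_one_iff _).2 (mem_subgroupOf.2 ?_)
      show (d : G) * (g * x * g⁻¹) * (d : G)⁻¹ * (g * x * g⁻¹)⁻¹ ∈ A
      have h5 : g * ((σ d : G) * x * (σ d : G)⁻¹ * x⁻¹) * g⁻¹ ∈ A := h4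
      rw [hσ] at h5
      rw [show (d : G) * (g * x * g⁻¹) * (d : G)⁻¹ * (g * x * g⁻¹)⁻¹ =
        g * (g⁻¹ * (d : G) * g * x * (g⁻¹ * (d : G) * g)⁻¹ * x⁻¹) * g⁻¹ by group]
      exact h5
    have hFn : D ≤ normalizer (F : Set G) := fun g hg => mem_normalizer_of_maps_to fun x hx =>
      hgen g (hWn hg)
        { toFun := fun d => ⟨g⁻¹ * d * g, mul_mem (mul_mem (inv_mem hg) d.2) hg⟩
          map_one' := Subtype.ext (by simp)
          map_mul' := fun d e => Subtype.ext (by simp [mul_assoc]) }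
        (fun d => rfl) x hx ((mem_normalizer_iff.1 (hWn hg) x).1 (hFW hx))
        fun y _ hy => (mem_normalizer_iff.1 (P.norm hg) _).1 hy
    have hFt : t ∈ normalizer (F : Set G) := mem_normalizer_of_maps_to fun x hx =>
      hgen t hWt
        { toFun := fun d => ⟨t⁻¹ * d * t, by
            have h := S.conj_mem d.2
            rw [inv_of_order_two S.ht] at h ⊢
            exact h⟩
          map_one' := Subtype.ext (by simp)
          map_mul' := fun d e => Subtype.ext (by simp [mul_assoc]) }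
        (fun d => rfl) x hx ((mem_normalizer_iff.1 hWt x).1 (hFW hx))
        fun y _ hy => (mem_normalizer_iff.1 P.mem_normalizer_swapper _).1 hy
    have hfixne : F ≠ A := by
      intro hFeq
      have hpd : p ∣ Nat.card Q := by rw [hQcard]; exact dvd_pow_self p (by norm_num)
      obtain ⟨z, hz, hz1⟩ := hWp.exists_fixed_point_of_prime_dvd_card_of_fixed_point Q hpd
        (a := 1) (fun e => map_one (e : MulAut Q))
      obtain ⟨⟨x, hx⟩, rfl⟩ := QuotientGroup.mk_surjective z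
      have hxF : x ∈ F := ⟨hx, fun e he => hz ⟨e, he⟩⟩
      rw [hFeq] at hxF
      exact hz1 ((QuotientGroup.eq_one_iff _).2 (mem_subgroupOf.2 hxF)).symm
    have hFW' : F = W := (hmin F hFA hFW hFn hFt).resolve_left hfixne
    intro d e
    rw [← commutatorElement_eq_one_iff_mul_comm]
    refine MulEquiv.ext fun z => ?_
    obtain ⟨⟨x, hx⟩, rfl⟩ := QuotientGroup.mk_surjective z
    obtain ⟨_, hfx⟩ := (hFW'.symm ▸ hx : x ∈ F)
    exact hfx _ (commutator_mem_commutator ⟨d, rfl⟩ ⟨e, rfl⟩)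
  letI : CommGroup ρ.range :=
    { (inferInstance : Group ρ.range) with
      mul_comm := by
        rintro ⟨_, d, rfl⟩ ⟨_, e, rfl⟩
        exact Subtype.ext (hXab d e) }
  -- centralisers of involutions do not cover the image
  have hcover : ∀ i : G, orderOf i = 2 → i • c = c →
      ∃ M : Subgroup G, M ≤ D ∧ M ≠ D ∧ ⁅D, D⁆ ≤ M ∧ D ⊓ centralizer ({i} : Set G) ≤ M := by
    intro i hi hic
    set Ci := D ⊓ centralizer ({i} : Set G) with hCi
    refine ⟨(((Ci.subgroupOf D).map ρ).comap ρ).map D.subtype, map_subtype_le _, ?_, ?_, fun x hx =>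
      ⟨⟨x, (mem_inf.1 hx).1⟩, mem_map_of_mem ρ (mem_subgroupOf.2 hx), rfl⟩⟩
    swap
    · rw [← Subgroup.map_subtype_commutator]
      refine Subgroup.map_mono fun d hd => ?_
      have hle : commutator D ≤ ρ.ker := by
        rw [_root_.commutator_def, commutator_le]
        intro u _ w _
        rw [MonoidHom.mem_ker, map_commutatorElement, commutatorElement_eq_one_iff_mul_comm]
        exact hXab u w
      show ρ d ∈ (Ci.subgroupOf D).map ρ
      rw [MonoidHom.mem_ker.1 (hle hd)]; exact one_mem _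
    intro htop
    obtain ⟨d₀, hd₀, hd₀v⟩ := exists_conj_centre S.se S.ne.symm hv hvc hi hic
    -- every element of `D` normalises `A ⟨k⟩`
    have hAk : ∀ g : G, g ∈ D → g * k * g⁻¹ ∈ A ⊔ zpowers k := by
      intro g hg
      have hg' : d₀ * g * d₀⁻¹ ∈ D := mul_mem (mul_mem hd₀ hg) (inv_mem hd₀)
      obtain ⟨y, hy, hyg⟩ := (htop.symm ▸ hg' : d₀ * g * d₀⁻¹ ∈ _)
      obtain ⟨z, hz, hzy⟩ := (hy : ρ y ∈ (Ci.subgroupOf D).map ρ)
      obtain ⟨hzD, hzi⟩ := mem_inf.1 (mem_subgroupOf.1 hz)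
      set w := d₀⁻¹ * (z : G) * d₀ with hw
      have hwD : w ∈ D := mul_mem (mul_mem (inv_mem hd₀) z.2) hd₀
      have hwv : Commute w v := by
        have h2 := commute_conj d₀⁻¹ (show Commute (z : G) i from mem_centralizer_singleton_iff.1 hzi)
        rw [← hd₀v] at h2
        simp only [inv_inv, mul_assoc, inv_mul_cancel, mul_one, inv_mul_cancel_left] at h2
        rw [hw, mul_assoc d₀⁻¹]
        exact h2
      have hwk : w * k * w⁻¹ ∈ zpowers k := by
        have hW' : w * k * w⁻¹ ∈ W := (mem_normalizer_iff.1 (hWn hwD) k).1 hk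
        have hcv : Commute (w * k * w⁻¹) v := (hwv.mul_left hkv).mul_left hwv.inv_left
        have hc1 : Commute (w * k * w⁻¹) k := by
          refine commutatorElement_eq_one_iff_mul_comm.1 (hAv _ (hcomm _ hW' k hk) ?_)
          rw [commutatorElement_def]
          exact ((hcv.mul_left hkv).mul_left hcv.inv_left).mul_left hkv.inv_left
        obtain ⟨n, hn⟩ := hcent _ hW' hc1
        have h1 := hAv _ hn ((hkv.zpow_left n).mul_left hcv)
        rw [mul_eq_one_iff_eq_inv] at h1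
        exact inv_mem_iff.1 (h1 ▸ zpow_mem (mem_zpowers k) n)
      -- `g` and `w` agree on the plane
      have hyg' : (y : G) = d₀ * g * d₀⁻¹ := hyg
      have hgw : ρ ⟨g, hg⟩ = ρ ⟨w, hwD⟩ := by
        have e1 : (⟨g, hg⟩ : D) = ⟨d₀, hd₀⟩⁻¹ * y * ⟨d₀, hd₀⟩ := Subtype.ext (by
          show g = d₀⁻¹ * (y : G) * d₀
          rw [hyg']; group)
        have e2 : (⟨w, hwD⟩ : D) = ⟨d₀, hd₀⟩⁻¹ * z * ⟨d₀, hd₀⟩ := Subtype.ext rfl
        rw [e1, e2, map_mul, map_mul, map_mul, map_mul, hzy]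
      have h6 : π (conjW ⟨g, hg⟩ ⟨k, hk⟩) = π (conjW ⟨w, hwD⟩ ⟨k, hk⟩) := by
        rw [← hρ, ← hρ, hgw]
      have h7 := mem_subgroupOf.1 (QuotientGroup.eq.1 h6.symm)
      have h8 : (w * k * w⁻¹)⁻¹ * (g * k * g⁻¹) ∈ A := h7
      rw [show g * k * g⁻¹ = (w * k * w⁻¹) * ((w * k * w⁻¹)⁻¹ * (g * k * g⁻¹)) by group]
      exact mul_mem (mem_sup_right hwk) (mem_sup_left h8)
    set X := A ⊔ zpowers k with hX
    have hXn : ∀ g : G, g ∈ normalizer (A : Set G) → g * k * g⁻¹ ∈ X → g ∈ normalizer (X : Set G) :=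
      fun g hgA hgk => mem_normalizer_of_maps_to fun x hx => by
        have h : X ≤ X.comap (MulAut.conj g).toMonoidHom := sup_le
          (fun y hy => mem_sup_left ((mem_normalizer_iff.1 hgA y).1 hy)) (zpowers_le.2 hgk)
        exact h hx
    rcases hmin X le_sup_left (sup_le hAW (zpowers_le.2 hk))
        (fun g hg => hXn g (P.norm hg) (hAk g hg))
        (hXn t P.mem_normalizer_swapper (by
          rw [← hkt.eq, mul_inv_cancel_right]; exact mem_sup_right (mem_zpowers k))) with h | h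
    · exact hkA (h ▸ mem_sup_right (mem_zpowers k))
    · refine hx₀k ?_
      have hle : X ≤ centralizer ({k} : Set G) := sup_le
        (fun y hy => mem_centralizer_singleton_iff.2 (hWA k hk y hy).eq.symm)
        (zpowers_le.2 (mem_centralizer_singleton_iff.2 rfl))
      exact mem_centralizer_singleton_iff.1 (hle (h.symm ▸ hx₀))
  -- wide elements
  have hwide : ∀ q : ℕ, q.Prime → q ∣ Nat.card ρ.range ∨ q = p → ∀ (R : Subgroup G) (e : ℕ),
      R ≤ D → IsPGroup q R → (∀ x ∈ R, orderOf x ∣ q ^ e) →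
      (q ∣ invCount H → ∃ x ∈ R, R = zpowers x) →
      ∀ i, orderOf i = 2 → i • c = c → (∀ g ∈ R, Commute g i) → WideAtPoint H R c := by
    intro q hq _ R e hRD hRq hord hcyc i hi hic hRi
    haveI := Fact.mk hq
    by_cases hqm : q ∣ invCount H
    · obtain ⟨x, hxR, rfl⟩ := hcyc hqm
      exact wideAtPoint_of_dvd S.se hqm (hord x hxR) (fix_of_mem_pair (hRD hxR)).1 hi hic (hRi x hxR)
    · obtain ⟨M, hM, hMne, hD', hCM⟩ := hcover i hi hic
      exact wideAtPoint_of_proper S.se hqm S.ne hM hMne hD' hi hic hCM hRq hRD hRi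
  have hctl : ∀ q e : ℕ, q.Prime → q ∣ Nat.card ρ.range ∨ q = p → ∀ x ∈ D, orderOf x ∣ q ^ e →
      x ≠ 1 → ∀ b : G ⧸ H, b ≠ c → b ≠ a → x • b = b →
      ∃ s : G, (∃ j : ℕ, orderOf s = 2 ^ j) ∧ s • c = c ∧ Commute x s ∧ s • a = b := by
    intro q e hq hqX x hx hxo hx1 b hbc hba hxb
    haveI := Fact.mk hq
    have hR : IsPGroup q (zpowers x) := IsPGroup.of_card_dvd_pow (n := e) (by rwa [Nat.card_zpowers])
    have hfix : ∀ y : G ⧸ H, x • y = y → y ∈ fixOf (α := G ⧸ H) (zpowers x) := fun y hy g hg => by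
      obtain ⟨j, rfl⟩ := hg
      exact mem_stabilizer_iff.1 (zpow_mem (mem_stabilizer_iff.2 hy) j)
    obtain ⟨hxc, hxa⟩ := fix_of_mem_pair hx
    obtain ⟨i, hi, hic, hxi⟩ := exists_centralizing_at S.se S.nb hR (hfix c hxc)
      ⟨c, hfix c hxc, a, hfix a hxa, b, hfix b hxb, S.ne.symm, hbc.symm, hba.symm⟩
    have hw := hwide q hq hqX (zpowers x) e (zpowers_le.2 hx) hR
      (fun y hy => (orderOf_dvd_of_mem_zpowers hy).trans hxo) (fun _ => ⟨x, mem_zpowers x, rfl⟩)
      i hi hic hxi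
    obtain ⟨hmv, -⟩ := exists_wide_moves S.se S.core S.nb S.cs reg hR
      (fun h => hx1 (zpowers_eq_bot.1 h)) S.ne (hfix c hxc) (hfix a hxa) hw
    obtain ⟨s, hs, hsc, hsx, hsa⟩ := hmv b hbc (hfix b hxb)
    exact ⟨s, hs, hsc, hsx x (mem_zpowers x), hsa⟩
  have hnd : ∀ q : ℕ, q.Prime → q ∣ Nat.card ρ.range → ¬ q ∣ Nat.card {b : G ⧸ H // b ≠ c} := by
    intro q hq hqX
    haveI := Fact.mk hq
    by_cases hqm : q ∣ invCount H
    · exact not_dvd_card_others S.se S.nb hqm c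
    -- a Sylow subgroup of the centraliser of `v`
    have hqD : q ∣ Nat.card D := hqX.trans (Subgroup.card_range_dvd ρ)
    have hq2 : q ≠ 2 := fun e => (Nat.not_even_iff_odd.2 hDodd) (even_iff_two_dvd.2 (e ▸ hqD))
    set Cv := D ⊓ centralizer ({v} : Set G) with hCv
    have hcard := card_centralizer_fixing S.se S.ne.symm hv hvc
    have hqCv : q ∣ Nat.card Cv := by
      rw [← hcard] at hqD
      exact (hq.dvd_mul.1 hqD).resolve_right hqm
    obtain ⟨Sy⟩ : Nonempty (Sylow q Cv) := inferInstance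
    set R := (Sy : Subgroup Cv).map Cv.subtype with hR
    have hRD : R ≤ D := (map_subtype_le _).trans inf_le_left
    have hRq : IsPGroup q R := Sy.2.map _
    have hR1 : R ≠ ⊥ := by
      intro h
      rw [hR, map_eq_bot_iff_of_injective _ Cv.subtype_injective] at h
      exact Sy.ne_bot_of_dvd_card hqCv h
    have hRv : ∀ g ∈ R, Commute g v := fun g hg =>
      mem_centralizer_singleton_iff.1 (mem_inf.1 (map_subtype_le _ hg)).2
    obtain ⟨n, hn⟩ := hRq.exists_card_eq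
    have hw := hwide q hq (Or.inl hqX) R n hRD hRq
      (fun x hx => hn ▸ Subgroup.orderOf_dvd_natCard R hx) (fun h => absurd h hqm) v hv hvc hRv
    exact not_dvd_card_others_of_wide S.se S.core S.nb S.cs reg hq2 hRq hR1 S.ne
      (fun g hg => (fix_of_mem_pair (hRD hg)).1) (fun g hg => (fix_of_mem_pair (hRD hg)).2) hw
  -- the first transfer
  set K₀ := stabilizer G c with hK₀
  let D₀ : Subgroup K₀ := (stabilizer G a).comap K₀.subtype
  let ι : D₀ →* D :=
    { toFun := fun d => ⟨((d : K₀) : G), mem_inf.2 ⟨(d : K₀).2, d.2⟩⟩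
      map_one' := rfl
      map_mul' := fun _ _ => rfl }
  have htr₀ : ∀ b : G ⧸ H, b ≠ c → ∃ g ∈ K₀, g • a = b := fun b hb => by
    obtain ⟨g, hg, hgb⟩ := S.tt c a b S.ne hb
    exact ⟨g, mem_stabilizer_iff.2 hg, hgb⟩
  obtain ⟨K₁, hK₁c, hK₁n, hK₁a, hK₁tr, hK₁cop⟩ := exists_normal_of_control S.ne (K := K₀) le_rfl htr₀
    D₀ rfl (ρ.rangeRestrict.comp ι)
    (fun x q hq hqx => hnd q hq (hqx.trans (orderOf_dvd_natCard x)))
    (fun q e hq hqX d hd hd1 b hbc hba hdb => by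
      obtain ⟨s, -, hsc, hxs, hsa⟩ := hctl q e hq (Or.inl hqX) _ (ι d).2
        (by
          show orderOf (((d : K₀) : G)) ∣ q ^ e
          rw [Subgroup.orderOf_coe, Subgroup.orderOf_coe]; exact hd)
        (fun h => hd1 (Subtype.ext (Subtype.ext h))) b hbc hba hdb
      exact ⟨s, mem_stabilizer_iff.2 hsc, hxs, hsa⟩)
  have hCv0 : centralizer ({v} : Set G) ≤ K₀ := centralizer_le_stabilizer S.se hv hvc
  have hU₁ := hK₁tr (centralizer ({v} : Set G)) hCv0
    (fun b hb => exists_centralizer_move S.se S.tt S.ne hv hvc hb)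
  have h2cop : ∀ s : G, s • c = c → (∃ j : ℕ, orderOf s = 2 ^ j) → s ∈ K₁ := fun s hsc ⟨j, hj⟩ =>
    hK₁cop s (mem_stabilizer_iff.2 hsc) (hj ▸ (Nat.coprime_two_left.2 hXodd).pow_left j)
  have hvK₁ : v ∈ K₁ := h2cop v hvc ⟨1, by rw [hv, pow_one]⟩
  have hK₁ker : ∀ g ∈ K₁, g • a = a → ∀ x ∈ W, g * x * g⁻¹ * x⁻¹ ∈ A := by
    intro g hg hga x hx
    obtain ⟨y, ⟨d, hd, rfl⟩, hdg⟩ := (hK₁a ▸ mem_inf.2 ⟨hg, mem_stabilizer_iff.2 hga⟩ :
      g ∈ (((ρ.rangeRestrict.comp ι).ker).map D₀.subtype).map K₀.subtype)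
    have h := hker (ι d) (congrArg Subtype.val (MonoidHom.mem_ker.1 hd)) x hx
    rw [← hdg]
    exact h
  have hK₁D : ∀ g ∈ K₁, g • a = a → g ∈ D := fun g hg hga =>
    mem_inf.2 ⟨hK₁c hg, mem_stabilizer_iff.2 hga⟩
  -- the second transfer
  let D₁ : Subgroup K₁ := (stabilizer G a).comap K₁.subtype
  have hkd : ∀ d : D₁, k⁻¹ * (((d : K₁) : G) * k * ((d : K₁) : G)⁻¹) ∈ zpowers z₀ := fun d => by
    set g := ((d : K₁) : G)
    have hA1 : g * k * g⁻¹ * k⁻¹ ∈ A := hK₁ker g (d : K₁).2 d.2 k hk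
    set f := g * k * g⁻¹ * k⁻¹ with hf
    have hfk : k⁻¹ * (g * k * g⁻¹) = f := by
      rw [show g * k * g⁻¹ = f * k by rw [hf]; group, ← (hWA k hk f hA1).eq, inv_mul_cancel_left]
    rw [hfk]
    refine hline f hA1 ?_
    have h1 : (f * k) ^ p = 1 := by
      rw [hf, inv_mul_cancel_right, conj_pow, hkp, mul_one, mul_inv_cancel]
    rwa [(hWA k hk f hA1).symm.mul_pow, hkp, mul_one] at h1
  have hz₀fix : ∀ d : D₁, ∀ z ∈ zpowers z₀, Commute ((d : K₁) : G) z := by
    intro d z ⟨n, hn⟩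
    set g := ((d : K₁) : G)
    rw [← hn]
    refine Commute.zpow_right ?_ n
    have h : g * z₀ * g⁻¹ = z₀ := by
      rw [hz₀, show g * ⁅k, x₀⁆ * g⁻¹ = ⁅g * k * g⁻¹, g * x₀ * g⁻¹⁆ by
        simp only [commutatorElement_def]; group]
      have hA1 := hK₁ker g (d : K₁).2 d.2 k hk
      have hA2 := hK₁ker g (d : K₁).2 d.2 x₀ hx₀
      set f := g * k * g⁻¹ * k⁻¹
      set f' := g * x₀ * g⁻¹ * x₀⁻¹
      rw [show g * k * g⁻¹ = f * k by simp [f], show g * x₀ * g⁻¹ = f' * x₀ by simp [f']]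
      have c1 : Commute f k := (hWA k hk f hA1).symm
      have c2 : Commute f x₀ := (hWA x₀ hx₀ f hA1).symm
      have c3 : Commute f' k := (hWA k hk f' hA2).symm
      have c4 : Commute f' x₀ := (hWA x₀ hx₀ f' hA2).symm
      have c5 : Commute f f' := P.comm hA1 hA2
      rw [Cfsg.Lib.PGroups.mul_left_commutator,
        show ⁅f, f' * x₀⁆ = 1 from commutatorElement_eq_one_iff_mul_comm.2 (c5.mul_right c2).eq, mul_one,
        Cfsg.Lib.PGroups.mul_right_commutator,
        show ⁅k, f'⁆ = 1 from commutatorElement_eq_one_iff_mul_comm.2 c3.symm.eq, one_mul]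
      have hfz : Commute f ⁅k, x₀⁆ := P.comm hA1 hz₀A
      have hf'z : Commute f' ⁅k, x₀⁆ := P.comm hA2 hz₀A
      rw [hf'z.eq, mul_inv_cancel_right, hfz.eq, mul_inv_cancel_right]
    exact mul_inv_eq_iff_eq_mul.1 h
  letI : CommGroup (zpowers z₀) :=
    { (inferInstance : Group (zpowers z₀)) with
      mul_comm := fun x y => Subtype.ext (by
        obtain ⟨n, hn⟩ := x.2
        obtain ⟨m, hm⟩ := y.2
        show (x : G) * y = y * x
        rw [← hn, ← hm, ← zpow_add, ← zpow_add, add_comm]) }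
  let φ : D₁ →* zpowers z₀ :=
    { toFun := fun d => ⟨_, hkd d⟩
      map_one' := Subtype.ext (by simp)
      map_mul' := fun d e => Subtype.ext (by
        show k⁻¹ * (((d : K₁) : G) * ((e : K₁) : G) * k * (((d : K₁) : G) * ((e : K₁) : G))⁻¹) =
          k⁻¹ * (((d : K₁) : G) * k * ((d : K₁) : G)⁻¹) * (k⁻¹ * (((e : K₁) : G) * k * ((e : K₁) : G)⁻¹))
        have h1 := hz₀fix d _ (hkd e)
        generalize ((d : K₁) : G) = g at h1 ⊢
        generalize ((e : K₁) : G) = g' at h1 ⊢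
        calc k⁻¹ * (g * g' * k * (g * g')⁻¹) = k⁻¹ * (g * (k * (k⁻¹ * (g' * k * g'⁻¹))) * g⁻¹) := by group
          _ = k⁻¹ * (g * k * (k⁻¹ * (g' * k * g'⁻¹) * g⁻¹)) := by group
          _ = k⁻¹ * (g * k * (g⁻¹ * (k⁻¹ * (g' * k * g'⁻¹)))) := by rw [← h1.inv_left.eq]
          _ = k⁻¹ * (g * k * g⁻¹) * (k⁻¹ * (g' * k * g'⁻¹)) := by group) }
  have hzcard : Nat.card (zpowers z₀) = p := by rw [Nat.card_zpowers, hz₀o]
  have htr₁ : ∀ b : G ⧸ H, b ≠ c → ∃ g ∈ K₁, g • a = b := fun b hb => by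
    obtain ⟨u, -, hu, hua⟩ := hU₁ b hb
    exact ⟨u, hu, hua⟩
  obtain ⟨K₂, hK₂K₁, hK₂n, hK₂a, hK₂tr, hK₂cop⟩ := exists_normal_of_control S.ne (K := K₁) hK₁c htr₁
    D₁ rfl φ
    (fun x q hq hqx => by
      have h := hqx.trans (orderOf_dvd_natCard x)
      rw [hzcard] at h
      rw [(Nat.prime_dvd_prime_iff_eq hq hp).1 h]
      exact not_dvd_card_others S.se S.nb hpm c)
    (fun q e hq hqA d hd hd1 b hbc hba hdb => by
      rw [hzcard] at hqA
      obtain ⟨s, hs, hsc, hxs, hsa⟩ := hctl q e hq (Or.inr ((Nat.prime_dvd_prime_iff_eq hq hp).1 hqA))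
        ((d : K₁) : G) (hK₁D _ (d : K₁).2 d.2)
        (by rw [Subgroup.orderOf_coe, Subgroup.orderOf_coe]; exact hd)
        (fun h => hd1 (Subtype.ext (Subtype.ext h))) b hbc hba hdb
      exact ⟨s, h2cop s hsc hs, hxs, hsa⟩)
  have hU₂ := hK₂tr (centralizer ({v} : Set G) ⊓ K₁) inf_le_right (fun b hb => by
    obtain ⟨u, hu, huK, hua⟩ := hU₁ b hb
    exact ⟨u, mem_inf.2 ⟨hu, huK⟩, hua⟩)
  have hvK₂ : v ∈ K₂ := hK₂cop v hvK₁ (by
    rw [hv, hzcard]
    exact (Nat.coprime_primes Nat.prime_two hp).2 (Ne.symm hp2))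
  refine commAt_of_commuting_class S.se hv hK₁c hK₁n hK₂K₁ hK₂n hvK₂ fun g hg => ?_
  have hgc : g • c = c := mem_stabilizer_iff.1 (hK₁c (hK₂K₁ hg))
  have hga : g⁻¹ • a ≠ c := fun e => S.ne (by
    have := congrArg (fun y => g • y) e
    simpa [hgc] using this)
  obtain ⟨z, hzU, hzK, hza⟩ := hU₂ (g⁻¹ • a) hga
  have hzv : Commute z v := mem_centralizer_singleton_iff.1 (mem_inf.1 hzU).1
  set d := g * z with hd
  have hda : d • a = a := by rw [hd, mul_smul, hza, smul_inv_smul]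
  obtain ⟨y, ⟨d', hd', rfl⟩, hd'g⟩ := (hK₂a ▸ mem_inf.2 ⟨mul_mem hg hzK, mem_stabilizer_iff.2 hda⟩ :
    d ∈ (φ.ker.map D₁.subtype).map K₁.subtype)
  have hdk : Commute d k := by
    have h1 : k⁻¹ * (((d' : K₁) : G) * k * ((d' : K₁) : G)⁻¹) = 1 :=
      congrArg Subtype.val (MonoidHom.mem_ker.1 hd')
    rw [show ((d' : K₁) : G) = d from hd'g, inv_mul_eq_one] at h1
    exact mul_inv_eq_iff_eq_mul.1 h1.symm
  have hgv : g * v * g⁻¹ = d * v * d⁻¹ := by
    rw [hd, show g * z * v * (g * z)⁻¹ = g * (z * v * z⁻¹) * g⁻¹ by group, hzv.eq, mul_inv_cancel_right]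
  rw [hgv]
  refine commute_of_centralized S.se S.core S.nb S.cs S.ne hk1 hkc hka hv
    (by rw [orderOf_conj', hv]) hvc ?_ hkv ((hdk.symm.mul_right hkv).mul_right hdk.symm.inv_right)
  have hdc : d • c = c := by
    rw [hd, mul_smul, mem_stabilizer_iff.1 (hK₁c (hK₂K₁ hzK)), hgc]
  rw [mul_smul, mul_smul, inv_smul_eq_iff.2 hdc.symm, hvc, hdc]

end Cfsg.Lib.BenderSE
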