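/-
COMM, case +, branch Y (notes/bender_caseplus_h8.md): an abelian invariant subgroup of `C_D(A)`
properly above `A` makes the involutions at a point commute.
-/
import Cfsg.Agent.BenderSE.CommPlusPlane

set_option autoImplicit false
set_option linter.unusedSectionVars false
set_option linter.style.haveILetI false

namespace Cfsg.Lib.BenderSE

open Subgroup MulAction Cfsg.Lib.InvolCalc
open scoped commutatorElement

universe u

variable {G : Type u} [Group G] [Finite G] {H : Subgroup G} {t : G} {c a : G ⧸ H} {A Y : Subgroup G}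

/-- every swapper is the conjugate of `t` by an inverted element -/
theorem PairSetting.exists_inverted_swapper (S : PairSetting H t c a) {v : G} (hv : orderOf v = 2)
    (hvc : v • c = a) :
    ∃ i ∈ stabilizer G c ⊓ stabilizer G a, t * i * t⁻¹ = i⁻¹ ∧ i * t * i⁻¹ = v := by
  obtain ⟨d, hd, hdv⟩ := exists_conj_swapper S.se S.ne.symm S.ht S.htc hv hvc
  obtain ⟨u, -, hut, i, hi, hit, hde⟩ :=
    exists_commute_mul_inverted S.odd_pair S.mul_self S.mem_normalizer_pair (inv_mem hd)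
  refine ⟨i⁻¹, inv_mem hi, by rw [← conj_inv, hit], ?_⟩
  rw [← hdv, show d = i⁻¹ * u⁻¹ by rw [← inv_inv d, hde, mul_inv_rev],
    show i⁻¹ * u⁻¹ * t * (i⁻¹ * u⁻¹)⁻¹ = i⁻¹ * (u⁻¹ * t * u) * i⁻¹⁻¹ by group,
    show u⁻¹ * t * u = t by rw [mul_assoc, ← hut.eq, inv_mul_cancel_left]]

/-- a fixed element commuting with the inverted elements makes the involutions at a point commute -/
theorem PairSetting.commAt_of_commute_inverted (S : PairSetting H t c a) {x : G}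
    (hx : x ∈ stabilizer G c ⊓ stabilizer G a) (hx1 : x ≠ 1) (hxt : Commute x t)
    (h : ∀ j ∈ stabilizer G c ⊓ stabilizer G a, t * j * t⁻¹ = j⁻¹ → Commute x j) : CommAt H :=
  S.commAt_of_commute_swappers hx hx1 fun v hv hvc => by
    obtain ⟨i, hi, hit, rfl⟩ := S.exists_inverted_swapper hv hvc
    exact ((h i hi hit).mul_right hxt).mul_right (h i hi hit).inv_right

/-- `g` fixing a line centralised by an involution at `c`, the derived group centralising it: COMM -/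
theorem PairSetting.commAt_of_line (S : PairSetting H t c a) {k v : G}
    (hk : k ∈ stabilizer G c ⊓ stabilizer G a) (hk1 : k ≠ 1) (hv : orderOf v = 2) (hvc : v • c = c)
    (hkv : Commute k v)
    (hCv : ∀ w ∈ stabilizer G c ⊓ stabilizer G a, Commute w v → w * k * w⁻¹ ∈ zpowers k)
    (hD' : ∀ g ∈ ⁅stabilizer G c ⊓ stabilizer G a, stabilizer G c ⊓ stabilizer G a⁆, Commute g k) :
    CommAt H := by
  classical
  set D := stabilizer G c ⊓ stabilizer G a with hD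
  set D₁ := D ⊓ normalizer (zpowers k : Set G) with hD₁
  have hnorm : ∀ g : G, g * k * g⁻¹ ∈ zpowers k → g ∈ normalizer (zpowers k : Set G) := fun g hg =>
    mem_normalizer_of_maps_to fun y hy => by
      obtain ⟨n, rfl⟩ := hy
      rw [← conj_zpow]
      exact zpow_mem hg n
  have hD'1 : ⁅D, D⁆ ≤ D₁ := le_inf (commutator_le_self D) fun g hg => hnorm g (by
    rw [(hD' g hg).eq, mul_inv_cancel_right]; exact mem_zpowers k)
  have hCv' : D ⊓ centralizer ({v} : Set G) ≤ D₁ := le_inf inf_le_left fun g hg =>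
    hnorm g (hCv g (mem_inf.1 hg).1 (mem_centralizer_singleton_iff.1 (mem_inf.1 hg).2))
  have hidx : (D ⊓ centralizer ({v} : Set G)).relIndex D = invCount H := by
    have h1 := card_centralizer_fixing S.se S.ne.symm hv hvc
    have h2 : Nat.card ↥(D ⊓ centralizer ({v} : Set G)) *
        (D ⊓ centralizer ({v} : Set G)).relIndex D = Nat.card D := by
      rw [relIndex, ← Nat.card_congr (subgroupOfEquivOfLe
        (inf_le_left : D ⊓ centralizer ({v} : Set G) ≤ D)).toEquiv]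
      exact card_mul_index _
    exact Nat.eq_of_mul_eq_mul_left Nat.card_pos (h2.trans h1.symm)
  have htr : ∀ b : G ⧸ H, b ≠ c → ∃ g ∈ stabilizer G c, g • a = b := fun b hb => by
    obtain ⟨g, hg, hgb⟩ := S.tt c a b S.ne hb
    exact ⟨g, mem_stabilizer_iff.2 hg, hgb⟩
  obtain ⟨K₁, hK₁c, hK₁n, hCK₁, hK₁a⟩ := exists_normal_of_transfer S.se S.nb S.ne hv hvc le_rfl
    (centralizer_le_stabilizer S.se hv hvc) htr (D₁ := D₁) inf_le_left hD'1
    (fun q _ hq => hq.trans (hidx ▸ relIndex_dvd_of_le_left _ hCv'))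
    (fun g hg i hi hic hgi => by
      obtain ⟨d, hd, hdi⟩ := exists_conj_centre S.se S.ne.symm hv hvc hi hic
      set g' := d⁻¹ * g * d with hg'
      have hg'1 : g' ∈ D₁ := by
        refine hCv' (mem_inf.2 ⟨mul_mem (mul_mem (inv_mem hd) hg) hd, mem_centralizer_singleton_iff.2 ?_⟩)
        have h1 := commute_conj d⁻¹ hgi
        rw [← hdi] at h1
        simp only [inv_inv, mul_assoc, inv_mul_cancel, mul_one, inv_mul_cancel_left] at h1
        rw [hg', mul_assoc d⁻¹]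
        exact h1
      have hcm : ⁅d, g'⁆ ∈ D₁ := hD'1 (commutator_mem_commutator hd (mem_inf.1 hg'1).1)
      have e : g = ⁅d, g'⁆ * g' := by rw [hg', commutatorElement_def]; group
      rw [e]
      exact mul_mem hcm hg'1)
  have hvK : v ∈ K₁ := hCK₁ (mem_centralizer_singleton_iff.2 rfl)
  refine commAt_of_commuting_class S.se hv hK₁c hK₁n le_rfl le_normalizer hvK fun g hg => ?_
  have hgc : g • c = c := mem_stabilizer_iff.1 (hK₁c hg)
  have hgvc : (g * v * g⁻¹) • c = c := by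
    rw [mul_smul, mul_smul, inv_smul_eq_iff.2 hgc.symm, hvc, hgc]
  obtain ⟨d, hd, hdg⟩ := exists_conj_centre S.se S.ne.symm hv hvc
    (s' := g * v * g⁻¹) (by rw [orderOf_conj', hv]) hgvc
  have hz : d⁻¹ * g ∈ centralizer ({v} : Set G) := mem_centralizer_singleton_iff.2 (by
    have h1 : g * v = d * v * d⁻¹ * g := by rw [hdg, inv_mul_cancel_right]
    rw [mul_assoc, h1]
    group)
  have hdK : d ∈ D₁ := by
    rw [← hK₁a]
    refine mem_inf.2 ⟨?_, (mem_inf.1 hd).2⟩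
    have h1 := mul_mem hg (inv_mem (hCK₁ hz))
    rwa [mul_inv_rev, inv_inv, mul_inv_cancel_left] at h1
  refine commute_of_centralized S.se S.core S.nb S.cs S.ne hk1 (fix_of_mem_pair hk).1
    (fix_of_mem_pair hk).2 hv (by rw [orderOf_conj', hv]) hvc hgvc hkv ?_
  rw [← hdg]
  obtain ⟨n, hn⟩ := (mem_normalizer_iff''.1 (mem_inf.1 hdK).2 k).1 (mem_zpowers k)
  have hn' : k ^ n = d⁻¹ * k * d := hn
  have h1 := commute_conj d (hkv.zpow_left n)
  rwa [hn', show d * (d⁻¹ * k * d) * d⁻¹ = k by group] at h1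

/-- a maximal abelian invariant subgroup of `C_D(A)` properly above `A` -/
structure PlusTop (A Y : Subgroup G) (t : G) (c a : G ⧸ H) : Prop where
  le : A ≤ Y
  ne : A ≠ Y
  leC : Y ≤ pairCentralizer A c a
  norm : stabilizer G c ⊓ stabilizer G a ≤ normalizer (Y : Set G)
  swap : t ∈ normalizer (Y : Set G)
  comm : ∀ x ∈ Y, ∀ y ∈ Y, Commute x y
  max : ∀ X : Subgroup G, Y ≤ X → X ≤ pairCentralizer A c a →
    stabilizer G c ⊓ stabilizer G a ≤ normalizer (X : Set G) → t ∈ normalizer (X : Set G) →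
    (∀ x ∈ X, ∀ y ∈ X, Commute x y) → X = Y

theorem exists_plusTop (h : PlusAbelian A t c a) : ∃ Y, PlusTop A Y t c a := by
  obtain ⟨Y₀, hAY, hne, hC, hn, ht, hc⟩ := h
  let T : Set (Subgroup G) := {X | Y₀ ≤ X ∧ X ≤ pairCentralizer A c a ∧
    stabilizer G c ⊓ stabilizer G a ≤ normalizer (X : Set G) ∧ t ∈ normalizer (X : Set G) ∧
    ∀ x ∈ X, ∀ y ∈ X, Commute x y}
  obtain ⟨Y, hY⟩ := (Set.toFinite T).exists_maximal ⟨Y₀, le_rfl, hC, hn, ht, hc⟩
  obtain ⟨h0, h1, h2, h3, h4⟩ := hY.prop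
  exact ⟨Y, hAY.trans h0, fun e => hne (le_antisymm hAY (e ▸ h0)), h1, h2, h3, h4,
    fun X hYX hX hXn hXt hXc =>
      le_antisymm (hY.le_of_ge ⟨h0.trans hYX, hX, hXn, hXt, hXc⟩ hYX) hYX⟩

theorem PlusTop.leD (T : PlusTop A Y t c a) : Y ≤ stabilizer G c ⊓ stabilizer G a :=
  T.leC.trans inf_le_left

/-- decomposition in `Y` -/
theorem PlusTop.exists_mul (T : PlusTop A Y t c a) (S : PairSetting H t c a) {y : G} (hy : y ∈ Y) :
    ∃ u ∈ Y, Commute u t ∧ ∃ i ∈ Y, t * i * t⁻¹ = i⁻¹ ∧ y = u * i :=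
  exists_commute_mul_inverted (S.odd_le T.leD) S.mul_self T.swap hy

/-- uniqueness of the decomposition -/
theorem PlusTop.decomp_unique (T : PlusTop A Y t c a) (S : PairSetting H t c a) {u i u' i' : G}
    (hu : u ∈ Y) (hut : Commute u t) (hi : i ∈ Y) (hit : t * i * t⁻¹ = i⁻¹) (hu' : u' ∈ Y)
    (hut' : Commute u' t) (hi' : i' ∈ Y) (hit' : t * i' * t⁻¹ = i'⁻¹) (h : u * i = u' * i') :
    u = u' ∧ i = i' := by
  have h1 : u'⁻¹ * u = i' * i⁻¹ := by
    rw [eq_mul_inv_iff_mul_eq, mul_assoc, h, inv_mul_cancel_left]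
  have h2 : u'⁻¹ * u = 1 := by
    refine eq_one_of_fixed_inverted (S.odd_orderOf (T.leD (mul_mem (inv_mem hu') hu)))
      (hut'.inv_left.mul_left hut) ?_
    rw [h1, ← conj_mul, ← conj_inv, hit, hit', inv_inv, mul_inv_rev, inv_inv]
    exact ((T.comm i hi _ (inv_mem hi'))).eq.symm
  obtain rfl : u' = u := inv_mul_eq_one.1 h2
  exact ⟨rfl, mul_left_cancel h⟩

theorem mul_inverted {i j : G} (hij : Commute i j) (hi : t * i * t⁻¹ = i⁻¹)
    (hj : t * j * t⁻¹ = j⁻¹) : t * (i * j) * t⁻¹ = (i * j)⁻¹ := by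
  rw [← conj_mul, hi, hj, mul_inv_rev]
  exact hij.inv_inv.eq

theorem zpow_inverted {i : G} (hi : t * i * t⁻¹ = i⁻¹) (n : ℤ) :
    t * i ^ n * t⁻¹ = (i ^ n)⁻¹ := by
  rw [← conj_zpow, hi, inv_zpow]

theorem pow_inverted {i : G} (hi : t * i * t⁻¹ = i⁻¹) (n : ℕ) :
    t * i ^ n * t⁻¹ = (i ^ n)⁻¹ := by
  rw [← conj_pow, hi, inv_pow]

theorem commute_zpow_fixed {i : G} (hi : Commute i t) (n : ℤ) : Commute (i ^ n) t := hi.zpow_left n

/-- the power form of conjugation by powers -/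
theorem conj_pow_zpow {g x : G} {e : ℤ} (h : g * x * g⁻¹ = x ^ e) :
    ∀ n : ℕ, g ^ n * x * (g ^ n)⁻¹ = x ^ (e ^ n)
  | 0 => by simp
  | n + 1 => by
    rw [pow_succ', show g * g ^ n * x * (g * g ^ n)⁻¹ = g * (g ^ n * x * (g ^ n)⁻¹) * g⁻¹ by group,
      conj_pow_zpow h n, ← conj_zpow, h, ← zpow_mul, pow_succ']

/-- an inverted invariant subgroup of `Y` lies in `A` -/
theorem PlusTop.le_of_inverted (T : PlusTop A Y t c a) (P : InvertedMax H A t c a) {X : Subgroup G}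
    (hXY : X ≤ Y) (hX : ∀ x ∈ X, t * x * t⁻¹ = x⁻¹)
    (hXn : stabilizer G c ⊓ stabilizer G a ≤ normalizer (X : Set G)) : X ≤ A := by
  have h : ∀ y ∈ A ⊔ X, t * y * t⁻¹ = y⁻¹ := by
    intro y hy
    have hle : A ⊔ X ≤ invClosure Y t := sup_le
      (fun y hy => subset_closure ⟨T.le hy, P.inv y hy⟩) (fun y hy => subset_closure ⟨hXY hy, hX y hy⟩)
    exact (inverted_of_mem_invClosure T.comm (hle hy)).2
  have h2 := P.max (A ⊔ X) le_sup_left (sup_le P.le (hXY.trans T.leD)) h fun g hg =>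
    mem_normalizer_of_maps_to fun y hy => by
      have h : A ⊔ X ≤ (A ⊔ X).comap (MulAut.conj g).toMonoidHom := sup_le
        (fun z hz => mem_sup_left ((mem_normalizer_iff.1 (P.norm hg) z).1 hz))
        (fun z hz => mem_sup_right ((mem_normalizer_iff.1 (hXn hg) z).1 hz))
      exact h hy
  exact h2 ▸ le_sup_right

/-- next to a fixed element of prime order `l` in `Y`: the elements of order `l` form a plane, whose
inverted line lies in `A` -/
theorem PlusTop.omega (T : PlusTop A Y t c a) (P : InvertedMax H A t c a) (S : PairSetting H t c a)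
    (hnc : ¬ CommAt H) {l : ℕ} [Fact l.Prime] {k : G} (hk : k ∈ Y) (hko : orderOf k = l)
    (hkt : Commute k t) :
    l ≠ 2 ∧ (∀ y ∈ Y, Commute y t → y ^ l = 1 → y ∈ zpowers k) ∧
      ∃ a₀ ∈ A, orderOf a₀ = l ∧
        ∀ y ∈ Y, t * y * t⁻¹ = y⁻¹ → y ^ l = 1 → y ∈ zpowers a₀ := by
  classical
  have hl : l.Prime := Fact.out
  have hk1 : k ≠ 1 := fun e => by rw [e, orderOf_one] at hko; exact hl.ne_one hko.symm
  have hl2 : l ≠ 2 := fun e => by
    have := S.odd_orderOf (T.leD hk)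
    rw [hko, e] at this
    exact (Nat.not_even_iff_odd.2 this) even_two
  let Ω : Subgroup G :=
    { carrier := {y | y ∈ Y ∧ y ^ l = 1}
      one_mem' := ⟨one_mem Y, one_pow l⟩
      mul_mem' := fun {p q} hp hq =>
        ⟨mul_mem hp.1 hq.1, by rw [(T.comm p hp.1 q hq.1).mul_pow, hp.2, hq.2, one_mul]⟩
      inv_mem' := fun {p} hp => ⟨inv_mem hp.1, by rw [inv_pow, hp.2, inv_one]⟩ }
  have hΩn : ∀ g : G, g ∈ normalizer (Y : Set G) → g ∈ normalizer (Ω : Set G) := fun g hg =>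
    mem_normalizer_of_maps_to fun y hy =>
      ⟨(mem_normalizer_iff.1 hg y).1 hy.1, by rw [conj_pow, hy.2, mul_one, mul_inv_cancel]⟩
  have PA : PairAbelian H Ω c a l :=
    ⟨S.ne, fun y hy => T.leD hy.1, fun x hx y hy => T.comm x hx.1 y hy.1, fun y hy => hy.2,
      fun g hg => hΩn g (T.norm hg)⟩
  have hkΩ : k ∈ Ω := ⟨hk, hko ▸ pow_orderOf_eq_one k⟩
  rcases PA.commAt_or_invariant_line S.se S.core S.nb S.cs S.tt S.ht S.htc (hΩn t T.swap) hl2 hkΩ hk1
    hkt with h | ⟨-, hm, hp, hn⟩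
  · exact absurd h hnc
  refine ⟨hl2, fun y hy hyt hyl => ?_, ?_⟩
  · have h1 : zpowers k = Ω ⊓ centralizer ({t} : Set G) := Subgroup.eq_of_le_of_card_ge
      (zpowers_le.2 (mem_inf.2 ⟨hkΩ, mem_centralizer_singleton_iff.2 hkt.eq⟩))
      (by rw [hp, Nat.card_zpowers, hko])
    rw [h1]
    exact mem_inf.2 ⟨⟨hy, hyl⟩, mem_centralizer_singleton_iff.2 hyt.eq⟩
  · haveI : Nontrivial ↥(invClosure Ω t) := by
      rw [← Finite.one_lt_card_iff_nontrivial, hm]; exact hl.one_lt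
    obtain ⟨⟨a₀, ha₀⟩, hne⟩ := exists_ne (1 : invClosure Ω t)
    have hleA : invClosure Ω t ≤ A := T.le_of_inverted P
      (fun y hy => ((inverted_of_mem_invClosure PA.comm hy).1).1)
      (fun y hy => (inverted_of_mem_invClosure PA.comm hy).2) hn
    have ho : orderOf a₀ = l := orderOf_eq_prime ((invClosure_le Ω t ha₀).2)
      (fun e => hne (Subtype.ext e))
    refine ⟨a₀, hleA ha₀, ho, fun y hy hyt hyl => ?_⟩
    have h1 : zpowers a₀ = invClosure Ω t := Subgroup.eq_of_le_of_card_ge (zpowers_le.2 ha₀)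
      (by rw [hm, Nat.card_zpowers, ho])
    rw [h1]
    exact subset_closure ⟨⟨hy, hyl⟩, hyt⟩

/-- case: an inverted element of `Y` outside `A` -/
theorem PlusTop.commAt_of_inverted_outside (T : PlusTop A Y t c a) (P : InvertedMax H A t c a)
    (S : PairSetting H t c a) {x₀ : G} (hx₀ : x₀ ∈ Y) (hx₀t : t * x₀ * t⁻¹ = x₀⁻¹) (hx₀A : x₀ ∉ A) :
    CommAt H := by
  classical
  by_contra hnc
  set D := stabilizer G c ⊓ stabilizer G a with hD
  -- an `l`-element `x` outside `A` with `x ^ l` in `A`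
  obtain ⟨l, x, e, hl, hx, hxt, hxA, hxl, hxe⟩ : ∃ (l : ℕ) (x : G) (e : ℕ), l.Prime ∧ x ∈ Y ∧
      t * x * t⁻¹ = x⁻¹ ∧ x ∉ A ∧ x ^ l ∈ A ∧ x ^ l ^ e = 1 := by
    have hex : ∃ n, 0 < n ∧ x₀ ^ n ∈ A := ⟨orderOf x₀, orderOf_pos x₀, by
      rw [pow_orderOf_eq_one]; exact one_mem A⟩
    set n := Nat.find hex
    obtain ⟨hn0, hnA⟩ := Nat.find_spec hex
    have hn1 : n ≠ 1 := fun h => hx₀A (by simpa [n, h, pow_one] using (h ▸ hnA : x₀ ^ 1 ∈ A))
    obtain ⟨l, hl, hln⟩ := Nat.exists_prime_and_dvd hn1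
    set x₁ := x₀ ^ (n / l) with hx₁
    have hlt : n / l < n := Nat.div_lt_self hn0 hl.one_lt
    have hx₁A : x₁ ∉ A := fun h => Nat.find_min hex hlt
      ⟨Nat.div_pos (Nat.le_of_dvd hn0 hln) hl.pos, h⟩
    have hx₁l : x₁ ^ l ∈ A := by rw [hx₁, ← pow_mul, Nat.div_mul_cancel hln]; exact hnA
    obtain ⟨m, e, hm, he⟩ := exists_primary_exponent (orderOf_pos x₁) hl
    refine ⟨l, x₁ ^ m, e, hl, pow_mem (pow_mem hx₀ _) _, pow_inverted (pow_inverted hx₀t _) _,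
      fun h => hx₁A ?_, by rw [← pow_mul, mul_comm, pow_mul]; exact pow_mem hx₁l m, by
      rw [← pow_mul, mul_comm, ← he, pow_orderOf_eq_one]⟩
    have hco : Int.gcd m l = 1 := by
      rw [Int.gcd_natCast_natCast]
      exact ((Nat.Prime.coprime_iff_not_dvd hl).2 hm).symm
    have hb := Int.gcd_eq_gcd_ab (m : ℤ) l
    rw [hco, Nat.cast_one] at hb
    rw [← zpow_one x₁, hb, zpow_add, zpow_mul, zpow_natCast, zpow_mul, zpow_natCast]
    exact mul_mem (zpow_mem h _) (zpow_mem hx₁l _)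
  haveI := Fact.mk hl
  -- a fixed element of order `l`
  obtain ⟨k, hk, hko, hkt⟩ : ∃ k ∈ Y, orderOf k = l ∧ Commute k t := by
    by_contra hno
    push Not at hno
    let X : Subgroup G :=
      { carrier := {y | y ∈ Y ∧ y ^ l ^ e = 1}
        one_mem' := ⟨one_mem Y, one_pow _⟩
        mul_mem' := fun {p q} hp hq =>
          ⟨mul_mem hp.1 hq.1, by rw [(T.comm p hp.1 q hq.1).mul_pow, hp.2, hq.2, one_mul]⟩
        inv_mem' := fun {p} hp => ⟨inv_mem hp.1, by rw [inv_pow, hp.2, inv_one]⟩ }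
    refine hxA (T.le_of_inverted P (X := X) (fun y hy => hy.1) ?_ ?_ ⟨hx, hxe⟩)
    · intro y hy
      obtain ⟨u, hu, hut, i, hi, hit, rfl⟩ := T.exists_mul S hy.1
      have h1 := hy.2
      rw [(T.comm u hu i hi).mul_pow] at h1
      have h2 := (T.decomp_unique S (pow_mem hu _) (hut.pow_left _) (pow_mem hi _) (pow_inverted hit _)
        (one_mem Y) (Commute.one_left t) (one_mem Y) (by simp) (by rw [h1, mul_one])).1
      obtain ⟨j, -, hj⟩ := (Nat.dvd_prime_pow hl).1 (orderOf_dvd_of_pow_eq_one h2)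
      rcases Nat.eq_zero_or_pos j with rfl | hj0
      · rw [pow_zero, orderOf_eq_one_iff] at hj
        rw [hj, one_mul]; exact hit
      · exact absurd (hut.pow_left _) (hno _ (pow_mem hu (orderOf u / l))
          (orderOf_pow_orderOf_div (orderOf_pos u).ne' (hj ▸ dvd_pow_self l hj0.ne')))
    · exact fun g hg => mem_normalizer_of_maps_to fun y hy =>
        ⟨(mem_normalizer_iff.1 (T.norm hg) y).1 hy.1, by rw [conj_pow, hy.2, mul_one, mul_inv_cancel]⟩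
  obtain ⟨hl2, hfix, a₀, ha₀, ha₀o, hline⟩ := T.omega P S hnc hk hko hkt
  have hk1 : k ≠ 1 := fun h => by rw [h, orderOf_one] at hko; exact hl.ne_one hko.symm
  have hkl : k ^ l = 1 := hko ▸ pow_orderOf_eq_one k
  have ha₀l : a₀ ^ l = 1 := ha₀o ▸ pow_orderOf_eq_one a₀
  have ha₀t := P.inv a₀ ha₀
  have hAY : ∀ b ∈ A, ∀ y ∈ Y, Commute b y := fun b hb y hy => T.comm b (T.le hb) y hy
  -- the inverted part is cyclic
  set Ym := invClosure Y t with hYm
  have hYmem : ∀ y, y ∈ Ym ↔ y ∈ Y ∧ t * y * t⁻¹ = y⁻¹ := fun y =>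
    ⟨inverted_of_mem_invClosure T.comm, fun h => subset_closure h⟩
  have hYmD : Ym ≤ D := fun y hy => T.leD ((hYmem y).1 hy).1
  haveI hcyc : IsCyclic Ym := isCyclic_of_inverted_centralized S.se S.core S.nb S.cs S.ne S.ht S.htc hYmD
    (fun y hy => ((hYmem y).1 hy).2) hk1 hkl (fix_of_mem_pair (T.leD hk)).1
    (fix_of_mem_pair (T.leD hk)).2 hkt (fun y hy => T.comm k hk y ((hYmem y).1 hy).1)
  haveI : (A.subgroupOf Ym).Normal :=
    (normal_subgroupOf_iff_le_normalizer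
      (show A ≤ Ym from fun y hy => (hYmem y).2 ⟨T.le hy, P.inv y hy⟩)).2
      (hYmD.trans P.norm)
  haveI : IsCyclic (Ym ⧸ A.subgroupOf Ym) :=
    isCyclic_of_surjective (QuotientGroup.mk' (A.subgroupOf Ym)) (QuotientGroup.mk'_surjective _)
  have hxYm : x ∈ Ym := (hYmem x).2 ⟨hx, hxt⟩
  have hxn : ∀ n : ℤ, x ^ n ∈ A → (l : ℤ) ∣ n := fun n hn => by
    by_contra hnd
    refine hxA ?_
    have hco : Int.gcd n l = 1 := by
      rw [Int.gcd_comm]
      exact Int.isCoprime_iff_gcd_eq_one.1 ((Nat.prime_iff_prime_int.1 hl).coprime_iff_not_dvd.2 hnd)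
    have hb := Int.gcd_eq_gcd_ab n l
    rw [hco, Nat.cast_one] at hb
    rw [← zpow_one x, hb, zpow_add, zpow_mul, zpow_mul, zpow_natCast]
    exact mul_mem (zpow_mem hn _) (zpow_mem hxl _)
  have hxA' : ∀ n : ℤ, (l : ℤ) ∣ n → x ^ n ∈ A := fun n ⟨m, hm⟩ => by
    rw [hm, zpow_mul, zpow_natCast]; exact zpow_mem hxl m
  have hroot : ∀ y ∈ Y, t * y * t⁻¹ = y⁻¹ → y ^ l ∈ A → ∃ n : ℤ, ∃ b ∈ A, y = x ^ n * b := by
    intro y hy hyt hyl
    by_cases hyA : y ∈ A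
    · exact ⟨0, y, hyA, by simp⟩
    have ho : ∀ (z : G) (hz : z ∈ Ym), z ∉ A → z ^ l ∈ A →
        orderOf (QuotientGroup.mk (s := A.subgroupOf Ym) ⟨z, hz⟩) = l := fun z hz hzA hzl =>
      orderOf_eq_prime (by
        rw [← QuotientGroup.mk_pow, QuotientGroup.eq_one_iff, mem_subgroupOf]; exact hzl)
        (fun h => hzA (mem_subgroupOf.1 ((QuotientGroup.eq_one_iff _).1 h)))
    have hyYm : y ∈ Ym := (hYmem y).2 ⟨hy, hyt⟩
    have heq := zpowers_eq_of_orderOf_eq ((ho y hyYm hyA hyl).trans (ho x hxYm hxA hxl).symm)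
    obtain ⟨n, hn⟩ := mem_zpowers_iff.1 (heq ▸ mem_zpowers (QuotientGroup.mk (s := A.subgroupOf Ym) ⟨y, hyYm⟩))
    rw [← QuotientGroup.mk_zpow, QuotientGroup.eq, mem_subgroupOf] at hn
    refine ⟨n, (x ^ n)⁻¹ * y, ?_, by group⟩
    simpa using hn
  -- uniqueness of coordinates
  have hkz : ∀ n : ℤ, k ^ n = 1 ↔ (l : ℤ) ∣ n := fun n => by
    rw [← orderOf_dvd_iff_zpow_eq_one, hko]
  have haz : ∀ n : ℤ, a₀ ^ n = 1 ↔ (l : ℤ) ∣ n := fun n => by
    rw [← orderOf_dvd_iff_zpow_eq_one, ha₀o]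
  have hsplit : ∀ (n n' : ℤ) (i i' : G), i ∈ Ym → i' ∈ Ym → k ^ n * i = k ^ n' * i' →
      (l : ℤ) ∣ n - n' ∧ i = i' := fun n n' i i' hi hi' h => by
    obtain ⟨hiY, hit⟩ := (hYmem i).1 hi
    obtain ⟨hiY', hit'⟩ := (hYmem i').1 hi'
    obtain ⟨h1, h2⟩ := T.decomp_unique S (zpow_mem hk n) (hkt.zpow_left n) hiY hit (zpow_mem hk n')
      (hkt.zpow_left n') hiY' hit' h
    exact ⟨(hkz _).1 (by rw [zpow_sub, h1, mul_inv_cancel]), h2⟩
  have haYm : ∀ b ∈ A, b ∈ Ym := fun b hb => (hYmem b).2 ⟨T.le hb, P.inv b hb⟩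
  have hcA : ∀ g ∈ D, t * g * t⁻¹ = g⁻¹ → ∀ b ∈ A, g * b * g⁻¹ = b := fun g hg hgt b hb => by
    rw [(P.commute_inverted S.se S.ne hg hgt hb).eq, mul_inv_cancel_right]
  -- inverted elements on `k`
  have hjk : ∀ g ∈ D, t * g * t⁻¹ = g⁻¹ → ∃ h : ℤ, g * k * g⁻¹ = k * a₀ ^ h := by
    intro g hg hgt
    have hyY : g * k * g⁻¹ ∈ Y := (mem_normalizer_iff.1 (T.norm hg) k).1 hk
    have hyl : (g * k * g⁻¹) ^ l = 1 := by rw [conj_pow, hkl, mul_one, mul_inv_cancel]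
    obtain ⟨u, hu, hut, i, hi, hit, hde⟩ := T.exists_mul S hyY
    rw [hde, (T.comm u hu i hi).mul_pow] at hyl
    obtain ⟨hu1, hi1⟩ := T.decomp_unique S (pow_mem hu _) (hut.pow_left _) (pow_mem hi _)
      (pow_inverted hit _) (one_mem Y) (Commute.one_left t) (one_mem Y) (by simp) (by rw [hyl, mul_one])
    obtain ⟨n, rfl⟩ := hfix u hu hut hu1
    obtain ⟨h, rfl⟩ := hline i hi hit hi1
    change g * k * g⁻¹ = k ^ n * a₀ ^ h at hde
    have h1 : g⁻¹ * k * g = k ^ n * a₀ ^ (-h) := by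
      have := congrArg (fun z => t * z * t⁻¹) hde
      simp only [← conj_mul, ← conj_inv, hgt, inv_inv, ← conj_zpow, ha₀t] at this
      rw [← hkt.eq, mul_inv_cancel_right] at this
      rw [this, inv_zpow, zpow_neg]
    have h2 : k ^ (n * n) * a₀ ^ (h * n - h) = k ^ (1 : ℤ) * a₀ ^ (0 : ℤ) := by
      rw [zpow_zero, mul_one, zpow_one]
      calc k ^ (n * n) * a₀ ^ (h * n - h)
          = (k ^ n * a₀ ^ h) ^ n * a₀ ^ (-h) := by
            rw [((hAY a₀ ha₀ k hk).symm.zpow_zpow n h).mul_zpow, ← zpow_mul, ← zpow_mul, mul_assoc,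
              ← zpow_add, sub_eq_add_neg]
        _ = g * (k ^ n * a₀ ^ (-h)) * g⁻¹ := by
            rw [← conj_mul, ← conj_zpow, hde, hcA g hg hgt _ (zpow_mem ha₀ _)]
        _ = k := by rw [← h1]; group
    obtain ⟨h3, h4⟩ := hsplit _ _ _ _ (haYm _ (zpow_mem ha₀ _)) (haYm _ (zpow_mem ha₀ _)) h2
    rw [show n * n - 1 = (n - 1) * (n + 1) by ring] at h3
    rcases (Nat.prime_iff_prime_int.1 hl).dvd_or_dvd h3 with h5 | h5
    · refine ⟨h, ?_⟩
      rw [hde, show k ^ n = k by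
        conv_rhs => rw [← zpow_one k]
        rw [← mul_inv_eq_one, ← zpow_sub]
        exact (hkz _).2 h5]
    · exfalso
      have h6 : (l : ℤ) ∣ h := by
        rw [zpow_zero] at h4
        have h7 := (haz _).1 h4
        have h8 : (l : ℤ) ∣ 2 * h := by
          have := (h5.mul_left h).sub h7
          rw [show h * (n + 1) - (h * n - h) = 2 * h by ring] at this
          exact this
        rcases (Nat.prime_iff_prime_int.1 hl).dvd_or_dvd h8 with h9 | h9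
        · exact absurd ((Nat.prime_dvd_prime_iff_eq hl Nat.prime_two).1 (Int.natCast_dvd_natCast.1 h9)) hl2
        · exact h9
      refine hk1 (eq_one_of_conj_eq_inv (S.odd_orderOf hg) (S.odd_orderOf (T.leD hk)) ?_)
      rw [hde, (haz h).2 h6, mul_one, ← zpow_neg_one, ← mul_inv_eq_one, ← zpow_sub]
      exact (hkz _).2 (by rwa [sub_neg_eq_add])
  -- inverted elements on `x`
  have hjx : ∀ g ∈ D, t * g * t⁻¹ = g⁻¹ → ∃ f : ℤ, ∃ b ∈ A, g * x * g⁻¹ = k ^ f * x * b := by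
    intro g hg hgt
    obtain ⟨h, hh⟩ := hjk g hg hgt
    have hyY : g * x * g⁻¹ ∈ Y := (mem_normalizer_iff.1 (T.norm hg) x).1 hx
    have hyl : (g * x * g⁻¹) ^ l = x ^ l := by rw [conj_pow, hcA g hg hgt _ hxl]
    obtain ⟨u, hu, hut, i, hi, hit, hde⟩ := T.exists_mul S hyY
    rw [hde, (T.comm u hu i hi).mul_pow] at hyl
    obtain ⟨hu1, hi1⟩ := T.decomp_unique S (pow_mem hu _) (hut.pow_left _) (pow_mem hi _)
      (pow_inverted hit _) (one_mem Y) (Commute.one_left t) (pow_mem hx l) (pow_inverted hxt l)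
      (by rw [hyl, one_mul])
    obtain ⟨f, rfl⟩ := hfix u hu hut hu1
    obtain ⟨n, b, hb, rfl⟩ := hroot i hi hit (hi1 ▸ hxl)
    change g * x * g⁻¹ = k ^ f * (x ^ n * b) at hde
    have h1 : g⁻¹ * x * g = k ^ (-f) * (x ^ n * b) := by
      have := congrArg (fun z => (t * z * t⁻¹)⁻¹) hde
      simp only [← conj_mul, ← conj_inv, hgt, hxt, inv_inv, ← conj_zpow, P.inv b hb, mul_inv_rev] at this
      rw [← hkt.eq, mul_inv_cancel_right, inv_zpow, inv_inv, ← zpow_neg, mul_assoc] at this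
      rw [mul_assoc, this]
      rw [← mul_assoc, (hAY b hb _ (zpow_mem hx n)).eq]
      exact (T.comm _ (mul_mem (zpow_mem hx n) (T.le hb)) _ (zpow_mem hk (-f))).eq
    -- conjugate once more
    have hb' : b ^ n * b ∈ A := mul_mem (zpow_mem hb n) hb
    have hb'' : a₀ ^ (h * -f) ∈ A := zpow_mem ha₀ _
    have h2 : k ^ (f * n - f) * (x ^ (n * n) * (a₀ ^ (h * -f) * (b ^ n * b))) = k ^ (0 : ℤ) * x := by
      rw [zpow_zero, one_mul]
      calc k ^ (f * n - f) * (x ^ (n * n) * (a₀ ^ (h * -f) * (b ^ n * b)))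
          = (k * a₀ ^ h) ^ (-f) * ((k ^ f * (x ^ n * b)) ^ n * b) := by
            rw [((hAY a₀ ha₀ k hk).symm.zpow_right h).mul_zpow,
              (T.comm _ (zpow_mem hk f) _ (mul_mem (zpow_mem hx n) (T.le hb))).mul_zpow,
              ((hAY b hb _ (zpow_mem hx n)).symm).mul_zpow, ← zpow_mul, ← zpow_mul, ← zpow_mul,
              sub_eq_add_neg, zpow_add,
              (Commute.zpow_zpow_self k (f * n) (-f)).eq]
            have c1 : Commute (a₀ ^ (h * -f)) (k ^ (f * n)) := hAY _ hb'' _ (zpow_mem hk _)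
            have c2 : Commute (a₀ ^ (h * -f)) (x ^ (n * n)) := hAY _ hb'' _ (zpow_mem hx _)
            simp only [mul_assoc]
            rw [← mul_assoc (a₀ ^ (h * -f)) (k ^ (f * n)), c1.eq, mul_assoc,
              ← mul_assoc (a₀ ^ (h * -f)) (x ^ (n * n)), c2.eq, mul_assoc]
        _ = g * (k ^ (-f) * (x ^ n * b)) * g⁻¹ := by
            rw [← conj_mul, ← conj_mul, ← conj_zpow, ← conj_zpow, hh, hde, hcA g hg hgt _ hb]
        _ = x := by rw [← h1]; group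
    obtain ⟨h3, h4⟩ := hsplit _ _ _ _ (mul_mem (zpow_mem hxYm _) (haYm _ (mul_mem hb'' hb'))) hxYm h2
    have h5 : (l : ℤ) ∣ n * n - 1 := hxn _ (by
      have h6 : x ^ (n * n - 1) = (a₀ ^ (h * -f) * (b ^ n * b))⁻¹ := by
        rw [zpow_sub, zpow_one, eq_inv_iff_mul_eq_one, mul_assoc]
        have c := (hAY _ (mul_mem hb'' hb') x hx).inv_right
        rw [← c.eq, ← mul_assoc, h4, mul_inv_cancel]
      rw [h6]; exact inv_mem (mul_mem hb'' hb'))
    rw [show n * n - 1 = (n - 1) * (n + 1) by ring] at h5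
    rcases (Nat.prime_iff_prime_int.1 hl).dvd_or_dvd h5 with h6 | h6
    · refine ⟨f, x ^ (n - 1) * b, mul_mem (hxA' _ h6) hb, ?_⟩
      rw [hde, mul_assoc (k ^ f) x, ← mul_assoc x (x ^ (n - 1)), ← zpow_one_add, add_sub_cancel]
    exfalso
    -- `g` would invert `x` modulo `A`
    rw [sub_zero] at h3
    have hf : (l : ℤ) ∣ f := by
      have h8 : (l : ℤ) ∣ 2 * f := by
        have := (h6.mul_left f).sub h3
        rw [show f * (n + 1) - (f * n - f) = 2 * f by ring] at this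
        exact this
      rcases (Nat.prime_iff_prime_int.1 hl).dvd_or_dvd h8 with h9 | h9
      · exact absurd ((Nat.prime_dvd_prime_iff_eq hl Nat.prime_two).1 (Int.natCast_dvd_natCast.1 h9)) hl2
      · exact h9
    have hb₂ : x ^ (n + 1) * b ∈ A := mul_mem (hxA' _ h6) hb
    set b₂ := x ^ (n + 1) * b with hb₂def
    have hgx : g * x * g⁻¹ = x⁻¹ * b₂ := by
      rw [hde, (hkz f).2 hf, one_mul, hb₂def, zpow_add_one, (Commute.zpow_self x n).eq, mul_assoc,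
        inv_mul_cancel_left]
    have hgg : Commute (g * g) x := by
      refine mul_inv_eq_iff_eq_mul.1 ?_
      rw [show g * g * x * (g * g)⁻¹ = g * (g * x * g⁻¹) * g⁻¹ by group, hgx, ← conj_mul, ← conj_inv, hgx,
        hcA g hg hgt _ hb₂, mul_inv_rev, inv_inv, mul_assoc, (hAY _ hb₂ x hx).symm.eq, inv_mul_cancel_left]
    obtain ⟨j, hj⟩ := S.odd_orderOf hg
    have hg2 : Commute g x := by
      have h7 : g = (g * g) ^ (j + 1) := by
        rw [← sq, ← pow_mul, show 2 * (j + 1) = orderOf g + 1 by omega, pow_succ, pow_orderOf_eq_one,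
          one_mul]
      rw [h7]; exact hgg.pow_left _
    rw [hg2.eq, mul_inv_cancel_right] at hgx
    have h7 := hxn 2 (by
      rw [zpow_two]
      nth_rewrite 2 [hgx]
      rw [← mul_assoc, mul_inv_cancel, one_mul]; exact hb₂)
    exact hl2 ((Nat.prime_dvd_prime_iff_eq hl Nat.prime_two).1 (Int.natCast_dvd_natCast.1 h7))
  -- an inverted element fixing `k` fixes `A⟨x⟩`
  have hGL : ∀ g ∈ D, t * g * t⁻¹ = g⁻¹ → ∀ h f : ℤ, ∀ b ∈ A, g * k * g⁻¹ = k * a₀ ^ h →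
      g * x * g⁻¹ = k ^ f * x * b → (l : ℤ) ∣ h → (l : ℤ) ∣ f := by
    intro g hg hgt h f b hb hgk hgx hh
    rw [(haz h).2 hh, mul_one] at hgk
    have hgkc : Commute g k := mul_inv_eq_iff_eq_mul.1 hgk
    have h1 : t * (g * x * g⁻¹) * t⁻¹ = g⁻¹ * x⁻¹ * g := by
      rw [← conj_mul, ← conj_mul, ← conj_inv, hgt, hxt, inv_inv]
    rw [hgx, ← conj_mul, ← conj_mul, ← conj_zpow, hxt, P.inv b hb, ← hkt.eq, mul_inv_cancel_right] at h1
    have h2 : g * (k ^ f * x⁻¹ * b⁻¹) * g⁻¹ = x⁻¹ := by rw [h1]; group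
    rw [← conj_mul, ← conj_mul, ← conj_zpow, hgk, ← conj_inv, hgx,
      hcA g hg hgt _ (inv_mem hb)] at h2
    have h3 : b * b = 1 := by
      rw [mul_inv_rev, mul_inv_rev, ← mul_assoc, ← mul_assoc,
        (T.comm _ (zpow_mem hk f) _ (inv_mem (T.le hb))).eq, mul_assoc b⁻¹,
        (T.comm _ (zpow_mem hk f) _ (inv_mem hx)).eq, ← mul_assoc, mul_inv_cancel_right,
        (hAY _ (inv_mem hb) _ (inv_mem hx)).eq, mul_assoc] at h2
      have h4 := mul_eq_left.1 h2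
      rwa [← mul_inv_rev, inv_eq_one] at h4
    have hb1 : b = 1 := by
      refine orderOf_eq_one_iff.1 (Nat.eq_one_of_dvd_coprimes
        (Nat.coprime_two_left.2 (S.odd_orderOf (P.le hb))) (orderOf_dvd_of_pow_eq_one ?_) dvd_rfl)
      rw [sq]; exact h3
    rw [hb1, mul_one] at hgx
    have hcm : Commute g x := by
      refine S.commute_of_commutator_mem (r := l) (Z := zpowers k)
        (IsPGroup.of_card (n := 1) (by rw [Nat.card_zpowers, hko, pow_one]))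
        (zpowers_le.2 (T.leD hk)) (zpowers_ne_bot.2 hk1) ?_ ?_ hg (T.leD hx) hgt hxt ?_ ?_ ?_
      · rintro _ ⟨n, rfl⟩; exact hkt.zpow_left n
      · rintro _ ⟨n, rfl⟩ _ ⟨m, rfl⟩; exact Commute.zpow_zpow_self k n m
      · rintro _ ⟨n, rfl⟩; exact hgkc.zpow_right n
      · rintro _ ⟨n, rfl⟩; exact (T.comm x hx k hk).zpow_right n
      · exact ⟨f, by rw [commutatorElement_def, hgx, mul_inv_cancel_right]⟩
    rw [hcm.eq, mul_inv_cancel_right] at hgx
    exact (hkz f).1 (mul_eq_right.1 hgx.symm)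
  -- fixed elements
  have hd : ∀ d ∈ D, Commute d t → ∃ e₁ e₂ : ℤ, d * k * d⁻¹ = k ^ e₂ ∧
      ∀ y ∈ Ym, d * y * d⁻¹ = y ^ e₁ := by
    intro d hdD hdt
    have hdY : ∀ y ∈ Y, d * y * d⁻¹ ∈ Y := fun y hy => (mem_normalizer_iff.1 (T.norm hdD) y).1 hy
    obtain ⟨e₂, he₂⟩ := hfix (d * k * d⁻¹) (hdY k hk)
      ((hdt.mul_left hkt).mul_left hdt.inv_left) (by rw [conj_pow, hkl, mul_one, mul_inv_cancel])
    let f : Ym →* Ym :=
      { toFun := fun y => ⟨d * (y : G) * d⁻¹, (hYmem _).2 ⟨hdY _ ((hYmem _).1 y.2).1, by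
          rw [← conj_mul, ← conj_mul, ((hYmem _).1 y.2).2, ← hdt.eq, mul_inv_cancel_right, ← hdt.inv_left.eq,
            mul_inv_cancel_right]
          group⟩⟩
        map_one' := Subtype.ext (by simp)
        map_mul' := fun p q => Subtype.ext (by simp [mul_assoc]) }
    obtain ⟨e₁, he₁⟩ := MonoidHom.map_cyclic f
    exact ⟨e₁, e₂, he₂.symm, fun y hy => by
      have h := congrArg Subtype.val (he₁ ⟨y, hy⟩)
      rw [SubgroupClass.coe_zpow] at h
      exact h⟩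
  -- powers of inverted elements
  have hgpk : ∀ g ∈ D, t * g * t⁻¹ = g⁻¹ → ∀ h : ℤ, g * k * g⁻¹ = k * a₀ ^ h →
      ∀ n : ℕ, g ^ n * k * (g ^ n)⁻¹ = k * a₀ ^ (h * n) := by
    intro g hg hgt h hgk n
    induction n with
    | zero => simp
    | succ n ih =>
      rw [pow_succ', show g * g ^ n * k * (g * g ^ n)⁻¹ = g * (g ^ n * k * (g ^ n)⁻¹) * g⁻¹ by group, ih,
        ← conj_mul, hgk, hcA g hg hgt _ (zpow_mem ha₀ _), mul_assoc, ← zpow_add]
      congr 2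
      push_cast
      ring
  have hgpx : ∀ g ∈ D, t * g * t⁻¹ = g⁻¹ → ∀ h f : ℤ, ∀ b ∈ A, g * k * g⁻¹ = k * a₀ ^ h →
      g * x * g⁻¹ = k ^ f * x * b → ∀ n : ℕ, ∃ b' ∈ A, g ^ n * x * (g ^ n)⁻¹ = k ^ (f * n) * x * b' := by
    intro g hg hgt h f b hb hgk hgx n
    induction n with
    | zero => exact ⟨1, one_mem A, by simp⟩
    | succ n ih =>
      obtain ⟨b', hb', ih⟩ := ih
      refine ⟨a₀ ^ (h * (f * n)) * b * b', mul_mem (mul_mem (zpow_mem ha₀ _) hb) hb', ?_⟩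
      rw [pow_succ', show g * g ^ n * x * (g * g ^ n)⁻¹ = g * (g ^ n * x * (g ^ n)⁻¹) * g⁻¹ by group, ih,
        ← conj_mul, ← conj_mul, ← conj_zpow, hgk, hgx, hcA g hg hgt _ hb',
        ((hAY a₀ ha₀ k hk).symm.zpow_right h).mul_zpow, ← zpow_mul,
        show f * ((n + 1 : ℕ) : ℤ) = f * n + f by push_cast; ring, zpow_add]
      have c1 : Commute (a₀ ^ (h * (f * n))) (k ^ f * x) :=
        hAY _ (zpow_mem ha₀ _) _ (mul_mem (zpow_mem hk f) hx)
      simp only [fun p q r : G => (mul_assoc p q r).symm]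
      rw [show k ^ (f * (n : ℤ)) * a₀ ^ (h * (f * n)) * k ^ f * x =
        k ^ (f * (n : ℤ)) * (a₀ ^ (h * (f * n)) * (k ^ f * x)) by group, c1.eq]
      group
  -- a mover
  obtain ⟨g, hg, hgt, f, b, hb, hgx, hf⟩ : ∃ g ∈ D, t * g * t⁻¹ = g⁻¹ ∧ ∃ f : ℤ, ∃ b ∈ A,
      g * x * g⁻¹ = k ^ f * x * b ∧ ¬ (l : ℤ) ∣ f := by
    by_contra hno
    push Not at hno
    set X := A ⊔ zpowers x with hX
    have hXn : ∀ g ∈ D, g * x * g⁻¹ ∈ X → g ∈ normalizer (X : Set G) := fun g hg hgX =>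
      mem_normalizer_of_maps_to fun y hy => by
        have h : X ≤ X.comap (MulAut.conj g).toMonoidHom := sup_le
          (fun z hz => mem_sup_left ((mem_normalizer_iff.1 (P.norm hg) z).1 hz)) (zpowers_le.2 hgX)
        exact h hy
    refine hxA (T.le_of_inverted P (X := X) (sup_le T.le (zpowers_le.2 hx)) ?_ ?_
      (mem_sup_right (mem_zpowers x)))
    · intro y hy
      have hle : X ≤ Ym := sup_le (fun z hz => haYm z hz) (zpowers_le.2 hxYm)
      exact ((hYmem y).1 (hle hy)).2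
    · intro g hg
      obtain ⟨u, hu, hut, i, hi, hit, rfl⟩ :=
        exists_commute_mul_inverted S.odd_pair S.mul_self S.mem_normalizer_pair hg
      obtain ⟨e₁, e₂, -, he₁⟩ := hd u hu hut
      obtain ⟨f, b, hb, hf⟩ := hjx i hi hit
      refine mul_mem (hXn u hu (by rw [he₁ x hxYm]; exact mem_sup_right (zpow_mem (mem_zpowers x) _)))
        (hXn i hi ?_)
      rw [hf, (hkz f).2 (hno i hi hit f b hb hf), one_mul]
      exact mul_mem (mem_sup_right (mem_zpowers x)) (mem_sup_left hb)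
  obtain ⟨h, hgk⟩ := hjk g hg hgt
  have hh : ¬ (l : ℤ) ∣ h := fun hh => hf (hGL g hg hgt h f b hb hgk hgx hh)
  -- the weights agree
  have hw : ∀ d ∈ D, Commute d t → ∃ e : ℤ, d * k * d⁻¹ = k ^ e ∧ d * a₀ * d⁻¹ = a₀ ^ e := by
    intro d hdD hdt
    obtain ⟨e₁, e₂, he₂, he₁⟩ := hd d hdD hdt
    have ha₀e := he₁ a₀ (haYm a₀ ha₀)
    refine ⟨e₁, ?_, ha₀e⟩
    set g' := d * g * d⁻¹ with hg'
    have hg'D : g' ∈ D := mul_mem (mul_mem hdD hg) (inv_mem hdD)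
    have hg't : t * g' * t⁻¹ = g'⁻¹ := by
      rw [hg', ← conj_mul, ← conj_mul, hgt, ← hdt.eq, mul_inv_cancel_right, ← hdt.inv_left.eq,
        mul_inv_cancel_right]
      group
    obtain ⟨h', hg'k⟩ := hjk g' hg'D hg't
    obtain ⟨f', b', hb', hg'x⟩ := hjx g' hg'D hg't
    have hk2 : (l : ℤ) ∣ h' * e₂ - h * e₁ := by
      have e1 : g' * (d * k * d⁻¹) * g'⁻¹ = d * (g * k * g⁻¹) * d⁻¹ := by rw [hg']; group
      rw [he₂, ← conj_zpow, hg'k, hgk, ← conj_mul, he₂, ← conj_zpow, ha₀e, ← zpow_mul,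
        ((hAY a₀ ha₀ k hk).symm.zpow_right h').mul_zpow, ← zpow_mul] at e1
      refine (haz _).1 ?_
      rw [zpow_sub, mul_left_cancel e1, mul_comm h e₁, mul_inv_cancel]
    have hx2 : (l : ℤ) ∣ f' * e₁ - f * e₂ := by
      have e1 : g' * (d * x * d⁻¹) * g'⁻¹ = d * (g * x * g⁻¹) * d⁻¹ := by rw [hg']; group
      rw [he₁ x hxYm, ← conj_zpow, hg'x, hgx, ← conj_mul, ← conj_mul, ← conj_zpow, he₂, he₁ x hxYm,
        he₁ b (haYm b hb), ← zpow_mul, mul_assoc, mul_assoc,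
        (T.comm _ (zpow_mem hk f') _ (mul_mem hx (T.le hb'))).mul_zpow, ← zpow_mul] at e1
      have h5 := (hsplit _ _ _ _ (zpow_mem (mul_mem hxYm (haYm b' hb')) _)
        (mul_mem (zpow_mem hxYm _) (zpow_mem (haYm b hb) _)) e1).1
      rwa [mul_comm e₂ f] at h5
    -- `h' = γ h`
    obtain ⟨γ, hγ⟩ : ∃ γ : ℕ, (l : ℤ) ∣ h * γ - h' := by
      have hh' : (h : ZMod l) ≠ 0 := fun e => hh ((ZMod.intCast_zmod_eq_zero_iff_dvd h l).1 e)
      refine ⟨((h' : ZMod l) / h).val, (ZMod.intCast_zmod_eq_zero_iff_dvd _ l).1 ?_⟩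
      push_cast
      rw [ZMod.natCast_val, ZMod.cast_id', id, mul_div_cancel₀ _ hh', sub_self]
    obtain ⟨b₃, hb₃, hgpx'⟩ := hgpx g hg hgt h f b hb hgk hgx γ
    set w := (g ^ γ)⁻¹ * g' with hwdef
    have hwD : w ∈ D := mul_mem (inv_mem (pow_mem hg γ)) hg'D
    have hwk : w * k * w⁻¹ = k := by
      have e1 := hgpk g hg hgt h hgk γ
      rw [show a₀ ^ (h * γ) = a₀ ^ h' by rw [← mul_inv_eq_one, ← zpow_sub]; exact (haz _).2 hγ, ← hg'k] at e1
      rw [hwdef, show (g ^ γ)⁻¹ * g' * k * ((g ^ γ)⁻¹ * g')⁻¹ = (g ^ γ)⁻¹ * (g' * k * g'⁻¹) * g ^ γ by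
        group, ← e1]
      group
    obtain ⟨u, hu, hut, i, hi, hit, hwe⟩ :=
      exists_commute_mul_inverted S.odd_pair S.mul_self S.mem_normalizer_pair hwD
    obtain ⟨p₁, p₂, hp₂, hp₁⟩ := hd u hu hut
    obtain ⟨hi', hik⟩ := hjk i hi hit
    obtain ⟨fi, bi, hbi, hix⟩ := hjx i hi hit
    have hi0 : (l : ℤ) ∣ hi' := by
      rw [hwe, show u * i * k * (u * i)⁻¹ = u * (i * k * i⁻¹) * u⁻¹ by group, hik, ← conj_mul, hp₂] at hwk
      have e1 : k ^ p₂ * (u * a₀ ^ hi' * u⁻¹) = k ^ (1 : ℤ) * 1 := by rw [hwk, zpow_one, mul_one]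
      have e2 : u * a₀ ^ hi' * u⁻¹ ∈ Ym := by
        rw [hp₁ _ (haYm _ (zpow_mem ha₀ _))]; exact zpow_mem (haYm _ (zpow_mem ha₀ _)) _
      exact (haz _).1 (conj_eq_one_iff.1 (hsplit _ _ _ _ e2 (one_mem Ym) e1).2)
    have hix' : i * x * i⁻¹ = x * bi := by
      rw [hix, (hkz fi).2 (hGL i hi hit hi' fi bi hbi hik hix hi0), one_mul]
    have hwx : w * x * w⁻¹ = x ^ p₁ * bi ^ p₁ := by
      rw [hwe, show u * i * x * (u * i)⁻¹ = u * (i * x * i⁻¹) * u⁻¹ by group, hix',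
        hp₁ _ (mul_mem hxYm (haYm bi hbi)), (hAY bi hbi x hx).symm.mul_zpow]
    have hg'x' : k ^ f' * (x * b') =
        k ^ (f * γ * p₁) * (x ^ p₁ * b₃ ^ p₁ * (g ^ γ * bi ^ p₁ * (g ^ γ)⁻¹)) := by
      rw [← mul_assoc, ← hg'x, show g' = g ^ γ * w by rw [hwdef]; group,
        show g ^ γ * w * x * (g ^ γ * w)⁻¹ = g ^ γ * (w * x * w⁻¹) * (g ^ γ)⁻¹ by group, hwx, ← conj_mul,
        ← conj_zpow, hgpx', mul_assoc (k ^ _) x,
        (T.comm _ (zpow_mem hk _) _ (mul_mem hx (T.le hb₃))).mul_zpow, (hAY b₃ hb₃ x hx).symm.mul_zpow,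
        ← zpow_mul]
      simp only [mul_assoc]
    have hgb : g ^ γ * bi ^ p₁ * (g ^ γ)⁻¹ ∈ A :=
      (mem_normalizer_iff.1 (P.norm (pow_mem hg γ)) _).1 (zpow_mem hbi _)
    obtain ⟨h5, h6⟩ := hsplit _ _ _ _ (mul_mem hxYm (haYm b' hb'))
      (mul_mem (mul_mem (zpow_mem hxYm _) (haYm _ (zpow_mem hb₃ _))) (haYm _ hgb)) hg'x'
    have hp : (l : ℤ) ∣ p₁ - 1 := hxn _ (by
      have e1 : x ^ (p₁ - 1) = b' * (b₃ ^ p₁ * (g ^ γ * bi ^ p₁ * (g ^ γ)⁻¹))⁻¹ := by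
        rw [eq_mul_inv_iff_mul_eq]
        refine mul_left_cancel (a := x) ?_
        rw [← mul_assoc, ← zpow_one_add, add_sub_cancel, ← mul_assoc, h6]
      rw [e1]
      exact mul_mem hb' (inv_mem (mul_mem (zpow_mem hb₃ _) hgb)))
    -- the arithmetic modulo `l`
    have key : ∀ {n : ℤ}, (l : ℤ) ∣ n → (n : ZMod l) = 0 := fun h => (ZMod.intCast_zmod_eq_zero_iff_dvd _ l).2 h
    have E1 := key hk2
    have E2 := key hx2
    have E3 := key hγ
    have E4 := key h5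
    have E5 := key hp
    push_cast at E1 E2 E3 E4 E5
    have hh0 : (h : ZMod l) ≠ 0 := fun e => hh ((ZMod.intCast_zmod_eq_zero_iff_dvd h l).1 e)
    have hf0 : (f : ZMod l) ≠ 0 := fun e => hf ((ZMod.intCast_zmod_eq_zero_iff_dvd f l).1 e)
    have F1 : (γ : ZMod l) * e₂ = e₁ := by
      refine mul_left_cancel₀ hh0 ?_
      linear_combination E1 + (e₂ : ZMod l) * E3
    have F2 : (γ : ZMod l) * e₁ = e₂ := by
      refine mul_left_cancel₀ hf0 ?_
      linear_combination E2 - (e₁ : ZMod l) * E4 - (f : ZMod l) * γ * e₁ * E5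
    have F3 : ((e₁ : ZMod l) - e₂) * (e₁ + e₂) = 0 := by
      linear_combination -(e₁ : ZMod l) * F1 + (e₂ : ZMod l) * F2
    rcases mul_eq_zero.1 F3 with F4 | F4
    · rw [he₂, ← mul_inv_eq_one, ← zpow_sub, hkz, ← ZMod.intCast_zmod_eq_zero_iff_dvd]
      push_cast
      linear_combination -F4
    exfalso
    obtain ⟨o, ho⟩ := S.odd_orderOf hdD
    have P1 := conj_pow_zpow he₂ (orderOf d)
    have P2 := conj_pow_zpow ha₀e (orderOf d)
    rw [pow_orderOf_eq_one, one_mul, inv_one, mul_one] at P1 P2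
    have Q1 : (l : ℤ) ∣ e₂ ^ orderOf d - 1 := (hkz _).1 (by rw [zpow_sub, ← P1, zpow_one, mul_inv_cancel])
    have Q2 : (l : ℤ) ∣ e₁ ^ orderOf d - 1 := (haz _).1 (by rw [zpow_sub, ← P2, zpow_one, mul_inv_cancel])
    have R1 := key Q1
    have R2 := key Q2
    push_cast at R1 R2
    rw [show (e₁ : ZMod l) = -e₂ by linear_combination F4, Odd.neg_pow ⟨o, ho⟩] at R2
    have R3 : ((2 : ℕ) : ZMod l) = 0 := by push_cast; linear_combination -R1 - R2
    exact hl2 ((Nat.prime_dvd_prime_iff_eq hl Nat.prime_two).1 ((ZMod.natCast_eq_zero_iff _ _).1 R3))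
  -- every element of the pair stabiliser
  have hall : ∀ g ∈ D, ∃ e h : ℤ, g * a₀ * g⁻¹ = a₀ ^ e ∧ g * k * g⁻¹ = k ^ e * a₀ ^ h := by
    intro g hg
    obtain ⟨u, hu, hut, i, hi, hit, rfl⟩ :=
      exists_commute_mul_inverted S.odd_pair S.mul_self S.mem_normalizer_pair hg
    obtain ⟨e, hek, hea⟩ := hw u hu hut
    obtain ⟨h, hh⟩ := hjk i hi hit
    refine ⟨e, e * h, ?_, ?_⟩
    · rw [show u * i * a₀ * (u * i)⁻¹ = u * (i * a₀ * i⁻¹) * u⁻¹ by group, hcA i hi hit a₀ ha₀, hea]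
    · rw [show u * i * k * (u * i)⁻¹ = u * (i * k * i⁻¹) * u⁻¹ by group, hh, ← conj_mul, ← conj_zpow, hek,
        hea, ← zpow_mul]
  obtain ⟨v, hv, hvc, hkv⟩ := exists_fixing_commute S.se S.nb S.ne hkl (fix_of_mem_pair (T.leD hk)).1
    (fix_of_mem_pair (T.leD hk)).2 (Or.inr ⟨t, S.ht, S.htc, hkt⟩)
  refine hnc (S.commAt_of_line (T.leD hk) hk1 hv hvc hkv (fun w hw' hwv => ?_) fun g hg => ?_)
  · obtain ⟨e, h, -, hk'⟩ := hall w hw'
    rw [hk']
    have h1 : Commute (w * k * w⁻¹) v := (hwv.mul_left hkv).mul_left hwv.inv_left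
    rw [hk'] at h1
    have h2 : Commute (a₀ ^ h) v := by
      have := (hkv.zpow_left e).inv_left.mul_left h1
      rwa [inv_mul_cancel_left] at this
    by_cases h3 : a₀ ^ h = 1
    · rw [h3, mul_one]; exact zpow_mem (mem_zpowers k) e
    · exact absurd h2 (P.not_commute S.se S.nb S.ne S.ht (zpow_mem ha₀ h) h3 hv)
  · have hle : ⁅D, D⁆ ≤ centralizer ({k} : Set G) := by
      rw [commutator_le]
      intro p hp q hq
      rw [mem_centralizer_singleton_iff]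
      obtain ⟨e, h, ha, hk'⟩ := hall p⁻¹ (inv_mem hp)
      obtain ⟨e', h', ha', hk''⟩ := hall q⁻¹ (inv_mem hq)
      have e1 : p⁻¹ * q⁻¹ * k * (p⁻¹ * q⁻¹)⁻¹ = q⁻¹ * p⁻¹ * k * (q⁻¹ * p⁻¹)⁻¹ := by
        rw [show p⁻¹ * q⁻¹ * k * (p⁻¹ * q⁻¹)⁻¹ = p⁻¹ * (q⁻¹ * k * q⁻¹⁻¹) * p⁻¹⁻¹ by group,
          show q⁻¹ * p⁻¹ * k * (q⁻¹ * p⁻¹)⁻¹ = q⁻¹ * (p⁻¹ * k * p⁻¹⁻¹) * q⁻¹⁻¹ by group, hk', hk'',
          ← conj_mul, ← conj_mul, ← conj_zpow, ← conj_zpow, ← conj_zpow, ← conj_zpow, hk', hk'', ha, ha',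
          ((hAY a₀ ha₀ k hk).symm.zpow_zpow e h).mul_zpow,
          ((hAY a₀ ha₀ k hk).symm.zpow_zpow e' h').mul_zpow, ← zpow_mul, ← zpow_mul, ← zpow_mul,
          ← zpow_mul, ← zpow_mul, ← zpow_mul, mul_assoc, ← zpow_add, mul_assoc, ← zpow_add,
          mul_comm e' e, show h * e' + e * h' = h' * e + e' * h by ring]
      have e2 := congrArg (fun z => p * q * z * (p⁻¹ * q⁻¹)) e1
      show ⁅p, q⁆ * k = k * ⁅p, q⁆
      rw [commutatorElement_def]
      calc p * q * p⁻¹ * q⁻¹ * k = p * q * (p⁻¹ * q⁻¹ * k * (p⁻¹ * q⁻¹)⁻¹) * (p⁻¹ * q⁻¹) := by group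
        _ = p * q * (q⁻¹ * p⁻¹ * k * (q⁻¹ * p⁻¹)⁻¹) * (p⁻¹ * q⁻¹) := e2
        _ = k * (p * q * p⁻¹ * q⁻¹) := by group
    exact mem_centralizer_singleton_iff.1 (hle hg)

/-- the layer above `Y` in its centraliser leads to a contradiction when inverted elements of `Y`
lie in `A` -/
theorem PlusTop.centralizer_eq (T : PlusTop A Y t c a) (P : InvertedMax H A t c a)
    (S : PairSetting H t c a) (hnc : ¬ CommAt H) {q : ℕ} [Fact q.Prime] {k : G} (hk : k ∈ Y)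
    (hko : orderOf k = q) (hkt : Commute k t) (hYA : ∀ y ∈ Y, t * y * t⁻¹ = y⁻¹ → y ∈ A) :
    pairCentralizer A c a ⊓ centralizer (Y : Set G) = Y := by
  classical
  by_contra hne
  set D := stabilizer G c ⊓ stabilizer G a with hD
  set C₁ := pairCentralizer A c a ⊓ centralizer (Y : Set G) with hC₁
  have hYC₁ : Y ≤ C₁ := le_inf T.leC fun x hx => mem_centralizer_iff.2 fun y hy => (T.comm y hy x hx).eq
  have hC₁D : C₁ ≤ D := inf_le_left.trans inf_le_left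
  have hC₁n : ∀ g : G, g ∈ normalizer (pairCentralizer A c a : Set G) → g ∈ normalizer (Y : Set G) →
      g ∈ normalizer (C₁ : Set G) := fun g hgC hgY => mem_normalizer_of_maps_to fun z hz => by
    obtain ⟨hzC, hzY⟩ := mem_inf.1 hz
    refine mem_inf.2 ⟨(mem_normalizer_iff.1 hgC z).1 hzC, mem_centralizer_iff.2 fun y hy => ?_⟩
    have hy' := (mem_normalizer_iff''.1 hgY y).1 hy
    have h1 := commute_conj g (show Commute (g⁻¹ * y * g) z from mem_centralizer_iff.1 hzY _ hy')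
    rw [show g * (g⁻¹ * y * g) * g⁻¹ = y by group] at h1
    exact h1.eq
  obtain ⟨p, W, hp, hp2, hYW, hYW', hWC, hWn, hWt, hmin, hcomm, hpow⟩ :=
    exists_layer S hC₁D hYC₁ (Ne.symm hne) T.norm T.swap
      (fun g hg => hC₁n g (P.pairCentralizer_normal hg) (T.norm hg))
      (hC₁n t (P.pairCentralizer_swapper S) T.swap)
  haveI := Fact.mk hp
  have hWD : W ≤ D := hWC.trans hC₁D
  have hWY : ∀ w ∈ W, ∀ y ∈ Y, Commute w y := fun w hw y hy =>
    (mem_centralizer_iff.1 (mem_inf.1 (hWC hw)).2 y hy).symm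
  have hnab : ¬ ∀ x ∈ W, ∀ y ∈ W, Commute x y := fun h =>
    hYW' (T.max W hYW (hWC.trans inf_le_left) hWn hWt h).symm
  have hcc : ∀ x ∈ W, ∀ y ∈ W, ∀ z ∈ W, Commute ⁅x, y⁆ z := fun x hx y hy z hz =>
    (hWY z hz _ (hcomm x hx y hy)).symm
  have hcp : ∀ x ∈ W, ∀ y ∈ W, ⁅x, y⁆ ^ p = 1 := fun x hx y hy => by
    rw [← Cfsg.Lib.PGroups.commutator_pow_left_of_commute (hcc x hx y hy x hx)]
    exact commutatorElement_eq_one_iff_mul_comm.2 (hWY y hy _ (hpow x hx)).eq.symm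
  have hmulpow : ∀ x ∈ W, ∀ y ∈ W, (x * y) ^ p = x ^ p * y ^ p := fun x hx y hy =>
    mul_pow_odd_prime hp hp2 (hcc y hy x hx x hx) (hcc y hy x hx y hy) (hcp y hy x hx)
  have hconjc : ∀ g x y : G, g * ⁅x, y⁆ * g⁻¹ = ⁅g * x * g⁻¹, g * y * g⁻¹⁆ := fun g x y => by
    simp only [commutatorElement_def]; group
  have htinv : ∀ x ∈ W, ∀ y ∈ W, ⁅x, y⁻¹⁆ = ⁅x, y⁆⁻¹ := fun x hx y hy => by
    rw [show ⁅x, y⁻¹⁆ = y⁻¹ * ⁅x, y⁆⁻¹ * y by simp only [commutatorElement_def]; group, mul_assoc,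
      (hcc x hx y hy y hy).inv_left.eq, inv_mul_cancel_left]
  -- inverted elements commute
  have hii : ∀ i ∈ W, ∀ j ∈ W, t * i * t⁻¹ = i⁻¹ → t * j * t⁻¹ = j⁻¹ → Commute i j := by
    intro i hi j hj hit hjt
    by_contra hij
    set z := ⁅i, j⁆ with hz
    have hzY : z ∈ Y := hcomm i hi j hj
    have hz1 : z ≠ 1 := fun h => hij (commutatorElement_eq_one_iff_mul_comm.1 h)
    have hzt : Commute z t := by
      have h : t * z * t⁻¹ = z := by
        rw [hz, hconjc, hit, hjt, htinv _ (inv_mem hi) _ hj,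
          show ⁅i⁻¹, j⁆ = i⁻¹ * ⁅i, j⁆⁻¹ * i by simp only [commutatorElement_def]; group, mul_assoc,
          (hcc i hi j hj i hi).inv_left.eq, inv_mul_cancel_left, inv_inv]
      exact (mul_inv_eq_iff_eq_mul.1 h).symm
    refine hij (S.commute_of_commutator_mem (r := p) (Z := zpowers z)
      (IsPGroup.of_card (n := 1) (by
        rw [Nat.card_zpowers, orderOf_eq_prime (hcp i hi j hj) hz1, pow_one]))
      (zpowers_le.2 (T.leD hzY)) (zpowers_ne_bot.2 hz1) ?_ ?_ (hWD hi) (hWD hj) hit hjt ?_ ?_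
      (mem_zpowers z))
    · rintro _ ⟨n, rfl⟩; exact hzt.zpow_left n
    · rintro _ ⟨n, rfl⟩ _ ⟨m, rfl⟩; exact Commute.zpow_zpow_self z n m
    · rintro _ ⟨n, rfl⟩; exact (hWY i hi z hzY).zpow_right n
    · rintro _ ⟨n, rfl⟩; exact (hWY j hj z hzY).zpow_right n
  have hWodd : Odd (Nat.card W) := S.odd_le hWD
  -- a fixed element moving an inverted one
  obtain ⟨u, hu, hut, i, hi, hit, hui⟩ : ∃ u ∈ W, Commute u t ∧ ∃ i ∈ W, t * i * t⁻¹ = i⁻¹ ∧
      ¬ Commute u i := by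
    by_contra hno
    push Not at hno
    have hfix : ∀ x ∈ W, ∀ y ∈ W, Commute ⁅x, y⁆ t := by
      intro x hx y hy
      obtain ⟨u, hu, hut, i, hi, hit, rfl⟩ := exists_commute_mul_inverted hWodd S.mul_self hWt hx
      obtain ⟨u', hu', hut', i', hi', hit', rfl⟩ := exists_commute_mul_inverted hWodd S.mul_self hWt hy
      have c1 : Commute i (u' * i') := (hno u' hu' hut' i hi hit).symm.mul_right (hii i hi i' hi' hit hit')
      rw [Cfsg.Lib.PGroups.mul_left_commutator, commutatorElement_eq_one_iff_mul_comm.2 c1.eq, mul_one,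
        mul_inv_cancel, one_mul, Cfsg.Lib.PGroups.mul_right_commutator,
        commutatorElement_eq_one_iff_mul_comm.2 (hno u hu hut i' hi' hit').eq, mul_one, mul_inv_cancel,
        mul_one, commutatorElement_def]
      exact ((hut.mul_left hut').mul_left hut.inv_left).mul_left hut'.inv_left
    let F : Subgroup G :=
      { carrier := {z | z ∈ Y ∧ ∀ g ∈ D, Commute (g * z * g⁻¹) t}
        one_mem' := ⟨one_mem Y, fun g _ => by simp⟩
        mul_mem' := fun {z z'} hz hz' => ⟨mul_mem hz.1 hz'.1, fun g hg => by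
          rw [← conj_mul]; exact (hz.2 g hg).mul_left (hz'.2 g hg)⟩
        inv_mem' := fun {z} hz => ⟨inv_mem hz.1, fun g hg => by
          rw [← conj_inv]; exact (hz.2 g hg).inv_left⟩ }
    refine hnc (S.commAt_of_normal_fixed (F := F) (fun z hz => T.leD hz.1) ?_ ?_ ?_)
    · intro hbot
      refine hnab fun x hx y hy => commutatorElement_eq_one_iff_mul_comm.1 ?_
      have h : ⁅x, y⁆ ∈ F := ⟨hcomm x hx y hy, fun g hg => by
        rw [hconjc]
        exact hfix _ ((mem_normalizer_iff.1 (hWn hg) x).1 hx) _ ((mem_normalizer_iff.1 (hWn hg) y).1 hy)⟩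
      rwa [hbot, mem_bot] at h
    · exact fun g hg => mem_normalizer_of_maps_to fun z hz =>
        ⟨(mem_normalizer_iff.1 (T.norm hg) z).1 hz.1, fun g' hg' => by
          rw [show g' * (g * z * g⁻¹) * g'⁻¹ = g' * g * z * (g' * g)⁻¹ by group]
          exact hz.2 _ (mul_mem hg' hg)⟩
    · intro z hz
      simpa using hz.2 1 (one_mem D)
  set z := ⁅u, i⁆ with hz
  have hz1 : z ≠ 1 := fun h => hui (commutatorElement_eq_one_iff_mul_comm.1 h)
  have hzo : orderOf z = p := orderOf_eq_prime (hcp u hu i hi) hz1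
  have hzA : z ∈ A := hYA z (hcomm u hu i hi) (by
    rw [hz, hconjc, hit, ← hut.eq, mul_inv_cancel_right, htinv u hu i hi])
  have hiY : i ∉ Y := fun h => hui (hWY u hu i h)
  have huY : u ∉ Y := fun h => hui (hWY i hi u h).symm
  -- powers
  let X₁ : Subgroup G :=
    { carrier := {w | w ∈ W ∧ ∃ b ∈ A, ∃ y ∈ Y, w ^ p = b * y ^ p}
      one_mem' := ⟨one_mem W, 1, one_mem A, 1, one_mem Y, by simp⟩
      mul_mem' := fun {w w'} hw hw' => by
        obtain ⟨hwW, b, hb, y, hy, e⟩ := hw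
        obtain ⟨hwW', b', hb', y', hy', e'⟩ := hw'
        refine ⟨mul_mem hwW hwW', b * b', mul_mem hb hb', y * y', mul_mem hy hy', ?_⟩
        rw [hmulpow w hwW w' hwW', e, e', (T.comm y hy y' hy').mul_pow, mul_assoc b (y ^ p),
          ← mul_assoc (y ^ p), (T.comm _ (pow_mem hy p) b' (T.le hb')).eq]
        group
      inv_mem' := fun {w} hw => by
        obtain ⟨hwW, b, hb, y, hy, e⟩ := hw
        refine ⟨inv_mem hwW, b⁻¹, inv_mem hb, y⁻¹, inv_mem hy, ?_⟩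
        rw [inv_pow, inv_pow, e, mul_inv_rev]
        exact ((T.comm _ (pow_mem hy p) b (T.le hb)).inv_inv).eq }
  let X₂ : Subgroup G :=
    { carrier := {w | w ∈ W ∧ ∃ y ∈ Y, w ^ p = y ^ p}
      one_mem' := ⟨one_mem W, 1, one_mem Y, rfl⟩
      mul_mem' := fun {w w'} hw hw' => by
        obtain ⟨hwW, y, hy, e⟩ := hw
        obtain ⟨hwW', y', hy', e'⟩ := hw'
        exact ⟨mul_mem hwW hwW', y * y', mul_mem hy hy', by
          rw [hmulpow w hwW w' hwW', e, e', (T.comm y hy y' hy').mul_pow]⟩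
      inv_mem' := fun {w} hw => by
        obtain ⟨hwW, y, hy, e⟩ := hw
        exact ⟨inv_mem hwW, y⁻¹, inv_mem hy, by rw [inv_pow, inv_pow, e]⟩ }
  have hX₁n : ∀ g : G, g ∈ normalizer (W : Set G) → g ∈ normalizer (Y : Set G) →
      g ∈ normalizer (A : Set G) → g ∈ normalizer (X₁ : Set G) := fun g h1 h2 h3 =>
    mem_normalizer_of_maps_to fun w hw => by
      obtain ⟨hwW, b, hb, y, hy, e⟩ := hw
      exact ⟨(mem_normalizer_iff.1 h1 w).1 hwW, g * b * g⁻¹, (mem_normalizer_iff.1 h3 b).1 hb,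
        g * y * g⁻¹, (mem_normalizer_iff.1 h2 y).1 hy, by rw [conj_pow, conj_pow, e, conj_mul]⟩
  have hX₂n : ∀ g : G, g ∈ normalizer (W : Set G) → g ∈ normalizer (Y : Set G) →
      g ∈ normalizer (X₂ : Set G) := fun g h1 h2 =>
    mem_normalizer_of_maps_to fun w hw => by
      obtain ⟨hwW, y, hy, e⟩ := hw
      exact ⟨(mem_normalizer_iff.1 h1 w).1 hwW, g * y * g⁻¹, (mem_normalizer_iff.1 h2 y).1 hy,
        by rw [conj_pow, conj_pow, e]⟩
  have hX₁ : X₁ = W := by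
    refine (hmin X₁ (fun y hy => ⟨hYW hy, 1, one_mem A, y, hy, (one_mul _).symm⟩) (fun w hw => hw.1)
      (fun g hg => hX₁n g (hWn hg) (T.norm hg) (P.norm hg))
      (hX₁n t hWt T.swap P.mem_normalizer_swapper)).resolve_left fun h => hiY ?_
    rw [← h]
    exact ⟨hi, i ^ p, hYA _ (hpow i hi) (pow_inverted hit p), 1, one_mem Y, by simp⟩
  have huX₂ : u ∈ X₂ := by
    obtain ⟨-, b, hb, y, hy, e⟩ := (hX₁.symm ▸ hu : u ∈ X₁)
    obtain ⟨k', hk', hk't, a', ha', ha't, rfl⟩ := T.exists_mul S hy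
    have hb' : b * a' ^ p ∈ A := mul_mem hb (pow_mem (hYA a' ha' ha't) p)
    rw [(T.comm k' hk' a' ha').mul_pow, ← mul_assoc, (T.comm b (T.le hb) _ (pow_mem hk' p)).eq,
      mul_assoc] at e
    refine ⟨hu, k', hk', ?_⟩
    exact (T.decomp_unique S (hpow u hu) (hut.pow_left p) (one_mem Y) (by simp) (pow_mem hk' p)
      (hk't.pow_left p) (T.le hb') (P.inv _ hb') (by rw [mul_one, e])).1
  rcases hmin X₂ (fun y hy => ⟨hYW hy, y, hy, rfl⟩) (fun w hw => hw.1)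
      (fun g hg => hX₂n g (hWn hg) (T.norm hg)) (hX₂n t hWt T.swap) with h | h
  · exact huY (h ▸ huX₂)
  obtain ⟨-, y, hy, e⟩ := (h.symm ▸ hi : i ∈ X₂)
  obtain ⟨k', hk', hk't, a', ha', ha't, rfl⟩ := T.exists_mul S hy
  rw [(T.comm k' hk' a' ha').mul_pow] at e
  have hia : i ^ p = a' ^ p :=
    (T.decomp_unique S (one_mem Y) (Commute.one_left t) (hpow i hi) (pow_inverted hit p) (pow_mem hk' p)
      (hk't.pow_left p) (pow_mem ha' p) (pow_inverted ha't p) (by rw [one_mul, e])).2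
  have hci : Commute i a' := hWY i hi a' ha'
  let Wm : Subgroup G :=
    { carrier := {w | w ∈ W ∧ t * w * t⁻¹ = w⁻¹}
      one_mem' := ⟨one_mem W, by simp⟩
      mul_mem' := fun {w w'} hw hw' =>
        ⟨mul_mem hw.1 hw'.1, mul_inverted (hii w hw.1 w' hw'.1 hw.2 hw'.2) hw.2 hw'.2⟩
      inv_mem' := fun {w} hw => ⟨inv_mem hw.1, by rw [← conj_inv, hw.2]⟩ }
  haveI hcyc : IsCyclic Wm := isCyclic_of_inverted_centralized S.se S.core S.nb S.cs S.ne S.ht S.htc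
    (fun w hw => hWD hw.1) (fun w hw => hw.2)
    (fun e => by rw [e, orderOf_one] at hko; exact (Fact.out : q.Prime).ne_one hko.symm)
    (hko ▸ pow_orderOf_eq_one k) (fix_of_mem_pair (T.leD hk)).1
    (fix_of_mem_pair (T.leD hk)).2 hkt (fun w hw => (hWY w hw.1 k hk).symm)
  set i' := i * a'⁻¹ with hi'
  have hi'A : i' ∉ A := fun hA => hiY (by
    have := mul_mem (T.le hA) ha'
    rwa [hi', inv_mul_cancel_right] at this)
  have hi'm : i' ∈ Wm := ⟨mul_mem hi (inv_mem (hYW ha')),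
    mul_inverted hci.inv_right hit (by rw [← conj_inv, ha't])⟩
  have hi'p : i' ^ p = 1 := by rw [hi', hci.inv_right.mul_pow, inv_pow, hia, mul_inv_cancel]
  have hzm : z ∈ Wm := ⟨hYW (T.le hzA), P.inv z hzA⟩
  have hi'1 : i' ≠ 1 := fun e => hi'A (e ▸ one_mem A)
  have heq : zpowers (⟨i', hi'm⟩ : Wm) = zpowers ⟨z, hzm⟩ := zpowers_eq_of_orderOf_eq
    (by rw [Subgroup.orderOf_mk, Subgroup.orderOf_mk, hzo]; exact orderOf_eq_prime hi'p hi'1)
  obtain ⟨n, hn⟩ := mem_zpowers_iff.1 (heq ▸ mem_zpowers (⟨i', hi'm⟩ : Wm))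
  have hn' : z ^ n = i' := congrArg Subtype.val hn
  exact hi'A (hn' ▸ zpow_mem hzA n)

/-- case: the inverted elements of `Y` lie in `A` -/
theorem PlusTop.commAt_of_inverted_inside (T : PlusTop A Y t c a) (P : InvertedMax H A t c a)
    (S : PairSetting H t c a) (hYA : ∀ y ∈ Y, t * y * t⁻¹ = y⁻¹ → y ∈ A) : CommAt H := by
  classical
  by_contra hnc
  set D := stabilizer G c ⊓ stabilizer G a with hD
  set K := Y ⊓ centralizer ({t} : Set G) with hK
  have hKmem : ∀ y, y ∈ K ↔ y ∈ Y ∧ Commute y t := fun y => by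
    rw [hK, mem_inf, mem_centralizer_singleton_iff]; rfl
  have hYdec : ∀ y ∈ Y, ∃ u ∈ K, ∃ b ∈ A, y = u * b := fun y hy => by
    obtain ⟨u, hu, hut, i, hi, hit, rfl⟩ := T.exists_mul S hy
    exact ⟨u, (hKmem u).2 ⟨hu, hut⟩, i, hYA i hi hit, rfl⟩
  have huniq : ∀ u ∈ K, ∀ b ∈ A, ∀ u' ∈ K, ∀ b' ∈ A, u * b = u' * b' → u = u' ∧ b = b' :=
    fun u hu b hb u' hu' b' hb' h => T.decomp_unique S ((hKmem u).1 hu).1 ((hKmem u).1 hu).2 (T.le hb)
      (P.inv b hb) ((hKmem u').1 hu').1 ((hKmem u').1 hu').2 (T.le hb') (P.inv b' hb') h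
  -- a fixed element of prime order
  obtain ⟨k₀, hk₀, hk₀1⟩ : ∃ y ∈ K, y ≠ 1 := by
    by_contra hno
    push Not at hno
    refine T.ne (le_antisymm T.le fun y hy => ?_)
    obtain ⟨u, hu, b, hb, rfl⟩ := hYdec y hy
    rw [hno u hu, one_mul]; exact hb
  obtain ⟨q, hq, hqk⟩ := Nat.exists_prime_and_dvd (fun e => hk₀1 (orderOf_eq_one_iff.1 e))
  haveI := Fact.mk hq
  set k := k₀ ^ (orderOf k₀ / q) with hkdef
  have hkK : k ∈ K := pow_mem hk₀ _
  have hko : orderOf k = q := orderOf_pow_orderOf_div (orderOf_pos k₀).ne' hqk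
  have hk1 : k ≠ 1 := fun e => by rw [e, orderOf_one] at hko; exact hq.ne_one hko.symm
  obtain ⟨hk, hkt⟩ := (hKmem k).1 hkK
  have hC1 := T.centralizer_eq P S hnc hk hko hkt hYA
  haveI hAcyc : IsCyclic A := isCyclic_of_inverted_centralized S.se S.core S.nb S.cs S.ne S.ht S.htc
    P.le P.inv hk1 (hko ▸ pow_orderOf_eq_one k) (fix_of_mem_pair (T.leD hk)).1
    (fix_of_mem_pair (T.leD hk)).2 hkt (fun y hy => T.comm k hk y (T.le hy))
  -- the fixed part is cyclic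
  letI : CommGroup K :=
    { (inferInstance : Group K) with
      mul_comm := fun p r => Subtype.ext (T.comm p ((hKmem _).1 p.2).1 r ((hKmem _).1 r.2).1).eq }
  have hKc : IsCyclic K := by
    by_contra hnot
    obtain ⟨r, x, y, hr, hx, hy, hxy⟩ := Cfsg.Lib.Coprime.exists_root_pair_of_not_cyclic hnot
    haveI := Fact.mk hr
    obtain ⟨-, hfix, -⟩ := T.omega P S hnc (l := r) ((hKmem _).1 x.2).1
      (by rw [Subgroup.orderOf_coe, hx]) ((hKmem _).1 x.2).2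
    obtain ⟨n, hn⟩ := hfix (y : G) ((hKmem _).1 y.2).1 ((hKmem _).1 y.2).2
      (by rw [← hy, ← Subgroup.orderOf_coe, pow_orderOf_eq_one])
    exact hxy ⟨n, Subtype.ext hn⟩
  obtain ⟨kg, hkg⟩ := hKc.exists_generator
  -- inverted elements act trivially modulo `A`
  have hJC : ∀ j ∈ D, t * j * t⁻¹ = j⁻¹ → j ∈ pairCentralizer A c a := fun j hj hjt =>
    mem_inf.2 ⟨hj, mem_centralizer_iff.2 fun y hy => (P.commute_inverted S.se S.ne hj hjt hy).eq.symm⟩
  have hCA : ∀ g ∈ pairCentralizer A c a, ∀ b ∈ A, g * b * g⁻¹ = b := fun g hg b hb => by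
    rw [(commute_pairCentralizer hg hb).eq, mul_inv_cancel_right]
  let M : Subgroup G :=
    { carrier := {g | g ∈ pairCentralizer A c a ∧ ∀ y ∈ K, g * y * g⁻¹ * y⁻¹ ∈ A}
      one_mem' := ⟨one_mem _, fun y _ => by simp⟩
      mul_mem' := fun {g g'} hg hg' => ⟨mul_mem hg.1 hg'.1, fun y hy => by
        rw [show g * g' * y * (g * g')⁻¹ * y⁻¹ =
          g * (g' * y * g'⁻¹ * y⁻¹) * g⁻¹ * (g * y * g⁻¹ * y⁻¹) by group, hCA g hg.1 _ (hg'.2 y hy)]
        exact mul_mem (hg'.2 y hy) (hg.2 y hy)⟩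
      inv_mem' := fun {g} hg => ⟨inv_mem hg.1, fun y hy => by
        rw [show g⁻¹ * y * g⁻¹⁻¹ * y⁻¹ = g⁻¹ * (g * y * g⁻¹ * y⁻¹)⁻¹ * g⁻¹⁻¹ by group,
          hCA _ (inv_mem hg.1) _ (inv_mem (hg.2 y hy))]
        exact inv_mem (hg.2 y hy)⟩ }
  have hJM : ∀ j ∈ D, t * j * t⁻¹ = j⁻¹ → j ∈ M := by
    intro j hj hjt
    refine ⟨hJC j hj hjt, fun y hy => ?_⟩
    obtain ⟨hyY, hyt⟩ := (hKmem y).1 hy
    obtain ⟨u, hu, b, hb, hde⟩ := hYdec _ ((mem_normalizer_iff.1 (T.norm hj) y).1 hyY)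
    have h1 : j⁻¹ * y * j = u * b⁻¹ := by
      have := congrArg (fun z => t * z * t⁻¹) hde
      simp only [← conj_mul, ← conj_inv, hjt, inv_inv, P.inv b hb] at this
      rwa [← hyt.eq, mul_inv_cancel_right, ← ((hKmem u).1 hu).2.eq, mul_inv_cancel_right] at this
    have h2 : j * u * j⁻¹ = y * b := by
      have h3 : j * (u * b⁻¹) * j⁻¹ = y := by rw [← h1]; group
      rw [← conj_mul, hCA j (hJC j hj hjt) _ (inv_mem hb), mul_inv_eq_iff_eq_mul] at h3
      exact h3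
    have h4 : j * j * y * (j * j)⁻¹ * y⁻¹ ∈ A := by
      rw [show j * j * y * (j * j)⁻¹ = j * (j * y * j⁻¹) * j⁻¹ by group, hde, ← conj_mul, h2,
        hCA j (hJC j hj hjt) _ hb, mul_assoc y,
        (T.comm y hyY _ (T.le (mul_mem hb hb))).eq, mul_inv_cancel_right]
      exact mul_mem hb hb
    obtain ⟨n, hn⟩ := S.odd_orderOf hj
    have h7 : j = (j * j) ^ (n + 1) := by
      rw [← sq, ← pow_mul, show 2 * (n + 1) = orderOf j + 1 by omega, pow_succ, pow_orderOf_eq_one,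
        one_mul]
    let N : Subgroup G :=
      { carrier := {g | g ∈ pairCentralizer A c a ∧ g * y * g⁻¹ * y⁻¹ ∈ A}
        one_mem' := ⟨one_mem _, by simp⟩
        mul_mem' := fun {g g'} hg hg' => ⟨mul_mem hg.1 hg'.1, by
          rw [show g * g' * y * (g * g')⁻¹ * y⁻¹ =
            g * (g' * y * g'⁻¹ * y⁻¹) * g⁻¹ * (g * y * g⁻¹ * y⁻¹) by group, hCA g hg.1 _ hg'.2]
          exact mul_mem hg'.2 hg.2⟩
        inv_mem' := fun {g} hg => ⟨inv_mem hg.1, by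
          rw [show g⁻¹ * y * g⁻¹⁻¹ * y⁻¹ = g⁻¹ * (g * y * g⁻¹ * y⁻¹)⁻¹ * g⁻¹⁻¹ by group,
            hCA _ (inv_mem hg.1) _ (inv_mem hg.2)]
          exact inv_mem hg.2⟩ }
    have h8 : j * j ∈ N := ⟨mul_mem (hJC j hj hjt) (hJC j hj hjt), h4⟩
    have h9 : j ∈ N := by rw [h7]; exact pow_mem h8 _
    exact h9.2
  let θ : M →* A :=
    { toFun := fun g => ⟨(g : G) * kg * (g : G)⁻¹ * (kg : G)⁻¹, g.2.2 kg kg.2⟩
      map_one' := Subtype.ext (by simp)
      map_mul' := fun g g' => Subtype.ext (by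
        show (g : G) * g' * kg * ((g : G) * g')⁻¹ * (kg : G)⁻¹ =
          (g : G) * kg * (g : G)⁻¹ * (kg : G)⁻¹ * ((g' : G) * kg * (g' : G)⁻¹ * (kg : G)⁻¹)
        rw [show (g : G) * g' * kg * ((g : G) * g')⁻¹ * (kg : G)⁻¹ =
          (g : G) * ((g' : G) * kg * (g' : G)⁻¹ * (kg : G)⁻¹) * (g : G)⁻¹ *
            ((g : G) * kg * (g : G)⁻¹ * (kg : G)⁻¹) by group, hCA _ g.2.1 _ (g'.2.2 kg kg.2)]
        exact (P.comm (g'.2.2 kg kg.2) (g.2.2 kg kg.2)).eq) }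
  have hker : ∀ g : M, θ g = 1 → (g : G) ∈ Y := by
    intro g hg
    have hgk : Commute (g : G) kg := mul_inv_eq_iff_eq_mul.1 (mul_inv_eq_one.1 (congrArg Subtype.val hg))
    rw [← hC1]
    refine mem_inf.2 ⟨g.2.1, mem_centralizer_iff.2 fun y hy => ?_⟩
    obtain ⟨u, hu, b, hb, rfl⟩ := hYdec y hy
    obtain ⟨n, hn⟩ := mem_zpowers_iff.1 (hkg ⟨u, hu⟩)
    have hn' : (kg : G) ^ n = u := congrArg Subtype.val hn
    exact ((hn' ▸ hgk.zpow_right n : Commute (g : G) u).mul_right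
      (commute_pairCentralizer g.2.1 hb)).eq.symm
  obtain ⟨⟨_, ⟨c₁, rfl⟩⟩, hgen⟩ := (inferInstance : IsCyclic θ.range).exists_generator
  have hc₁D : (c₁ : G) ∈ D := (mem_inf.1 c₁.2.1).1
  obtain ⟨u, hu, hut, i, hi, hit, hce⟩ :=
    exists_commute_mul_inverted S.odd_pair S.mul_self S.mem_normalizer_pair hc₁D
  have hiM : i ∈ M := hJM i hi hit
  have huM : u ∈ M := by
    have h := mul_mem c₁.2 (inv_mem hiM)
    rwa [hce, mul_inv_cancel_right] at h
  have hu1 : θ ⟨u, huM⟩ = 1 := by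
    have hkgt := ((hKmem _).1 kg.2).2
    refine Subtype.ext (eq_one_of_fixed_inverted (t := t)
      (S.odd_orderOf (P.le (θ ⟨u, huM⟩).2)) ?_ (P.inv _ (θ ⟨u, huM⟩).2))
    exact ((hut.mul_left hkgt).mul_left hut.inv_left).mul_left hkgt.inv_left
  have hci : θ c₁ = θ ⟨i, hiM⟩ := by
    rw [show c₁ = ⟨u, huM⟩ * ⟨i, hiM⟩ from Subtype.ext hce, map_mul, hu1, one_mul]
  -- inverted elements are powers of `i` times elements of `A`
  have hJ : ∀ j ∈ D, t * j * t⁻¹ = j⁻¹ → ∃ n : ℤ, ∃ b ∈ A, j = i ^ n * b := by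
    intro j hj hjt
    obtain ⟨n, hn⟩ := mem_zpowers_iff.1 (hgen ⟨θ ⟨j, hJM j hj hjt⟩, _, rfl⟩)
    have hn' : (θ c₁) ^ n = θ ⟨j, hJM j hj hjt⟩ := congrArg Subtype.val hn
    rw [hci, ← map_zpow] at hn'
    have hy : (i ^ n)⁻¹ * j ∈ Y := by
      have := hker (((⟨i, hiM⟩ : M) ^ n)⁻¹ * ⟨j, hJM j hj hjt⟩)
        (by rw [map_mul, map_inv, hn', inv_mul_cancel])
      simpa using this
    obtain ⟨u', hu', b, hb, hde⟩ := hYdec _ hy
    refine ⟨n, b, hb, ?_⟩
    obtain ⟨hu'Y, hu't⟩ := (hKmem u').1 hu'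
    have hinM : i ^ n ∈ M := zpow_mem hiM n
    set w := i ^ n with hw
    have hwt : t * w * t⁻¹ = w⁻¹ := zpow_inverted hit n
    have hjw : j = w * (u' * b) := by rw [← hde, mul_inv_cancel_left]
    have h1 : u' * b⁻¹ = w * (u' * b)⁻¹ * w⁻¹ := by
      have := congrArg (fun z => t * z * t⁻¹) hde
      simp only [← conj_mul, ← conj_inv, hjt, hwt, inv_inv, P.inv b hb] at this
      rw [← hu't.eq, mul_inv_cancel_right] at this
      rw [← this, hjw]
      group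
    rw [mul_inv_rev, ← conj_mul, hCA _ hinM.1 _ (inv_mem hb)] at h1
    have h2 : w * u'⁻¹ * w⁻¹ * u'⁻¹⁻¹ ∈ A := hinM.2 _ (inv_mem hu')
    set b' := w * u'⁻¹ * w⁻¹ * u'⁻¹⁻¹ with hb'
    rw [show w * u'⁻¹ * w⁻¹ = b' * u'⁻¹ by rw [hb', inv_mul_cancel_right],
      (T.comm b' (T.le h2) _ (inv_mem hu'Y)).eq, ← mul_assoc,
      (T.comm b⁻¹ (inv_mem (T.le hb)) _ (inv_mem hu'Y)).eq, mul_assoc] at h1
    have h3 := (huniq u' hu' _ (inv_mem hb) _ (inv_mem hu') _ (mul_mem (inv_mem hb) h2) h1).1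
    have h4 : u' = 1 := orderOf_eq_one_iff.1 (Nat.eq_one_of_dvd_coprimes
      (Nat.coprime_two_left.2 (S.odd_orderOf (T.leD hu'Y))) (orderOf_dvd_of_pow_eq_one (by
        rw [sq]; nth_rewrite 1 [h3]; rw [inv_mul_cancel])) dvd_rfl)
    rw [hjw, h4, one_mul]
  have hJc : ∀ j ∈ D, t * j * t⁻¹ = j⁻¹ → ∀ j' ∈ D, t * j' * t⁻¹ = j'⁻¹ → Commute j j' := by
    intro j hj hjt j' hj' hjt'
    obtain ⟨n, b, hb, rfl⟩ := hJ j hj hjt
    obtain ⟨n', b', hb', rfl⟩ := hJ j' hj' hjt'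
    have c1 := fun m : ℤ => fun d (hd : d ∈ A) => commute_pairCentralizer (zpow_mem hiM.1 m) hd
    exact ((Commute.zpow_zpow_self i n n').mul_right (c1 n b' hb')).mul_left
      ((c1 n' b hb).symm.mul_right (P.comm hb hb'))
  let J : Subgroup G :=
    { carrier := {j | j ∈ D ∧ t * j * t⁻¹ = j⁻¹}
      one_mem' := ⟨one_mem D, by simp⟩
      mul_mem' := fun {j j'} hj hj' =>
        ⟨mul_mem hj.1 hj'.1, mul_inverted (hJc j hj.1 hj.2 j' hj'.1 hj'.2) hj.2 hj'.2⟩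
      inv_mem' := fun {j} hj => ⟨inv_mem hj.1, by rw [← conj_inv, hj.2]⟩ }
  have hJA : J = A := by
    refine P.max J (fun y hy => ⟨P.le hy, P.inv y hy⟩) (fun y hy => hy.1) (fun y hy => hy.2) fun g hg => ?_
    refine mem_normalizer_of_maps_to fun j hj => ?_
    obtain ⟨w, hw, hwt, i', hi', hit', rfl⟩ :=
      exists_commute_mul_inverted S.odd_pair S.mul_self S.mem_normalizer_pair hg
    refine ⟨mul_mem (mul_mem hg hj.1) (inv_mem hg), ?_⟩
    rw [show w * i' * j * (w * i')⁻¹ = w * (i' * j * i'⁻¹) * w⁻¹ by group,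
      (hJc i' hi' hit' j hj.1 hj.2).eq, mul_inv_cancel_right, ← conj_mul, ← conj_mul, hj.2, ← hwt.eq,
      mul_inv_cancel_right, ← hwt.inv_left.eq, mul_inv_cancel_right]
    group
  refine hnc (S.commAt_of_commute_inverted (T.leD hk) hk1 hkt fun j hj hjt => ?_)
  have hjA : j ∈ A := hJA ▸ (show j ∈ J from ⟨hj, hjt⟩)
  exact T.comm k hk j (T.le hjA)

/-- BRANCH Y: an abelian invariant subgroup properly above `A` gives COMM -/
theorem InvertedMax.commAt_of_plusAbelian (P : InvertedMax H A t c a) (S : PairSetting H t c a)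
    (h : PlusAbelian A t c a) : CommAt H := by
  obtain ⟨Y, T⟩ := exists_plusTop h
  by_cases hY : ∀ y ∈ Y, t * y * t⁻¹ = y⁻¹ → y ∈ A
  · exact T.commAt_of_inverted_inside P S hY
  · push Not at hY
    obtain ⟨x, hx, hxt, hxA⟩ := hY
    exact T.commAt_of_inverted_outside P S hx hxt hxA

end Cfsg.Lib.BenderSE
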