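/-
COMM, case + (notes/bender_caseplus_h8.md): if `A` is not self-centralising in the pair stabiliser,
the involutions at a point commute.
-/
import Cfsg.Agent.BenderSE.CommPlusAbelian

set_option autoImplicit false
set_option linter.unusedSectionVars false

namespace Cfsg.Lib.BenderSE

open Subgroup MulAction

universe u

variable {G : Type u} [Group G] [Finite G] {H : Subgroup G} {t : G} {c a : G ⧸ H} {A : Subgroup G}

/-- CASE +: `C_D(A) ≰ A` gives COMM -/
theorem InvertedMax.commAt_of_not_self_centralizing (P : InvertedMax H A t c a)
    (S : PairSetting H t c a) (reg : RegBelow.{u} (Nat.card G))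
    (hne : ¬ stabilizer G c ⊓ stabilizer G a ⊓ centralizer (A : Set G) ≤ A) : CommAt H := by
  rcases P.plusAbelian_or_plane S (fun e => hne (e ▸ le_rfl : pairCentralizer A c a ≤ A)) with h | h
  · exact P.commAt_of_plusAbelian S h
  · exact P.commAt_of_plane S reg h

end Cfsg.Lib.BenderSE
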