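/-
ASSEMBLY of COMM: `CommStepReg` from the self centralising case.
-/
import Cfsg.Agent.BenderSE.CommPlus
import Cfsg.Agent.BenderSE.CommTranslate
import Cfsg.Agent.BenderSE.Reg.Induction

set_option autoImplicit false
set_option linter.unusedSectionVars false
set_option linter.style.haveILetI false

namespace Cfsg.Lib.BenderSE

open Subgroup MulAction Cfsg.Lib.InvolCalc

universe u

/-- the self centralising case -/
def SelfCentralStep : Prop :=
  ∀ (S : Type u) [Group S] [Finite S], IsSimpleGroup S →
    ∀ (K A : Subgroup S) (t v : S) (c a : S ⧸ K), PairSetting K t c a → HasCommutingInvolutions S →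
      RegBelow.{u} (Nat.card S) → InvertedMax K A t c a → A ≠ ⊥ → RegAb K A v c a → CommAt K

variable {G : Type u} [Group G] [Finite G] {H : Subgroup G}

/-- the involutions in `H` commute once they do at every point -/
theorem CommAt.commute_of_mem' (hC : CommAt H) {i j : G} (hi : i ∈ H) (hj : j ∈ H)
    (hi2 : orderOf i = 2) (hj2 : orderOf j = 2) : i * j = j * i :=
  hC (QuotientGroup.mk 1) i j hi2 hj2 ((smul_mk_one_iff (H := H)).2 hi) ((smul_mk_one_iff (H := H)).2 hj)

/-- COMM from the self centralising case -/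
theorem commStepReg_of_self (self : SelfCentralStep.{u}) :
    CommStepReg.{u} := by
  intro S _ _ hsimple K hK h2 htt hb hcs reg i hi j hj hi2 hj2
  haveI := hsimple
  suffices hC : CommAt K from hC.commute_of_mem' hi hj hi2 hj2
  by_contra hC
  have hcore := normalCore_eq_bot_of_simple hK
  obtain ⟨g, hg⟩ : ∃ g : S, g ∉ K := by
    by_contra h
    push Not at h
    exact hK.1 ((Subgroup.eq_top_iff' K).2 h)
  set c : S ⧸ K := QuotientGroup.mk 1
  have hac : (QuotientGroup.mk g : S ⧸ K) ≠ c := fun h => by
    rw [QuotientGroup.eq, mul_one, inv_mem_iff] at h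
    exact hg h
  obtain ⟨t, ht, htc⟩ := exists_swapper hK hac.symm
  obtain ⟨A, hA1, P⟩ := exists_invertedMax_ne_bot hK hcore hb hcs htt h2 hac ht htc hC
  have hPS : PairSetting K t c (QuotientGroup.mk g) := ⟨hK, hcore, hb, hcs, htt, hac, ht, htc⟩
  by_cases hself : stabilizer S c ⊓ stabilizer S (QuotientGroup.mk g : S ⧸ K) ⊓
      centralizer (A : Set S) ≤ A
  · obtain ⟨v, hv, hvc⟩ := exists_fixing hK c
    exact hC (self S hsimple K A t v c _ hPS h2 reg P hA1 (P.regAb hK hb hac ht htc hself hv hvc))
  · exact hC (P.commAt_of_not_self_centralizing hPS reg hself)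

end Cfsg.Lib.BenderSE
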