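/-
COMM, the self centralising case (notes/bender_comm.md): common primes centralise their parts of `A`
(sections 1, 2), so the coprime case applies; `CommStepReg`.
-/
import Cfsg.Agent.BenderSE.CommCyclicPrime
import Cfsg.Agent.BenderSE.CommCoprimeGlue
import Cfsg.Agent.BenderSE.CommStepFinal

set_option autoImplicit false
set_option linter.unusedSectionVars false
set_option linter.style.haveILetI false

namespace Cfsg.Lib.BenderSE

open Subgroup MulAction

universe u

/-- COMM, the self centralising case -/
theorem selfCentralStep : SelfCentralStep.{u} := by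
  intro S _ _ _ K A t v c a hS h2 reg _ _ P
  by_contra hC
  refine hC (P.commAt_of_central_primes hS.se hS.core hS.nb hS.cs h2 (R := pairPart A v c a) rfl ?_ ?_)
  · intro l hl hlR y hy hyo r hr
    haveI := Fact.mk hl
    obtain ⟨k, hk⟩ := hyo
    exact ((P.commAt_or_central hS.se hS.core hS.nb hS.cs reg hlR).resolve_left hC) r hr y hy
      ⟨k, hk ▸ pow_orderOf_eq_one y⟩
  · rintro z hz ⟨y, hy, hy1, hzy⟩
    haveI := Fact.mk hz
    exact P.mem_commutator_of_wide hS.se hS.core hS.nb hS.cs reg rfl hy hy1 hzy

/-- COMM in a simple group with REG in the smaller ones -/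
theorem commStepReg : CommStepReg.{u} := commStepReg_of_self selfCentralStep

end Cfsg.Lib.BenderSE
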