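/-
THE BENDER THEOREM: COMM and REG hold in every simple group with a strongly embedded subgroup.
-/
import Cfsg.Agent.BenderSE.CommSelfCentral
import Cfsg.Agent.BenderSE.Reg.Kill
import Cfsg.Agent.BenderSE.Reg.Induction

set_option autoImplicit false

namespace Cfsg.Lib.BenderSE

open Subgroup MulAction

universe u

/-- step 7 -/
theorem sevenStep : SevenStep.{u} := by
  intro S _ _ _ _ K a s A P h
  obtain ⟨v, -, hf⟩ := h.exists_frame
  obtain ⟨t, ht, htc, hinv, -⟩ := h.inverted
  exact (hf.hasRegular_or_two_transitive h.twoTrans).resolve_right fun htrans =>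
    hf.false_of_two_transitive h.twoTrans h.s_ne_two ht htc hinv htrans

/-- COMM -/
theorem commStep : CommStep.{u} := commStep_of_steps commStepReg sevenStep

/-- REG -/
theorem regProp : RegProp.{u} := regProp_of_steps commStepReg sevenStep

end Cfsg.Lib.BenderSE
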