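/-
The order formula of a four group on a group of odd order:
`|X| |C_X(V)| ^ 2 = |C_X(a)| |C_X(b)| |C_X(ab)|`.
-/
import Cfsg.Agent.BenderSE.Inverted

set_option autoImplicit false
set_option linter.unusedSectionVars false

namespace Cfsg.Lib.BenderSE

open Subgroup

universe u

variable {G : Type u} [Group G] [Finite G]

section Roots

variable {X : Subgroup G} (hX : Odd (Nat.card X))
include hX

theorem sq_pow_half {y : G} (hy : y ∈ X) : (y * y) ^ ((Nat.card X + 1) / 2) = y := by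
  obtain ⟨k, hk⟩ := hX
  have h1 : y ^ Nat.card X = 1 := congrArg Subtype.val (pow_card_eq_one' (x := (⟨y, hy⟩ : X)))
  rw [← sq, ← pow_mul, show 2 * ((Nat.card X + 1) / 2) = Nat.card X + 1 by omega, pow_succ, h1, one_mul]

theorem pow_half_sq {y : G} (hy : y ∈ X) :
    y ^ ((Nat.card X + 1) / 2) * y ^ ((Nat.card X + 1) / 2) = y := by
  conv_rhs => rw [← sq_pow_half hX hy]
  rw [(Commute.refl y).mul_pow]

/-- the equation `p k p = i` has exactly one solution in `X` -/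
theorem middle_unique {k i p p' : G} (hk : k ∈ X) (hp : p ∈ X) (hp' : p' ∈ X) (h : p * k * p = i)
    (h' : p' * k * p' = i) : p = p' := by
  set s := k ^ ((Nat.card X + 1) / 2) with hs
  have hsX : s ∈ X := pow_mem hk _
  have key : ∀ r : G, r * k * r = i → (s * r * s) * (s * r * s) = s * i * s := fun r hr => by
    rw [show (s * r * s) * (s * r * s) = s * (r * (s * s) * r) * s by group, hs, pow_half_sq hX hk, hr]
  have h2 : s * p * s = s * p' * s := by
    rw [← sq_pow_half hX (mul_mem (mul_mem hsX hp) hsX), key p h, ← key p' h',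
      sq_pow_half hX (mul_mem (mul_mem hsX hp') hsX)]
  exact mul_left_cancel (mul_right_cancel h2)

/-- the solution of `p k p = i` is inverted by what inverts `k` and `i` -/
theorem exists_middle {k i a : G} (hk : k ∈ X) (hi : i ∈ X) (hka : a * k * a⁻¹ = k⁻¹)
    (hia : a * i * a⁻¹ = i⁻¹) : ∃ p ∈ X, a * p * a⁻¹ = p⁻¹ ∧ p * k * p = i := by
  set n := (Nat.card X + 1) / 2 with hn
  set s := k ^ n with hs
  have hsX : s ∈ X := pow_mem hk _
  have hsa : a * s * a⁻¹ = s⁻¹ := by rw [hs, ← conj_pow, hka, inv_pow]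
  have hT : a * (s * i * s) ^ n * a⁻¹ = ((s * i * s) ^ n)⁻¹ := by
    rw [← conj_pow, show a * (s * i * s) * a⁻¹ = (a * s * a⁻¹) * (a * i * a⁻¹) * (a * s * a⁻¹) by group,
      hsa, hia, show s⁻¹ * i⁻¹ * s⁻¹ = (s * i * s)⁻¹ by group, inv_pow]
  have hTX : s * i * s ∈ X := mul_mem (mul_mem hsX hi) hsX
  refine ⟨s⁻¹ * (s * i * s) ^ n * s⁻¹, mul_mem (mul_mem (inv_mem hsX) (pow_mem hTX _)) (inv_mem hsX), ?_, ?_⟩
  · rw [show a * (s⁻¹ * (s * i * s) ^ n * s⁻¹) * a⁻¹
      = (a * s * a⁻¹)⁻¹ * (a * (s * i * s) ^ n * a⁻¹) * (a * s * a⁻¹)⁻¹ by group, hsa, hT]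
    group
  · have e : s⁻¹ * k * s⁻¹ = 1 := by
      conv_lhs => enter [1, 2]; rw [← pow_half_sq hX hk]
      rw [← hn, ← hs]
      group
    calc s⁻¹ * (s * i * s) ^ n * s⁻¹ * k * (s⁻¹ * (s * i * s) ^ n * s⁻¹)
        = s⁻¹ * (s * i * s) ^ n * (s⁻¹ * k * s⁻¹) * (s * i * s) ^ n * s⁻¹ := by group
      _ = s⁻¹ * ((s * i * s) ^ n * (s * i * s) ^ n) * s⁻¹ := by rw [e]; group
      _ = i := by rw [pow_half_sq hX hTX]; group

end Roots

/-- the inverted elements split along a commuting involution -/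
theorem card_inverted_split {X : Subgroup G} (hX : Odd (Nat.card X)) {a b : G} (hb : b * b = 1)
    (hab : Commute a b) (hbX : b ∈ normalizer (X : Set G)) :
    Nat.card {x // x ∈ X ∧ a * x * a⁻¹ = x⁻¹ ∧ b * x * b⁻¹ = x} *
      Nat.card {x // x ∈ X ∧ a * x * a⁻¹ = x⁻¹ ∧ b * x * b⁻¹ = x⁻¹} =
      Nat.card {x // x ∈ X ∧ a * x * a⁻¹ = x⁻¹} := by
  have hbi : b⁻¹ = b := inv_eq_of_mul_eq_one_right hb
  rw [← Nat.card_prod]
  refine Nat.card_eq_of_bijective (fun q => ⟨(q.1 : G) * (q.2 : G) * (q.1 : G),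
    mul_mem (mul_mem q.1.2.1 q.2.2.1) q.1.2.1, by
      rw [show a * ((q.1 : G) * (q.2 : G) * (q.1 : G)) * a⁻¹
        = (a * (q.1 : G) * a⁻¹) * (a * (q.2 : G) * a⁻¹) * (a * (q.1 : G) * a⁻¹) by group,
        q.1.2.2.1, q.2.2.2.1]
      group⟩) ⟨?_, ?_⟩
  · rintro ⟨⟨p, hpX, hpa, hpb⟩, ⟨r, hrX, hra, hrb⟩⟩ ⟨⟨p', hpX', hpa', hpb'⟩, ⟨r', hrX', hra', hrb'⟩⟩ h
    have h' : p * r * p = p' * r' * p' := congrArg Subtype.val h
    have key : ∀ p r : G, b * p * b⁻¹ = p → b * r * b⁻¹ = r⁻¹ →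
        (p * p) * (b * (p * r * p) * b⁻¹)⁻¹ * (p * p) = p * r * p := fun p r hp hr => by
      rw [show b * (p * r * p) * b⁻¹ = (b * p * b⁻¹) * (b * r * b⁻¹) * (b * p * b⁻¹) by group, hp, hr]
      group
    have hkX : (b * (p * r * p) * b⁻¹)⁻¹ ∈ X :=
      inv_mem ((mem_normalizer_iff.1 hbX _).1 (mul_mem (mul_mem hpX hrX) hpX))
    have e2 := key p' r' hpb' hrb'
    rw [← h'] at e2
    have e1 := middle_unique hX hkX (mul_mem hpX hpX) (mul_mem hpX' hpX') (key p r hpb hrb) e2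
    have e : p = p' := by rw [← sq_pow_half hX hpX, e1, sq_pow_half hX hpX']
    subst e
    obtain rfl : r = r' := mul_left_cancel (mul_right_cancel h')
    rfl
  · rintro ⟨i, hiX, hia⟩
    have hjX : b * i * b⁻¹ ∈ X := (mem_normalizer_iff.1 hbX i).1 hiX
    have hja : a * (b * i * b⁻¹) * a⁻¹ = (b * i * b⁻¹)⁻¹ := by
      calc a * (b * i * b⁻¹) * a⁻¹ = (a * b) * i * (a * b)⁻¹ := by group
        _ = (b * a) * i * (b * a)⁻¹ := by rw [hab.eq]
        _ = b * (a * i * a⁻¹) * b⁻¹ := by group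
        _ = _ := by rw [hia]; group
    obtain ⟨P, hPX, hPa, hP⟩ := exists_middle hX (inv_mem hjX) hiX
      (by rw [← conj_inv, hja]) hia
    have hPb : b * P * b⁻¹ = P := by
      refine middle_unique hX (inv_mem hjX) ((mem_normalizer_iff.1 hbX P).1 hPX) hPX ?_ hP
      have h1 : (b * P * b⁻¹) * i⁻¹ * (b * P * b⁻¹) = b * i * b⁻¹ := by
        calc (b * P * b⁻¹) * i⁻¹ * (b * P * b⁻¹)
            = b * (P * (b * i * b⁻¹)⁻¹ * P) * b⁻¹ := by
              rw [show (b * i * b⁻¹)⁻¹ = b * i⁻¹ * b⁻¹ by group, hbi]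
              group
          _ = b * i * b⁻¹ := by rw [hP]
      rw [← h1]
      group
    set p := P ^ ((Nat.card X + 1) / 2) with hp
    have hpX : p ∈ X := pow_mem hPX _
    have hpp : p * p = P := pow_half_sq hX hPX
    have hpa : a * p * a⁻¹ = p⁻¹ := by rw [hp, ← conj_pow, hPa, inv_pow]
    have hpb : b * p * b⁻¹ = p := by rw [hp, ← conj_pow, hPb]
    refine ⟨⟨⟨p, hpX, hpa, hpb⟩, ⟨p⁻¹ * i * p⁻¹, mul_mem (mul_mem (inv_mem hpX) hiX) (inv_mem hpX), ?_, ?_⟩⟩,
      Subtype.ext (by show p * (p⁻¹ * i * p⁻¹) * p = i; group)⟩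
    · rw [show a * (p⁻¹ * i * p⁻¹) * a⁻¹ = (a * p * a⁻¹)⁻¹ * (a * i * a⁻¹) * (a * p * a⁻¹)⁻¹ by group,
        hpa, hia]
      group
    · rw [show b * (p⁻¹ * i * p⁻¹) * b⁻¹ = (b * p * b⁻¹)⁻¹ * (b * i * b⁻¹) * (b * p * b⁻¹)⁻¹ by group, hpb]
      have h1 : b * i * b⁻¹ = (p * p) * i⁻¹ * (p * p) := by
        rw [hpp]
        calc b * i * b⁻¹ = P * (P * (b * i * b⁻¹)⁻¹ * P)⁻¹ * P := by group
          _ = P * i⁻¹ * P := by rw [hP]
      rw [h1]
      group

/-- the order formula of a four group `{1, a, b, a * b}` acting on a group of odd order -/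
theorem card_four_order {X : Subgroup G} (hX : Odd (Nat.card X)) {a b : G} (ha : a * a = 1)
    (hb : b * b = 1) (hab : Commute a b) (haX : a ∈ normalizer (X : Set G))
    (hbX : b ∈ normalizer (X : Set G)) :
    Nat.card X * Nat.card ↥(X ⊓ centralizer ({a, b} : Set G)) ^ 2 =
      Nat.card ↥(X ⊓ centralizer ({a} : Set G)) * Nat.card ↥(X ⊓ centralizer ({b} : Set G)) *
        Nat.card ↥(X ⊓ centralizer ({a * b} : Set G)) := by
  have hC : ∀ c : G, Commute a c → a ∈ normalizer ((X ⊓ centralizer ({c} : Set G) : Subgroup G) : Set G) := by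
    intro c hc
    refine mem_normalizer_iff.2 fun x => ?_
    simp only [mem_inf, mem_centralizer_singleton_iff]
    refine and_congr (mem_normalizer_iff.1 haX x) ⟨fun h => ?_, fun h => ?_⟩
    · calc a * x * a⁻¹ * c = a * x * (a⁻¹ * c) := by group
        _ = a * (x * c) * a⁻¹ := by rw [hc.inv_left.eq]; group
        _ = a * c * x * a⁻¹ := by rw [h]; group
        _ = c * (a * x * a⁻¹) := by rw [hc.eq]; group
    · calc x * c = a⁻¹ * (a * x * a⁻¹ * (a * c)) := by group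
        _ = a⁻¹ * (a * x * a⁻¹ * (c * a)) := by rw [hc.eq]
        _ = a⁻¹ * (a * x * a⁻¹ * c * a) := by group
        _ = a⁻¹ * c * a * x := by rw [h]; group
        _ = c * x := by rw [hc.inv_left.eq]; group
  have h0 := card_inverted_mul hX ha haX
  have key : ∀ c : G, Commute a c →
      Nat.card {x // x ∈ X ∧ a * x * a⁻¹ = x⁻¹ ∧ Commute x c} *
          Nat.card ↥(X ⊓ centralizer ({c} : Set G) ⊓ centralizer ({a} : Set G)) =
        Nat.card ↥(X ⊓ centralizer ({c} : Set G)) := by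
    intro c hc
    rw [← card_inverted_mul (hX.of_dvd_nat (card_dvd_of_le inf_le_left)) ha (hC c hc)]
    congr 1
    exact Nat.card_congr (Equiv.subtypeEquivRight fun x => by
      rw [mem_inf, mem_centralizer_singleton_iff]
      exact ⟨fun ⟨h1, h2, h3⟩ => ⟨⟨h1, h3⟩, h2⟩, fun ⟨⟨h1, h3⟩, h2⟩ => ⟨h1, h2, h3⟩⟩)
  have hV : ∀ c : G, c = b ∨ c = a * b →
      X ⊓ centralizer ({c} : Set G) ⊓ centralizer ({a} : Set G) = X ⊓ centralizer ({a, b} : Set G) := by
    intro c hc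
    ext x
    simp only [mem_inf, mem_centralizer_singleton_iff, mem_centralizer_iff, Set.mem_insert_iff,
      Set.mem_singleton_iff, forall_eq_or_imp, forall_eq]
    constructor
    · rintro ⟨⟨h1, h2⟩, h3⟩
      refine ⟨h1, h3, ?_⟩
      rcases hc with rfl | rfl
      · exact h2
      · have e : Commute x (a⁻¹ * (a * b)) := (show Commute x a from h3.symm).inv_right.mul_right h2.symm
        rw [inv_mul_cancel_left] at e
        exact e.eq.symm
    · rintro ⟨h1, h3, h4⟩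
      refine ⟨⟨h1, ?_⟩, h3⟩
      rcases hc with rfl | rfl
      · exact h4
      · exact ((show Commute x a from h3.symm).mul_right h4.symm).eq.symm
  have hb' : ∀ x : G, Commute x b ↔ b * x * b⁻¹ = x := fun x =>
    ⟨fun h => by rw [← h.eq, mul_inv_cancel_right], fun h => (mul_inv_eq_iff_eq_mul.1 h).symm⟩
  have e1 := key b hab
  have e2 := key (a * b) ((Commute.refl a).mul_right hab)
  rw [hV b (Or.inl rfl)] at e1
  rw [hV (a * b) (Or.inr rfl)] at e2
  have hs : Nat.card {x // x ∈ X ∧ a * x * a⁻¹ = x⁻¹ ∧ Commute x b} *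
      Nat.card {x // x ∈ X ∧ a * x * a⁻¹ = x⁻¹ ∧ Commute x (a * b)} =
      Nat.card {x // x ∈ X ∧ a * x * a⁻¹ = x⁻¹} := by
    rw [← card_inverted_split hX hb hab hbX]
    congr 1
    · exact Nat.card_congr (Equiv.subtypeEquivRight fun x => by rw [hb' x])
    · refine Nat.card_congr (Equiv.subtypeEquivRight fun x => and_congr_right fun _ => and_congr_right fun hx => ?_)
      constructor
      · intro h
        have e : (a * b) * x * (a * b)⁻¹ = x := by rw [← h.eq, mul_inv_cancel_right]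
        have e' : b * x * b⁻¹ = a⁻¹ * x * a := by
          calc b * x * b⁻¹ = a⁻¹ * ((a * b) * x * (a * b)⁻¹) * a := by group
            _ = a⁻¹ * x * a := by rw [e]
        rw [e', inv_eq_of_mul_eq_one_right ha]
        rw [inv_eq_of_mul_eq_one_right ha] at hx
        exact hx
      · intro h
        refine (mul_inv_eq_iff_eq_mul.1 ?_).symm
        calc (a * b) * x * (a * b)⁻¹ = a * (b * x * b⁻¹) * a⁻¹ := by group
          _ = x := by rw [h, ← conj_inv, hx, inv_inv]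
  rw [← h0, ← hs, ← e1, ← e2]
  ring

end Cfsg.Lib.BenderSE
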