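/-
COMM, the Frobenius case: the stabiliser part `R` of the pair group acts fixed-point-freely on the
abelian part `A`, regular on the involutions at the point.
-/
import Cfsg.Agent.BenderSE.IsometryRank
import Cfsg.Agent.BenderSE.CommBasic

set_option autoImplicit false
set_option linter.unusedSectionVars false
set_option linter.style.haveILetI false

namespace Cfsg.Lib.BenderSE

open Subgroup MulAction Cfsg.Lib.InvolCalc

universe u v

/-- With `R` fixed-point-free on `A`, an involution central in the point stabiliser which fixes one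
further point fixes all points. -/
theorem smul_eq_self_of_frobenius {X : Type u} [Group X] [Finite X] {Ω : Type v} [MulAction X Ω]
    [Finite Ω] {A B R : Subgroup X} {o : Ω} (h : Isometry.Setting A B R o)
    (hf : ∀ r : R, r ≠ 1 → ∀ a : A, h.cj (h.ofR r) a = a → a = 1) {z : X} (hz2 : z * z = 1)
    (hcen : ∀ x : X, x • o = o → Commute x z) (hR : Odd (Nat.card R))
    {ω₀ : Ω} (hne : ω₀ ≠ o) (h₀ : z • ω₀ = ω₀) (hzo : z • o = o) (ω : Ω) : z • ω = ω := by
  classical
  haveI := Fintype.ofFinite X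
  haveI := Fintype.ofFinite A
  haveI := Fintype.ofFinite B
  haveI := Fintype.ofFinite R
  rcases h.frobenius_dichotomy (fun lam hl => h.free_of_fpf hf hl) with h2 | hsep
  · by_cases hω : ω = o
    · rw [hω, hzo]
    obtain ⟨x, hxo, hxω⟩ := h2 ω₀ ω hne hω
    rw [← hxω, smul_smul, ← (hcen x hxo).eq, mul_smul, h₀]
  · obtain ⟨r, hr, hrω⟩ := hsep z hzo ω
    have hc : Commute r z := hcen r (h.fixR r hr)
    have h2 : r ^ 2 • ω = ω := by
      rw [pow_two, mul_smul, hrω, smul_smul, hc.eq, mul_smul, hrω, smul_smul, hz2, one_smul]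
    obtain ⟨k, hk⟩ := hR
    have h3 : (r ^ 2) ^ (k + 1) = r := by
      have h1 : r ^ (Nat.card R) = 1 := by
        exact orderOf_dvd_iff_pow_eq_one.1 (R.orderOf_dvd_natCard hr)
      rw [hk] at h1
      rw [← pow_mul, show 2 * (k + 1) = 2 * k + 1 + 1 by ring, pow_succ, h1, one_mul]
    have h4 : ∀ n : ℕ, (r ^ 2) ^ n • ω = ω := by
      intro n
      induction n with
      | zero => simp
      | succ n ih => rw [pow_succ, mul_smul, h2, ih]
    rw [← hrω, ← h3, h4]

variable {G : Type u} [Group G] [Finite G] {H : Subgroup G}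

/-- COMM, Frobenius case: `A` abelian in `L ∩ D`, regular on the involutions at `a`, and no
non-trivial element of `L ∩ D` centralising `v` centralises an element of `A ∖ 1`. -/
theorem commute_of_frobenius (hH : Cfsg.IsStronglyEmbedded H) (hb : NoBad H)
    (h2 : HasCommutingInvolutions G) {a b : G ⧸ H} (hab : a ≠ b) {L A : Subgroup G} {v : G}
    (hL : L ≤ stabilizer G a) (hv : orderOf v = 2) (hva : v • a = a) (hvL : v ∈ L)
    (hAB : A ≤ L ⊓ (stabilizer G a ⊓ stabilizer G b))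
    (hnorm : L ⊓ (stabilizer G a ⊓ stabilizer G b) ≤ normalizer (A : Set G))
    (hA : ∀ x y : A, x * y = y * x)
    (hreg : ∀ i : G, orderOf i = 2 → i • a = a → ∃! x : A, (x : G) * v * (x : G)⁻¹ = i)
    (hfpf : ∀ r ∈ L ⊓ (stabilizer G a ⊓ stabilizer G b), Commute r v → r ≠ 1 →
      ∀ x ∈ A, Commute r x → x = 1)
    {i j : G} (hi : orderOf i = 2) (hj : orderOf j = 2) (hia : i • a = a) (hja : j • a = a) :
    Commute i j := by
  classical
  set B := L ⊓ (stabilizer G a ⊓ stabilizer G b) with hB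
  -- the action of `L` on the involutions at `a`
  letI act : MulAction L {i : G // orderOf i = 2 ∧ i • a = a} :=
    { smul := fun g i => ⟨(g : G) * i.1 * (g : G)⁻¹, by rw [orderOf_conj', i.2.1], by
        have hga : (g : G) • a = a := hL g.2
        rw [mul_smul, mul_smul, inv_smul_eq_iff.2 hga.symm, i.2.2, hga]⟩
      one_smul := fun i => Subtype.ext (show (1 : G) * i.1 * (1 : G)⁻¹ = i.1 by group)
      mul_smul := fun g g' i => Subtype.ext
        (show (g : G) * (g' : G) * i.1 * ((g : G) * (g' : G))⁻¹ =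
          (g : G) * ((g' : G) * i.1 * (g' : G)⁻¹) * (g : G)⁻¹ by group) }
  set o : {i : G // orderOf i = 2 ∧ i • a = a} := ⟨v, hv, hva⟩ with ho
  have hfix : ∀ g : L, g • o = o ↔ Commute (g : G) v := by
    intro g
    rw [Subtype.ext_iff]
    show (g : G) * v * (g : G)⁻¹ = v ↔ _
    rw [mul_inv_eq_iff_eq_mul]
    rfl
  set R := (B ⊓ centralizer ({v} : Set G)).subgroupOf L with hR
  have hmemR : ∀ g : L, g ∈ R ↔ (g : G) ∈ B ∧ Commute (g : G) v := by
    intro g
    rw [hR, mem_subgroupOf, mem_inf, mem_centralizer_singleton_iff]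
    rfl
  have hAL : A ≤ L := hAB.trans inf_le_left
  have hexu : ∀ x ∈ A, Commute x v → x = 1 := by
    intro x hx hxv
    obtain ⟨y, -, hy⟩ := hreg v hv hva
    have h1 := hy ⟨x, hx⟩ (by show x * v * x⁻¹ = v; rw [hxv.eq, mul_inv_cancel_right])
    have h3 := hy 1 (by simp)
    exact congrArg Subtype.val (h1.trans h3.symm)
  -- `x` in `B` with a further fixed point lies in a conjugate of `R`
  have hthree : ∀ x ∈ B, ∀ c : G ⧸ H, c ≠ a → c ≠ b → x • c = c → x ≠ 1 →
      ∃ d ∈ A, Commute (d⁻¹ * x * d) v := by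
    intro x hx c hca hcb hxc hx1
    obtain ⟨p, hp, hpx⟩ := Nat.exists_prime_and_dvd (fun h => hx1 (orderOf_eq_one_iff.1 h))
    haveI := Fact.mk hp
    set y := x ^ (orderOf x / p) with hy
    have hyo : orderOf y = p := orderOf_pow_orderOf_div (orderOf_pos x).ne' hpx
    have hyp : IsPGroup p (zpowers y) :=
      IsPGroup.of_card (n := 1) (by rw [Nat.card_zpowers, hyo, pow_one])
    have hxab := mem_inf.1 (mem_inf.1 hx).2
    have hfx : ∀ q : G ⧸ H, x • q = q → q ∈ fixOf (α := G ⧸ H) (zpowers y) := fun q hq g hg =>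
      mem_stabilizer_iff.1 ((zpowers_le.2 (pow_mem (mem_stabilizer_iff.2 hq) _) :
        zpowers y ≤ stabilizer G q) hg)
    obtain ⟨w, hw, hwa, hwy⟩ := exists_centralizing_at hH hb hyp (hfx a hxab.1)
      ⟨a, hfx a hxab.1, b, hfx b hxab.2, c, hfx c hxc, hab, hca.symm, hcb.symm⟩
    obtain ⟨d, hd, hdu⟩ := hreg w hw hwa
    refine ⟨d, d.2, ?_⟩
    -- `x` commutes with `y`, so it fixes `w` as `w` is the only involution at `a` fixed by `y`
    have hyd : Commute ((d : G)⁻¹ * y * d) v := by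
      have h1 : y * ((d : G) * v * (d : G)⁻¹) = ((d : G) * v * (d : G)⁻¹) * y := by
        rw [hd]; exact (hwy y (mem_zpowers y)).eq
      calc (d : G)⁻¹ * y * d * v = (d : G)⁻¹ * (y * ((d : G) * v * (d : G)⁻¹)) * d := by group
        _ = (d : G)⁻¹ * (((d : G) * v * (d : G)⁻¹) * y) * d := by rw [h1]
        _ = v * ((d : G)⁻¹ * y * d) := by group
    have hxB : (d : G)⁻¹ * x * d ∈ B := mul_mem (mul_mem (inv_mem (hAB d.2)) hx) (hAB d.2)
    have hyB : (d : G)⁻¹ * y * d ∈ B :=
      mul_mem (mul_mem (inv_mem (hAB d.2)) (pow_mem hx _)) (hAB d.2)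
    have hxy : Commute ((d : G)⁻¹ * x * d) ((d : G)⁻¹ * y * d) := by
      have h1 : x * y = y * x := (Commute.self_pow x _).eq
      calc (d : G)⁻¹ * x * d * ((d : G)⁻¹ * y * d) = (d : G)⁻¹ * (x * y) * d := by group
        _ = (d : G)⁻¹ * (y * x) * d := by rw [h1]
        _ = _ := by group
    set x' := (d : G)⁻¹ * x * d
    set y' := (d : G)⁻¹ * y * d
    have hy'1 : y' ≠ 1 := fun h => by
      have : y = 1 := by
        calc y = (d : G) * y' * (d : G)⁻¹ := by simp only [y']; group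
          _ = 1 := by rw [h]; group
      rw [this, orderOf_one] at hyo
      exact hp.ne_one hyo.symm
    have hxa' : x' • a = a := mem_stabilizer_iff.1 (mem_inf.1 (mem_inf.1 hxB).2).1
    obtain ⟨e, he, -⟩ := hreg (x' * v * x'⁻¹) (by rw [orderOf_conj', hv])
      (by rw [mul_smul, mul_smul, inv_smul_eq_iff.2 hxa'.symm, hva, hxa'])
    -- `e⁻¹ y' e` and `y'` centralise `v`, and differ by an element of `A`
    have hye : Commute ((e : G)⁻¹ * y' * e) v := by
      have h1 : y' * (x' * v * x'⁻¹) = (x' * v * x'⁻¹) * y' := by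
        calc y' * (x' * v * x'⁻¹) = (y' * x') * v * x'⁻¹ := by group
          _ = x' * (y' * v) * x'⁻¹ := by rw [← hxy.eq]; group
          _ = x' * v * (y' * x'⁻¹) := by rw [hyd.eq]; group
          _ = _ := by rw [(hxy.inv_left).eq.symm]; group
      rw [← he] at h1
      calc (e : G)⁻¹ * y' * e * v = (e : G)⁻¹ * (y' * ((e : G) * v * (e : G)⁻¹)) * e := by group
        _ = (e : G)⁻¹ * (((e : G) * v * (e : G)⁻¹) * y') * e := by rw [h1]
        _ = v * ((e : G)⁻¹ * y' * e) := by group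
    have hmem : (e : G)⁻¹ * y' * e * y'⁻¹ ∈ A := by
      rw [show (e : G)⁻¹ * y' * e * y'⁻¹ = (e : G)⁻¹ * (y' * e * y'⁻¹) by group]
      exact mul_mem (inv_mem e.2) ((mem_normalizer_iff.1 (hnorm hyB) _).1 e.2)
    have h1 := hexu _ hmem (hye.mul_left hyd.inv_left)
    have hey : Commute y' (e : G) := by
      have h3 : (e : G)⁻¹ * y' * e = y' := mul_inv_eq_one.1 h1
      calc y' * (e : G) = (e : G) * ((e : G)⁻¹ * y' * e) := by group
        _ = (e : G) * y' := by rw [h3]
    have he1 := hfpf y' hyB hyd hy'1 e e.2 hey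
    rw [he1, inv_one, mul_one, one_mul] at he
    exact mul_inv_eq_iff_eq_mul.1 he.symm
  have hset : Isometry.Setting (A.subgroupOf L) (B.subgroupOf L) R o :=
    { aB := fun x hx => mem_subgroupOf.2 (hAB (mem_subgroupOf.1 hx))
      rB := fun x hx => mem_subgroupOf.2 ((hmemR x).1 hx).1
      norm := fun x hx y hy => mem_subgroupOf.2
        ((mem_normalizer_iff.1 (hnorm (mem_subgroupOf.1 hx)) _).1 (mem_subgroupOf.1 hy))
      comm := fun x y => Subtype.ext (Subtype.ext (congrArg Subtype.val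
        (hA ⟨(x : L), mem_subgroupOf.1 x.2⟩ ⟨(y : L), mem_subgroupOf.1 y.2⟩) :))
      sup := by
        intro g hg
        have hga : (g : G) • a = a := hL g.2
        obtain ⟨d, hd, -⟩ := hreg ((g : G) * v * (g : G)⁻¹) (by rw [orderOf_conj', hv])
          (by rw [mul_smul, mul_smul, inv_smul_eq_iff.2 hga.symm, hva, hga])
        refine ⟨⟨d, hAL d.2⟩, mem_subgroupOf.2 d.2, ⟨d, hAL d.2⟩⁻¹ * g, (hmemR _).2 ⟨?_, ?_⟩,
          by group⟩
        · rw [Subgroup.coe_mul, Subgroup.coe_inv]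
          exact mul_mem (inv_mem (hAB d.2)) (mem_subgroupOf.1 hg)
        · rw [Subgroup.coe_mul, Subgroup.coe_inv]
          show (d : G)⁻¹ * g * v = v * ((d : G)⁻¹ * g)
          calc (d : G)⁻¹ * g * v = (d : G)⁻¹ * ((g : G) * v * (g : G)⁻¹) * g := by group
            _ = _ := by rw [← hd]; group
      disj := by
        rw [eq_bot_iff]
        intro x hx
        exact mem_bot.2 (Subtype.ext (hexu _ (mem_subgroupOf.1 (mem_inf.1 hx).1)
          ((hmemR x).1 (mem_inf.1 hx).2).2))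
      reg := by
        intro w
        obtain ⟨d, hd, hu⟩ := hreg w.1 w.2.1 w.2.2
        refine ⟨⟨⟨d, hAL d.2⟩, mem_subgroupOf.2 d.2⟩, Subtype.ext hd, ?_⟩
        intro y hy
        have h1 := hu ⟨(y : L), mem_subgroupOf.1 y.2⟩ (congrArg Subtype.val hy)
        exact Subtype.ext (Subtype.ext (congrArg Subtype.val h1 :))
      fixR := fun r hr => (hfix r).2 ((hmemR r).1 hr).2
      ti := by
        rintro g x ⟨hxB, hxR⟩ ⟨hgB, -⟩
        have hxB' : (x : G) ∈ B := mem_subgroupOf.1 hxB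
        have hga : (g : G) • a = a := hL g.2
        have hx1 : (x : G) ≠ 1 := fun e => hxR 1 (one_mem _) ((hmemR _).2
          ⟨by simp [e], by simp [e]⟩)
        have hgx : (g : G) * x * (g : G)⁻¹ ∈ B := by
          have := mem_subgroupOf.1 hgB
          rwa [Subgroup.coe_mul, Subgroup.coe_mul, Subgroup.coe_inv] at this
        have hxfix : (x : G) • ((g : G)⁻¹ • b) = (g : G)⁻¹ • b := by
          have h1 := mem_stabilizer_iff.1 (mem_inf.1 (mem_inf.1 hgx).2).2
          rw [mul_smul, mul_smul] at h1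
          rw [eq_inv_smul_iff]
          exact h1
        by_cases hc : (g : G)⁻¹ • b = b
        · exact mem_subgroupOf.2 (mem_inf.2 ⟨g.2, mem_inf.2 ⟨mem_stabilizer_iff.2 hga,
            mem_stabilizer_iff.2 (inv_smul_eq_iff.1 hc).symm⟩⟩)
        · obtain ⟨d, hd, hdx⟩ := hthree x hxB' _
            (fun e => hab ((inv_smul_eq_iff.1 e).trans hga).symm) hc hxfix hx1
          have hdL : (⟨d, hAL hd⟩ : L) ∈ B.subgroupOf L := mem_subgroupOf.2 (hAB hd)
          refine absurd ((hmemR _).2 ?_) (hxR (⟨d, hAL hd⟩⁻¹) (inv_mem hdL))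
          simp only [Subgroup.coe_mul, Subgroup.coe_inv, inv_inv]
          exact ⟨mul_mem (mul_mem (inv_mem (hAB hd)) hxB') (hAB hd), hdx⟩ }
  have hf : ∀ r : R, r ≠ 1 → ∀ x : A.subgroupOf L, hset.cj (hset.ofR r) x = x → x = 1 := by
    intro r hr x hx
    have h1 : ((r : L) : G) * ((x : L) : G) * ((r : L) : G)⁻¹ = ((x : L) : G) :=
      congrArg (fun z : A.subgroupOf L => ((z : L) : G)) hx
    exact Subtype.ext (Subtype.ext (hfpf _ ((hmemR _).1 r.2).1 ((hmemR _).1 r.2).2
      (fun e => hr (Subtype.ext (Subtype.ext e))) _ (mem_subgroupOf.1 x.2)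
      (mul_inv_eq_iff_eq_mul.1 h1)))
  have hodd : Odd (Nat.card R) := by
    refine (odd_stabilizer_inf hH hab).of_dvd_nat ?_
    rw [hR, Nat.card_congr (subgroupOfEquivOfLe (inf_le_left.trans inf_le_left)).toEquiv]
    exact card_dvd_of_le (inf_le_left.trans inf_le_right)
  -- a further involution at `a` commuting with `v`
  obtain ⟨w, hwne, hw, hwa, hwv⟩ : ∃ w : G, w ≠ v ∧ orderOf w = 2 ∧ w • a = a ∧ Commute v w := by
    obtain ⟨p, q, hp, hq, hpq, hc, hpa, hqa⟩ := exists_commuting_fixing hH h2 a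
    obtain ⟨d, hd, -⟩ := hreg p hp hpa
    have hda : (d : G) • a = a := hL (hAL d.2)
    refine ⟨(d : G)⁻¹ * q * d, ?_, ?_, ?_, ?_⟩
    · intro e
      apply hpq
      calc p = (d : G) * v * (d : G)⁻¹ := hd.symm
        _ = q := by rw [← e]; group
    · rw [show (d : G)⁻¹ * q * d = (d : G)⁻¹ * q * (d : G)⁻¹⁻¹ by rw [inv_inv], orderOf_conj', hq]
    · rw [mul_smul, mul_smul, hda, hqa, inv_smul_eq_iff, hda]
    · calc v * ((d : G)⁻¹ * q * d) = (d : G)⁻¹ * (((d : G) * v * (d : G)⁻¹) * q) * d := by group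
        _ = (d : G)⁻¹ * (q * ((d : G) * v * (d : G)⁻¹)) * d := by rw [hd, hc]
        _ = (d : G)⁻¹ * q * d * v := by group
  have hz2 : (⟨v, hvL⟩ : L) * ⟨v, hvL⟩ = 1 := Subtype.ext (sq_of_order_two hv)
  have hcen : ∀ x : L, x • o = o → Commute x (⟨v, hvL⟩ : L) := fun x hx =>
    Subtype.ext ((hfix x).1 hx).eq
  have h₀ : (⟨v, hvL⟩ : L) • (⟨w, hw, hwa⟩ : {i : G // orderOf i = 2 ∧ i • a = a}) = ⟨w, hw, hwa⟩ :=
    Subtype.ext (show v * w * v⁻¹ = w by rw [hwv.eq, mul_inv_cancel_right])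
  have hall : ∀ i : G, orderOf i = 2 → i • a = a → Commute v i := by
    intro i hi hia
    have h1 := smul_eq_self_of_frobenius hset hf hz2 hcen hodd (ω₀ := ⟨w, hw, hwa⟩)
      (fun e => hwne (congrArg Subtype.val e)) h₀ ((hfix _).2 (Commute.refl v)) ⟨i, hi, hia⟩
    have h3 : v * i * v⁻¹ = i := congrArg Subtype.val h1
    exact mul_inv_eq_iff_eq_mul.1 h3
  obtain ⟨d, hd, -⟩ := hreg i hi hia
  have hda : (d : G) • a = a := hL (hAL d.2)
  have h1 := (hall ((d : G)⁻¹ * j * d)
    (by rw [show (d : G)⁻¹ * j * d = (d : G)⁻¹ * j * (d : G)⁻¹⁻¹ by rw [inv_inv], orderOf_conj', hj])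
    (by rw [mul_smul, mul_smul, hda, hja, inv_smul_eq_iff, hda])).eq
  calc i * j = (d : G) * (v * ((d : G)⁻¹ * j * d)) * (d : G)⁻¹ := by rw [← hd]; group
    _ = (d : G) * (((d : G)⁻¹ * j * d) * v) * (d : G)⁻¹ := by rw [h1]
    _ = j * i := by rw [← hd]; group

end Cfsg.Lib.BenderSE
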