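import Cfsg.Agent.BenderSE.IsometrySetup
import Cfsg.Agent.Chars.TI
import Cfsg.Agent.Chars.NormTwo

/-!
# The isometry from `B` and the constituents of the permutation character

Induction from `B` is an isometry on class functions vanishing on `R`, and these are orthogonal to the permutation
character.  So each orbit of `R` on the dual of `A` lies in one constituent (`blk`), and two orbits of one type
(`SameType`) are joined only if all of that type are.
-/

set_option autoImplicit false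
set_option linter.unusedSectionVars false
set_option linter.style.haveILetI false

namespace Cfsg.Lib.BenderSE.Isometry

open scoped ComplexConjugate
open Cfsg.Lib.Chars

universe u v

variable {X : Type u} [Group X] {Ω : Type v} [MulAction X Ω] {A B R : Subgroup X} {o : Ω}

namespace Setting

variable (h : Setting A B R o) [Fintype X] [Fintype B] [Fintype A] [Fintype R]

include h

/-- A class function of `B` vanishing on `R`. -/
def VanR (f : B → ℂ) : Prop := Cfsg.IsClassFunction B f ∧ ∀ r : R, f (h.ofR r) = 0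

theorem vanR_sub {f g : B → ℂ} (hf : Cfsg.IsClassFunction B f) (hg : Cfsg.IsClassFunction B g)
    (e : ∀ r : R, f (h.ofR r) = g (h.ofR r)) : h.VanR (f - g) :=
  ⟨fun b c => by simp [hf b c, hg b c], fun r => by simp [e r]⟩

theorem eq_zero_of_not_offR {f : B → ℂ} (hf : h.VanR f) {x : B} (hx : (x : X) ∉ offR B R) : f x = 0 := by
  simp only [offR, Set.mem_setOf_eq, x.2, true_and, not_forall, not_not] at hx
  obtain ⟨b, hb, hbx⟩ := hx
  rw [← hf.1 x ⟨b, hb⟩]
  exact hf.2 ⟨_, hbx⟩

/-- Induction is an isometry. -/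
theorem inner_ind {f g : B → ℂ} (hf : h.VanR f) (hg : h.VanR g) :
    Cfsg.classInner (Cfsg.indFun B f) (Cfsg.indFun B g) = Cfsg.classInner f g := by
  rw [frobenius_reciprocity _ _ (isClassFunction_indFun _ g), classInner_def, classInner_def]
  refine congrArg _ (Finset.sum_congr rfl fun x _ => ?_)
  by_cases hx : (x : X) ∈ offR B R
  · have hx1 : x ≠ 1 := by
      rintro rfl
      exact hx.2 1 B.one_mem (by simpa using R.one_mem)
    rw [indFun_TI_apply' B (offR B R) (fun k hk t ht ht' => absurd (h.ti k t ht ht') hk) hg.1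
      (fun y hy => h.eq_zero_of_not_offR hg hy) x hx hx1]
  · rw [h.eq_zero_of_not_offR hf hx, zero_mul, zero_mul]

theorem ind_apply_one {f : B → ℂ} (hf : h.VanR f) : Cfsg.indFun B f 1 = 0 := by
  have h1 := hf.2 1
  rw [show h.ofR 1 = 1 from Subtype.ext rfl] at h1
  simp [indFun_one, h1]

/-- The permutation character on `B`. -/
noncomputable def permB (_ : Setting A B R o) (b : B) : ℂ := permChar X Ω (b : X)

theorem isCharacter_permB [Finite Ω] : Cfsg.IsCharacter B h.permB :=
  IsCharacter.restrict (isCharacter_permChar Ω) B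

open scoped Classical in
theorem card_fixed_ofA [Finite Ω] (a : A) :
    permChar X Ω (a : X) = if a = 1 then (Nat.card A : ℂ) else 0 := by
  classical
  unfold permChar
  split_ifs with ha
  · subst ha
    rw [OneMemClass.coe_one]
    congr 1
    refine (Nat.card_congr (Equiv.ofBijective (fun a : A => (⟨(a : X) • o, by simp⟩ : MulAction.fixedBy Ω (1 : X))) ⟨?_, ?_⟩)).symm
    · intro a b e
      exact (h.reg ((a : X) • o)).unique rfl (congrArg Subtype.val e).symm
    · rintro ⟨w, hw⟩
      obtain ⟨a, ha⟩ := (h.reg w).exists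
      exact ⟨a, Subtype.ext ha⟩
  · rw [Nat.cast_eq_zero, Nat.card_eq_zero]
    refine Or.inl ⟨?_⟩
    rintro ⟨w, hw⟩
    obtain ⟨c, rfl⟩ := (h.reg w).exists
    have e : ((a * c : A) : X) • o = (c : X) • o := by rw [Subgroup.coe_mul, mul_smul]; exact hw
    exact ha (mul_eq_right.1 ((h.reg _).unique e rfl))

theorem smul_eq_self_iff (b : B) : (b : X) • o = o ↔ (b : X) ∈ R := by
  constructor
  · intro e
    rw [← h.decomp b] at e ⊢
    have h1 : (h.al b : X) • o = o := by
      conv_rhs => rw [← e]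
      show _ = ((h.al b : X) * (h.pr b : X)) • o
      rw [mul_smul, h.fixR _ (h.pr b).2]
    have h2 : h.al b = 1 := (h.reg o).unique h1 (by simp)
    simp [ofA, ofR, h2]
  · exact h.fixR _

/-- The inner product with the permutation character is an average over `R`. -/
theorem inner_permB [Finite Ω] {f : B → ℂ} (hf : Cfsg.IsClassFunction B f) :
    Cfsg.classInner h.permB f = (Nat.card R : ℂ)⁻¹ * ∑ r : R, conj (f (h.ofR r)) := by
  classical
  have := Fintype.ofFinite Ω
  have hA : (Nat.card A : ℂ) ≠ 0 := by exact_mod_cast Nat.card_pos.ne'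
  have e1 : ∀ b : B, h.permB b = ∑ a : A, if (b : X) • ((a : X) • o) = (a : X) • o then (1 : ℂ) else 0 := by
    intro b
    rw [Finset.sum_boole]
    unfold permB permChar
    congr 1
    rw [← Fintype.card_subtype, ← Nat.card_eq_fintype_card]
    refine (Nat.card_congr (Equiv.ofBijective
      (fun a : {a : A // (b : X) • ((a : X) • o) = (a : X) • o} =>
        (⟨((a : A) : X) • o, a.2⟩ : MulAction.fixedBy Ω (b : X))) ⟨?_, ?_⟩)).symm
    · intro a c e
      exact Subtype.ext ((h.reg _).unique rfl (congrArg Subtype.val e).symm)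
    · rintro ⟨w, hw⟩
      obtain ⟨a, rfl⟩ := (h.reg w).exists
      exact ⟨⟨a, hw⟩, rfl⟩
  have e2 : ∀ a : A, ∑ b : B, (if (b : X) • ((a : X) • o) = (a : X) • o then (1 : ℂ) else 0) * conj (f b) =
      ∑ r : R, conj (f (h.ofR r)) := by
    intro a
    rw [← (MulAut.conj (h.ofA a)).toEquiv.sum_comp]
    have e3 : ∀ b : B, (((MulAut.conj (h.ofA a)).toEquiv b : B) : X) • ((a : X) • o) = (a : X) • o ↔ (b : X) ∈ R := by
      intro b
      rw [← h.smul_eq_self_iff]
      show ((a : X) * b * (a : X)⁻¹) • ((a : X) • o) = _ ↔ _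
      rw [← mul_smul, inv_mul_cancel_right, mul_smul, smul_left_cancel_iff]
    simp only [e3, ite_mul, one_mul, zero_mul]
    rw [← Finset.sum_filter]
    refine (Finset.sum_nbij' (fun r : R => h.ofR r) (fun b : B => h.pr b) ?_ ?_ ?_ ?_ ?_).symm
    · intro r _; simp [ofR]
    · intro b _; simp
    · intro r _; exact (h.pr_ofR r).1
    · intro b hb
      have hb' : (b : X) ∈ R := by simpa using hb
      show h.ofR (h.pr b) = b
      rw [show h.pr b = ⟨b, hb'⟩ from (h.al_pr_of_eq (a := 1) (r := ⟨b, hb'⟩) (Subtype.ext (by simp [ofA, ofR]))).2]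
      rfl
    · intro r _
      exact congrArg conj (hf (h.ofR r) (h.ofA a)).symm
  rw [classInner_def]
  simp only [e1, Finset.sum_mul]
  rw [Finset.sum_comm, Finset.sum_congr rfl fun a _ => e2 a, Finset.sum_const, Finset.card_univ,
    nsmul_eq_mul, ← Nat.card_eq_fintype_card,
    show (Nat.card B : ℂ) = Nat.card A * Nat.card R by rw [← Nat.cast_mul, ← Nat.card_prod, Nat.card_congr h.pair]]
  field_simp

/-- Functions vanishing on `R` induce to functions orthogonal to the permutation character. -/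
theorem inner_perm_ind [Finite Ω] {f : B → ℂ} (hf : h.VanR f) :
    Cfsg.classInner (permChar X Ω) (Cfsg.indFun B f) = 0 := by
  rw [frobenius_reciprocity' _ _ (isClassFunction_isChar (isCharacter_permChar Ω))]
  exact (h.inner_permB hf.1).trans (by simp [hf.2])

theorem psi_ofR (lam : A →* ℂˣ) (r : R) :
    h.psi lam (h.ofR r) = (Nat.card (h.stab lam) : ℂ)⁻¹ *
      (Nat.card {r₀ : R // h.rot r (h.rot r₀ lam) = h.rot r₀ lam} : ℂ) := by
  classical
  rw [show h.ofR r = h.ofA 1 * h.ofR r from Subtype.ext (by simp [ofA, ofR]), h.psi_apply]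
  simp [Finset.sum_boole, Fintype.card_subtype]

theorem inner_permB_psi [Finite Ω] (lam : A →* ℂˣ) : Cfsg.classInner h.permB (h.psi lam) = 1 := by
  classical
  have hR : (Nat.card R : ℂ) ≠ 0 := by exact_mod_cast Nat.card_pos.ne'
  have hs : (Nat.card (h.stab lam) : ℂ) ≠ 0 := by exact_mod_cast Nat.card_pos.ne'
  rw [h.inner_permB (h.isClassFunction_psi lam)]
  simp only [h.psi_ofR, map_mul, map_inv₀, Complex.conj_natCast]
  rw [← Finset.mul_sum, ← Nat.cast_sum]
  have e : ∑ r : R, Nat.card {r₀ : R // h.rot r (h.rot r₀ lam) = h.rot r₀ lam} =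
      Nat.card R * Nat.card (h.stab lam) := by
    conv_lhs => simp only [Nat.card_eq_fintype_card, Fintype.card_subtype, Finset.card_filter]
    rw [Finset.sum_comm]
    refine (Finset.sum_congr rfl (g := fun _ => Fintype.card (h.stab lam)) fun r₀ _ => ?_).trans
      (by rw [Finset.sum_const, Finset.card_univ, smul_eq_mul, ← Nat.card_eq_fintype_card, ← Nat.card_eq_fintype_card])
    rw [← Finset.card_filter, ← Fintype.card_subtype, ← Nat.card_eq_fintype_card, ← Nat.card_eq_fintype_card]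
    exact Nat.card_congr ((MulAut.conj r₀⁻¹).toEquiv.subtypeEquiv fun r => by
      simpa [h.mem_stab, mul_assoc] using h.rot_fix_conj r r₀ lam)
  rw [e, Nat.cast_mul]
  field_simp

/-- The multiplicity of a linear character of `A` in the restriction. -/
noncomputable def mA (_ : Setting A B R o) (f : B → ℂ) (hle : A ≤ B) (mu : A →* ℂˣ) : ℂ :=
  Cfsg.classInner (fun a : A => f ⟨a, hle a.2⟩) (fun a : A => (mu a : ℂ))

theorem exists_mA {f : B → ℂ} (hf : Cfsg.IsCharacter B f) (mu : A →* ℂˣ) : ∃ m : ℕ, h.mA f h.aB mu = m := by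
  obtain ⟨n, rfl⟩ := IsCharacter.exists_decomp hf
  have e : ∀ η : Cfsg.IrrCharacter B, ∃ k : ℕ, h.mA (η : B → ℂ) h.aB mu = k := fun η =>
    IsCharacter.exists_mult (IsCharacter.comp_hom (isCharacter_of_irr η.2) (Subgroup.inclusion h.aB))
      (isIrrCharacter_linear mu)
  choose k hk using e
  refine ⟨∑ η, n η * k η, ?_⟩
  push_cast
  simp only [← hk, mA]
  rw [show (fun a : A => (∑ η : Cfsg.IrrCharacter B, n η • (η : B → ℂ)) ⟨a, h.aB a.2⟩) =
    ∑ η : Cfsg.IrrCharacter B, n η • fun a : A => (η : B → ℂ) ⟨a, h.aB a.2⟩ by funext a; simp [Finset.sum_apply],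
    classInner_sum_left]
  exact Finset.sum_congr rfl fun η _ => classInner_nsmul_left _ _ _

open scoped Classical in
/-- Induction from `A`, on `B`. -/
noncomputable def gA (mu : A →* ℂˣ) (b : B) : ℂ :=
  if h.pr b = 1 then ∑ r₀ : R, ((h.rot r₀ mu) (h.al b) : ℂ) else 0

open scoped Classical in
theorem gA_ofR (mu : A →* ℂˣ) (r : R) :
    h.gA mu (h.ofR r) = if r = 1 then (Nat.card R : ℂ) else 0 := by
  classical
  simp [gA, h.pr_ofR, Nat.card_eq_fintype_card]

theorem isClassFunction_gA (mu : A →* ℂˣ) : Cfsg.IsClassFunction B (h.gA mu) := by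
  intro b c
  have hp : h.pr (c * b * c⁻¹) = h.pr c * h.pr b * (h.pr c)⁻¹ := by
    rw [(h.al_pr_mul _ _).2, (h.al_pr_mul _ _).2]
    congr 1
    have e := (h.al_pr_mul c⁻¹ c).2
    rw [inv_mul_cancel, h.pr_one.1] at e
    exact eq_inv_of_mul_eq_one_left e.symm
  unfold gA
  by_cases h1 : h.pr b = 1
  · rw [if_pos h1, if_pos (by rw [hp, h1]; simp)]
    have hb : b = h.ofA (h.al b) := by
      conv_lhs => rw [← h.decomp b, h1]
      exact Subtype.ext (by simp [ofA, ofR])
    have hal : h.al (c * b * c⁻¹) = h.cj (h.ofR (h.pr c)) (h.al b) := by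
      refine ((h.al_pr_of_eq (a := h.cj c (h.al b)) (r := 1) ?_).1).trans ?_
      · conv_rhs => rw [hb]
        exact Subtype.ext (by simp [ofA, ofR, cj_val])
      · conv_lhs => rw [← h.decomp c]
        rw [h.cj_mul, h.cj_ofA]
    rw [hal]
    refine Fintype.sum_equiv (Equiv.mulLeft (h.pr c)⁻¹) _ _ fun r₀ => ?_
    show ((h.rot r₀ mu) _ : ℂ) = ((h.rot ((h.pr c)⁻¹ * r₀) mu) _ : ℂ)
    rw [h.rot_mul, h.rot_apply (h.pr c)⁻¹, inv_inv]
  · rw [if_neg h1, if_neg]
    rw [hp]
    exact fun e => h1 (by simpa using mul_inv_eq_one.1 e)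

theorem inner_gA {f : B → ℂ} (hf : Cfsg.IsClassFunction B f) (mu : A →* ℂˣ) :
    Cfsg.classInner f (h.gA mu) = h.mA f h.aB mu := by
  classical
  rw [classInner_def, h.sum_pair, mA, classInner_def,
    show (Nat.card B : ℂ) = Nat.card A * Nat.card R by rw [← Nat.cast_mul, ← Nat.card_prod, Nat.card_congr h.pair]]
  rw [Finset.sum_eq_single (1 : R)]
  rotate_left
  · intro r _ hr
    refine Finset.sum_eq_zero fun a _ => ?_
    simp [gA, (h.al_pr_of_eq (b := h.ofA a * h.ofR r) rfl).2, hr]
  · intro hn; exact absurd (Finset.mem_univ _) hn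
  have hR : (Nat.card R : ℂ) ≠ 0 := by exact_mod_cast Nat.card_pos.ne'
  have e : ∀ r₀ : R, ∑ a : A, f (h.ofA a * h.ofR 1) * conj ((h.rot r₀ mu) a : ℂ) =
      ∑ a : A, f ⟨a, h.aB a.2⟩ * conj (mu a : ℂ) := by
    intro r₀
    refine Fintype.sum_bijective (h.cj (h.ofR r₀⁻¹)) ?_ _ _ fun a => ?_
    · exact Function.bijective_iff_has_inverse.2 ⟨h.cj (h.ofR r₀),
        fun a => Subtype.ext (by simp [cj_val, ofR, mul_assoc]),
        fun a => Subtype.ext (by simp [cj_val, ofR, mul_assoc])⟩
    · rw [h.rot_apply]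
      congr 1
      rw [← hf (h.ofA a * h.ofR 1) (h.ofR r₀⁻¹)]
      exact congrArg f (Subtype.ext (by simp [ofA, ofR, cj_val]))
  rw [Finset.sum_congr rfl fun a _ => show f (h.ofA a * h.ofR 1) * conj (h.gA mu (h.ofA a * h.ofR 1)) =
    ∑ r₀ : R, f (h.ofA a * h.ofR 1) * conj ((h.rot r₀ mu) a : ℂ) by
      obtain ⟨e1, e2⟩ := h.al_pr_of_eq (b := h.ofA a * h.ofR 1) rfl
      rw [gA, e1, e2, if_pos rfl, map_sum, Finset.mul_sum]]
  rw [Finset.sum_comm, Finset.sum_congr rfl fun r₀ _ => e r₀, Finset.sum_const, Finset.card_univ,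
    nsmul_eq_mul, ← Nat.card_eq_fintype_card]
  field_simp

open scoped Classical in
theorem mA_psi (lam mu : A →* ℂˣ) : h.mA (h.psi lam) h.aB mu = if h.Rel lam mu then 1 else 0 := by
  have hA : (Nat.card A : ℂ) ≠ 0 := by exact_mod_cast Nat.card_pos.ne'
  have hs : (Nat.card (h.stab lam) : ℂ) ≠ 0 := by exact_mod_cast Nat.card_pos.ne'
  have e : ∀ a : A, h.psi lam ⟨a, h.aB a.2⟩ =
      (Nat.card (h.stab lam) : ℂ)⁻¹ * ∑ r₀ : R, ((h.rot r₀ lam) a : ℂ) := by
    intro a
    rw [show (⟨a, h.aB a.2⟩ : B) = h.ofA a * h.ofR 1 from Subtype.ext (by simp [ofA, ofR]), h.psi_apply]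
    simp [h.rot_one]
  rw [mA, classInner_def]
  simp only [e, mul_assoc, Finset.sum_mul]
  rw [← Finset.mul_sum, Finset.sum_comm]
  simp only [sum_hom_mul_conj]
  rw [← Finset.sum_filter, Finset.sum_const, nsmul_eq_mul]
  split_ifs with hrel
  · obtain ⟨k, rfl⟩ := hrel
    have c : (Finset.univ.filter fun r₀ : R => h.rot r₀ lam = h.rot k lam).card = Nat.card (h.stab lam) := by
      rw [← Fintype.card_subtype, ← Nat.card_eq_fintype_card]
      refine Nat.card_congr ((Equiv.mulLeft k⁻¹).subtypeEquiv fun r₀ => ?_)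
      show h.rot r₀ lam = h.rot k lam ↔ k⁻¹ * r₀ ∈ h.stab lam
      rw [h.mem_stab, h.rot_mul, h.rot_eq_iff k⁻¹, inv_inv]
    rw [c]
    field_simp
  · have c : (Finset.univ.filter fun r₀ : R => h.rot r₀ lam = mu) = ∅ :=
      Finset.filter_eq_empty_iff.2 fun r₀ _ e => hrel ⟨r₀, e⟩
    simp [c]

end Setting

end Cfsg.Lib.BenderSE.Isometry
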