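import Cfsg.Agent.BenderSE.Isometry

/-!
# The constituents of the permutation character as blocks of orbits

`blk λ` is the constituent over the orbit of `λ`.  Two orbits of one type are joined only if all of that type are
(`same_of_joined`), and a pair of separate free orbits isolates every free orbit (`rel_of_free_separate`).
-/

set_option autoImplicit false
set_option linter.unusedSectionVars false
set_option linter.style.haveILetI false

namespace Cfsg.Lib.BenderSE.Isometry

open scoped ComplexConjugate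
open Cfsg.Lib.Chars

universe u v

variable {X : Type u} [Group X] {Ω : Type v} [MulAction X Ω] {A B R : Subgroup X} {o : Ω}

namespace Setting

variable (h : Setting A B R o) [Fintype X] [Fintype B] [Fintype A] [Fintype R] [Finite Ω]

include h

/-- The restriction to `B`. -/
def res (_ : Setting A B R o) (f : X → ℂ) (b : B) : ℂ := f (b : X)

/-- The multiplicity in the permutation character. -/
noncomputable def mult (_ : Setting A B R o) (χ : Cfsg.IrrCharacter X) : ℂ :=
  Cfsg.classInner (permChar X Ω) (χ : X → ℂ)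

theorem exists_mult_nat (χ : Cfsg.IrrCharacter X) : ∃ m : ℕ, h.mult χ = m :=
  IsCharacter.exists_mult (isCharacter_permChar Ω) χ.2

theorem isCharacter_res (χ : Cfsg.IrrCharacter X) : Cfsg.IsCharacter B (h.res (χ : X → ℂ)) :=
  IsCharacter.restrict (isCharacter_of_irr χ.2) B

theorem exists_inner_psi (χ : Cfsg.IrrCharacter X) (lam : A →* ℂˣ) :
    ∃ k : ℕ, Cfsg.classInner (h.res (χ : X → ℂ)) (h.psi lam) = k :=
  IsCharacter.exists_mult (h.isCharacter_res χ) (h.isIrr_psi lam)

theorem sum_mult_inner (f : B → ℂ) :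
    ∑ χ : Cfsg.IrrCharacter X, h.mult χ * Cfsg.classInner (h.res (χ : X → ℂ)) f =
      Cfsg.classInner h.permB f := by
  have e : h.permB = ∑ χ : Cfsg.IrrCharacter X, h.mult χ • h.res (χ : X → ℂ) := by
    funext b
    rw [Finset.sum_apply]
    exact classFunction_expand_apply (isClassFunction_isChar (isCharacter_permChar Ω)) (b : X)
  rw [e, classInner_sum_left]
  exact Finset.sum_congr rfl fun χ _ => (classInner_smul_left _ _ _).symm

theorem exists_blk (lam : A →* ℂˣ) :
    ∃ χ₀ : Cfsg.IrrCharacter X, h.mult χ₀ = 1 ∧ Cfsg.classInner (h.res (χ₀ : X → ℂ)) (h.psi lam) = 1 ∧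
      ∀ χ, h.mult χ ≠ 0 → χ ≠ χ₀ → Cfsg.classInner (h.res (χ : X → ℂ)) (h.psi lam) = 0 := by
  classical
  choose m hm using h.exists_mult_nat
  choose k hk using fun χ => h.exists_inner_psi χ lam
  have e := h.sum_mult_inner (h.psi lam)
  rw [h.inner_permB_psi lam] at e
  simp only [hm, hk] at e
  have e' : ∑ χ, m χ * k χ = 1 := by exact_mod_cast e
  obtain ⟨χ₀, -, hχ₀⟩ := Finset.exists_ne_zero_of_sum_ne_zero (e'.symm ▸ one_ne_zero)
  have e2 := Finset.add_sum_erase Finset.univ (fun χ => m χ * k χ) (Finset.mem_univ χ₀)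
  rw [e'] at e2
  have h4 : 0 < m χ₀ * k χ₀ := Nat.pos_of_ne_zero hχ₀
  have h1 : m χ₀ * k χ₀ = 1 := by omega
  refine ⟨χ₀, by rw [hm, Nat.eq_one_of_mul_eq_one_right h1]; simp,
    by rw [hk, Nat.eq_one_of_mul_eq_one_left h1]; simp, fun χ hχ hne => ?_⟩
  have e3 : ∑ χ ∈ Finset.univ.erase χ₀, m χ * k χ = 0 := by omega
  have e4 := Finset.sum_eq_zero_iff.1 e3 χ (by simp [hne])
  rcases Nat.mul_eq_zero.1 e4 with e5 | e5
  · exact absurd (by rw [hm, e5]; simp) hχ
  · rw [hk, e5]; simp

/-- The constituent over the orbit of a character. -/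
noncomputable def blk (lam : A →* ℂˣ) : Cfsg.IrrCharacter X := (h.exists_blk lam).choose

theorem mult_blk (lam : A →* ℂˣ) : h.mult (h.blk lam) = 1 := (h.exists_blk lam).choose_spec.1

open scoped Classical in
theorem inner_res_psi {χ : Cfsg.IrrCharacter X} (hχ : h.mult χ ≠ 0) (lam : A →* ℂˣ) :
    Cfsg.classInner (h.res (χ : X → ℂ)) (h.psi lam) = if χ = h.blk lam then 1 else 0 := by
  obtain ⟨-, h2, h3⟩ := (h.exists_blk lam).choose_spec
  split_ifs with e
  · rw [e]; exact h2
  · exact h3 χ hχ e

theorem inner_blk_psi (lam : A →* ℂˣ) :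
    Cfsg.classInner (h.res (h.blk lam : X → ℂ)) (h.psi lam) = 1 := (h.exists_blk lam).choose_spec.2.1

theorem psi_eq_of_rel {lam mu : A →* ℂˣ} (e : h.Rel lam mu) : h.psi lam = h.psi mu := by
  classical
  by_contra hne
  have h1 := h.psi_inner lam mu
  rw [classInner_irrChar (h.isIrr_psi lam) (h.isIrr_psi mu), if_neg hne, if_pos e] at h1
  exact zero_ne_one h1

theorem blk_eq_of_rel {lam mu : A →* ℂˣ} (e : h.Rel lam mu) : h.blk lam = h.blk mu := by
  classical
  by_contra hne
  have h1 := h.inner_res_psi (χ := h.blk lam) (by rw [h.mult_blk]; simp) mu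
  rw [if_neg hne, ← h.psi_eq_of_rel e, h.inner_blk_psi] at h1
  exact one_ne_zero h1

open scoped Classical in
/-- A constituent restricts to `A` as the sum of the characters in its block. -/
theorem mA_res {χ : Cfsg.IrrCharacter X} (hχ : h.mult χ ≠ 0) (mu : A →* ℂˣ) :
    h.mA (h.res (χ : X → ℂ)) h.aB mu = if χ = h.blk mu then 1 else 0 := by
  choose m hm using h.exists_mult_nat
  choose k hk using fun ξ : Cfsg.IrrCharacter X => h.exists_mA (h.isCharacter_res ξ) mu
  have hθ : h.mA h.permB h.aB mu = 1 := by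
    have hA : (Nat.card A : ℂ) ≠ 0 := by exact_mod_cast Nat.card_pos.ne'
    rw [mA, classInner_def]
    show _ * ∑ a : A, permChar X Ω (a : X) * conj (mu a : ℂ) = 1
    simp [h.card_fixed_ofA, hA]
  have e : ∑ ξ, m ξ * k ξ = 1 := by
    have e1 := h.sum_mult_inner (h.gA mu)
    rw [h.inner_gA (isClassFunction_isChar h.isCharacter_permB), hθ] at e1
    simp only [h.inner_gA (isClassFunction_isChar (h.isCharacter_res _)), hm, hk] at e1
    exact_mod_cast e1
  have hb : m (h.blk mu) * k (h.blk mu) ≠ 0 := by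
    apply mul_ne_zero
    · intro e0
      have e2 := h.mult_blk mu
      rw [hm, e0] at e2; simp at e2
    · intro e0
      obtain ⟨n, hn⟩ := IsCharacter.exists_decomp (h.isCharacter_res (h.blk mu))
      let ψ : Cfsg.IrrCharacter B := ⟨h.psi mu, h.isIrr_psi mu⟩
      choose j hj using fun η : Cfsg.IrrCharacter B => h.exists_mA (isCharacter_of_irr η.2) mu
      have e1 : h.mA (h.res (h.blk mu : X → ℂ)) h.aB mu = ((∑ η, n η * j η : ℕ) : ℂ) := by
        rw [← h.inner_gA (isClassFunction_isChar (h.isCharacter_res _)), hn, classInner_sum_left, Nat.cast_sum]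
        refine Finset.sum_congr rfl fun η _ => ?_
        rw [classInner_nsmul_left, h.inner_gA (isClassFunction_irr η), hj, Nat.cast_mul]
      have e2 : ∑ η, n η * j η = 0 := by
        rw [hk, e0] at e1; exact_mod_cast e1.symm
      have e3 := Finset.sum_eq_zero_iff.1 e2 ψ (Finset.mem_univ _)
      have e4 : (n ψ : ℂ) = 1 := by
        rw [← h.inner_blk_psi mu, hn]
        simp only [← Nat.cast_smul_eq_nsmul ℂ]
        exact (classInner_irrSum (fun η => (n η : ℂ)) ψ).symm
      have e5 : (j ψ : ℂ) = 1 := by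
        rw [← hj ψ]
        show h.mA (h.psi mu) h.aB mu = 1
        rw [h.mA_psi, if_pos (h.rel_refl mu)]
      rw [show n ψ = 1 by exact_mod_cast e4, show j ψ = 1 by exact_mod_cast e5] at e3
      exact one_ne_zero e3
  have hmb : k (h.blk mu) = 1 := by
    have e1 := Finset.add_sum_erase Finset.univ (fun ξ => m ξ * k ξ) (Finset.mem_univ (h.blk mu))
    rw [e] at e1
    exact Nat.eq_one_of_mul_eq_one_left (show m (h.blk mu) * k (h.blk mu) = 1 by omega)
  rw [hk]
  split_ifs with e0
  · rw [e0, hmb]; simp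
  · have e1 := Finset.add_sum_erase Finset.univ (fun ξ => m ξ * k ξ) (Finset.mem_univ (h.blk mu))
    rw [e] at e1
    have e2 : ∑ ξ ∈ Finset.univ.erase (h.blk mu), m ξ * k ξ = 0 := by omega
    rcases Nat.mul_eq_zero.1 (Finset.sum_eq_zero_iff.1 e2 χ (by simp [e0])) with e3 | e3
    · exact absurd (by rw [hm, e3]; simp) hχ
    · simp [e3]

open scoped Classical in
/-- The degree of a constituent is the number of characters in its block. -/
theorem deg_constituent [Fintype (A →* ℂˣ)] {χ : Cfsg.IrrCharacter X} (hχ : h.mult χ ≠ 0) :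
    (χ : X → ℂ) 1 = (Finset.univ.filter fun mu => χ = h.blk mu).card := by
  have e := Cfsg.Lib.Dual.expand h.comm (fun a : A => h.res (χ : X → ℂ) ⟨a, h.aB a.2⟩) 1
  rw [show h.res (χ : X → ℂ) ⟨((1 : A) : X), h.aB (1 : A).2⟩ = (χ : X → ℂ) 1 from by simp [res]] at e
  rw [e, Finset.card_filter, Nat.cast_sum]
  refine Finset.sum_congr rfl fun mu _ => ?_
  have e1 : Cfsg.classInner (fun a : A => h.res (χ : X → ℂ) ⟨a, h.aB a.2⟩) (Cfsg.Lib.Dual.ev mu) =
      if χ = h.blk mu then 1 else 0 := h.mA_res hχ mu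
  rw [e1]
  split_ifs <;> simp [Cfsg.Lib.Dual.ev]

/-- Every constituent is a block. -/
theorem exists_eq_blk {χ : Cfsg.IrrCharacter X} (hχ : h.mult χ ≠ 0) : ∃ mu : A →* ℂˣ, χ = h.blk mu := by
  classical
  have := Fintype.ofFinite (A →* ℂˣ)
  by_contra hne
  have e := h.deg_constituent hχ
  rw [Finset.filter_eq_empty_iff.2 fun mu _ e => hne ⟨mu, e⟩] at e
  simp at e
  exact IsIrrCharacter.apply_one_ne_zero χ.2 e

theorem inner_ind_irr {f : B → ℂ} (χ : Cfsg.IrrCharacter X) :
    Cfsg.classInner (Cfsg.indFun B f) (χ : X → ℂ) = Cfsg.classInner f (h.res (χ : X → ℂ)) :=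
  frobenius_reciprocity _ _ (isClassFunction_irr χ)

/-- The characters agree on `R`. -/
def SameType (lam mu : A →* ℂˣ) : Prop := ∀ r : R, h.psi lam (h.ofR r) = h.psi mu (h.ofR r)

theorem sameType_of_rel {lam mu : A →* ℂˣ} (e : h.Rel lam mu) : h.SameType lam mu :=
  fun r => by rw [h.psi_eq_of_rel e]

/-- A character with trivial stabiliser. -/
def Free (lam : A →* ℂˣ) : Prop := ∀ r : R, h.rot r lam = lam → r = 1

open scoped Classical in
theorem psi_ofR_free {lam : A →* ℂˣ} (hl : h.Free lam) (r : R) :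
    h.psi lam (h.ofR r) = if r = 1 then (Nat.card R : ℂ) else 0 := by
  have hs : Nat.card (h.stab lam) = 1 := by
    rw [Subgroup.card_eq_one]
    exact (Subgroup.eq_bot_iff_forall _).2 fun r hr => hl r hr
  rw [h.psi_ofR, hs]
  split_ifs with hr
  · subst hr
    simp [h.rot_one, Nat.card_eq_fintype_card]
  · rw [Nat.card_eq_zero.2 (Or.inl ⟨fun x => hr ?_⟩)]
    · simp
    · have e := hl _ ((h.rot_fix_conj r x.1 lam).1 x.2)
      calc r = x.1 * (x.1⁻¹ * r * x.1) * x.1⁻¹ := by group
        _ = 1 := by rw [e]; group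

theorem sameType_free {lam mu : A →* ℂˣ} (hl : h.Free lam) (hm : h.Free mu) : h.SameType lam mu :=
  fun r => by classical rw [h.psi_ofR_free hl, h.psi_ofR_free hm]

theorem diff_data {lam mu : A →* ℂˣ} (e : h.SameType lam mu) (hne : ¬ h.Rel lam mu) :
    h.VanR (h.psi lam - h.psi mu) ∧
      Cfsg.classInner (h.psi lam - h.psi mu) (h.psi lam - h.psi mu) = 2 := by
  classical
  refine ⟨h.vanR_sub (h.isClassFunction_psi _) (h.isClassFunction_psi _) e, ?_⟩
  rw [classInner_sub_left, classInner_sub_right, classInner_sub_right, h.psi_inner, h.psi_inner,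
    h.psi_inner, h.psi_inner, if_pos (h.rel_refl _), if_pos (h.rel_refl _), if_neg hne,
    if_neg fun e => hne (h.rel_symm e)]
  norm_num

/-- Two orbits of one type in different blocks induce to the difference of their constituents. -/
theorem ind_diff {lam mu : A →* ℂˣ} (e : h.SameType lam mu) (hne : h.blk lam ≠ h.blk mu) :
    Cfsg.indFun B (h.psi lam - h.psi mu) = (h.blk lam : X → ℂ) - (h.blk mu : X → ℂ) := by
  classical
  obtain ⟨hv, hn⟩ := h.diff_data e fun hr => hne (h.blk_eq_of_rel hr)
  obtain ⟨p, q, hpq, hf⟩ := exists_sub_of_norm_two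
    (IsGeneralizedCharacter.indFun (IsGeneralizedCharacter.sub (IsCharacter.isGeneralized (h.isCharacter_psi lam))
      (IsCharacter.isGeneralized (h.isCharacter_psi mu))))
    (by rw [h.inner_ind hv hv, hn]) (h.ind_apply_one hv)
  have c : ∀ nu : A →* ℂˣ, Cfsg.classInner (Cfsg.indFun B (h.psi lam - h.psi mu)) (h.blk nu : X → ℂ) =
      (if h.blk nu = h.blk lam then 1 else 0) - (if h.blk nu = h.blk mu then 1 else 0) := by
    intro nu
    have hm : h.mult (h.blk nu) ≠ 0 := by rw [h.mult_blk]; simp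
    rw [h.inner_ind_irr, ← classInner_conj_symm, classInner_sub_right, h.inner_res_psi hm,
      h.inner_res_psi hm, map_sub]
    split_ifs <;> simp
  have c1 := c lam
  have c2 := c mu
  rw [hf, classInner_sub_left, classInner_irrCharacter, classInner_irrCharacter] at c1 c2
  rw [if_pos rfl, if_neg hne] at c1
  rw [if_pos rfl, if_neg hne.symm] at c2
  have hp : p = h.blk lam := by
    by_contra hp; rw [if_neg hp] at c1; split_ifs at c1 <;> norm_num at c1
  have hq : q = h.blk mu := by
    by_contra hq; rw [if_neg hq] at c2; split_ifs at c2 <;> norm_num at c2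
  rw [hf, hp, hq]

/-- Two orbits of one type in one block take every orbit of the type with them. -/
theorem same_of_joined {lam mu nu : A →* ℂˣ} (h1 : h.SameType lam mu) (h2 : h.SameType lam nu)
    (hne : ¬ h.Rel lam mu) (hj : h.blk lam = h.blk mu) : h.blk nu = h.blk lam := by
  by_contra hnu
  have h3 : h.SameType mu nu := fun r => (h1 r).symm.trans (h2 r)
  have e1 := h.ind_diff h2 (Ne.symm hnu)
  have e2 := h.ind_diff h3 (fun e => hnu (e ▸ hj.symm))
  obtain ⟨hv, hn⟩ := h.diff_data h1 hne
  have e3 := h.inner_ind hv hv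
  rw [show h.psi lam - h.psi mu = (h.psi lam - h.psi nu) - (h.psi mu - h.psi nu) by abel, indFun_sub,
    e1, e2, hj, sub_self, classInner_zero_left] at e3
  rw [show (h.psi lam - h.psi nu) - (h.psi mu - h.psi nu) = h.psi lam - h.psi mu by abel, hn] at e3
  exact two_ne_zero e3.symm

/-- Against two separate orbits of one type, any orbit whose values on `R` match stays out of both. -/
theorem not_joined {lam lam' mu : A →* ℂˣ} (hl : h.Free lam) (hl' : h.Free lam') (hsep : h.blk lam ≠ h.blk lam')
    (hm : ¬ h.Rel lam mu) (hm' : ¬ h.Rel lam' mu) : h.blk mu ≠ h.blk lam := by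
  classical
  intro hjoin
  have hd := h.sameType_free hl' hl
  obtain ⟨hv, hn⟩ := h.diff_data hd fun e => hsep (h.blk_eq_of_rel e).symm
  have hv1 : h.VanR (h.gA mu - h.psi lam) :=
    h.vanR_sub (h.isClassFunction_gA mu) (h.isClassFunction_psi lam) fun r => by
      rw [h.gA_ofR, h.psi_ofR_free hl]
  have e := h.inner_ind hv1 hv
  rw [h.ind_diff hd (Ne.symm hsep), classInner_sub_right, h.inner_ind_irr, h.inner_ind_irr,
    ← classInner_conj_symm (h.res (h.blk lam' : X → ℂ)), ← classInner_conj_symm (h.res (h.blk lam : X → ℂ)),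
    classInner_sub_right, classInner_sub_right, h.inner_gA (isClassFunction_isChar (h.isCharacter_res _)),
    h.inner_gA (isClassFunction_isChar (h.isCharacter_res _)), h.mA_res (by rw [h.mult_blk]; simp),
    h.mA_res (by rw [h.mult_blk]; simp), h.inner_res_psi (by rw [h.mult_blk]; simp),
    h.inner_res_psi (by rw [h.mult_blk]; simp), if_pos rfl, if_neg (Ne.symm hsep), if_pos hjoin.symm,
    if_neg (fun e => hsep (e.trans hjoin).symm)] at e
  rw [classInner_sub_right, classInner_sub_left, classInner_sub_left,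
    ← classInner_conj_symm (h.psi lam') (h.gA mu), ← classInner_conj_symm (h.psi lam) (h.gA mu),
    h.inner_gA (h.isClassFunction_psi _), h.inner_gA (h.isClassFunction_psi _), h.mA_psi, h.mA_psi,
    h.psi_inner, h.psi_inner, if_neg hm, if_neg hm', if_pos (h.rel_refl _),
    if_neg fun e => hsep (h.blk_eq_of_rel e)] at e
  norm_num at e

/-- If some two free orbits are separate, every free orbit is a block by itself. -/
theorem rel_of_free_separate {l₁ l₂ lam mu : A →* ℂˣ} (h1 : h.Free l₁) (h2 : h.Free l₂)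
    (hsep : h.blk l₁ ≠ h.blk l₂) (hl : h.Free lam) (hb : h.blk mu = h.blk lam) : h.Rel lam mu := by
  by_contra hm
  obtain ⟨lam', hl', hne⟩ : ∃ lam', h.Free lam' ∧ h.blk lam ≠ h.blk lam' := by
    by_cases e : h.blk lam = h.blk l₁
    · exact ⟨l₂, h2, fun e' => hsep (e.symm.trans e')⟩
    · exact ⟨l₁, h1, e⟩
  by_cases hm' : h.Rel lam' mu
  · exact hne (hb.symm.trans (h.blk_eq_of_rel hm').symm)
  · exact h.not_joined hl hl' hne hm hm' hb

end Setting

end Cfsg.Lib.BenderSE.Isometry
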