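import Cfsg.Agent.Chars.Core
import Cfsg.Agent.Chars.Perm
import Cfsg.Agent.OddChar.Dual

/-!
# A group with a normal abelian regular subgroup: the characters over the orbits of the dual

`B = A R` inside `X`, with `A` abelian, normal in `B` and regular on a set acted on by `X`, and `R` fixing the base
point.  For a linear character `λ` of `A` the character `psi λ` of `B` is induced from its extension to `A R_λ`.
-/

set_option autoImplicit false
set_option linter.unusedSectionVars false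
set_option linter.style.haveILetI false

namespace Cfsg.Lib.BenderSE.Isometry

open scoped ComplexConjugate
open Cfsg.Lib.Chars

universe u v

/-- The elements of `B` not conjugate in `B` into `R`. -/
def offR {X : Type u} [Group X] (B R : Subgroup X) : Set X :=
  {x | x ∈ B ∧ ∀ b ∈ B, b * x * b⁻¹ ∉ R}

/-- The data. -/
structure Setting {X : Type u} [Group X] {Ω : Type v} [MulAction X Ω]
    (A B R : Subgroup X) (o : Ω) : Prop where
  aB : A ≤ B
  rB : R ≤ B
  norm : ∀ b ∈ B, ∀ a ∈ A, b * a * b⁻¹ ∈ A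
  comm : ∀ a b : A, a * b = b * a
  sup : ∀ b ∈ B, ∃ a ∈ A, ∃ r ∈ R, b = a * r
  disj : A ⊓ R = ⊥
  reg : ∀ ω : Ω, ∃! a : A, (a : X) • o = ω
  fixR : ∀ r ∈ R, r • o = o
  ti : ∀ g x : X, x ∈ offR B R → g * x * g⁻¹ ∈ offR B R → g ∈ B

variable {X : Type u} [Group X] {Ω : Type v} [MulAction X Ω] {A B R : Subgroup X} {o : Ω}

namespace Setting

variable (h : Setting A B R o)

/-- An element of `A` in `B`. -/
def ofA (a : A) : B := ⟨a, h.aB a.2⟩

/-- An element of `R` in `B`. -/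
def ofR (r : R) : B := ⟨r, h.rB r.2⟩

/-- Conjugation by an element of `B` on `A`. -/
def cj (b : B) : A →* A where
  toFun a := ⟨b * a * (b : X)⁻¹, h.norm b b.2 a a.2⟩
  map_one' := Subtype.ext (by simp)
  map_mul' a c := Subtype.ext (by simp [mul_assoc])

theorem cj_val (b : B) (a : A) : (h.cj b a : X) = b * a * (b : X)⁻¹ := rfl

theorem cj_mul (b c : B) (a : A) : h.cj (b * c) a = h.cj b (h.cj c a) :=
  Subtype.ext (by simp [cj_val, mul_assoc])

theorem cj_one (a : A) : h.cj 1 a = a := Subtype.ext (by simp [cj_val])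

theorem cj_ofA (c a : A) : h.cj (h.ofA c) a = a := by
  refine Subtype.ext ?_
  have hc := congrArg Subtype.val (h.comm c a)
  simp only [Subgroup.coe_mul] at hc
  simp [cj_val, ofA, hc]

theorem bijective_pair : Function.Bijective fun p : A × R => h.ofA p.1 * h.ofR p.2 := by
  constructor
  · rintro ⟨a, r⟩ ⟨a', r'⟩ he
    have he' : (a : X) * r = a' * r' := congrArg Subtype.val he
    have h2 : (a' : X)⁻¹ * a = r' * (r : X)⁻¹ := by
      rw [inv_mul_eq_iff_eq_mul, eq_comm, ← mul_assoc, mul_inv_eq_iff_eq_mul, he']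
    have h3 : (a' : X)⁻¹ * a = 1 := by
      rw [← Subgroup.mem_bot, ← h.disj]
      exact Subgroup.mem_inf.2 ⟨A.mul_mem (A.inv_mem a'.2) a.2, h2 ▸ R.mul_mem r'.2 (R.inv_mem r.2)⟩
    have ha : a = a' := Subtype.ext (inv_mul_eq_one.1 h3).symm
    subst ha
    exact Prod.ext rfl (Subtype.ext (mul_left_cancel he'))
  · intro b
    obtain ⟨a, ha, r, hr, hb⟩ := h.sup b b.2
    exact ⟨(⟨a, ha⟩, ⟨r, hr⟩), Subtype.ext hb.symm⟩

/-- The decomposition of `B`. -/
noncomputable def pair : A × R ≃ B := Equiv.ofBijective _ h.bijective_pair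

theorem pair_apply (a : A) (r : R) : h.pair (a, r) = h.ofA a * h.ofR r := rfl

/-- The part in `A`. -/
noncomputable def al (b : B) : A := (h.pair.symm b).1

/-- The part in `R`. -/
noncomputable def pr (b : B) : R := (h.pair.symm b).2

theorem decomp (b : B) : h.ofA (h.al b) * h.ofR (h.pr b) = b := h.pair.apply_symm_apply b

theorem al_pr_of_eq {b : B} {a : A} {r : R} (e : h.ofA a * h.ofR r = b) : h.al b = a ∧ h.pr b = r := by
  have h1 : h.pair.symm b = (a, r) := by rw [← e, ← h.pair_apply, Equiv.symm_apply_apply]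
  exact ⟨congrArg Prod.fst h1, congrArg Prod.snd h1⟩

theorem al_pr_mul (b c : B) :
    h.al (b * c) = h.al b * h.cj (h.ofR (h.pr b)) (h.al c) ∧ h.pr (b * c) = h.pr b * h.pr c := by
  refine h.al_pr_of_eq (Subtype.ext ?_)
  conv_rhs => rw [← h.decomp b, ← h.decomp c]
  simp [ofA, ofR, cj_val, mul_assoc]

theorem pr_one : h.pr 1 = 1 ∧ h.al 1 = 1 :=
  ⟨(h.al_pr_of_eq (a := 1) (r := 1) (Subtype.ext (by simp [ofA, ofR]))).2,
    (h.al_pr_of_eq (a := 1) (r := 1) (Subtype.ext (by simp [ofA, ofR]))).1⟩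

theorem pr_ofA (a : A) : h.pr (h.ofA a) = 1 ∧ h.al (h.ofA a) = a :=
  ⟨(h.al_pr_of_eq (a := a) (r := 1) (Subtype.ext (by simp [ofA, ofR]))).2,
    (h.al_pr_of_eq (a := a) (r := 1) (Subtype.ext (by simp [ofA, ofR]))).1⟩

theorem pr_ofR (r : R) : h.pr (h.ofR r) = r ∧ h.al (h.ofR r) = 1 :=
  ⟨(h.al_pr_of_eq (a := 1) (r := r) (Subtype.ext (by simp [ofA, ofR]))).2,
    (h.al_pr_of_eq (a := 1) (r := r) (Subtype.ext (by simp [ofA, ofR]))).1⟩

/-- The action of `R` on the linear characters of `A`. -/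
def rot (r : R) (lam : A →* ℂˣ) : A →* ℂˣ := lam.comp (h.cj (h.ofR r⁻¹))

theorem rot_apply (r : R) (lam : A →* ℂˣ) (a : A) : h.rot r lam a = lam (h.cj (h.ofR r⁻¹) a) := rfl

theorem rot_one (lam : A →* ℂˣ) : h.rot 1 lam = lam := by
  refine MonoidHom.ext fun a => congrArg lam (Subtype.ext ?_)
  simp [cj_val, ofR]

theorem rot_mul (r s : R) (lam : A →* ℂˣ) : h.rot (r * s) lam = h.rot r (h.rot s lam) := by
  refine MonoidHom.ext fun a => congrArg lam (Subtype.ext ?_)
  simp [cj_val, ofR, mul_assoc]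

theorem rot_trivial (r : R) : h.rot r 1 = 1 := rfl

theorem rot_eq_iff (r : R) (lam mu : A →* ℂˣ) : h.rot r lam = mu ↔ lam = h.rot r⁻¹ mu := by
  constructor
  · rintro rfl
    rw [← h.rot_mul, inv_mul_cancel, h.rot_one]
  · rintro rfl
    rw [← h.rot_mul, mul_inv_cancel, h.rot_one]

theorem rot_fix_conj (r s : R) (lam : A →* ℂˣ) :
    h.rot r (h.rot s lam) = h.rot s lam ↔ h.rot (s⁻¹ * r * s) lam = lam := by
  rw [h.rot_eq_iff (s⁻¹ * r * s), h.rot_eq_iff r, ← h.rot_mul]
  constructor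
  · intro e
    have e2 := congrArg (h.rot s⁻¹) e
    rw [← h.rot_mul, ← h.rot_mul, inv_mul_cancel, h.rot_one] at e2
    conv_lhs => rw [e2]
    congr 1
    group
  · intro e
    conv_lhs => rw [e, ← h.rot_mul]
    congr 1
    group

/-- The two characters lie in one orbit. -/
def Rel (lam mu : A →* ℂˣ) : Prop := ∃ r : R, h.rot r lam = mu

theorem rel_refl (lam : A →* ℂˣ) : h.Rel lam lam := ⟨1, h.rot_one lam⟩

theorem rel_symm {lam mu : A →* ℂˣ} (e : h.Rel lam mu) : h.Rel mu lam := by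
  obtain ⟨r, rfl⟩ := e
  exact ⟨r⁻¹, by rw [← h.rot_mul, inv_mul_cancel, h.rot_one]⟩

theorem rel_trans {lam mu nu : A →* ℂˣ} (e : h.Rel lam mu) (e' : h.Rel mu nu) : h.Rel lam nu := by
  obtain ⟨r, rfl⟩ := e
  obtain ⟨s, rfl⟩ := e'
  exact ⟨s * r, h.rot_mul s r lam⟩

/-- The stabiliser of a character. -/
def stab (lam : A →* ℂˣ) : Subgroup R where
  carrier := {r | h.rot r lam = lam}
  one_mem' := h.rot_one lam
  mul_mem' {r s} hr hs := by
    show h.rot (r * s) lam = lam
    rw [h.rot_mul, show h.rot s lam = lam from hs, show h.rot r lam = lam from hr]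
  inv_mem' {r} hr := by
    show h.rot r⁻¹ lam = lam
    conv_lhs => rw [← show h.rot r lam = lam from hr]
    rw [← h.rot_mul, inv_mul_cancel, h.rot_one]

theorem mem_stab {lam : A →* ℂˣ} {r : R} : r ∈ h.stab lam ↔ h.rot r lam = lam := Iff.rfl

/-- The preimage of the stabiliser in `B`. -/
def ext (lam : A →* ℂˣ) : Subgroup B where
  carrier := {b | h.pr b ∈ h.stab lam}
  one_mem' := by
    show h.pr 1 ∈ h.stab lam
    rw [h.pr_one.1]; exact one_mem _
  mul_mem' {b c} hb hc := by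
    show h.pr (b * c) ∈ h.stab lam
    rw [(h.al_pr_mul b c).2]; exact mul_mem hb hc
  inv_mem' {b} hb := by
    show h.pr b⁻¹ ∈ h.stab lam
    have e := (h.al_pr_mul b⁻¹ b).2
    rw [inv_mul_cancel, h.pr_one.1] at e
    rw [eq_inv_of_mul_eq_one_left e.symm]
    exact inv_mem hb

theorem mem_ext {lam : A →* ℂˣ} {b : B} : b ∈ h.ext lam ↔ h.pr b ∈ h.stab lam := Iff.rfl

/-- The extension of a character. -/
noncomputable def extHom (lam : A →* ℂˣ) : h.ext lam →* ℂˣ where
  toFun b := lam (h.al b)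
  map_one' := by rw [OneMemClass.coe_one, h.pr_one.2, map_one]
  map_mul' b c := by
    rw [Subgroup.coe_mul, (h.al_pr_mul b c).1, map_mul]
    congr 1
    have e := DFunLike.congr_fun (h.mem_stab.1 (inv_mem (h.mem_ext.1 b.2))) (h.al c)
    rwa [h.rot_apply, inv_inv] at e

variable [Fintype B]

/-- The character of `B` over an orbit. -/
noncomputable def psi (lam : A →* ℂˣ) : B → ℂ :=
  Cfsg.indFun (h.ext lam) fun b => (h.extHom lam b : ℂ)

theorem isCharacter_psi (lam : A →* ℂˣ) : Cfsg.IsCharacter B (h.psi lam) :=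
  IsCharacter.indFun (isCharacter_linear _)

theorem isClassFunction_psi (lam : A →* ℂˣ) : Cfsg.IsClassFunction B (h.psi lam) :=
  isClassFunction_isChar (h.isCharacter_psi lam)

theorem sum_pair {M : Type*} [AddCommMonoid M] [Fintype A] [Fintype R] (f : B → M) :
    ∑ b : B, f b = ∑ r : R, ∑ a : A, f (h.ofA a * h.ofR r) := by
  rw [← h.pair.sum_comp, Fintype.sum_prod_type, Finset.sum_comm]
  rfl

theorem card_ext (lam : A →* ℂˣ) : Nat.card (h.ext lam) = Nat.card A * Nat.card (h.stab lam) := by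
  rw [← Nat.card_prod]
  refine (Nat.card_congr ?_).symm
  refine
    { toFun := fun p => ⟨h.ofA p.1 * h.ofR p.2, by
        rw [h.mem_ext, (h.al_pr_mul _ _).2, (h.pr_ofA _).1, (h.pr_ofR _).1, one_mul]; exact p.2.2⟩
      invFun := fun b => (h.al b, ⟨h.pr b, h.mem_ext.1 b.2⟩)
      left_inv := fun p => ?_
      right_inv := fun b => Subtype.ext (h.decomp b) }
  obtain ⟨h1, h2⟩ := h.al_pr_of_eq (b := h.ofA p.1 * h.ofR p.2) rfl
  exact Prod.ext h1 (Subtype.ext h2)

theorem al_conj (a a₀ : A) (r r₀ : R) :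
    h.al ((h.ofA a₀ * h.ofR r₀)⁻¹ * (h.ofA a * h.ofR r) * (h.ofA a₀ * h.ofR r₀)) =
        h.cj (h.ofR r₀⁻¹) (a₀⁻¹ * a * h.cj (h.ofR r) a₀) ∧
      h.pr ((h.ofA a₀ * h.ofR r₀)⁻¹ * (h.ofA a * h.ofR r) * (h.ofA a₀ * h.ofR r₀)) = r₀⁻¹ * r * r₀ :=
  h.al_pr_of_eq (Subtype.ext (by simp [ofA, ofR, cj_val, mul_assoc]))

open scoped Classical in
theorem psi_apply [Fintype A] [Fintype R] (lam : A →* ℂˣ) (a : A) (r : R) :
    h.psi lam (h.ofA a * h.ofR r) = (Nat.card (h.stab lam) : ℂ)⁻¹ *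
      ∑ r₀ : R, if h.rot r (h.rot r₀ lam) = h.rot r₀ lam then ((h.rot r₀ lam) a : ℂ) else 0 := by
  have key : ∀ (r₀ : R) (a₀ : A),
      Cfsg.extendByZero (h.ext lam) (fun b => (h.extHom lam b : ℂ))
        ((h.ofA a₀ * h.ofR r₀)⁻¹ * (h.ofA a * h.ofR r) * (h.ofA a₀ * h.ofR r₀)) =
      if h.rot r (h.rot r₀ lam) = h.rot r₀ lam then ((h.rot r₀ lam) a : ℂ) else 0 := by
    intro r₀ a₀
    obtain ⟨h1, h2⟩ := h.al_conj a a₀ r r₀
    split_ifs with hm
    · rw [extendByZero_mem _ (by rw [h.mem_ext, h2]; exact (h.rot_fix_conj r r₀ lam).1 hm)]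
      show ((lam (h.al _) : ℂˣ) : ℂ) = _
      rw [h1, ← h.rot_apply]
      have h3 : (h.rot r₀ lam) (h.cj (h.ofR r) a₀) = (h.rot r₀ lam) a₀ := by
        have e := DFunLike.congr_fun ((h.rot_eq_iff r _ _).1 hm) a₀
        rw [h.rot_apply r⁻¹, inv_inv] at e
        exact e.symm
      rw [map_mul, map_mul, h3, map_inv, mul_comm (h.rot r₀ lam a₀)⁻¹, mul_assoc, inv_mul_cancel, mul_one]
    · exact extendByZero_not_mem _ fun hmem => hm ((h.rot_fix_conj r r₀ lam).2 (h2 ▸ h.mem_ext.1 hmem))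
  rw [psi, indFun_apply, h.sum_pair]
  simp only [key]
  rw [Finset.sum_comm, Finset.sum_const, Finset.card_univ, nsmul_eq_mul, h.card_ext,
    ← Nat.card_eq_fintype_card]
  have hA : (Nat.card A : ℂ) ≠ 0 := by exact_mod_cast Nat.card_pos.ne'
  push_cast
  field_simp

open scoped Classical in
theorem sum_hom_mul_conj [Fintype A] (mu nu : A →* ℂˣ) :
    ∑ a : A, (mu a : ℂ) * conj (nu a : ℂ) = if mu = nu then (Nat.card A : ℂ) else 0 := by
  have h1 := classInner_irrChar (isIrrCharacter_linear mu) (isIrrCharacter_linear nu)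
  have hA : (Nat.card A : ℂ) ≠ 0 := by exact_mod_cast Nat.card_pos.ne'
  have h2 : ((fun a : A => (mu a : ℂ)) = fun a : A => (nu a : ℂ)) ↔ mu = nu :=
    ⟨fun e => MonoidHom.ext fun a => Units.ext (congrFun e a), fun e => e ▸ rfl⟩
  rw [classInner_def, inv_mul_eq_iff_eq_mul₀ hA] at h1
  rw [h1]
  split_ifs <;> simp_all

open scoped Classical in
/-- The characters over distinct orbits are orthonormal. -/
theorem psi_inner [Fintype A] [Fintype R] (lam mu : A →* ℂˣ) :
    Cfsg.classInner (h.psi lam) (h.psi mu) = if h.Rel lam mu then 1 else 0 := by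
  have hR : (Nat.card R : ℂ) ≠ 0 := by exact_mod_cast Nat.card_pos.ne'
  have hA : (Nat.card A : ℂ) ≠ 0 := by exact_mod_cast Nat.card_pos.ne'
  have hs : (Nat.card (h.stab lam) : ℂ) ≠ 0 := by exact_mod_cast Nat.card_pos.ne'
  have hs' : (Nat.card (h.stab mu) : ℂ) ≠ 0 := by exact_mod_cast Nat.card_pos.ne'
  have hB : (Nat.card B : ℂ) = Nat.card A * Nat.card R := by
    rw [← Nat.cast_mul, ← Nat.card_prod, Nat.card_congr h.pair]
  have e1 : ∀ r : R, ∑ a : A, h.psi lam (h.ofA a * h.ofR r) * conj (h.psi mu (h.ofA a * h.ofR r)) =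
      (Nat.card (h.stab lam) : ℂ)⁻¹ * (Nat.card (h.stab mu) : ℂ)⁻¹ *
        ∑ r₀ : R, ∑ r₁ : R, if h.rot r (h.rot r₀ lam) = h.rot r₀ lam ∧ h.rot r₀ lam = h.rot r₁ mu
          then (Nat.card A : ℂ) else 0 := by
    intro r
    simp only [h.psi_apply, map_mul, map_inv₀, Complex.conj_natCast, map_sum,
      apply_ite (starRingEnd ℂ), map_zero]
    rw [Finset.sum_congr rfl fun a _ => mul_mul_mul_comm _ _ _ _, ← Finset.mul_sum]
    congr 1
    rw [Finset.sum_congr rfl fun a _ => Finset.sum_mul_sum _ _ _ _, Finset.sum_comm]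
    refine Finset.sum_congr rfl fun r₀ _ => ?_
    rw [Finset.sum_comm]
    refine Finset.sum_congr rfl fun r₁ _ => ?_
    by_cases c1 : h.rot r (h.rot r₀ lam) = h.rot r₀ lam
    · by_cases c2 : h.rot r (h.rot r₁ mu) = h.rot r₁ mu
      · simp only [c1, c2, if_true, true_and, sum_hom_mul_conj]
      · simp only [c1, c2, if_false, mul_zero, Finset.sum_const_zero, if_true, true_and]
        rw [if_neg]
        intro e
        exact c2 (e ▸ c1)
    · simp [c1]
  rw [classInner_def, h.sum_pair, Finset.sum_congr rfl fun r _ => e1 r, ← Finset.mul_sum, hB]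
  rw [Finset.sum_comm]
  split_ifs with hrel
  · obtain ⟨k, rfl⟩ := hrel
    have hst : Nat.card (h.stab (h.rot k lam)) = Nat.card (h.stab lam) := by
      refine Nat.card_congr ((MulAut.conj k⁻¹).toEquiv.subtypeEquiv fun r => ?_)
      simpa [h.mem_stab, mul_assoc] using h.rot_fix_conj r k lam
    have e2 : ∀ r₀ : R, ∑ r : R, ∑ r₁ : R,
        (if h.rot r (h.rot r₀ lam) = h.rot r₀ lam ∧ h.rot r₀ lam = h.rot r₁ (h.rot k lam)
          then (Nat.card A : ℂ) else 0) =
        (Nat.card (h.stab lam) : ℂ) * (Nat.card (h.stab lam) : ℂ) * Nat.card A := by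
      intro r₀
      have c1 : (Finset.univ.filter fun r : R => h.rot r (h.rot r₀ lam) = h.rot r₀ lam).card =
          Nat.card (h.stab lam) := by
        rw [← Fintype.card_subtype, ← Nat.card_eq_fintype_card]
        exact Nat.card_congr ((MulAut.conj r₀⁻¹).toEquiv.subtypeEquiv fun r => by
          simpa [h.mem_stab, mul_assoc] using h.rot_fix_conj r r₀ lam)
      have c2 : (Finset.univ.filter fun r₁ : R => h.rot r₀ lam = h.rot r₁ (h.rot k lam)).card =
          Nat.card (h.stab lam) := by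
        rw [← Fintype.card_subtype, ← Nat.card_eq_fintype_card]
        refine Nat.card_congr (((Equiv.mulRight k).trans (Equiv.mulLeft r₀⁻¹)).subtypeEquiv fun r₁ => ?_)
        show h.rot r₀ lam = h.rot r₁ (h.rot k lam) ↔ r₀⁻¹ * (r₁ * k) ∈ h.stab lam
        rw [h.mem_stab, h.rot_mul, h.rot_eq_iff r₀⁻¹, inv_inv, ← h.rot_mul, eq_comm]
      simp only [ite_and, Finset.sum_ite_irrel, Finset.sum_const_zero]
      rw [← Finset.sum_filter (fun r₁ => h.rot r₀ lam = h.rot r₁ (h.rot k lam)), ← Finset.sum_filter,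
        Finset.sum_const, Finset.sum_const, c1, c2, nsmul_eq_mul, nsmul_eq_mul]
      ring
    rw [Finset.sum_congr rfl fun r₀ _ => e2 r₀, Finset.sum_const, Finset.card_univ, nsmul_eq_mul, hst,
      ← Nat.card_eq_fintype_card]
    field_simp
  · rw [Finset.sum_eq_zero fun r₀ _ => Finset.sum_eq_zero fun r _ => Finset.sum_eq_zero fun r₁ _ =>
      if_neg fun e => hrel ⟨r₁⁻¹ * r₀, by rw [h.rot_mul, e.2, ← h.rot_mul, inv_mul_cancel, h.rot_one]⟩]
    simp

theorem isIrr_psi [Fintype A] [Fintype R] (lam : A →* ℂˣ) : Cfsg.IsIrrCharacter B (h.psi lam) := by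
  classical
  exact isIrrCharacter_of_norm_one (h.isCharacter_psi lam) (by rw [h.psi_inner, if_pos (h.rel_refl lam)])

end Setting

end Cfsg.Lib.BenderSE.Isometry
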