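/-
The key step for an inverted element: invariant `r'`-subgroups of the pair stabiliser fix the centre.
-/
import Cfsg.Agent.BenderSE.Core
import Cfsg.Agent.BenderSE.Midpoint

set_option autoImplicit false
set_option linter.unusedSectionVars false

namespace Cfsg.Lib.BenderSE

open Subgroup MulAction

universe u

variable {G : Type u} [Group G] [Finite G] {H : Subgroup G}

/-- If `C(y)` does not fix the centre `c` of `t`, there is a pair `a, t • a` of fixed points of `y`
whose stabiliser has all its `⟨t, y⟩`-invariant subgroups of order prime to `|y|` inside `G_c`. -/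
theorem exists_pair_of_not_le (hH : Cfsg.IsStronglyEmbedded H) {t y : G} {c : G ⧸ H}
    (ht : orderOf t = 2) (htc : t • c = c) (hy : y ≠ 1) (hyt : t * y ≠ 1) (hyc : y • c = c)
    (hinv : t * y * t⁻¹ = y⁻¹) (hne : ¬ centralizer ({y} : Set G) ≤ stabilizer G c) :
    ∃ a : G ⧸ H, a ≠ c ∧ t • a ≠ a ∧ y • a = a ∧ y • t • a = t • a ∧
      ∀ X : Subgroup G, X ≤ stabilizer G a ⊓ stabilizer G (t • a) → t ∈ normalizer (X : Set G) →
        y ∈ normalizer (X : Set G) → (orderOf y).Coprime (Nat.card X) → X ≤ stabilizer G c := by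
  have hodd : Odd (Nat.card (centralizer ({y} : Set G))) :=
    Nat.not_even_iff_odd.1 fun he => hne (centralizer_le_of_inverted hH ht htc hy hinv he)
  have htC : t ∈ normalizer ((centralizer ({y} : Set G) : Subgroup G) : Set G) := by
    have htt := Cfsg.Lib.InvolCalc.sq_of_order_two ht
    have key : ∀ z ∈ centralizer ({y} : Set G), t * z * t⁻¹ ∈ centralizer ({y} : Set G) := by
      intro z hz
      have hz' : Commute z y := mem_centralizer_singleton_iff.1 hz
      have h2 : Commute (t * z * t⁻¹) (t * y * t⁻¹) := hz'.map (MulAut.conj t).toMonoidHom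
      rw [hinv] at h2
      exact mem_centralizer_singleton_iff.2 (by simpa using h2.inv_right.eq)
    refine mem_normalizer_iff.2 fun z => ⟨key z, fun hz => ?_⟩
    have h2 := key _ hz
    rwa [Cfsg.Lib.InvolCalc.inv_of_order_two ht, show t * (t * z * t) * t = (t * t) * z * (t * t) by group,
      htt, one_mul, mul_one] at h2
  obtain ⟨l, hl, hlc, htl, hneq, hmid⟩ := exists_midpoint_centre hH hodd ht htC htc hne
  have hcomm : Commute l y := mem_centralizer_singleton_iff.1 hl
  refine ⟨l • c, hlc, hneq, ?_, ?_, fun X hX htX hyX hcop => ?_⟩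
  · rw [smul_smul, ← hcomm.eq, mul_smul, hyc]
  · rw [htl, smul_smul, ← hcomm.inv_left.eq, mul_smul, hyc]
  · have hXodd : Odd (Nat.card X) :=
      (odd_stabilizer_inf hH (Ne.symm hneq)).of_dvd_nat (card_dvd_of_le hX)
    exact le_stabilizer_of_centralizer_le hH hXodd ht htc hyc hinv hyt htX hyX hcop
      fun z hz hzy => hmid (mem_inf.2 ⟨mem_centralizer_singleton_iff.2 hzy, hX hz⟩)

end Cfsg.Lib.BenderSE
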