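/-
Fixed points of `r`-groups: Gleason's lemma, and LEMMA Z: an `r`-group normalising a transitive
group of odd order never fixes exactly two points.
-/
import Cfsg.Agent.BenderSE.Block
import Mathlib.GroupTheory.PGroup

set_option autoImplicit false
set_option linter.unusedSectionVars false
set_option linter.style.haveILetI false

namespace Cfsg.Lib.BenderSE

open Subgroup MulAction
open scoped commutatorElement Pointwise

universe u v

variable {G : Type u} [Group G] [Finite G] {r : ℕ} [Fact r.Prime]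

/-- on an invariant set the number of fixed points is congruent to the size -/
theorem fixed_modEq {α : Type v} [MulAction G α] {P : Subgroup G} (hP : IsPGroup r P) {S : Set α}
    [Finite S] (hS : ∀ p ∈ P, ∀ z ∈ S, p • z ∈ S) :
    Nat.card S ≡ Nat.card {z // z ∈ S ∧ ∀ p ∈ P, p • z = z} [MOD r] := by
  let A : SubMulAction P α := { carrier := S, smul_mem' := fun p z hz => hS (p : G) p.2 z hz }
  haveI : Finite A := inferInstanceAs (Finite S)
  refine (hP.card_modEq_card_fixedPoints A).trans (congrArg (· % r) (Nat.card_congr ?_))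
  exact {
    toFun := fun z => ⟨(z.1 : α), z.1.2, fun p hp => congrArg Subtype.val (z.2 ⟨p, hp⟩)⟩
    invFun := fun z => ⟨⟨z.1, z.2.1⟩, fun p => Subtype.ext (z.2.2 p p.2)⟩
    left_inv := fun _ => rfl
    right_inv := fun _ => rfl }

/-- a set without fixed points has size divisible by `r` -/
theorem card_modEq_zero {α : Type v} [MulAction G α] {P : Subgroup G} (hP : IsPGroup r P) {S : Set α}
    [Finite S] (hS : ∀ p ∈ P, ∀ z ∈ S, p • z ∈ S) (h : ∀ z ∈ S, ¬ ∀ p ∈ P, p • z = z) :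
    Nat.card S ≡ 0 [MOD r] := by
  haveI : IsEmpty {z // z ∈ S ∧ ∀ p ∈ P, p • z = z} := ⟨fun z => h z.1 z.2.1 z.2.2⟩
  simpa using fixed_modEq hP hS

/-- a set with exactly one fixed point has size `1` modulo `r` -/
theorem card_modEq_one {α : Type v} [MulAction G α] {P : Subgroup G} (hP : IsPGroup r P) {S : Set α}
    [Finite S] (hS : ∀ p ∈ P, ∀ z ∈ S, p • z ∈ S) {x : α} (hx : x ∈ S) (hPx : ∀ p ∈ P, p • x = x)
    (h : ∀ z ∈ S, (∀ p ∈ P, p • z = z) → z = x) : Nat.card S ≡ 1 [MOD r] := by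
  have h1 : Nat.card {z // z ∈ S ∧ ∀ p ∈ P, p • z = z} = 1 := Nat.card_eq_one_iff_unique.2
    ⟨⟨fun a b => Subtype.ext ((h a.1 a.2.1 a.2.2).trans (h b.1 b.2.1 b.2.2).symm)⟩, ⟨⟨x, hx, hPx⟩⟩⟩
  exact h1 ▸ fixed_modEq hP hS

/-- Gleason: if every point of `S` is the only point of `S` fixed by some `r`-subgroup of `K`,
then `K` is transitive on `S`. -/
theorem transitive_of_unique_fixed {α : Type v} [MulAction G α] [Finite α] {K : Subgroup G} {S : Set α}
    (hS : ∀ k ∈ K, ∀ z ∈ S, k • z ∈ S)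
    (h : ∀ y ∈ S, ∃ Q : Subgroup G, Q ≤ K ∧ IsPGroup r Q ∧ (∀ q ∈ Q, q • y = y) ∧
      ∀ z ∈ S, (∀ q ∈ Q, q • z = z) → z = y) {x y : α} (hx : x ∈ S) (hy : y ∈ S) :
    ∃ k ∈ K, k • x = y := by
  by_contra hne
  obtain ⟨Q, hQK, hQp, hQx, hQu⟩ := h x hx
  obtain ⟨Q', hQK', hQp', hQy, hQu'⟩ := h y hy
  have hinv : ∀ k ∈ K, ∀ z ∈ orbit K y, k • z ∈ orbit K y := fun k hk z hz =>
    mem_orbit_of_mem_orbit (⟨k, hk⟩ : K) hz
  have hsub : ∀ z ∈ orbit K y, z ∈ S := by
    rintro _ ⟨k, rfl⟩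
    exact hS _ k.2 y hy
  have hnx : ∀ z ∈ orbit K y, z ≠ x := by
    rintro _ ⟨k, rfl⟩ e
    exact hne ⟨(k : G)⁻¹, inv_mem k.2, by rw [← e]; exact inv_smul_smul (k : G) y⟩
  have h0 : Nat.card (orbit K y) ≡ 0 [MOD r] := card_modEq_zero hQp (fun q hq => hinv q (hQK hq))
    fun z hz hfix => hnx z hz (hQu z (hsub z hz) hfix)
  have h1 : Nat.card (orbit K y) ≡ 1 [MOD r] := card_modEq_one hQp' (fun q hq => hinv q (hQK' hq))
    (mem_orbit_self y) hQy fun z hz hfix => hQu' z (hsub z hz) hfix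
  exact zero_ne_one (Nat.ModEq.eq_of_lt_of_lt (h0.symm.trans h1) (Fact.out : r.Prime).pos
    (Fact.out : r.Prime).one_lt)

/-- Gleason for pairs: if every pair in `S` is the set of points of `S` fixed by some `r`-subgroup
of `K` and `S` has at least three points, then `K` is transitive on `S`. -/
theorem transitive_of_pair_fixed {α : Type v} [MulAction G α] [Finite α] {K : Subgroup G} {S : Set α}
    (hS : ∀ k ∈ K, ∀ z ∈ S, k • z ∈ S)
    (h : ∀ x ∈ S, ∀ y ∈ S, x ≠ y → ∃ Q : Subgroup G, Q ≤ K ∧ IsPGroup r Q ∧ (∀ q ∈ Q, q • x = x) ∧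
      (∀ q ∈ Q, q • y = y) ∧ ∀ z ∈ S, (∀ q ∈ Q, q • z = z) → z = x ∨ z = y)
    (h3 : ∀ x y : α, ∃ z ∈ S, z ≠ x ∧ z ≠ y) {x y : α} (hx : x ∈ S) (hy : y ∈ S) :
    ∃ k ∈ K, k • x = y := by
  by_contra hne
  have hxy : x ≠ y := fun e => hne ⟨1, one_mem K, by rw [one_smul, e]⟩
  -- every orbit in `S` is a singleton
  have hsingle : ∀ w ∈ S, ∀ w' ∈ S, w' ∈ orbit K w → w' = w := by
    intro w hw w' hw' hww'
    by_contra hne'
    have hsub : ∀ u ∈ S, ∀ z ∈ orbit K u, z ∈ S := by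
      rintro u hu _ ⟨k, rfl⟩
      exact hS _ k.2 u hu
    have hinv : ∀ u : α, ∀ k ∈ K, ∀ z ∈ orbit K u, k • z ∈ orbit K u := fun u k hk z hz =>
      mem_orbit_of_mem_orbit (⟨k, hk⟩ : K) hz
    obtain ⟨u, hu, huw⟩ : ∃ u ∈ S, u ∉ orbit K w := by
      by_cases hxw : x ∈ orbit K w
      · refine ⟨y, hy, fun hyw => hne ?_⟩
        rw [← orbit_eq_iff.2 hxw] at hyw
        obtain ⟨k, hk⟩ := hyw
        exact ⟨k, k.2, hk⟩
      · exact ⟨x, hx, hxw⟩
    obtain ⟨Q, hQK, hQp, hQw, hQw', hQ⟩ := h w hw w' hw' (Ne.symm hne')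
    have h0 : Nat.card (orbit K u) ≡ 0 [MOD r] := card_modEq_zero hQp (fun q hq => hinv u q (hQK hq))
      fun z hz hfix => by
        rcases hQ z (hsub u hu z hz) hfix with rfl | rfl
        · exact huw (mem_orbit_symm.1 hz)
        · exact huw ((orbit_eq_iff.2 hww').le (mem_orbit_symm.1 hz))
    obtain ⟨Q', hQK', hQp', hQw'', hQu, hQ'⟩ := h w hw u hu (fun e => huw (e ▸ mem_orbit_self w))
    have h1 : Nat.card (orbit K u) ≡ 1 [MOD r] := card_modEq_one hQp'
      (fun q hq => hinv u q (hQK' hq)) (mem_orbit_self u) hQu fun z hz hfix => by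
        rcases hQ' z (hsub u hu z hz) hfix with rfl | rfl
        · exact absurd (mem_orbit_symm.1 hz) huw
        · rfl
    exact zero_ne_one (Nat.ModEq.eq_of_lt_of_lt (h0.symm.trans h1) (Fact.out : r.Prime).pos
      (Fact.out : r.Prime).one_lt)
  obtain ⟨Q, hQK, -, -, -, hQ⟩ := h x hx y hy hxy
  obtain ⟨z, hz, hzx, hzy⟩ := h3 x y
  rcases hQ z hz (fun q hq => hsingle z hz _ (hS q (hQK hq) z hz) ⟨⟨q, hQK hq⟩, rfl⟩) with e | e
  · exact hzx e
  · exact hzy e

/-- the orbit of the translate -/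
theorem orbit_smul_of_mem_normalizer {α : Type v} [MulAction G α] {M : Subgroup G} {g : G}
    (hg : g ∈ normalizer (M : Set G)) (x : α) :
    g • (orbit M x : Set α) = orbit M (g • x) := by
  ext z
  constructor
  · rintro ⟨_, ⟨m, rfl⟩, rfl⟩
    exact ⟨⟨g * m * g⁻¹, (mem_normalizer_iff.1 hg m).1 m.2⟩, by
      show (g * (m : G) * g⁻¹) • g • x = g • (m : G) • x
      rw [mul_smul, inv_smul_smul, mul_smul]⟩
  · rintro ⟨m, rfl⟩
    refine ⟨(g⁻¹ * (m : G) * g) • x, ⟨⟨_, (mem_normalizer_iff''.1 hg m).1 m.2⟩, rfl⟩, ?_⟩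
    show g • (g⁻¹ * (m : G) * g) • x = (m : G) • g • x
    rw [mul_smul, mul_smul, smul_inv_smul]

/-- LEMMA Z: an `r`-group normalising a group `O` of odd order and fixing two points of an
`O`-orbit fixes a third one. -/
theorem exists_third_fixed {α : Type v} [MulAction G α] [Finite α] {O P : Subgroup G}
    (hO : Odd (Nat.card O)) (hP : IsPGroup r P) (hPO : P ≤ normalizer (O : Set G))
    {x y : α} (hxy : x ≠ y) (hPx : ∀ p ∈ P, p • x = x) (hPy : ∀ p ∈ P, p • y = y)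
    (hy : y ∈ orbit O x) : ∃ z ∈ orbit O x, z ≠ x ∧ z ≠ y ∧ ∀ p ∈ P, p • z = z := by
  induction hn : Nat.card (orbit O x) using Nat.strong_induction_on generalizing α with
  | _ n ih =>
  subst hn
  obtain ⟨M, hMO, hAM, hMx, hMM⟩ := exists_derived_term' (A := O ⊔ P) (B := stabilizer G x) hO
    (sup_le le_normalizer hPO) (fun hle => by
      obtain ⟨o, ho⟩ := hy
      exact hxy ((mem_stabilizer_iff.1 (hle o.2)).symm.trans ho))
  have hOM : O ≤ normalizer (M : Set G) := le_sup_left.trans hAM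
  have hPM : P ≤ normalizer (M : Set G) := le_sup_right.trans hAM
  by_cases hyM : y ∈ orbit M x
  · -- inside one block, on which `M` acts as an abelian group
    obtain ⟨m, hm⟩ := hyM
    have hmx : (m : G) • x = y := hm
    have hcomm : ∀ a ∈ M, ∀ b ∈ M, a • b • x = b • a • x := by
      intro a ha b hb
      have h1 : ⁅a⁻¹, b⁻¹⁆ • x = x := mem_stabilizer_iff.1 (hMM (commutator_mem_commutator (inv_mem ha) (inv_mem hb)))
      conv_rhs => rw [← h1]
      rw [smul_smul, smul_smul, smul_smul, commutatorElement_def]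
      congr 1
      group
    have hmodd : Odd (orderOf (m : G)) :=
      hO.of_dvd_nat (Subgroup.orderOf_dvd_natCard O (hMO m.2))
    refine ⟨(m : G) • y, mem_orbit_of_mem_orbit (⟨m, hMO m.2⟩ : O) hy, ?_, ?_, ?_⟩
    · intro e
      obtain ⟨k, hk⟩ := hmodd
      have h2 : ((m : G) * (m : G)) ∈ stabilizer G x := by
        rw [mem_stabilizer_iff, mul_smul, hmx, e]
      have h3 : (m : G) ∈ stabilizer G x := by
        have := pow_mem h2 (k + 1)
        rwa [← sq, ← pow_mul, show 2 * (k + 1) = orderOf (m : G) + 1 by omega, pow_succ,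
          pow_orderOf_eq_one, one_mul] at this
      exact hxy ((mem_stabilizer_iff.1 h3).symm.trans hmx)
    · intro e
      refine hxy ?_
      rw [← hmx] at e
      exact (MulAction.injective (m : G) e).symm.trans hmx
    · intro p hp
      have hm' : p * (m : G) * p⁻¹ ∈ M := (mem_normalizer_iff.1 (hPM hp) _).1 m.2
      have hm'x : (p * (m : G) * p⁻¹) • x = (m : G) • x := by
        rw [mul_smul, mul_smul, inv_smul_eq_iff.2 (hPx p hp).symm, hmx, hPy p hp]
      calc p • (m : G) • y = (p * (m : G) * p⁻¹) • y := by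
            rw [mul_smul, mul_smul, inv_smul_eq_iff.2 (hPy p hp).symm]
        _ = (p * (m : G) * p⁻¹) • (m : G) • x := by rw [hmx]
        _ = (m : G) • (p * (m : G) * p⁻¹) • x := hcomm _ hm' _ m.2
        _ = (m : G) • y := by rw [hm'x, hmx]
  by_cases hw : ∃ w ∈ orbit M x, w ≠ x ∧ ∀ p ∈ P, p • w = w
  · obtain ⟨w, ⟨m, rfl⟩, hwx, hwP⟩ := hw
    exact ⟨m • x, ⟨⟨m, hMO m.2⟩, rfl⟩, hwx, fun e => hyM ⟨m, e⟩, hwP⟩
  push Not at hw
  -- the blocks
  set B : Set α := orbit M x with hB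
  have hblock : ∀ g ∈ O ⊔ P, g • B = orbit M (g • x) := fun g hg =>
    orbit_smul_of_mem_normalizer (hAM hg) x
  obtain ⟨o, ho⟩ := id hy
  have ho' : (o : G) • x = y := ho
  set B' : Set α := orbit M y with hB'
  have hBB' : B ≠ B' := fun e => hyM (e ▸ mem_orbit_self y)
  have hPB : ∀ p ∈ P, p • B = B := fun p hp => by
    rw [hblock p (mem_sup_right hp), hPx p hp]
  have hPB' : ∀ p ∈ P, p • B' = B' := fun p hp => by
    rw [hB', orbit_smul_of_mem_normalizer (hPM hp) y, hPy p hp]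
  have hB'orb : B' ∈ orbit O B := ⟨o, by
    show (o : G) • B = B'
    rw [hblock _ (mem_sup_left o.2), ho']⟩
  have hlt : Nat.card (orbit O B) < Nat.card (orbit O x) := by
    obtain ⟨m, hm, hmx⟩ := SetLike.not_le_iff_exists.1 hMx
    let f : orbit O x → orbit O B := fun z => ⟨orbit M (z : α), by
      obtain ⟨o', ho''⟩ := z.2
      exact ⟨o', (hblock _ (mem_sup_left o'.2)).trans (congrArg (orbit M) ho'')⟩⟩
    have hf : Function.Surjective f := by
      rintro ⟨_, o', rfl⟩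
      exact ⟨⟨o' • x, o', rfl⟩, Subtype.ext (hblock _ (mem_sup_left o'.2)).symm⟩
    refine lt_of_le_of_ne (Nat.card_le_card_of_surjective f hf) fun e => hmx ?_
    have hinj : Function.Injective f :=
      ((Nat.bijective_iff_surjective_and_card f).2 ⟨hf, e.symm⟩).1
    refine mem_stabilizer_iff.2 (congrArg Subtype.val (hinj (a₁ := ⟨m • x, ⟨⟨m, hMO hm⟩, rfl⟩⟩)
      (a₂ := ⟨x, mem_orbit_self x⟩) (Subtype.ext ?_)))
    exact orbit_eq_iff.2 ⟨⟨m, hm⟩, rfl⟩
  obtain ⟨C, ⟨o', rfl⟩, hC1, hC2, hPC⟩ := ih _ hlt (α := Set α) hBB' hPB hPB' hB'orb rfl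
  have hCeq : (o' • B : Set α) = orbit M ((o' : G) • x) := hblock _ (mem_sup_left o'.2)
  have hB1 : Nat.card B ≡ 1 [MOD r] := card_modEq_one hP
    (fun p hp z hz => by rw [← hPB p hp]; exact Set.smul_mem_smul_set hz) (mem_orbit_self x) hPx
    fun z hz hfix => by
      by_contra hne
      obtain ⟨p, hp, hpz⟩ := hw z hz hne
      exact hpz (hfix p hp)
  have hC : Nat.card (o' • B : Set α) ≡ 1 [MOD r] := by
    have : Nat.card (o' • B : Set α) = Nat.card B := Set.natCard_smul_set (o' : G) B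
    rw [this]; exact hB1
  obtain ⟨z, hz, hzP⟩ : ∃ z ∈ (o' • B : Set α), ∀ p ∈ P, p • z = z := by
    by_contra hno
    push Not at hno
    refine zero_ne_one (Nat.ModEq.eq_of_lt_of_lt ?_ (Fact.out : r.Prime).pos (Fact.out : r.Prime).one_lt)
    refine (Nat.ModEq.symm ?_).trans hC
    refine card_modEq_zero hP (fun p hp w hw => ?_) fun w hw hfix => ?_
    · have hpc : p • (o' • B : Set α) = (o' • B : Set α) := hPC p hp
      rw [← hpc]; exact Set.smul_mem_smul_set hw
    · obtain ⟨p, hp, hpw⟩ := hno w hw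
      exact hpw (hfix p hp)
  rw [hCeq] at hz
  have hzB : orbit M z = (o' • B : Set α) := (orbit_eq_iff.2 hz).trans hCeq.symm
  have hC1' : (o' • B : Set α) ≠ B := hC1
  have hC2' : (o' • B : Set α) ≠ B' := hC2
  refine ⟨z, ?_, fun e => hC1' (by rw [← hzB, e]), fun e => hC2' (by rw [← hzB, e]), hzP⟩
  obtain ⟨m, rfl⟩ := hz
  exact ⟨⟨m * o', mul_mem (hMO m.2) o'.2⟩, mul_smul _ _ _⟩

end Cfsg.Lib.BenderSE
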