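/-
STEP B/C: two pair stabilisers with a common Sylow `r`-subgroup and equal `r'`-cores have a common
non-trivial normal subgroup, normalised by all involutions at the shared point.
-/
import Cfsg.Agent.BenderSE.Coprime
import Cfsg.Agent.BenderSE.Invariant
import Cfsg.Agent.Components.ZJ.Stable
import Cfsg.Agent.OddLocal.CNThreeStep
import Cfsg.Agent.Coprime.Fitting

set_option autoImplicit false
set_option linter.unusedSectionVars false
set_option linter.style.haveILetI false

namespace Cfsg.Lib.BenderSE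

open Subgroup MulAction

universe u

variable {G : Type u} [Group G] [Finite G]

/-- `O_{r'}(D)` as a subgroup of the ambient group -/
def coreOf (r : ℕ) (D : Subgroup G) : Subgroup G := (Cfsg.pPrimeCore r D).map D.subtype

theorem coreOf_le (r : ℕ) (D : Subgroup G) : coreOf r D ≤ D := map_subtype_le _

theorem coprime_coreOf (r : ℕ) (D : Subgroup G) : (Nat.card (coreOf r D)).Coprime r := by
  rw [coreOf, card_map_of_injective D.subtype_injective]
  exact Cfsg.Lib.Components.coprime_card_pPrimeCore r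

theorem le_normalizer_coreOf (r : ℕ) (D : Subgroup G) :
    D ≤ normalizer ((coreOf r D : Subgroup G) : Set G) := fun d hd => by
  refine mem_normalizer_of_maps_to ?_
  rintro _ ⟨x, hx, rfl⟩
  exact ⟨⟨d, hd⟩ * x * ⟨d, hd⟩⁻¹, (inferInstance : (Cfsg.pPrimeCore r D).Normal).conj_mem x hx _, rfl⟩

theorem le_coreOf {r : ℕ} {D Y : Subgroup G} (hY : Y ≤ D) (hn : D ≤ normalizer (Y : Set G))
    (hc : (Nat.card Y).Coprime r) : Y ≤ coreOf r D := by
  haveI : (Y.subgroupOf D).Normal := normal_subgroupOf_iff_le_normalizer hY |>.2 hn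
  exact fun y hy => ⟨⟨y, hY hy⟩, Cfsg.Lib.Components.le_pPrimeCore (N := Y.subgroupOf D)
    (by rwa [Nat.card_congr (subgroupOfEquivOfLe hY).toEquiv]) (mem_subgroupOf.2 hy), rfl⟩

/-- the normaliser of `D` normalises its core -/
theorem normalizer_le_normalizer_coreOf (r : ℕ) (D : Subgroup G) :
    normalizer (D : Set G) ≤ normalizer ((coreOf r D : Subgroup G) : Set G) := fun g hg => by
  refine mem_normalizer_of_maps_to fun x hx => ?_
  refine le_coreOf (r := r) (Y := Cfsg.Lib.Coprime.conjMap g (coreOf r D)) ?_ ?_ ?_ ⟨x, hx, rfl⟩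
  · rintro _ ⟨z, hz, rfl⟩
    exact (mem_normalizer_iff.1 hg z).1 (coreOf_le r D hz)
  · intro d hd
    refine mem_normalizer_of_maps_to ?_
    rintro _ ⟨z, hz, rfl⟩
    refine ⟨g⁻¹ * d * g * z * (g⁻¹ * d * g)⁻¹,
      (mem_normalizer_iff.1 (le_normalizer_coreOf r D ((mem_normalizer_iff''.1 hg d).1 hd)) z).1 hz, ?_⟩
    simp [mul_assoc]
  · rw [Cfsg.Lib.Coprime.conjMap, card_map_of_injective (MulAut.conj g).injective]
    exact coprime_coreOf r D

/-- In a group of odd order with trivial `O_{r'}`, `Z(J(P))` is normal. -/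
theorem le_normalizer_centerThompson_pair {r : ℕ} [Fact r.Prime] (hr : r ≠ 2) {D P : Subgroup G}
    (hD : Odd (Nat.card D)) (hPD : P ≤ D)
    (hcard : Nat.card P = r ^ (Nat.card D).factorization r) (hcore : coreOf r D = ⊥) :
    D ≤ normalizer ((Cfsg.centerThompsonAOf P : Subgroup G) : Set G) := by
  haveI := Cfsg.Agent.PF.isSolvable_of_odd D hD
  let S : Sylow r D := Sylow.ofCard (P.subgroupOf D)
    (by rw [Nat.card_congr (subgroupOfEquivOfLe hPD).toEquiv, hcard])
  have h0 : Cfsg.pPrimeCore r D = ⊥ :=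
    (map_eq_bot_iff_of_injective _ D.subtype_injective).1 hcore
  haveI := Cfsg.Lib.ZJ.centerThompsonA_characteristic hr (Cfsg.Lib.CN.stable_of_odd hD hr)
    (Cfsg.Lib.Coprime.centralizer_pCore_le r h0) S
  have hmap : (Cfsg.centerThompsonAOf (S : Subgroup D)).map D.subtype = Cfsg.centerThompsonAOf P := by
    rw [Cfsg.Lib.ZJ.centerThompsonAOf_map_injOn D.subtype_injective.injOn]
    congr 1
    exact map_subgroupOf_eq_of_le hPD
  intro d hd
  refine mem_normalizer_of_maps_to fun z hz => ?_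
  rw [← hmap] at hz ⊢
  obtain ⟨w, hw, rfl⟩ := hz
  exact ⟨⟨d, hd⟩ * w * ⟨d, hd⟩⁻¹,
    (inferInstance : (Cfsg.centerThompsonAOf (S : Subgroup D)).Normal).conj_mem w hw _, rfl⟩

theorem normalizer_le_normalizer_centerThompson (P : Subgroup G) :
    normalizer (P : Set G) ≤ normalizer ((Cfsg.centerThompsonAOf P : Subgroup G) : Set G) := fun g hg => by
  rw [← Cfsg.Lib.Coprime.conjMap_eq_self_iff, Cfsg.Lib.Coprime.conjMap,
    Cfsg.Lib.ZJ.centerThompsonAOf_map_injOn (MulAut.conj g).injective.injOn,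
    show P.map (MulAut.conj g).toMonoidHom = P from Cfsg.Lib.Coprime.conjMap_eq_self hg]

variable {H : Subgroup G}

/-- STEP B: the core of `G_{a, t a}` lies in the core of `G_{c a}` if it fixes `c`. -/
theorem coreOf_le_coreOf (hH : Cfsg.IsStronglyEmbedded H) {r : ℕ} [Fact r.Prime] {a b c : G ⧸ H}
    (hca : c ≠ a) {P : Subgroup G} (hP : P ≤ stabilizer G a ⊓ stabilizer G b)
    (hPc : P ≤ stabilizer G c)
    (hcard : Nat.card P = r ^ (Nat.card ↥(stabilizer G c ⊓ stabilizer G a)).factorization r)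
    (hX : coreOf r (stabilizer G a ⊓ stabilizer G b) ≤ stabilizer G c) :
    coreOf r (stabilizer G a ⊓ stabilizer G b) ≤ coreOf r (stabilizer G c ⊓ stabilizer G a) := by
  set D := stabilizer G a ⊓ stabilizer G b with hDdef
  set D' := stabilizer G c ⊓ stabilizer G a with hD'def
  have hPD' : P ≤ D' := le_inf hPc (hP.trans inf_le_left)
  let R : Sylow r D' := Sylow.ofCard (P.subgroupOf D')
    (by rw [Nat.card_congr (subgroupOfEquivOfLe hPD').toEquiv, hcard])
  refine le_pPrimeCore_map_of_odd (odd_stabilizer_inf hH hca) R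
    (le_inf hX ((coreOf_le r D).trans inf_le_left)) (coprime_coreOf r D) ?_
  rw [show (R : Subgroup D').map D'.subtype = P from map_subgroupOf_eq_of_le hPD']
  exact hP.trans (le_normalizer_coreOf r D)

/-- STEP C: the common normal subgroup `Y`. -/
theorem exists_normal_of_cores (hH : Cfsg.IsStronglyEmbedded H) {r : ℕ} [Fact r.Prime] (hr : r ≠ 2)
    {a c : G ⧸ H} {t s : G} (ht : orderOf t = 2) (htc : t • c = c) (hac : a ≠ c)
    (hs : orderOf s = 2) (hsc : s • c = a) {P : Subgroup G} (hP1 : P ≠ ⊥)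
    (hP : P ≤ stabilizer G a ⊓ stabilizer G (t • a)) (hPc : P ≤ stabilizer G c)
    (hcard : Nat.card P = r ^ (Nat.card ↥(stabilizer G a ⊓ stabilizer G (t • a))).factorization r)
    (htP : t ∈ normalizer (P : Set G)) (hsP : s ∈ normalizer (P : Set G))
    (hX : coreOf r (stabilizer G a ⊓ stabilizer G (t • a)) ≤ stabilizer G c)
    (hmax : Nat.card ↥(coreOf r (stabilizer G c ⊓ stabilizer G a)) ≤
      Nat.card ↥(coreOf r (stabilizer G a ⊓ stabilizer G (t • a)))) :
    ∃ Y : Subgroup G, Y ≠ ⊥ ∧ Odd (Nat.card Y) ∧ Y ≤ stabilizer G a ⊓ stabilizer G (t • a) ∧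
      stabilizer G a ⊓ stabilizer G (t • a) ≤ normalizer (Y : Set G) ∧
      t ∈ normalizer (Y : Set G) ∧ s ∈ normalizer (Y : Set G) ∧
      (∃ v ∈ normalizer (Y : Set G), orderOf v = 2 ∧ v • a = a) ∧
      ∀ i : G, orderOf i = 2 → i • a = a → i ∈ normalizer (Y : Set G) := by
  set D := stabilizer G a ⊓ stabilizer G (t • a) with hD
  have hne : a ≠ t • a := fun h => hac (Cfsg.Lib.StrongEmb.eq_of_fixed hH ht h.symm htc)
  have hDodd : Odd (Nat.card D) := odd_stabilizer_inf hH hne
  suffices h : ∃ Y : Subgroup G, Y ≠ ⊥ ∧ Y ≤ D ∧ D ≤ normalizer (Y : Set G) ∧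
      t ∈ normalizer (Y : Set G) ∧ s ∈ normalizer (Y : Set G) by
    obtain ⟨Y, h1, hYD, hDY, htY, hsY⟩ := h
    have hv : s * t * s⁻¹ ∈ normalizer (Y : Set G) := mul_mem (mul_mem hsY htY) (inv_mem hsY)
    have hva : (s * t * s⁻¹) • a = a := by
      rw [mul_smul, mul_smul, inv_smul_eq_iff.2 hsc.symm, htc, hsc]
    have hvo : orderOf (s * t * s⁻¹) = 2 := by rw [orderOf_conj', ht]
    refine ⟨Y, h1, hDodd.of_dvd_nat (card_dvd_of_le hYD), hYD, hDY, htY, hsY, ⟨_, hv, hvo, hva⟩,
      fun i hi hia => ?_⟩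
    obtain ⟨d, hd, rfl⟩ := exists_conj_centre hH hne hvo hva hi hia
    exact mul_mem (mul_mem (hDY hd) hv) (inv_mem (hDY hd))
  have htD : t ∈ normalizer (D : Set G) := swapper_mem_normalizer ht rfl
  have hsD' : s ∈ normalizer ((stabilizer G c ⊓ stabilizer G a : Subgroup G) : Set G) :=
    swapper_mem_normalizer hs hsc
  by_cases hbot : coreOf r D = ⊥
  · refine ⟨Cfsg.centerThompsonAOf P,
      Cfsg.Lib.ZJ.centerThompsonAOf_ne_bot (IsPGroup.of_card hcard) hP1,
      (inf_le_left.trans (map_subtype_le _)).trans hP,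
      le_normalizer_centerThompson_pair hr hDodd hP hcard hbot,
      normalizer_le_normalizer_centerThompson P htP, normalizer_le_normalizer_centerThompson P hsP⟩
  · have heq : coreOf r D = coreOf r (stabilizer G c ⊓ stabilizer G a) :=
      Subgroup.eq_of_le_of_card_ge (coreOf_le_coreOf hH hac.symm hP hPc
        (by rw [hcard, card_stabilizer_centre hH ht htc hac]) hX) hmax
    exact ⟨coreOf r D, hbot, coreOf_le r D, le_normalizer_coreOf r D,
      normalizer_le_normalizer_coreOf r D htD, heq ▸ normalizer_le_normalizer_coreOf r _ hsD'⟩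

end Cfsg.Lib.BenderSE
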